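import Mathlib
import Cfsg.Prelude.Def_Quasithin
import Cfsg.Prelude.Def_KGroupFacts
import Cfsg.Agent.PLocal.Layer
import Cfsg.Agent.PLocal.FStar
import Cfsg.Agent.UL.CharClass
import Cfsg.Agent.K.OutSpor

/-!
Facts on involutory automorphisms of the simple groups on the quasithin even type list, used to show
that components of centralisers of `2`-central involutions are terminal (S1848, S1849).
-/

set_option autoImplicit false
set_option linter.style.haveILetI false

namespace Cfsg.Agent.Q16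

open Subgroup Cfsg Cfsg.Agent.PLocal

variable {H H' : Type*} [Group H] [Group H']

/-- `J` is a component of the group of fixed points of `α`. -/
def Cp (α : MulAut H) (J : Subgroup H) : Prop := IsComponentOf J (fixedSubgroup α)

/-- No involutory automorphism has a component in its group of fixed points. -/
def NoComp (H : Type*) [Group H] : Prop :=
  ∀ (α : MulAut H) (J : Subgroup H), orderOf α = 2 → ¬ Cp α J

/-- `⟨α⟩` is a maximal `2`-subgroup of `C_{Aut H}(J)`. -/
def F1 (H : Type*) [Group H] : Prop :=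
  ∀ (α β : MulAut H) (J : Subgroup H), orderOf α = 2 → Cp α J → α * β = β * α →
    (β * β = 1 ∨ β * β = α) → (∀ j ∈ J, β j = j) → β = 1 ∨ β = α

/-- The fixed points of an involution with a component have index divisible by four. -/
def F2 (H : Type*) [Group H] : Prop :=
  ∀ (α : MulAut H) (J : Subgroup H), orderOf α = 2 → Cp α J → 4 ∣ (fixedSubgroup α).index

/-- No cyclic group of order four of automorphisms is normalised by a Sylow `2`-subgroup. -/
def F3 (H : Type*) [Group H] : Prop :=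
  ∀ (α : MulAut H) (J : Subgroup H), orderOf α = 2 → Cp α J →
    ∀ (U : Sylow 2 H) (w : MulAut H), w ^ 4 = 1 → (∀ u ∈ U, w u ∈ U) →
      (∀ u ∈ U, MulAut.conj (u⁻¹ * w u) = 1 ∨ MulAut.conj (u⁻¹ * w u) = w ^ 2) → w ^ 2 = 1

/-- No automorphism of order four centralises a Sylow `2`-subgroup. -/
def F4 (H : Type*) [Group H] : Prop :=
  ∀ (U : Sylow 2 H) (w : MulAut H), w ^ 4 = 1 → (∀ u ∈ U, w u = u) → w ^ 2 = 1

/-- The facts for the generic track. -/
structure PF (H : Type*) [Group H] : Prop where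
  f1 : F1 H
  f2 : F2 H
  f3 : F3 H

/-- The subgroup generated by the squares of `U` (the Frattini subgroup of a `2`-group). -/
def Sq (U : Subgroup H) : Subgroup H := closure {x | ∃ u ∈ U, x = u * u}

/-- `β` acts trivially on `U / Φ(U)⟨d⟩` for some `d ∈ Ω₁(Z(U))`. -/
def Tv (U : Subgroup H) (β : MulAut H) : Prop :=
  ∃ d ∈ U, d * d = 1 ∧ (∀ u ∈ U, u * d = d * u) ∧ ∀ u ∈ U, u⁻¹ * β u ∈ Sq U ∨ u⁻¹ * β u * d ∈ Sq U

/-- `U` has no normal cyclic subgroup of order four. -/
def NZ4 (U : Subgroup H) : Prop :=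
  ∀ w ∈ U, w ^ 4 = 1 → (∀ u ∈ U, u * w * u⁻¹ = w ∨ u * w * u⁻¹ = w⁻¹) → w ^ 2 = 1

/-- Generic data on a Sylow `2`-subgroup of a group of Lie type in characteristic two. -/
structure GenAt (U : Subgroup H) : Prop where
  inn : ∀ β : MulAut H, (∃ k : ℕ, β ^ 2 ^ k = 1) → (∀ u ∈ U, β u ∈ U) → Tv U β → β ∈ Inn H
  nz4 : NZ4 U
  four : ∀ α β : MulAut H, α * α = 1 → β * β = 1 → α * β = β * α → α ∉ Inn H → β ∉ Inn H →
    α * β ∉ Inn H → (∀ u ∈ U, α u ∈ U) → (∀ u ∈ U, β u ∈ U) → ∃ u ∈ U, α u = u ∧ β u ≠ u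

/-- The subgroup generated by the `r`-elements of `Y`. -/
def Rr (r : ℕ) (Y : Subgroup H) : Subgroup H := closure {y | y ∈ Y ∧ ∃ k : ℕ, y ^ r ^ k = 1}

/-- Facts on a component `J` in the sporadic track; `n` bounds `|H|₂` from below. -/
structure JF (r n : ℕ) (J : Type*) [Group J] : Prop where
  simple : IsSimpleGroup J
  dvd : r ∣ Nat.card J
  out : ¬ r ∣ Nat.card (Out J)
  no2r : ∀ a b : J, a * a = 1 → b ^ r = 1 → a * b = b * a → a = 1 ∨ b = 1
  alt : (∀ B : Subgroup (MulAut J), IsPGroup 2 B → Nat.card B * Nat.card B < 2 * n) ∨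
    ∀ U : Sylow 2 J, Nat.card (center U) = 2 ∧ ∀ B : Subgroup (MulAut J), IsPGroup 2 B →
      (∀ β ∈ B, ∀ u ∈ U, β u = u) → Nat.card B < Nat.card U

/-- `c` is a `2`-central involution. -/
def TwoC (c : H) : Prop := orderOf c = 2 ∧ ¬ 2 ∣ (centralizer ({c} : Set H)).index

/-- The facts on one involutory automorphism in the sporadic track. -/
def XP (r n : ℕ) (α : MulAut H) : Prop :=
  (¬ 2 ∣ (fixedSubgroup α).index → α ∈ Inn H) ∧ ∀ J : Subgroup H, Cp α J →
    4 ∣ (fixedSubgroup α).index ∧ JF r n J ∧ ∀ j ∈ J, orderOf j = 2 → TwoC j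

/-- The facts for the sporadic track. -/
structure XFr (r n : ℕ) (H : Type*) [Group H] : Prop where
  prime : r.Prime
  odd : r ≠ 2
  rank : PRankAtLeast r 2 H
  syl : ∀ U : Sylow 2 H, n ≤ Nat.card U
  cls : ∀ c c' : H, TwoC c → TwoC c' → IsConj c c'
  cen : ∃ c : H, TwoC c ∧ c ∈ Rr r (centralizer {c}) ∧
    ∃ g ∈ centralizer ({c} : Set H), centralizer {c} ≤ Rr r (centralizer {c}) ⊔ zpowers g
  xp : ∀ α : MulAut H, orderOf α = 2 → XP r n α

/-- The facts for the sporadic track, for some prime. -/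
def XF (H : Type*) [Group H] : Prop := ∃ r n, XFr r n H

/-- The simple groups of Lie type in characteristic two of odd rank at most two. -/
def QL (H : Type*) [Group H] : Prop :=
  (∃ (F : Type) (_ : Field F) (_ : Fintype F) (_ : CharP F 2), 4 ≤ Fintype.card F ∧
      Nonempty (H ≃* Matrix.ProjectiveSpecialLinearGroup (Fin 2) F)) ∨
    (∃ (F : Type) (_ : Field F) (_ : Fintype F) (_ : CharP F 2),
      Nonempty (H ≃* Matrix.ProjectiveSpecialLinearGroup (Fin 3) F)) ∨
    (∃ (F : Type) (_ : Field F) (_ : Fintype F) (n : ℕ), Fintype.card F = 2 ∧ (n = 4 ∨ n = 5) ∧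
      Nonempty (H ≃* Matrix.ProjectiveSpecialLinearGroup (Fin n) F)) ∨
    (∃ (F : Type) (_ : Field F) (_ : Fintype F) (_ : CharP F 2) (q : ℕ), Fintype.card F = q ^ 2 ∧
      q ≠ 2 ∧ Nonempty (H ≃* PSU 3 F q)) ∨
    (∃ (F : Type) (_ : Field F) (_ : Fintype F) (_ : CharP F 2), 3 ≤ Fintype.card F ∧
      Nonempty (H ≃* PSp 2 F)) ∨
    (∃ (F : Type) (_ : Field F) (_ : Fintype F) (_ : CharP F 2), 3 ≤ Fintype.card F ∧
      Nonempty (H ≃* Lie.chevG2.group F)) ∨
    (∃ (F : Type) (_ : Field F) (_ : Fintype F) (_ : CharP F 2) (q : ℕ), IsPrimePow q ∧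
      Fintype.card F = q ^ 3 ∧ Nonempty (H ≃* Lie.twistedD4 F q)) ∨
    Lie.IsoSuzuki H ∨ Lie.Iso2F4 H ∨ Nonempty (H ≃* alternatingGroup (Fin 6)) ∨
    (∃ (F : Type) (_ : Field F) (_ : Fintype F), Fintype.card F = 9 ∧ Nonempty (H ≃* PSU 3 F 3)) ∨
    Lie.IsoTits H

theorem mem_fixed {α : MulAut H} {x : H} : x ∈ fixedSubgroup α ↔ α x = x := Iff.rfl

theorem fixed_conj (x : H) : fixedSubgroup (MulAut.conj x) = centralizer {x} := by
  ext y
  rw [mem_fixed, mem_centralizer_singleton_iff, MulAut.conj_apply, mul_inv_eq_iff_eq_mul, eq_comm]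

theorem fixed_congr (e : H ≃* H') (α : MulAut H) :
    fixedSubgroup (MulAut.congr e α) = (fixedSubgroup α).map e.toMonoidHom := by
  ext y
  obtain ⟨x, rfl⟩ := e.surjective y
  rw [mem_fixed, MulEquiv.toMonoidHom_eq_coe, ← MonoidHom.coe_coe e,
    mem_map_iff_mem e.injective, mem_fixed]
  simp

theorem index_fixed_congr (e : H ≃* H') (α : MulAut H) :
    (fixedSubgroup (MulAut.congr e α)).index = (fixedSubgroup α).index := by
  rw [fixed_congr]
  exact index_map_equiv _ e

theorem Cp.congr (e : H ≃* H') {α : MulAut H} {J : Subgroup H} (h : Cp α J) :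
    Cp (MulAut.congr e α) (J.map e.toMonoidHom) := by
  rw [Cp, fixed_congr]
  exact ⟨map_mono h.1, comp_subgroupOf_map h.1 _ e.injective h.2⟩

theorem Cp.qs {α : MulAut H} {J : Subgroup H} (h : Cp α J) : IsQuasisimple J :=
  ((comp_subgroupOf_iff h.1).1 h.2).2

theorem congr_mem_inn (e : H ≃* H') {α : MulAut H} (h : α ∈ Inn H) : MulAut.congr e α ∈ Inn H' := by
  obtain ⟨x, rfl⟩ := h
  exact ⟨e x, by ext y; simp⟩

theorem congr_symm_congr (e : H ≃* H') (α : MulAut H') :
    MulAut.congr e (MulAut.congr e.symm α) = α := by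
  ext y; simp

theorem NoComp.congr (h : NoComp H) (e : H ≃* H') : NoComp H' := fun α _ hα hJ =>
  h (MulAut.congr e.symm α) _ (by rwa [MulEquiv.orderOf_eq]) (hJ.congr e.symm)

theorem NoComp.pf (h : NoComp H) : PF H :=
  ⟨fun α _ J h1 h2 => absurd h2 (h α J h1), fun α J h1 h2 => absurd h2 (h α J h1),
    fun α J h1 h2 => absurd h2 (h α J h1)⟩

theorem F2.congr (h : F2 H) (e : H ≃* H') : F2 H' := fun α _ hα hJ => by
  rw [← index_fixed_congr e.symm]
  exact h _ _ (by rwa [MulEquiv.orderOf_eq]) (hJ.congr e.symm)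

/-- The image of a Sylow subgroup under an isomorphism. -/
theorem exists_sylow_congr [Finite H] (e : H ≃* H') (U : Sylow 2 H') :
    ∃ V : Sylow 2 H, ∀ x, x ∈ V ↔ e x ∈ U := by
  haveI := Finite.of_equiv _ e.toEquiv
  exact ⟨U.comapOfInjective e.toMonoidHom e.injective (by
    rw [MonoidHom.range_eq_top.2 e.surjective]; exact le_top), fun x => Iff.rfl⟩

theorem PF.congr [Finite H] (h : PF H) (e : H ≃* H') : PF H' := by
  refine ⟨fun α β J h1 h2 h3 h4 h5 => ?_, h.f2.congr e, fun α J h1 h2 U w h3 h4 h5 => ?_⟩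
  · have := h.f1 (MulAut.congr e.symm α) (MulAut.congr e.symm β) _ (by rwa [MulEquiv.orderOf_eq])
      (h2.congr e.symm) (by rw [← map_mul, h3, map_mul]) (by
        rw [← map_mul]
        exact h4.imp (fun h => by rw [h, map_one]) fun h => by rw [h]) (by
        rintro _ ⟨j, hj, rfl⟩
        simp [h5 j hj])
    rwa [MulEquiv.map_eq_one_iff, (MulAut.congr e.symm).injective.eq_iff] at this
  · obtain ⟨V, hV⟩ := exists_sylow_congr e U
    have := h.f3 (MulAut.congr e.symm α) _ (by rwa [MulEquiv.orderOf_eq]) (h2.congr e.symm) V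
      (MulAut.congr e.symm w) (by rw [← map_pow, h3, map_one])
      (fun u hu => (hV _).2 (by simpa using h4 _ ((hV u).1 hu))) fun u hu => by
        have k : MulAut.conj (u⁻¹ * MulAut.congr e.symm w u) =
            MulAut.congr e.symm (MulAut.conj ((e u)⁻¹ * w (e u))) := by ext y; simp
        rw [k, ← map_pow]
        exact (h5 _ ((hV u).1 hu)).imp (fun h => by rw [h, map_one]) fun h => by rw [h]
    rwa [← map_pow, MulEquiv.map_eq_one_iff] at this

theorem F4.congr [Finite H] (h : F4 H) (e : H ≃* H') : F4 H' := fun U w h3 h4 => by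
  obtain ⟨V, hV⟩ := exists_sylow_congr e U
  have := h V (MulAut.congr e.symm w) (by rw [← map_pow, h3, map_one]) fun u hu => by
    simp [h4 _ ((hV u).1 hu)]
  rwa [← map_pow, MulEquiv.map_eq_one_iff] at this

theorem JF.congr [Finite H] {r n : ℕ} (h : JF r n H) (e : H ≃* H') : JF r n H' := by
  haveI := h.simple
  have hB : ∀ B : Subgroup (MulAut H'), Nat.card (B.map (MulAut.congr e.symm).toMonoidHom) =
      Nat.card B := fun B => card_map_of_injective (MulAut.congr e.symm).injective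
  refine ⟨e.symm.isSimpleGroup, Nat.card_congr e.toEquiv ▸ h.dvd, K.card_out_eq e ▸ h.out,
    fun a b h1 h2 h3 => ?_, h.alt.imp (fun h' B hB' => hB B ▸ h' _ (hB'.map _)) fun h' U => ?_⟩
  · simpa using h.no2r (e.symm a) (e.symm b) (by rw [← map_mul, h1, map_one])
      (by rw [← map_pow, h2, map_one]) (by rw [← map_mul, h3, map_mul])
  · obtain ⟨V, hV⟩ := exists_sylow_congr e U
    have hm : (V : Subgroup H).map e.toMonoidHom = U := by
      ext y
      obtain ⟨x, rfl⟩ := e.surjective y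
      exact (mem_map_iff_mem (f := e.toMonoidHom) e.injective).trans (hV x)
    have e' : V ≃* U := (e.subgroupMap V).trans (MulEquiv.subgroupCongr hm)
    refine ⟨Nat.card_congr (centerCongr e').toEquiv ▸ (h' V).1, fun B h1 h2 => ?_⟩
    rw [← hB, ← Nat.card_congr e'.toEquiv]
    refine (h' V).2 _ (h1.map _) ?_
    rintro _ ⟨β, hβ, rfl⟩ u hu
    simp [h2 β hβ _ ((hV u).1 hu)]

theorem centralizer_congr (e : H ≃* H') (c : H) :
    centralizer {e c} = (centralizer ({c} : Set H)).map e.toMonoidHom := by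
  rw [← fixed_conj, ← fixed_conj, ← fixed_congr]
  congr 1
  ext y; simp

theorem TwoC.congr (e : H ≃* H') {c : H} (h : TwoC c) : TwoC (e c) :=
  ⟨by rw [MulEquiv.orderOf_eq, h.1], by
    rw [centralizer_congr]; exact (index_map_equiv _ e).symm ▸ h.2⟩

theorem TwoC.conj {c : H} (h : TwoC c) (g : H) : TwoC (g * c * g⁻¹) := h.congr (MulAut.conj g)

theorem Rr_map (r : ℕ) (Y : Subgroup H) (e : H ≃* H') :
    Rr r (Y.map e.toMonoidHom) = (Rr r Y).map e.toMonoidHom := by
  rw [Rr, Rr, MonoidHom.map_closure]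
  congr 1
  ext y
  obtain ⟨x, rfl⟩ := e.surjective y
  simp [← map_pow]

theorem XP.congr [Finite H] {r n : ℕ} {α : MulAut H} (h : XP r n α) (e : H ≃* H') :
    XP r n (MulAut.congr e α) := by
  rw [XP, index_fixed_congr]
  refine ⟨fun h' => congr_mem_inn e (h.1 h'), fun J hJ => ?_⟩
  have h1 := hJ.congr e.symm
  rw [show MulAut.congr e.symm (MulAut.congr e α) = α from congr_symm_congr e.symm α] at h1
  obtain ⟨h2, h3, h4⟩ := h.2 _ h1
  refine ⟨h2, h3.congr (e.symm.subgroupMap J).symm, fun j hj h5 => ?_⟩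
  simpa using (h4 (e.symm j) ⟨j, hj, rfl⟩ (by rwa [MulEquiv.orderOf_eq])).congr e

/-- `XP` is invariant under conjugation in the automorphism group. -/
theorem XP.conj [Finite H] {r n : ℕ} {α : MulAut H} (h : XP r n α) (γ : MulAut H) :
    XP r n (γ * α * γ⁻¹) := h.congr γ

theorem XP.of_noComp {r n : ℕ} {α : MulAut H} (h : ¬ 2 ∣ (fixedSubgroup α).index → α ∈ Inn H)
    (h' : ∀ J, ¬ Cp α J) : XP r n α := ⟨h, fun J hJ => absurd hJ (h' J)⟩

theorem XF.congr [Finite H] (h : XF H) (e : H ≃* H') : XF H' := by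
  obtain ⟨r, n, h⟩ := h
  refine ⟨r, n, h.prime, h.odd, ?_, fun U => ?_, fun c c' h1 h2 => ?_, ?_, fun α hα => ?_⟩
  · obtain ⟨A, h1, h2, h3⟩ := h.rank
    refine ⟨A.map e.toMonoidHom, inferInstance, ?_, by rwa [card_map_of_injective e.injective]⟩
    rintro _ ⟨a, ha, rfl⟩
    rw [← map_pow, h2 a ha, map_one]
  · haveI := Finite.of_equiv _ e.toEquiv
    obtain ⟨V⟩ : Nonempty (Sylow 2 H) := inferInstance
    rw [U.card_eq_multiplicity, ← Nat.card_congr e.toEquiv, ← V.card_eq_multiplicity]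
    exact h.syl V
  · simpa using e.toMonoidHom.map_isConj (h.cls _ _ (h1.congr e.symm) (h2.congr e.symm))
  · obtain ⟨c, h1, h2, g, h3, h4⟩ := h.cen
    refine ⟨e c, h1.congr e, ?_, e g, ?_, ?_⟩ <;> rw [centralizer_congr]
    · exact Rr_map r _ e ▸ ⟨c, h2, rfl⟩
    · exact ⟨g, h3, rfl⟩
    · rw [Rr_map]
      exact (map_mono h4).trans_eq (by rw [Subgroup.map_sup, MonoidHom.map_zpowers]; rfl)
  · exact congr_symm_congr e α ▸ (h.xp _ (by rwa [MulEquiv.orderOf_eq])).congr e

theorem XF.f2 (h : XF H) : F2 H := fun α J hα hJ => by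
  obtain ⟨r, n, h⟩ := h
  exact ((h.xp α hα).2 J hJ).1

/-- A subgroup of characteristic two has no component. -/
theorem not_comp_of_isCharP [Finite H] {C J : Subgroup H} (h : CP.IsCharP 2 C) :
    ¬ IsComponentOf J C := fun hJ =>
  layer_eq_bot_iff.1 ((fstar_eq_pCore_iff' 2).1 ((fstar_eq_pCore_iff 2).2 (CP.isCharP_iff.1 h))).1
    _ hJ.2

/-- A solvable group of fixed points has no component. -/
theorem not_cp_of_solvable {α : MulAut H} (h : Group.IsSolvable (fixedSubgroup α)) (J : Subgroup H) :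
    ¬ Cp α J := fun hJ => by
  haveI := h
  exact qs_not_solvable hJ.2.2 inferInstance

theorem conj_injective (hz : center H = ⊥) : Function.Injective (MulAut.conj : H →* MulAut H) :=
  (injective_iff_map_eq_one _).2 fun x hx => mem_bot.1 (hz ▸ mem_center_iff.2 fun g =>
    (mul_inv_eq_iff_eq_mul.1 (DFunLike.congr_fun hx g : x * g * x⁻¹ = g)).symm)

/-- In a centreless group of characteristic two type inner involutions have no component. -/
theorem not_cp_of_inn [Finite H] (hc : UL.CC 2 H) (hz : center H = ⊥) {α : MulAut H}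
    (h1 : orderOf α = 2) (h2 : α ∈ Inn H) (J : Subgroup H) : ¬ Cp α J := by
  obtain ⟨x, rfl⟩ := h2
  rw [orderOf_injective MulAut.conj (conj_injective hz)] at h1
  rw [Cp, fixed_conj]
  exact not_comp_of_isCharP (hc x h1)

theorem noComp_of_odd [Finite H] (hc : UL.CC 2 H) (hz : center H = ⊥)
    (ho : ¬ 2 ∣ Nat.card (Out H)) : NoComp H := fun α J h1 => by
  refine not_cp_of_inn hc hz h1 ((QuotientGroup.eq_one_iff α).1 (by_contra fun h => ho ?_)) J
  have : orderOf (α : Out H) = 2 := orderOf_eq_prime (by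
    rw [← QuotientGroup.mk_pow, ← h1, pow_orderOf_eq_one]; rfl) h
  exact this ▸ orderOf_dvd_natCard _

end Cfsg.Agent.Q16
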