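import Mathlib
import Cfsg.Agent.Q16.Defs
import Cfsg.Agent.S0494
import Cfsg.Agent.S0495
import Cfsg.Agent.S0497
import Cfsg.Agent.S2119
import Cfsg.Agent.S2126
import Cfsg.Agent.S2238
import Cfsg.Agent.S0813
import Cfsg.Agent.S0265
import Cfsg.Agent.S0254
import Cfsg.Agent.S1004
import Cfsg.Agent.S1005
import Cfsg.Agent.SylT.A8Syl
import Cfsg.Agent.Class.SL2Sylow
import Cfsg.Agent.PLocal.AmbSyl

/-!
The facts `JF` for `A₅, L₃(2), A₆, A₈, Sz(8)`. `|Aut|` = 120, 336, 1440, 40320, 87360.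
`A₅`, `Sz(8)`: first alternative (`8² < 128`, `64² < 32768`). The others: second alternative. `B ⊓ Inn`
lies in `conj(Z(U))` of order two, so `|B| ≤ 2 |Out|` = 4, 8, 4. For `A₆` exclude `|B| = 8`: then `B`
covers `Out`, but an automorphism fixing both four-groups of `U = D₈` maps 3-cycles to 3-cycles (the
normalisers `S₄` of the two four-groups contain 3-cycles, respectively double 3-cycles), while the
exceptional automorphism does not; so the image of `B` in `Out` is proper.
-/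

set_option autoImplicit false

namespace Cfsg.Agent.Q16

open Subgroup Cfsg Cfsg.Agent.PLocal

variable {J : Type*} [Group J] [Finite J] [IsSimpleGroup J] {n : ℕ}

namespace JFx

open Equiv Cfsg.Agent.PLocal.Amb

theorem cen_bot (h : ¬ (Nat.card J).Prime) : center J = ⊥ :=
  (IsSimpleGroup.eq_bot_or_eq_top_of_normal _ inferInstance).resolve_right fun e => h (by
    letI : CommGroup J := { mul_comm := fun a b => mem_center_iff.1 (e.ge (mem_top b)) a }
    exact IsSimpleGroup.prime_card)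

omit [IsSimpleGroup J] in
theorem card_aut (hz : center J = ⊥) : Nat.card (MulAut J) = Nat.card (Out J) * Nat.card J := by
  rw [(Inn J).card_eq_card_quotient_mul_card_subgroup,
    Nat.card_congr (MonoidHom.ofInjective (conj_injective hz)).toEquiv]

omit [IsSimpleGroup J] in
theorem out_eq (hz : center J = ⊥) {k : ℕ} (h : Nat.card (MulAut J) = k * Nat.card J) : Nat.card (Out J) = k :=
  Nat.eq_of_mul_eq_mul_right Nat.card_pos ((card_aut hz).symm.trans h)

omit [IsSimpleGroup J] in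
theorem two_le {a m : ℕ} (h : Nat.card (MulAut J) = 2 ^ a * m) (hm : ¬ 2 ∣ m) {B : Subgroup (MulAut J)}
    (hB : IsPGroup 2 B) : Nat.card B ≤ 2 ^ a := by
  obtain ⟨k, hk⟩ := hB.exists_card_eq
  have h1 := B.card_subgroup_dvd_card
  rw [hk, h] at h1
  rw [hk]
  exact Nat.le_of_dvd (by positivity) ((Nat.Coprime.pow_left k
    ((Nat.Prime.coprime_iff_not_dvd Nat.prime_two).2 hm)).dvd_of_dvd_mul_right h1)

omit [IsSimpleGroup J] in
theorem card_le (hz : center J = ⊥) (U : Sylow 2 J) {B : Subgroup (MulAut J)} (hB : IsPGroup 2 B)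
    (h : ∀ β ∈ B, ∀ u ∈ U, β u = u) : Nat.card B ≤ Nat.card (center U) * Nat.card (Out J) := by
  let f : B →* Out J := (QuotientGroup.mk' (Inn J)).comp B.subtype
  have h1 := f.ker.card_mul_index
  rw [index_ker] at h1
  have h2 : ∀ β : f.ker, ∃ x : center U, MulAut.conj (x : J) = (β : B) := fun β => by
    obtain ⟨x, hx⟩ := (QuotientGroup.eq_one_iff _).1 β.2
    have hx' : MulAut.conj x = (β : B) := hx
    have h3 : ∀ u ∈ U, u * x = x * u := fun u hu => by
      have := h _ β.1.2 u hu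
      rw [← hx', MulAut.conj_apply, mul_inv_eq_iff_eq_mul] at this
      exact this.symm
    obtain ⟨k, hk⟩ := hB β
    have h4 : x ^ 2 ^ k = 1 := conj_injective hz (by
      rw [map_pow, hx', map_one]; exact congrArg Subtype.val hk)
    have h5 : x ∈ (U : Subgroup J) := (isSyl_top U).le_of_normalizes (isPGroup_zpowers ⟨k, h4⟩) le_top
      (zpowers_le.2 (centralizer_le_normalizer' _ h3)) (mem_zpowers x)
    exact ⟨⟨⟨x, h5⟩, mem_center_iff.2 fun u => Subtype.ext (h3 u u.2)⟩, hx'⟩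
  choose g hg using h2
  rw [← h1]
  exact Nat.mul_le_mul (Nat.card_le_card_of_injective g fun a b e =>
    Subtype.ext (Subtype.ext (by rw [← hg, ← hg, e]))) (card_le_card_group _)

theorem no2r_of {K : Type*} [Group K] {r : ℕ} (hr : Odd r) (h : ∀ g : K, g ^ (2 * r) = 1 → g ^ 2 = 1 ∨ g ^ r = 1)
    (a b : K) (ha : a * a = 1) (hb : b ^ r = 1) (hc : a * b = b * a) : a = 1 ∨ b = 1 := by
  have c : Commute a b := hc
  rw [← pow_two] at ha
  obtain ⟨k, rfl⟩ := hr
  rcases h (a * b) (by rw [c.mul_pow, pow_mul, ha, one_pow, mul_comm, pow_mul, hb, one_pow, one_mul]) with h | h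
  · rw [c.mul_pow, ha, one_mul] at h
    rw [pow_succ, pow_mul, h, one_pow, one_mul] at hb
    exact .inr hb
  · rw [c.mul_pow, hb, mul_one, pow_succ, pow_mul, ha, one_pow, one_mul] at h
    exact .inl h

theorem alt_no {m r : ℕ} (hr : r.Prime) (h2 : r ≠ 2) (h3 : m < r + 4) (h4 : m < 2 * r) (g : alternatingGroup (Fin m))
    (h : g ^ (2 * r) = 1) : g ^ 2 = 1 ∨ g ^ r = 1 := by
  by_contra hn
  push Not at hn
  have hs := g.1.sum_cycleType_le
  rw [Fintype.card_fin] at hs
  have k : ∀ x ∈ g.1.cycleType, x = 2 ∨ x = r := fun x hx => by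
    have h5 : x ∣ 2 * r := (Perm.dvd_of_mem_cycleType hx).trans (orderOf_dvd_of_pow_eq_one (congrArg Subtype.val h))
    have h6 := Perm.two_le_of_mem_cycleType hx
    have h7 := (Multiset.le_sum_of_mem hx).trans hs
    obtain ⟨a, b, ha, hb, rfl⟩ := (Nat.dvd_mul).1 h5
    rcases (Nat.dvd_prime Nat.prime_two).1 ha with rfl | rfl <;> rcases (Nat.dvd_prime hr).1 hb with rfl | rfl <;> omega
  have k2 : ∀ c : ℕ, (∀ x ∈ g.1.cycleType, x = c) → g ^ c = 1 := fun c hc => Subtype.ext (by
    change g.1 ^ c = 1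
    rw [← orderOf_dvd_iff_pow_eq_one, ← Perm.lcm_cycleType, Multiset.lcm_dvd]
    exact fun x hx => hc x hx ▸ dvd_rfl)
  have a1 : r ∈ g.1.cycleType := by_contra fun e => hn.1 (k2 2 fun x hx => (k x hx).resolve_right fun e' => e (e' ▸ hx))
  have a2 : 2 ∈ g.1.cycleType := by_contra fun e => hn.2 (k2 r fun x hx => (k x hx).resolve_left fun e' => e (e' ▸ hx))
  obtain ⟨t, ht⟩ := Multiset.exists_cons_of_mem a1
  obtain ⟨t', rfl⟩ := Multiset.exists_cons_of_mem ((Multiset.mem_cons.1 (ht ▸ a2)).resolve_left h2.symm)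
  have a3 : t' = 0 := Multiset.eq_zero_of_forall_notMem fun x hx => by
    have h6 := Perm.two_le_of_mem_cycleType (σ := g.1) (n := x) (by rw [ht]; simp [hx])
    have h7 := Multiset.le_sum_of_mem hx
    rw [ht, Multiset.sum_cons, Multiset.sum_cons] at hs
    omega
  have a4 : Perm.sign g.1 = 1 := g.2
  obtain ⟨j, hj⟩ := hr.odd_of_ne_two h2
  rw [Perm.sign_of_cycleType, ht, a3, hj] at a4
  simp [pow_add, pow_mul] at a4

theorem card_alt (m : ℕ) [Nontrivial (Fin m)] {c : ℕ} (h : m.factorial = 2 * c) : Nat.card (alternatingGroup (Fin m)) = c := by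
  have := two_mul_nat_card_alternatingGroup (α := Fin m)
  rw [Nat.card_perm, Nat.card_fin] at this
  omega

theorem aut_alt (m : ℕ) (h4 : 4 ≤ m) (h6 : m ≠ 6) : Nat.card (MulAut (alternatingGroup (Fin m))) = m.factorial := by
  rw [← Nat.card_congr (Equiv.ofBijective _ (S2119.result m h4 h6)), Nat.card_perm, Nat.card_fin]

theorem aut_psl {F : Type} [Field F] [Fintype F] (p f : ℕ) [Fact p.Prime] (hf : 1 ≤ f) (hF : Fintype.card F = p ^ f)
    (h4 : 4 ≤ p ^ f) {K : Type*} [Group K] (e : K ≃* Matrix.ProjectiveSpecialLinearGroup (Fin 2) F) :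
    Nat.card (MulAut K) = f * (p ^ f * ((p ^ f) ^ 2 - 1)) := by
  rw [Nat.card_congr (MulAut.congr e).toEquiv, S0813.result p f hf hF 2 le_rfl fun _ => h4, S0265.result, Class.card_SL2, hF]
  simp

theorem card_syl {K : Type*} [Group K] [Finite K] (U : Sylow 2 K) {a m : ℕ} (h : Nat.card K = 2 ^ a * m) (hm : ¬ 2 ∣ m) :
    Nat.card U = 2 ^ a := by
  rw [U.card_eq_multiplicity, h, Nat.factorization_mul (by positivity) (by rintro rfl; exact hm (dvd_zero 2)),
    Nat.Prime.factorization_pow Nat.prime_two]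
  simp [Nat.factorization_eq_zero_of_not_dvd hm]

theorem cen_two {K L : Type*} [Group K] [Group L] [Finite L] [Nontrivial L] (hL : IsPGroup 2 L) (e : K ≃* L) {z : K}
    (h : ∀ x : K, (∀ y, y * x = x * y) → x = 1 ∨ x = z) : Nat.card (center L) = 2 := by
  have := hL.center_nontrivial
  have h1 : 1 < Nat.card (center L) := Finite.one_lt_card
  have h2 : Nat.card (center K) ≤ Nat.card ({1, z} : Set K) := Nat.card_le_card_of_injective
    (fun x => ⟨x.1, h x.1 (mem_center_iff.1 x.2)⟩) fun a b e => Subtype.ext (congrArg (·.1) e)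
  rw [Nat.card_coe_set_eq] at h2
  have h3 := Set.ncard_insert_le 1 ({z} : Set K)
  rw [Set.ncard_singleton] at h3
  rw [Nat.card_congr (centerCongr e).toEquiv] at h2
  omega

abbrev A6 := alternatingGroup (Fin 6)

def s6 : A6 := ⟨swap 0 2 * swap 1 3, Perm.mem_alternatingGroup.2 (by decide)⟩
def t6 : A6 := ⟨swap 0 1 * swap 4 5, Perm.mem_alternatingGroup.2 (by decide)⟩
def c6 : A6 := ⟨swap 1 2 * swap 2 3, Perm.mem_alternatingGroup.2 (by decide)⟩

theorem d1 : Fintype.card {x : A6 // x * s6 = s6 * x ∧ x * t6 = t6 * x} = 2 := by decide +kernel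
theorem d2 : Fintype.card {x : Perm (Fin 6) // x * s6.1 = s6.1 * x ∧ x * t6.1 = t6.1 * x} = 4 := by decide +kernel
theorem d3 : ∀ x : A6, x ^ 3 = 1 → x * (s6 * t6) ^ 2 = s6 * x → x.1.support.card = 3 := by decide +kernel

theorem induced (β : MulAut A6) (h1 : β s6 = s6) (h2 : β t6 = t6) : ∃ g : Perm (Fin 6), ∀ x, (β x).1 = g * x.1 * g⁻¹ := by
  refine KSG.exists_conj_of_map_threeCycle (by simp) β.toMonoidHom β.injective fun x hx => ?_
  have h3 : (β c6).1.IsThreeCycle := card_support_eq_three_iff.1 (d3 _ (by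
    rw [← map_pow, show c6 ^ 3 = 1 by decide, map_one]) (by
    have := congrArg β (show c6 * (s6 * t6) ^ 2 = s6 * c6 by decide)
    rwa [map_mul, map_mul, map_pow, map_mul, h1, h2] at this))
  have h4 : IsConj c6 x := alternatingGroup.isThreeCycle_isConj (by simp)
    (card_support_eq_three_iff.1 (by decide)) hx
  have h5 := (alternatingGroup (Fin 6)).subtype.map_isConj (β.toMonoidHom.map_isConj h4)
  exact (Perm.isConj_iff_cycleType_eq.1 h5).symm.trans h3

theorem exists_conj (U : Sylow 2 A6) : ∃ g : A6, g * s6 * g⁻¹ ∈ U ∧ g * t6 * g⁻¹ ∈ U := by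
  have e : s6 * (s6 * t6) * s6⁻¹ = (s6 * t6)⁻¹ := by decide
  obtain ⟨g, -, hg⟩ := (isSyl_top U).exists_cj_le (isPGroup_sup (A := zpowers s6) (B := zpowers (s6 * t6))
    (isPGroup_zpowers ⟨1, by decide⟩) (isPGroup_zpowers ⟨2, by decide⟩) (zpowers_le.2 (mem_normalizer_of_cj_le
      (cj_le_iff_forall.2 (by
        rintro _ ⟨k, rfl⟩
        rw [← conj_zpow, e]
        exact zpow_mem (inv_mem (mem_zpowers _)) k))))) le_top
  refine ⟨g, hg (conj_mem_cj g (mem_sup_left (mem_zpowers _))), hg (conj_mem_cj g ?_)⟩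
  simpa using mul_mem (inv_mem (mem_sup_left (T := zpowers (s6 * t6)) (mem_zpowers s6))) (mem_sup_right (mem_zpowers (s6 * t6)))

theorem six (U : Sylow 2 A6) : Nat.card (center U) = 2 ∧ ∀ B : Subgroup (MulAut A6), IsPGroup 2 B →
    (∀ β ∈ B, ∀ u ∈ U, β u = u) → Nat.card B < Nat.card U := by
  have hU : Nat.card U = 2 ^ 3 := card_syl U (m := 45) (card_alt 6 rfl) (by norm_num)
  obtain ⟨g, h1, h2⟩ := exists_conj U
  refine ⟨?_, fun B _ hB => ?_⟩
  · have : Nontrivial U := Finite.one_lt_card_iff_nontrivial.1 (by rw [hU]; norm_num)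
    have := U.isPGroup'.center_nontrivial
    refine le_antisymm (le_of_le_of_eq ?_ d1) Finite.one_lt_card
    rw [← Nat.card_eq_fintype_card]
    have k : ∀ x : center U, ∀ y, g * y * g⁻¹ ∈ U → g⁻¹ * x.1.1 * g * y = y * (g⁻¹ * x.1.1 * g) := fun x y hy => by
      have : g * y * g⁻¹ * x.1.1 = x.1.1 * (g * y * g⁻¹) := congrArg Subtype.val (mem_center_iff.1 x.2 ⟨_, hy⟩)
      rw [show y * (g⁻¹ * x.1.1 * g) = g⁻¹ * (g * y * g⁻¹ * x.1.1) * g by group, this]; group
    exact Nat.card_le_card_of_injective (fun x => ⟨g⁻¹ * x.1.1 * g, k x _ h1, k x _ h2⟩) fun a b e =>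
      Subtype.ext (Subtype.ext (by simpa using congrArg (·.1) e))
  · have k : ∀ β : B, ∀ y, g * y * g⁻¹ ∈ U → ((MulAut.conj g)⁻¹ * β.1 * MulAut.conj g) y = y := fun β y hy => by
      simp [hB _ β.2 _ hy, -map_mul, mul_assoc g⁻¹]
    choose σ hσ using fun β : B => induced _ (k β _ h1) (k β _ h2)
    have k2 : ∀ β : B, ∀ y, g * y * g⁻¹ ∈ U → σ β * y.1 = y.1 * σ β := fun β y hy => by
      rw [← mul_inv_eq_iff_eq_mul, ← hσ, k β y hy]
    have h3 := Nat.card_le_card_of_injective (fun β : B => (⟨σ β, k2 β _ h1, k2 β _ h2⟩ :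
      {x : Perm (Fin 6) // x * s6.1 = s6.1 * x ∧ x * t6.1 = t6.1 * x})) fun a b e => by
        have e' : σ a = σ b := congrArg (·.1) e
        have : (MulAut.conj g)⁻¹ * a.1 * MulAut.conj g = (MulAut.conj g)⁻¹ * b.1 * MulAut.conj g :=
          MulEquiv.ext fun x => Subtype.ext (by rw [hσ, hσ, e'])
        exact Subtype.ext (by simpa using this)
    rw [Nat.card_eq_fintype_card (α := {x : Perm (Fin 6) // _}), d2] at h3
    omega

end JFx

open JFx

theorem jf_60 (h : Nat.card J = 60) (hn : 64 ≤ n) : JF 3 n J := by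
  obtain ⟨e⟩ := S0494.result h
  have ha : Nat.card (MulAut J) = 120 := by rw [Nat.card_congr (MulAut.congr e).toEquiv, aut_alt 5 (by omega) (by omega)]; rfl
  refine ⟨‹_›, by rw [h]; norm_num, by rw [out_eq (cen_bot (by rw [h]; norm_num)) (k := 2) (by rw [ha, h])]; norm_num,
    no2r_of (by decide) fun g hg => ?_, .inl fun B hB => ?_⟩
  · simpa only [← map_pow, MulEquiv.map_eq_one_iff] using
      alt_no Nat.prime_three (by omega) (by omega) (by omega) (e g) (by rw [← map_pow, hg, map_one])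
  · have := two_le (a := 3) (m := 15) ha (by norm_num) hB
    nlinarith

theorem jf_168 (h : Nat.card J = 168) : JF 3 n J := by
  haveI : Fact (Nat.Prime 7) := ⟨by norm_num⟩
  obtain ⟨e⟩ := S0495.result h (ZMod.card 7)
  have hz : center J = ⊥ := cen_bot (by rw [h]; norm_num)
  have ho : Nat.card (Out J) = 2 := out_eq hz (by rw [aut_psl 7 1 le_rfl (ZMod.card 7) (by norm_num) e, h]; norm_num)
  refine ⟨‹_›, by rw [h]; norm_num, by rw [ho]; norm_num, no2r_of (by decide) fun g hg => ?_, .inr fun U => ?_⟩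
  · have h1 := orderOf_dvd_of_pow_eq_one hg
    simp only [← orderOf_dvd_iff_pow_eq_one]
    rcases (S1005.result h).1 g with h2 | h2 | h2 | h2 | h2 <;> rw [h2] at h1 ⊢ <;> omega
  · have hU : Nat.card U = 2 ^ 3 := card_syl U (m := 21) h (by norm_num)
    have : Nontrivial U := Finite.one_lt_card_iff_nontrivial.1 (by rw [hU]; norm_num)
    obtain ⟨f⟩ := (S1004.result h U).1
    have h1 := cen_two U.isPGroup' f.symm (z := DihedralGroup.r 2) (by decide)
    refine ⟨h1, fun B hB hB' => ?_⟩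
    have := card_le hz U hB hB'
    rw [h1, ho] at this
    omega

theorem jf_360 (h : Nat.card J = 360) : JF 5 n J := by
  obtain ⟨e⟩ := S0497.result h
  haveI := Fintype.ofFinite (GaloisField 3 2)
  have hF : Fintype.card (GaloisField 3 2) = 3 ^ 2 := by
    rw [← Nat.card_eq_fintype_card, GaloisField.card 3 2 (by norm_num)]
  obtain ⟨f⟩ := S0254.result hF
  haveI := e.symm.isSimpleGroup
  refine JF.congr ⟨‹_›, by rw [card_alt 6 (c := 360) rfl]; norm_num, ?_,
    no2r_of (by decide) (alt_no (by norm_num) (by omega) (by omega) (by omega)), .inr six⟩ e.symm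
  rw [out_eq (cen_bot (by rw [card_alt 6 (c := 360) rfl]; norm_num)) (k := 4) (by
    rw [aut_psl 3 2 (by omega) hF (by norm_num) f.symm, card_alt 6 (c := 360) rfl]; norm_num)]
  norm_num

theorem jf_A8 : JF 5 n (alternatingGroup (Fin 8)) := by
  haveI : IsSimpleGroup (alternatingGroup (Fin 8)) := alternatingGroup.isSimpleGroup (by simp)
  have hc : Nat.card (alternatingGroup (Fin 8)) = 20160 := card_alt 8 rfl
  have hz : center (alternatingGroup (Fin 8)) = ⊥ := cen_bot (by rw [hc]; norm_num)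
  have ho : Nat.card (Out (alternatingGroup (Fin 8))) = 2 :=
    out_eq hz (by rw [aut_alt 8 (by omega) (by omega), hc]; rfl)
  refine ⟨‹_›, by rw [hc]; norm_num, by rw [ho]; norm_num,
    no2r_of (by decide) (alt_no (by norm_num) (by omega) (by omega) (by omega)), .inr fun U => ?_⟩
  have hU : Nat.card U = 2 ^ 6 := card_syl U (m := 315) hc (by norm_num)
  have : Nontrivial U := Finite.one_lt_card_iff_nontrivial.1 (by rw [hU]; norm_num)
  obtain ⟨f⟩ := SylT.sylow_alt8 U
  have h1 := cen_two U.isPGroup' f SylT.A8.center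
  refine ⟨h1, fun B hB hB' => ?_⟩
  have := card_le hz U hB hB'
  rw [h1, ho] at this
  omega

theorem jf_Sz8 (h : Lie.IsoSuzuki J) (hc : Nat.card J = 29120) (hn : 16384 ≤ n) : JF 5 n J := by
  obtain ⟨F, _, _, m, hm, hF, ⟨e⟩⟩ := h
  have := Chev.SzField.of_fintype hm hF
  let e' := e.trans (Chev.Suz.lieEquiv F).symm
  obtain rfl : m = 1 := by
    refine le_antisymm (not_lt.1 fun h2 => ?_) hm
    rw [Nat.card_congr e'.toEquiv, Chev.Suz.card_Sz F] at hc
    have h3 : 2 ^ 5 ≤ 2 ^ (2 * m + 1) := Nat.pow_le_pow_right (by omega) (by omega)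
    generalize 2 ^ (2 * m + 1) = q at *
    have h4 : 32 ^ 2 * (32 ^ 2 + 1) * (32 - 1) ≤ q ^ 2 * (q ^ 2 + 1) * (q - 1) := by gcongr <;> omega
    omega
  have hz : center J = ⊥ := cen_bot (by rw [hc]; norm_num)
  have ho : Nat.card (Out J) = 3 := (K.card_out_eq e).trans (S2126.result hm hF)
  refine ⟨‹_›, by rw [hc]; norm_num, by rw [ho]; norm_num, no2r_of (by decide) fun g hg => ?_, .inl fun B hB => ?_⟩
  · by_cases h1 : g = 1
    · simp [h1]
    obtain ⟨U, ⟨h2, h3⟩, -⟩ := S2238.result hm hF (e' g) (by simpa using h1)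
    have h4 := U.orderOf_dvd_natCard h3
    have h5 := orderOf_dvd_of_pow_eq_one hg
    rw [MulEquiv.orderOf_eq] at h4
    simp only [← orderOf_dvd_iff_pow_eq_one]
    have h6 := Nat.dvd_gcd h4 h5
    rcases h2 with ⟨P, rfl⟩ | ⟨-, h2 | h2 | h2⟩
    · rw [card_syl P (a := 6) (m := 455) (by rw [← Nat.card_congr e'.toEquiv, hc]; norm_num) (by norm_num)] at h6
      exact .inl h6
    all_goals
      rw [h2] at h6
      exact .inr (h6.trans (by norm_num))
  · have := two_le (a := 6) (m := 1365) (by rw [card_aut hz, ho, hc]; norm_num) (by norm_num) hB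
    nlinarith

end Cfsg.Agent.Q16
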