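import Mathlib
import Cfsg.Agent.Q16.Defs
import Cfsg.Agent.S1780
import Cfsg.Agent.S0205
import Cfsg.Agent.K.InvRed
import Cfsg.Agent.PLocal.NCl

/-!
From the generic Sylow data to the facts `PF`.
-/

set_option autoImplicit false

namespace Cfsg.Agent.Q16

open Subgroup Cfsg Cfsg.Agent.PLocal Cfsg.Agent.PLocal.Amb
open scoped commutatorElement

variable {H H' : Type*} [Group H] [Group H']

namespace GP

theorem sq_le (U : Subgroup H) : Sq U ≤ U := (closure_le _).2 (by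
  rintro _ ⟨u, hu, rfl⟩
  exact mul_mem hu hu)

theorem sq_mem {U : Subgroup H} {u : H} (hu : u ∈ U) : u * u ∈ Sq U := subset_closure ⟨u, hu, rfl⟩

theorem comm_mem {U : Subgroup H} {a b : H} (ha : a ∈ U) (hb : b ∈ U) : a * b * a⁻¹ * b⁻¹ ∈ Sq U := by
  have := mul_mem (mul_mem (sq_mem ha) (sq_mem (mul_mem (inv_mem ha) hb))) (sq_mem (inv_mem hb))
  rwa [show a * a * (a⁻¹ * b * (a⁻¹ * b)) * (b⁻¹ * b⁻¹) = a * b * a⁻¹ * b⁻¹ by group] at this

theorem sq_map {U : Subgroup H} {V : Subgroup H'} (e : H ≃* H') (h : ∀ x ∈ U, e x ∈ V) {x : H} (hx : x ∈ Sq U) :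
    e x ∈ Sq V := by
  have : Sq U ≤ (Sq V).comap e.toMonoidHom := (closure_le _).2 (by
    rintro _ ⟨u, hu, rfl⟩
    change e (u * u) ∈ Sq V
    rw [map_mul]
    exact sq_mem (h u hu))
  exact this hx

theorem tv_congr {U : Subgroup H} {V : Subgroup H'} {β : MulAut H} {β' : MulAut H'} (h : Tv U β) (e : H ≃* H')
    (hV : ∀ x, e x ∈ V ↔ x ∈ U) (hβ : ∀ x, β' (e x) = e (β x)) : Tv V β' := by
  obtain ⟨d, h1, h2, h3, h4⟩ := h
  refine ⟨e d, (hV d).2 h1, by rw [← map_mul, h2, map_one], fun u hu => ?_, fun u hu => ?_⟩ <;>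
    obtain ⟨u, rfl⟩ := e.surjective u
  · rw [← map_mul, h3 u ((hV u).1 hu), map_mul]
  · rw [hβ, ← map_inv, ← map_mul, ← map_mul]
    exact (h4 u ((hV u).1 hu)).imp (sq_map e fun x => (hV x).2) (sq_map e fun x => (hV x).2)

theorem genAt_congr {U : Subgroup H} {V : Subgroup H'} (h : GenAt U) (e : H ≃* H')
    (hV : ∀ x, e x ∈ V ↔ x ∈ U) : GenAt V := by
  have hV' : ∀ x, e.symm x ∈ U ↔ x ∈ V := fun x => by rw [← hV, e.apply_symm_apply]
  have h1 : ∀ β : MulAut H', (∀ u ∈ V, β u ∈ V) → ∀ u ∈ U, MulAut.congr e.symm β u ∈ U := fun β hβ u hu => by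
    simpa [hV'] using hβ _ ((hV u).2 hu)
  have h2 : ∀ β : MulAut H', MulAut.congr e.symm β ∈ Inn H → β ∈ Inn H' := fun β hβ =>
    congr_symm_congr e β ▸ congr_mem_inn e hβ
  refine ⟨fun β ⟨k, hk⟩ h3 h4 => h2 β (h.inn _ ⟨k, by rw [← map_pow, hk, map_one]⟩ (h1 β h3)
    (tv_congr h4 e.symm hV' fun x => by simp)), fun w h3 h4 h5 => ?_, fun α β a1 a2 a3 a4 a5 a6 a7 a8 => ?_⟩
  · obtain ⟨w, rfl⟩ := e.surjective w
    rw [← map_pow, h.nz4 w ((hV w).1 h3) (e.injective (by rw [map_pow, h4, map_one])) fun u hu => ?_, map_one]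
    exact (h5 _ ((hV u).2 hu)).imp (fun a => e.injective (by simpa using a)) fun a => e.injective (by simpa using a)
  · obtain ⟨u, b1, b2, b3⟩ := h.four (MulAut.congr e.symm α) (MulAut.congr e.symm β)
      (by rw [← map_mul, a1, map_one]) (by rw [← map_mul, a2, map_one]) (by rw [← map_mul, a3, map_mul])
      (fun a => a4 (h2 _ a)) (fun a => a5 (h2 _ a)) (fun a => a6 (h2 _ (by rwa [map_mul]))) (h1 α a7) (h1 β a8)
    exact ⟨e u, (hV u).2 b1, e.symm.injective (by simpa using b2), fun a => b3 (by simp [a])⟩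

theorem exists_pow_sq {X : Type*} [Group X] {N : Subgroup X} {r : X} {n : ℕ} (h : r ^ 2 ^ n = 1) (hr : r ∉ N) :
    ∃ j, r ^ j ∉ N ∧ r ^ j * r ^ j ∈ N := by
  induction n generalizing r with
  | zero => exact absurd (by rw [pow_zero, pow_one] at h; exact h ▸ one_mem N) hr
  | succ n ih =>
    by_cases h2 : r ^ 2 ∈ N
    · exact ⟨1, by rwa [pow_one], by rwa [pow_one, ← sq]⟩
    · obtain ⟨j, hj⟩ := ih (r := r ^ 2) (by rw [← pow_mul, ← pow_succ', h]) h2
      exact ⟨2 * j, by rwa [pow_mul]⟩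

theorem eq_of_cyc {X : Type*} [Group X] [Finite X] {P : Subgroup X} (h : IsCyclic P) {a b : X} (ha : a ∈ P)
    (hb : b ∈ P) (h1 : a * a = 1) (h2 : b * b = 1) (h3 : a ≠ 1) (h4 : b ≠ 1) : a = b := by
  classical
  by_contra h5
  have := Fintype.ofFinite P
  have h6 := IsCyclic.card_pow_eq_one_le (α := P) (n := 2) two_pos
  have h7 : ({1, ⟨a, ha⟩, ⟨b, hb⟩} : Finset P) ⊆ Finset.univ.filter fun x => x ^ 2 = 1 := fun x hx => by
    simp only [Finset.mem_insert, Finset.mem_singleton] at hx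
    rcases hx with rfl | rfl | rfl <;> simp [sq, Subtype.ext_iff, h1, h2]
  have := (Finset.card_le_card h7).trans h6
  rw [Finset.card_eq_three.2 ⟨_, _, _, by simpa [Subtype.ext_iff] using h3.symm,
    by simpa [Subtype.ext_iff] using h4.symm, by simpa using h5, rfl⟩] at this
  omega

theorem pg_pair {X : Type*} [Group X] {a b : X} (ha : ∃ k, a ^ 2 ^ k = 1) (hb : ∃ k, b ^ 2 ^ k = 1)
    (h : a * b = b * a) : IsPGroup 2 ↥(zpowers a ⊔ zpowers b) :=
  isPGroup_sup (isPGroup_zpowers ha) (isPGroup_zpowers hb) ((zpowers_le_of_mem (by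
    rw [Amb.centralizer_zpowers, mem_centralizer_singleton_iff, h])).trans (centralizer_le_normalizer' _))

theorem conj_conj (β : MulAut H) (x : H) : β * MulAut.conj x * β⁻¹ = MulAut.conj (β x) := by
  ext y; simp

theorem tv_pow {U : Subgroup H} {β : MulAut H} (h : Tv U β) (hβ : ∀ u ∈ U, β u ∈ U) (n : ℕ) : Tv U (β ^ n) := by
  obtain ⟨d, h1, h2, h3, h4⟩ := h
  refine ⟨d, h1, h2, h3, ?_⟩
  induction n with
  | zero => exact fun u _ => .inl (by simp)
  | succ n ih =>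
    intro u hu
    have e : u⁻¹ * (β ^ (n + 1)) u = u⁻¹ * β u * ((β u)⁻¹ * (β ^ n) (β u)) := by
      rw [pow_succ, MulAut.mul_apply]; group
    rw [e]
    rcases h4 u hu with a | a <;> rcases ih _ (hβ u hu) with b | b
    · exact .inl (mul_mem a b)
    · exact .inr (mul_assoc (u⁻¹ * β u) _ d ▸ mul_mem a b)
    · refine .inr ?_
      rw [mul_assoc, h3 _ (sq_le U b), ← mul_assoc]
      exact mul_mem a b
    · have := mul_mem a b
      rw [mul_assoc, ← h3 _ (sq_le U b), mul_assoc _ d, h2, mul_one] at this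
      exact .inl this

theorem tv_conj_mul {U : Subgroup H} {β : MulAut H} (h : Tv U β) (hβ : ∀ u ∈ U, β u ∈ U) {x : H} (hx : x ∈ U) :
    Tv U (MulAut.conj x * β) := by
  obtain ⟨d, h1, h2, h3, h4⟩ := h
  refine ⟨d, h1, h2, h3, fun u hu => ?_⟩
  have b := comm_mem (inv_mem (hβ u hu)) hx
  have e : u⁻¹ * (MulAut.conj x * β) u = u⁻¹ * β u * ((β u)⁻¹ * x * (β u)⁻¹⁻¹ * x⁻¹) := by
    rw [MulAut.mul_apply, MulAut.conj_apply]; group
  rw [e]
  refine (h4 u hu).imp (fun a => mul_mem a b) fun a => ?_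
  rw [mul_assoc, h3 _ (sq_le U b), ← mul_assoc]
  exact mul_mem a b

variable [Finite H]

theorem mem_of_conj (U : Sylow 2 H) {x : H} (h : ∃ k, x ^ 2 ^ k = 1) (hx : ∀ u ∈ U, x * u * x⁻¹ ∈ U) : x ∈ U :=
  (isSyl_top U).le_of_normalizes (isPGroup_zpowers h) le_top (zpowers_le_of_mem (mem_normalizer_fintype hx))
    (mem_zpowers x)

theorem exists_inv {P : Subgroup (MulAut H)} (hP : IsPGroup 2 P) : ∃ U : Sylow 2 H, ∀ γ ∈ P, ∀ u ∈ U, γ u ∈ U := by
  obtain ⟨U, hU⟩ := hP.nonempty_fixed_point_of_prime_not_dvd_card (Sylow 2 H) (not_dvd_card_sylow 2 H)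
  refine ⟨U, fun γ hγ u hu => ?_⟩
  have : γ • U = U := hU ⟨γ, hγ⟩
  rw [← this]
  exact smul_mem_pointwise_smul u γ _ hu

/-- The stabiliser of `U`. -/
def stab (U : Subgroup H) : Subgroup (MulAut H) where
  carrier := {γ | ∀ u, γ u ∈ U ↔ u ∈ U}
  mul_mem' := fun ha hb u => (ha _).trans (hb u)
  one_mem' := fun _ => Iff.rfl
  inv_mem' := fun {a} ha u => by rw [← ha]; simp

theorem mem_stab {U : Subgroup H} {γ : MulAut H} (h : ∀ u ∈ U, γ u ∈ U) : γ ∈ stab U := fun u => by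
  have : U.map γ.toMonoidHom = U :=
    eq_of_le_of_card_ge (map_le_iff_le_comap.2 h) (Subgroup.card_map_of_injective γ.injective).ge
  conv_lhs => rw [← this]
  exact mem_map_iff_mem (f := γ.toMonoidHom) γ.injective

/-- An automorphism of order four of a `2`-group with the same fixed points as its square. -/
theorem sq_of_fix {X : Type*} [Group X] [Finite X] {U : Subgroup X} (hU : IsPGroup 2 U) {b : X} (hb : ∃ k, b ^ 2 ^ k = 1)
    (hn : b ∈ 𝐍[U]) (h : ∀ u ∈ U, b * b * u = u * (b * b) → b * u = u * b) {u : X} (hu : u ∈ U) :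
    ∃ a ∈ U, b * b * u * (b * b)⁻¹ = u * (a * a) := by
  have hT : U ⊔ zpowers b ≤ 𝐍[U] := sup_le le_normalizer (zpowers_le_of_mem hn)
  obtain ⟨A, -, ⟨h1, h2, h3⟩, hm⟩ := Finite.exists_le_maximal (a := ⊥)
    (p := fun A : Subgroup X => A ≤ U ∧ U ⊔ zpowers b ≤ 𝐍[A] ∧ A ≤ 𝐂[A]) ⟨bot_le, le_normalizer_of_normal, bot_le⟩
  have hC : U ⊓ 𝐂[A] ≤ A := by
    by_contra h4
    obtain ⟨x, hx, h5, h6⟩ := CP.exists_notMem_commutator_mem (hU.to_le inf_le_left)
      (hU.to_sup_of_normal_left' (isPGroup_zpowers hb) (zpowers_le_of_mem hn))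
      (le_normalizer_inf hT (le_normalizer_centralizer h2)) h4
    have h7 : zpowers x ≤ 𝐂[A] := zpowers_le_of_mem hx.2
    refine h5 (hm (y := A ⊔ zpowers x) ⟨sup_le h1 (zpowers_le_of_mem hx.1), fun r hr => mem_normalizer_of_cj_le ?_, ?_⟩
      le_sup_left (mem_sup_right (mem_zpowers x)))
    · rw [cj_sup, cj_of_mem_normalizer (h2 hr), MonoidHom.map_zpowers]
      refine sup_le le_sup_left (zpowers_le_of_mem ?_)
      have := mul_mem (mem_sup_left (inv_mem (h6 r (mem_sup_right hr)).2)) (mem_sup_right (mem_zpowers x))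
      rwa [show ⁅x, r⁆⁻¹ * x = r * x * r⁻¹ by rw [commutatorElement_def]; group] at this
    · rw [Amb.centralizer_sup, Amb.centralizer_zpowers]
      exact sup_le (le_inf h3 (Amb.centralizer_zpowers x ▸ le_centralizer_iff.1 h7))
        (le_inf h7 (zpowers_le_of_mem (mem_centralizer_singleton_iff.2 rfl)))
  have hbA : b ∈ 𝐍[A] := h2 (mem_sup_right (mem_zpowers b))
  have hA : ∀ a ∈ A, b * a * b⁻¹ = a := fun a ha => by
    let : CommGroup A := { mul_comm := fun x y => Subtype.ext (h3 y.2 x x.2) }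
    obtain ⟨k, hk⟩ := hb
    obtain ⟨j, -, hj⟩ := (Nat.dvd_prime_pow Nat.prime_two).1 (orderOf_dvd_of_pow_eq_one
      (show A.normalizerMonoidHom ⟨b, hbA⟩ ^ 2 ^ k = 1 by
        rw [← map_pow, show (⟨b, hbA⟩ : 𝐍[A]) ^ 2 ^ k = 1 from Subtype.ext hk, map_one]))
    exact congrArg Subtype.val (S1780.result (hU.to_le h1) (A.normalizerMonoidHom ⟨b, hbA⟩) ⟨j, hj⟩ (fun y e => by
      have e' : b * (b * y * b⁻¹) * b⁻¹ = y := congrArg Subtype.val e
      refine Subtype.ext (mul_inv_eq_iff_eq_mul.2 (h y (h1 y.2) ?_))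
      conv_rhs => rw [← e']
      group) ⟨a, ha⟩)
  have ha : u⁻¹ * (b * u * b⁻¹) ∈ A := hC ⟨U.mul_mem (U.inv_mem hu) (conj_mem_of_mem_normalizer hn hu), fun y hy => by
    have e1 := hA _ (conj_mem_of_mem_normalizer (h2 (mem_sup_left hu)) hy)
    have e2 := hA y hy
    calc _ = u⁻¹ * (u * y * u⁻¹) * (b * u * b⁻¹) := by group
      _ = u⁻¹ * (b * u * b⁻¹) * (b * y * b⁻¹) := by rw [← e1]; group
      _ = _ := by rw [e2]⟩
  refine ⟨_, h1 ha, ?_⟩
  conv_rhs => rw [← mul_assoc]; arg 2; rw [← hA _ ha]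
  group

variable (hc : UL.CC 2 H) (hz : center H = ⊥) {α : MulAut H} (hα : orderOf α = 2) {J : Subgroup H} (hJ : Cp α J)
include hc hz hα hJ

theorem star {x : H} (h1 : α x = x) (h2 : ∃ k, x ^ 2 ^ k = 1) (h3 : ∀ j ∈ J, x * j = j * x) : x = 1 := by
  by_contra h4
  obtain ⟨k, hk⟩ := h2
  obtain ⟨n, h5, h6⟩ := exists_pow_sq (N := ⊥) hk (by rwa [mem_bot])
  rw [mem_bot] at h5 h6
  have h7 : α (x ^ n) = x ^ n := by rw [map_pow, h1]
  have h8 : J ≤ centralizer {x ^ n} := fun j hj =>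
    mem_centralizer_singleton_iff.2 (Commute.pow_right (h3 j hj).symm n)
  generalize x ^ n = y at h5 h6 h7 h8
  have := ((CP.isCharP_map_iff _ (conj_injective hz)).2 (hc y (orderOf_eq_prime (by rw [sq, h6]) h5))).inf_centralizer
    (isPGroup_zpowers (x := α) ⟨1, by rw [pow_one, ← hα, pow_orderOf_eq_one]⟩) (zpowers_le_of_mem
      (mem_normalizer_fintype (by
        rintro _ ⟨g, hg, rfl⟩
        refine ⟨α g, mem_centralizer_singleton_iff.2 ?_, (conj_conj α g).symm⟩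
        rw [← h7, ← map_mul, ← map_mul, mem_centralizer_singleton_iff.1 hg])))
  have e : (centralizer {y}).map MulAut.conj ⊓ centralizer (zpowers α : Set (MulAut H)) =
      (centralizer {y} ⊓ fixedSubgroup α).map MulAut.conj := by
    ext g
    rw [Amb.centralizer_zpowers, mem_inf, mem_centralizer_singleton_iff]
    constructor
    · rintro ⟨⟨g, hg, rfl⟩, e⟩
      exact ⟨g, ⟨hg, conj_injective hz (by rw [← conj_conj, ← e, mul_inv_cancel_right])⟩, rfl⟩
    · rintro ⟨g, ⟨hg, e⟩, rfl⟩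
      exact ⟨⟨g, hg, rfl⟩, by rw [eq_comm, ← mul_inv_eq_iff_eq_mul, conj_conj, mem_fixed.1 e]⟩
  rw [e, CP.isCharP_map_iff _ (conj_injective hz)] at this
  exact not_comp_of_isCharP this ⟨le_inf h8 hJ.1, comp_subgroupOf_of_le (le_inf h8 hJ.1) inf_le_right hJ.2⟩

theorem conj_J {g : H} (hg : α g = g) {j : H} (hj : j ∈ J) : g * j * g⁻¹ ∈ J := by
  obtain ⟨h1, h2⟩ := comp_subgroupOf_conj hJ.1 hJ.2 (g := g) (le_normalizer (mem_fixed.2 hg))
  by_cases e : cj(g, J) = J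
  · exact e ▸ conj_mem_cj g hj
  have h3 := comp_subgroupOf_commute_of_ne h1 hJ.1 h2 hJ.2 e
  have h4 : 2 ∣ Nat.card cj(g, J) := by
    by_contra h
    exact qs_not_solvable ((comp_subgroupOf_iff h1).1 h2).2 (S0205.result (Nat.odd_iff.2 (by omega)))
  obtain ⟨x, hx⟩ := exists_prime_orderOf_dvd_card' 2 h4
  have := star hc hz hα hJ (x := x) (h1 x.2) ⟨1, by
    rw [pow_one, ← hx, ← coe_pow, pow_orderOf_eq_one, coe_one]⟩ fun j hj => commute_of_commutator_eq_bot h3 x.2 hj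
  rw [show x = 1 from Subtype.ext this, orderOf_one] at hx
  omega

theorem eq_one_of_inn {β : MulAut H} (h1 : α * β = β * α) (h2 : β * β = 1 ∨ β * β = α) (h3 : ∀ j ∈ J, β j = j)
    (h4 : β ∈ Inn H) : β = 1 := by
  have h5 := h2.resolve_right fun e => not_cp_of_inn hc hz hα (e ▸ mul_mem h4 h4) J hJ
  obtain ⟨y, rfl⟩ := h4
  rw [star hc hz hα hJ (x := y) (conj_injective hz (by rw [← conj_conj, h1, mul_inv_cancel_right]))
    ⟨1, conj_injective hz (by rw [pow_one, sq, map_mul, h5, map_one])⟩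
    fun j hj => mul_inv_eq_iff_eq_mul.1 (h3 j hj), map_one]

end GP

open GP

theorem GenAt.congr {U : Subgroup H} (h : GenAt U) (e : H ≃* H') :
    GenAt (U.map e.toMonoidHom) :=
  genAt_congr h e fun _ => mem_map_iff_mem (f := e.toMonoidHom) e.injective

theorem genAt_of_cyc [Finite H] (hz : center H = ⊥) (U : Sylow 2 H)
    (hc : ∀ P : Subgroup (Out H), IsPGroup 2 P → IsCyclic P) {σ : MulAut H} (h1 : σ * σ = 1)
    (h2 : σ ∉ Inn H) (h3 : ∀ u ∈ U, σ u ∈ U) (h4 : ¬ Tv U σ) (nz : NZ4 (U : Subgroup H)) :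
    GenAt (U : Subgroup H) := by
  have key : ∀ {P : Subgroup (Out H)}, IsPGroup 2 P → ∀ α β : MulAut H, (α : Out H) ∈ P → (β : Out H) ∈ P →
      α * α ∈ Inn H → β * β ∈ Inn H → α ∉ Inn H → β ∉ Inn H → (α : Out H) = β := fun hP α β a1 a2 a3 a4 a5 a6 =>
    eq_of_cyc (hc _ hP) a1 a2 ((QuotientGroup.eq_one_iff (α * α)).2 a3) ((QuotientGroup.eq_one_iff (β * β)).2 a4)
      (mt (QuotientGroup.eq_one_iff α).1 a5) (mt (QuotientGroup.eq_one_iff β).1 a6)
  refine ⟨fun β ⟨k, hk⟩ hβ ht => by_contra fun hi => h4 ?_, nz, fun α β a1 a2 a3 a4 a5 a6 _ _ => absurd ?_ a6⟩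
  · obtain ⟨j, b1, b2⟩ := exists_pow_sq hk hi
    obtain ⟨P, hP, h5⟩ := exists_isSyl_ge (isPGroup_zpowers ⟨k, hk⟩) (zpowers_le_of_mem (mem_stab hβ))
    obtain ⟨n, hn, h6⟩ := hP.exists_cj_le (isPGroup_zpowers (x := σ) ⟨1, by rw [pow_one, sq, h1]⟩)
      (zpowers_le_of_mem (mem_stab h3))
    have h7 := h6 (conj_mem_cj n (mem_zpowers σ))
    have h8 := pow_mem (h5 (mem_zpowers β)) j
    have e := key (hP.pgrp.map (QuotientGroup.mk' (Inn H))) (n * σ * n⁻¹) (β ^ j) ⟨_, h7, rfl⟩ ⟨_, h8, rfl⟩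
      (by rw [conj_mul, h1, mul_one, mul_inv_cancel]; exact one_mem _) b2
      (fun a => h2 (by simpa [mul_assoc] using (innNormal H).conj_mem _ a n⁻¹)) b1
    obtain ⟨x, hx⟩ := QuotientGroup.eq_iff_div_mem.1 e
    have h9 := div_mem h7 h8
    rw [← hx] at h9
    obtain ⟨m, hm⟩ := isPGroup_iff.1 hP.pgrp _ h9
    have := tv_conj_mul (tv_pow ht hβ j) (fun u => (hP.le h8 u).2)
      (mem_of_conj U ⟨m, conj_injective hz (by rw [map_pow, hm, map_one])⟩ fun u => (hP.le h9 u).2)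
    rw [hx, div_mul_cancel] at this
    exact tv_congr this n⁻¹ (inv_mem hn) fun y => by simp
  · have b1 : ∀ γ : MulAut H, γ * γ = 1 → ∃ k, (γ : Out H) ^ 2 ^ k = 1 := fun γ e =>
      ⟨1, by rw [pow_one, sq, ← QuotientGroup.mk_mul, e, QuotientGroup.mk_one]⟩
    have := key (pg_pair (b1 α a1) (b1 β a2) (by rw [← QuotientGroup.mk_mul, a3, QuotientGroup.mk_mul])) α β
      (mem_sup_left (mem_zpowers _)) (mem_sup_right (mem_zpowers _)) (a1 ▸ one_mem _) (a2 ▸ one_mem _) a4 a5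
    rwa [QuotientGroup.eq, inv_eq_of_mul_eq_one_left a1] at this

theorem pf_of_gen [Finite H] (hc : UL.CC 2 H) (hz : center H = ⊥) (U : Sylow 2 H)
    (h : GenAt (U : Subgroup H)) : PF H := by
  have hall : ∀ V : Sylow 2 H, GenAt (V : Subgroup H) := fun V => by
    obtain ⟨g, rfl⟩ := MulAction.exists_smul_eq H U V
    exact h.congr (MulAut.conj g)
  have hsq : ∀ {α : MulAut H}, orderOf α = 2 → α * α = 1 := fun hα => by rw [← sq, ← hα, pow_orderOf_eq_one]
  have hp : ∀ {α : MulAut H}, α * α = 1 → ∃ k, α ^ 2 ^ k = 1 := fun e => ⟨1, by rw [pow_one, sq, e]⟩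
  refine ⟨fun α β J hα hJ h1 h2 h3 => ?_, fun α J hα hJ => by_contra fun h4 => ?_,
    fun α J hα hJ V w h1 h2 h3 => ?_⟩
  · by_cases a1 : β ∈ Inn H
    · exact .inl (eq_one_of_inn hc hz hα hJ h1 h2 h3 a1)
    by_cases a2 : α * β ∈ Inn H
    · refine .inr (mul_left_cancel (a := α) ?_)
      rw [hsq hα]
      refine eq_one_of_inn hc hz hα hJ (by rw [mul_assoc, ← h1]) ?_
        (fun j hj => by rw [MulAut.mul_apply, h3 j hj, mem_fixed.1 (hJ.1 hj)]) a2
      rwa [mul_assoc, ← mul_assoc β, ← h1, ← mul_assoc, ← mul_assoc, hsq hα, one_mul]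
    have a3 : α ∉ Inn H := fun a => not_cp_of_inn hc hz hα a J hJ
    have a4 : ∃ k, β ^ 2 ^ k = 1 := ⟨2, by
      rw [show β ^ 2 ^ 2 = β * β * (β * β) by norm_num [pow_succ, mul_assoc]]
      rcases h2 with e | e <;> rw [e]
      exacts [one_mul 1, hsq hα]⟩
    obtain ⟨V, hV⟩ := exists_inv (pg_pair (hp (hsq hα)) a4 h1)
    have b1 := hV α (mem_sup_left (mem_zpowers _))
    have b2 := hV β (mem_sup_right (mem_zpowers _))
    have b3 : ∀ x ∈ V, α x = x → β x = x := fun x hx e => by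
      refine (inv_mul_eq_one.1 (star hc hz hα hJ ?_ (isPGroup_iff.1 V.isPGroup' _ (mul_mem (inv_mem hx) (b2 x hx)))
        fun j hj => ?_)).symm
      · rw [map_mul, map_inv, ← MulAut.mul_apply, h1, MulAut.mul_apply, e]
      · have := h3 _ (conj_J hc hz hα hJ e hj)
        rw [map_mul, map_mul, map_inv, h3 j hj] at this
        calc _ = x⁻¹ * (β x * j * (β x)⁻¹) * β x := by group
          _ = _ := by rw [this]; group
    rcases h2 with e | e
    · obtain ⟨u, c1, c2, c3⟩ := (hall V).four α β (hsq hα) e h1 a3 a1 a2 b1 b2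
      exact absurd (b3 u c1 c2) c3
    refine absurd ((hall V).inn α (hp (hsq hα)) b1 ⟨1, one_mem _, one_mul 1, by simp, fun u hu => .inl ?_⟩) a3
    obtain ⟨_, ⟨a, ha, rfl⟩, e'⟩ := sq_of_fix (V.isPGroup'.map MulAut.conj) a4 (mem_normalizer_fintype (by
      rintro _ ⟨x, hx, rfl⟩
      exact ⟨_, b2 x hx, (conj_conj β x).symm⟩)) (by
        rintro _ ⟨x, hx, rfl⟩ e'
        rw [e, ← mul_inv_eq_iff_eq_mul, conj_conj] at e'
        rw [← mul_inv_eq_iff_eq_mul, conj_conj, b3 x hx (conj_injective hz e')]) ⟨u, hu, rfl⟩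
    rw [e, conj_conj, ← map_mul, ← map_mul] at e'
    rw [conj_injective hz e', inv_mul_cancel_left]
    exact sq_mem ha
  · obtain ⟨D, hD⟩ := exists_isSyl 2 (fixedSubgroup α)
    obtain ⟨V, hV⟩ := exists_inv ((hD.pgrp.map MulAut.conj).to_sup_of_normal_left' (isPGroup_zpowers (hp (hsq hα)))
      (zpowers_le_of_mem (mem_normalizer_fintype (by
        rintro _ ⟨x, hx, rfl⟩
        exact ⟨x, hx, by rw [conj_conj, mem_fixed.1 (hD.le hx)]⟩))))
    have b1 := hV α (mem_sup_right (mem_zpowers _))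
    have b2 : D ≤ V := fun x hx => mem_of_conj V (isPGroup_iff.1 hD.pgrp x hx) (hV _ (mem_sup_left ⟨x, hx, rfl⟩))
    have b3 : ∀ x ∈ V, x ∈ D ↔ α x = x := fun x hx => ⟨fun a => hD.le a, fun a =>
      hD.max (V ⊓ fixedSubgroup α) (V.isPGroup'.to_le inf_le_left) (le_inf b2 hD.le) inf_le_right ⟨hx, a⟩⟩
    refine not_cp_of_inn hc hz hα ((hall V).inn α (hp (hsq hα)) b1 ?_) J hJ
    by_cases b4 : ∀ u ∈ V, α u = u
    · exact ⟨1, one_mem _, one_mul 1, by simp, fun u hu => .inl (by simp [b4 u hu])⟩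
    push Not at b4
    obtain ⟨u₀, c1, c2⟩ := b4
    have b5 : D.relIndex V = 2 := by
      obtain ⟨n, hn⟩ := V.isPGroup'.index (D.subgroupOf V)
      have e := (relIndex_mul_index b2).trans (relIndex_mul_index hD.le).symm
      rw [relIndex, hn] at e ⊢
      match n with
      | 0 => exact absurd ((b3 u₀ c1).1 (subgroupOf_eq_top.1 (index_eq_one.1 hn) c1)) c2
      | 1 => rfl
      | n + 2 =>
        refine absurd (Nat.Coprime.dvd_of_dvd_mul_left (Nat.Coprime.pow_left 2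
          ((Nat.Prime.coprime_iff_not_dvd Nat.prime_two).2 hD.not_dvd_relIndex)) ?_) h4
        rw [← e]
        exact Dvd.dvd.mul_right (Dvd.intro_left _ (pow_add 2 n 2).symm) _
    have b6 : ∀ x ∈ V, ∀ y ∈ V, (α (x * y) = x * y ↔ (α x = x ↔ α y = y)) := fun x hx y hy => by
      rw [← b3 _ hx, ← b3 _ hy, ← b3 _ (mul_mem hx hy)]
      exact mul_mem_iff_of_index_two (a := (⟨x, hx⟩ : V)) (b := ⟨y, hy⟩) b5
    have c3 : α u₀⁻¹ ≠ u₀⁻¹ := by rwa [map_inv, Ne, inv_inj]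
    have c4 : α (α u₀) = u₀ := by rw [← MulAut.mul_apply, hsq hα, MulAut.one_apply]
    have c5 := (b6 _ (inv_mem c1) _ (b1 _ c1)).2 (iff_of_false c3 (c4.symm ▸ c2.symm))
    have c6 := (b6 _ c1 _ c1).2 Iff.rfl
    rw [map_mul, map_inv, c4] at c5
    rw [map_mul] at c6
    have c7 : u₀⁻¹ * α u₀ * (u₀⁻¹ * α u₀) = 1 := by
      nth_rw 1 [← c5]
      group
    have c8 : ∀ x ∈ V, α x = x → x * (u₀⁻¹ * α u₀) = u₀⁻¹ * α u₀ * x := fun x hx e => by
      have := (b6 _ (mul_mem c1 hx) _ (inv_mem c1)).2 (iff_of_false (by rw [b6 _ c1 _ hx]; simp [c2, e]) c3)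
      rw [map_mul, map_mul, map_inv, e] at this
      calc _ = u₀⁻¹ * (u₀ * x * u₀⁻¹) * α u₀ := by group
        _ = _ := by rw [← this]; group
    have c9 : u₀ * (u₀⁻¹ * α u₀) = u₀⁻¹ * α u₀ * u₀ := by
      rw [← c5]
      calc _ = (α u₀)⁻¹ * (α u₀ * α u₀) := by rw [c5]; group
        _ = _ := by rw [c6]; group
    refine ⟨_, mul_mem (inv_mem c1) (b1 _ c1), c7, fun u hu => ?_, fun u hu => ?_⟩ <;> by_cases e : α u = u
    · exact c8 u hu e
    · have := c8 _ (mul_mem (inv_mem c1) hu) ((b6 _ (inv_mem c1) _ hu).2 (iff_of_false c3 e))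
      calc _ = u₀ * (u₀⁻¹ * u * (u₀⁻¹ * α u₀)) := by group
        _ = _ := by rw [this, ← mul_assoc, c9]; group
    · exact .inl (by simp [e])
    · have e1 := (b6 _ (inv_mem c1) _ hu).2 (iff_of_false c3 e)
      have := c8 _ (mul_mem (inv_mem c1) hu) e1
      rw [map_mul, map_inv] at e1
      have e2 : u⁻¹ * α u = u₀⁻¹ * α u₀ := by
        calc _ = (u₀⁻¹ * u)⁻¹ * (u₀⁻¹ * α u₀ * ((α u₀)⁻¹ * α u)) := by group
          _ = _ := by rw [e1, ← this]; group
      exact .inr (by rw [e2, c7]; exact one_mem _)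
  · have h4 : w ^ 2 * w ^ 2 = 1 := by rw [← pow_add, h1]
    have hT : Tv V w := by
      by_cases b : ∃ d ∈ V, MulAut.conj d = w ^ 2
      · obtain ⟨d, b1, b2⟩ := b
        have b3 : ∀ u ∈ V, u⁻¹ * w u = 1 ∨ u⁻¹ * w u = d := fun u hu =>
          (h3 u hu).imp (fun e => conj_injective hz (by rw [e, map_one])) fun e => conj_injective hz (by rw [e, b2])
        have b4 : d * d = 1 := conj_injective hz (by rw [map_mul, b2, h4, map_one])
        have b5 : w d = d := conj_injective hz (by rw [← conj_conj, b2]; group)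
        refine ⟨d, b1, b4, fun u hu => ?_, fun u hu => (b3 u hu).imp (fun e => by rw [e]; exact one_mem _) fun e => ?_⟩
        · have : d * u * d⁻¹ = w (w u) := by rw [← MulAut.mul_apply, ← sq, ← b2, MulAut.conj_apply]
          rw [eq_comm, ← mul_inv_eq_iff_eq_mul, this]
          rcases b3 u hu with e | e <;> rw [inv_mul_eq_iff_eq_mul] at e
          · rw [mul_one] at e
            rw [e, e]
          · rw [e, map_mul, b5, e, mul_assoc, b4, mul_one]
        · rw [e, b4]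
          exact one_mem _
      · refine ⟨1, one_mem _, one_mul 1, by simp, fun u hu => .inl ?_⟩
        rw [conj_injective hz (((h3 u hu).resolve_right fun e => b ⟨_, mul_mem (inv_mem hu) (h2 u hu), e⟩).trans
          (map_one _).symm)]
        exact one_mem _
    obtain ⟨x, rfl⟩ := (hall V).inn w ⟨2, h1⟩ h2 hT
    have b1 : x ^ 4 = 1 := conj_injective hz (by rw [map_pow, h1, map_one])
    rw [← map_pow, (hall V).nz4 x (mem_of_conj V ⟨2, b1⟩ h2) b1 fun u hu => ?_, map_one]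
    refine (h3 _ (inv_mem hu)).imp (fun e => ?_) fun e => ?_
    · have := conj_injective hz (e.trans (map_one _).symm)
      rw [MulAut.conj_apply] at this
      calc _ = u⁻¹⁻¹ * (x * u⁻¹ * x⁻¹) * x := by group
        _ = _ := by rw [this, one_mul]
    · have := conj_injective hz (e.trans (map_pow _ _ _).symm)
      rw [MulAut.conj_apply] at this
      calc _ = u⁻¹⁻¹ * (x * u⁻¹ * x⁻¹) * x := by group
        _ = x ^ 4 * x⁻¹ := by rw [this]; group
        _ = _ := by rw [b1, one_mul]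

end Cfsg.Agent.Q16
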