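import Mathlib
import Cfsg.Agent.Q16.Defs
import Cfsg.Agent.K.CopLin
import Cfsg.Agent.KSG.AutPSL3
import Cfsg.Agent.LnS.IdU
import Cfsg.Agent.S0496
import Cfsg.Agent.UL.Simple

/-! Tools for the linear and unitary groups in characteristic two. -/

set_option autoImplicit false

namespace Cfsg.Agent.Q16

open Subgroup Cfsg Cfsg.Agent.PLocal

section

variable {H : Type*} [Group H]

theorem inn_of_pow {β : MulAut H} {m k : ℕ} (hm : Odd m) (h1 : β ^ m ∈ Inn H)
    (h2 : β ^ 2 ^ k ∈ Inn H) : β ∈ Inn H := by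
  have a := orderOf_dvd_of_pow_eq_one (x := (β : Out H)) ((QuotientGroup.eq_one_iff _).2 h1)
  have b := orderOf_dvd_of_pow_eq_one (x := (β : Out H)) ((QuotientGroup.eq_one_iff _).2 h2)
  exact (QuotientGroup.eq_one_iff β).1 (orderOf_eq_one_iff.1
    (Nat.eq_one_of_dvd_coprimes (Nat.Coprime.pow_right k hm.coprime_two_right) a b))

theorem cyc_of_proj {A : Type*} [Group A] [IsCyclic A] (π : MulAut H →* A) (h1 : Inn H ≤ π.ker)
    {m : ℕ} (hm : Odd m) (h2 : ∀ β ∈ π.ker, β ^ m ∈ Inn H) (P : Subgroup (Out H))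
    (hP : IsPGroup 2 P) : IsCyclic P :=
  isCyclic_of_injective ((QuotientGroup.lift _ π h1).comp P.subtype)
    ((injective_iff_map_eq_one _).2 fun x hx => by
      obtain ⟨k, hk⟩ := hP x
      obtain ⟨x, hx'⟩ := x
      obtain ⟨β, rfl⟩ := QuotientGroup.mk_surjective x
      exact Subtype.ext ((QuotientGroup.eq_one_iff β).2 (inn_of_pow hm (h2 β hx)
        ((QuotientGroup.eq_one_iff _).1 (congrArg Subtype.val hk)))))

theorem Tv.exists_mem {U K : Subgroup H} {β : MulAut H} (h : Tv U β) (h1 : ∀ u ∈ U, u * u ∈ K) :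
    ∃ d ∈ U, (∀ u ∈ U, u * d = d * u) ∧ ∀ u ∈ U, u⁻¹ * β u ∈ K ∨ u⁻¹ * β u * d ∈ K := by
  obtain ⟨d, hd, -, dc, k⟩ := h
  have sq : Sq U ≤ K := (closure_le _).2 (by rintro _ ⟨u, hu, rfl⟩; exact h1 u hu)
  exact ⟨d, hd, dc, fun u hu => (k u hu).imp (@sq _) (@sq _)⟩

theorem Tv.mem {U K : Subgroup H} {β : MulAut H} (h : Tv U β) (h1 : ∀ u ∈ U, u * u ∈ K)
    (h2 : ∀ d ∈ U, (∀ u ∈ U, u * d = d * u) → d ∈ K) (u : H) (hu : u ∈ U) : u⁻¹ * β u ∈ K := by
  obtain ⟨d, hd, dc, k⟩ := h.exists_mem h1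
  exact (k u hu).elim id (K.mul_mem_cancel_right (h2 d hd dc)).1

theorem center_eq_bot_of_ne [IsSimpleGroup H] {x y : H} (h : x * y ≠ y * x) : center H = ⊥ :=
  (Normal.eq_bot_or_eq_top inferInstance).resolve_right fun e =>
    h (mem_center_iff.1 (e.ge (mem_top y)) x)

theorem noComp_of_card [Finite H] [IsSimpleGroup H] (h : Nat.card H < 180) (h2 : 2 < Nat.card H) :
    NoComp H := fun α J hα hJ => by
  have q := hJ.qs
  have := q.2
  have := q.1
  have a : 60 ≤ Nat.card (J ⧸ center J) := by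
    by_contra e
    have := S0496.result (G := J ⧸ center J) (fun hc => Group.IsPerfect.not_isSolvable
      (J ⧸ center J) (Group.isSolvable_of_comm hc.1.1)) (by omega)
    omega
  have b := Nat.le_of_dvd Nat.card_pos (card_quotient_dvd_card (center J))
  have c := card_le_of_le hJ.1
  have d := (fixedSubgroup α).card_mul_index
  have e : (fixedSubgroup α).index ≠ 0 := index_ne_zero_of_finite
  have t : fixedSubgroup α ≠ ⊤ := fun t => by
    rw [show α = 1 from MulEquiv.ext fun x => t.ge (mem_top x)] at hα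
    simp at hα
  have f : (fixedSubgroup α).index ≠ 1 := mt index_eq_one.1 t
  have g : (fixedSubgroup α).index ≠ 2 := fun g => by
    rw [g, (normal_of_index_eq_two g).eq_bot_or_eq_top.resolve_right t, card_bot] at d
    omega
  have := Nat.mul_le_mul (a.trans (b.trans c)) (show 3 ≤ (fixedSubgroup α).index by omega)
  omega

theorem eq_of_cyc [Finite H] [IsCyclic H] {x y : H} (hx : x * x = 1) (hy : y * y = 1) (x1 : x ≠ 1)
    (y1 : y ≠ 1) : x = y := by
  classical
  have := Fintype.ofFinite H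
  by_contra h
  have := (Finset.card_le_card (s := {1, x, y}) (by
    intro z; simp only [Finset.mem_insert, Finset.mem_singleton]
    rintro (rfl | rfl | rfl) <;> simp [sq, hx, hy])).trans
    (IsCyclic.card_pow_eq_one_le (α := H) two_pos)
  rw [Finset.card_eq_three.2 ⟨1, x, y, x1.symm, y1.symm, h, rfl⟩] at this
  omega

end

open Matrix KSG LnS

variable {n : ℕ} {F : Type} [Field F] [Fintype F]

variable (n F) in
/-- the unitriangular group in `PSL` -/
def ιL : idU n F →* ProjectiveSpecialLinearGroup (Fin n) F :=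
  (QuotientGroup.mk' _).domRestrict (idU n F)

theorem ιL_inj : Function.Injective (ιL n F) := (injective_iff_map_eq_one _).2 fun a ha => by
  obtain ⟨r, -, hr⟩ := Matrix.SpecialLinearGroup.mem_center_iff.1
    ((QuotientGroup.eq_one_iff a.1).1 ha)
  refine Subtype.ext (Subtype.ext (Matrix.ext fun i j => ?_))
  rcases le_or_gt j i with h | h
  · exact a.2 i j h
  · exact (congrFun₂ hr i j).symm.trans (by simp [h.ne])

variable (n F) in
theorem exists_sylL [CharP F 2] : ∃ P : Sylow 2 (ProjectiveSpecialLinearGroup (Fin n) F),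
    ∀ x, x ∈ P ↔ ∃ y, ιL n F y = x := by
  have h1 := (isSyl_idU (F := F) (n := n) (p := 2)).map
    (QuotientGroup.mk' (center (SpecialLinearGroup (Fin n) F)))
  rw [map_top_of_surjective _ (QuotientGroup.mk'_surjective _)] at h1
  obtain ⟨P, hP⟩ := h1.exists_sylow_top
  exact ⟨P, fun x => by
    rw [← SetLike.mem_coe, ← P.coe_coe, hP, ← MonoidHom.domRestrict_range]; rfl⟩

theorem lie_L [CharP F 2] (hn : 2 ≤ n) (h : n = 2 → 4 ≤ Fintype.card F) :
    IsLieTypeChar 2 (ProjectiveSpecialLinearGroup (Fin n) F) :=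
  Or.inl ⟨F, _, _, inferInstance, n, hn, h, ⟨MulEquiv.refl _⟩⟩

theorem center_L [CharP F 2] (hn : 2 ≤ n) (h : n = 2 → 4 ≤ Fintype.card F) :
    center (ProjectiveSpecialLinearGroup (Fin n) F) = ⊥ := by
  have := UL.isSimpleGroup_of_lie (lie_L hn h)
  exact (Normal.eq_bot_or_eq_top inferInstance).resolve_right fun e => K.not_solvable_PSL hn h
    (Group.isSolvable_of_comm fun a b => mem_center_iff.1 (e.ge (mem_top b)) a)

theorem psiL_mk (x) {a b : SpecialLinearGroup (Fin n) F} (h : SpecialLinearGroup.toGL b =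
    x.left * glAct2 (Fin n) F x.right (SpecialLinearGroup.toGL a) * x.left⁻¹) :
    psiL (Fin n) F x (QuotientGroup.mk a) = QuotientGroup.mk b := (eq_psiL_iff x _).1 rfl a b h

theorem fld_mk (σ : RingAut F) (a : SpecialLinearGroup (Fin n) F) :
    psiL (Fin n) F (SemidirectProduct.inr (σ, 1)) (QuotientGroup.mk a) =
      QuotientGroup.mk (SpecialLinearGroup.map (σ : F →+* F) a) :=
  psiL_mk _ (Units.ext (by simp [glAct2_one, glAct_val]))

theorem pow_mem_inn (hn : 2 ≤ n) {β : MulAut (ProjectiveSpecialLinearGroup (Fin n) F)}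
    (h : β ∈ (iotaL (Fin n) F).range) : β ^ n ∈ Inn _ := by
  obtain ⟨g, rfl⟩ := h
  rw [← map_pow, iotaL_mem_inn_iff (by simpa using hn), map_pow, Fintype.card_fin]
  exact ⟨_, rfl⟩

omit [Fintype F] in
theorem rev_sq : (Fin.revPerm.toPEquiv.toMatrix * Fin.revPerm.toPEquiv.toMatrix :
    Matrix (Fin n) (Fin n) F) = 1 := by
  rw [PEquiv.toMatrix_toPEquiv_mul]
  ext i j
  simp [PEquiv.toMatrix_apply, one_apply]

variable (n F) in
/-- the antidiagonal matrix -/
def w0 : GL (Fin n) F :=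
  ⟨Fin.revPerm.toPEquiv.toMatrix, Fin.revPerm.toPEquiv.toMatrix, rev_sq, rev_sq⟩

variable (n F) in
/-- the graph automorphism normalising the unitriangular group -/
noncomputable def gamL : MulAut (ProjectiveSpecialLinearGroup (Fin n) F) :=
  psiL (Fin n) F ⟨w0 n F, 1, Multiplicative.ofAdd 1⟩

theorem gamL_mk {a b : SpecialLinearGroup (Fin n) F} (h : ∀ i j, b.1 i j = a⁻¹.1 j.rev i.rev) :
    gamL n F (QuotientGroup.mk a) = QuotientGroup.mk b :=
  psiL_mk _ (Units.ext (by
    change b.1 = Fin.revPerm.toPEquiv.toMatrix * (glAct2 _ _ _ _ : GL _ _).1 *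
      Fin.revPerm.toPEquiv.toMatrix
    rw [PEquiv.toMatrix_toPEquiv_mul, PEquiv.mul_toMatrix_toPEquiv, glAct2_gen, map_one]
    ext i j
    rw [h, MulAut.one_apply, invT_val, ← map_inv]
    rfl))

/-- the graph automorphism on the unitriangular group -/
def gamU (a : idU n F) : idU n F :=
  ⟨⟨(a⁻¹.1.1ᵀ).submatrix Fin.revPerm Fin.revPerm, by
    rw [det_submatrix_equiv_self, det_transpose, a⁻¹.1.2]⟩, fun i j h =>
    (a⁻¹.2 j.rev i.rev (Fin.rev_le_rev.2 h)).trans (by simp [one_apply, eq_comm])⟩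

theorem gamL_ιL (a : idU n F) : gamL n F (ιL n F a) = ιL n F (gamU a) := gamL_mk fun _ _ => rfl

theorem gamL_sq : gamL n F * gamL n F = 1 := by
  rw [gamL, ← map_mul, ← map_one (psiL (Fin n) F)]
  congr 1
  refine SemidirectProduct.ext (Units.ext ?_) (Prod.ext (mul_one _)
    (show Multiplicative.ofAdd (1 : ZMod 2) * Multiplicative.ofAdd 1 = 1 by decide))
  change _ * (glAct2 _ _ _ _ : GL _ _).1 = _
  rw [glAct2_gen, map_one (glAct _)]
  change Fin.revPerm.toPEquiv.toMatrix * (Fin.revPerm.toPEquiv.toMatrix : Matrix _ _ F)ᵀ = 1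
  rw [← PEquiv.toMatrix_symm, ← Equiv.toPEquiv_symm]
  exact rev_sq

/-- a field automorphism on the unitriangular group -/
def fldU (σ : RingAut F) (a : idU n F) : idU n F :=
  ⟨SpecialLinearGroup.map (σ : F →+* F) a.1, fun i j h =>
    (congrArg σ (a.2 i j h)).trans (by simp [one_apply])⟩

theorem fld_ιL (σ : RingAut F) (a : idU n F) :
    psiL (Fin n) F (SemidirectProduct.inr (σ, 1)) (ιL n F a) = ιL n F (fldU σ a) := fld_mk σ a.1

/-- the first entry above the diagonal -/
def χU : idU (n + 2) F →* Multiplicative F :=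
  MonoidHom.mk' (fun a => Multiplicative.ofAdd (a.1.1 0 1)) fun a b =>
    congrArg Multiplicative.ofAdd (show (a.1.1 * b.1.1) 0 1 = a.1.1 0 1 + b.1.1 0 1 by
      rw [mul_apply, Fin.sum_univ_succ, Fin.sum_univ_succ, Finset.sum_eq_zero fun k _ => by
        rw [b.2 _ _ (by simp [Fin.le_def]), one_apply_ne (by simp [Fin.ext_iff]), mul_zero],
        a.2 0 0 le_rfl, Fin.succ_zero_eq_one, b.2 1 1 le_rfl]
      simp [add_comm])

theorem χU_apply (a : idU (n + 2) F) : χU a = Multiplicative.ofAdd (a.1.1 0 1) := rfl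

/-- transvections -/
def tvU {i j : Fin n} (h : i < j) (c : F) : idU n F := ⟨_, tv_idU h c⟩

theorem tvU_val {i j : Fin n} (h : i < j) (c : F) : (tvU h c).1.1 = 1 + single i j c := rfl

end Cfsg.Agent.Q16
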