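import Mathlib
import Cfsg.Agent.Q16.GenPF
import Cfsg.Agent.Q16.Lin0

/-! `L₄(2)` and `L₅(2)`. -/

set_option autoImplicit false

namespace Cfsg.Agent.Q16

open Subgroup Cfsg Cfsg.Agent.PLocal Matrix KSG LnS

variable {n : ℕ} {F : Type} [Field F] [Fintype F]

theorem comm_tvU {k l : Fin n} (h : k < l) {w : idU n F} (c : tvU h 1 * w = w * tvU h 1) :
    single k l 1 * w.1.1 = w.1.1 * single k l 1 := by
  have := congrArg (·.1.1) c
  change (1 + single k l 1) * w.1.1 = w.1.1 * (1 + single k l 1) at this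
  rw [mul_add, add_mul, mul_one, one_mul] at this
  exact add_left_cancel this

theorem nz4_idU [CharP F 2] (hc : ∀ i j x : Fin (n + 1), i ≠ j → x = 0 ∨ x = Fin.last n ∨
    (x ≠ j ∧ ∃ k < x, k ≠ i) ∨ (x ≠ i ∧ ∃ l, x < l ∧ l ≠ j)) (w : idU (n + 1) F)
    (h : ∀ u, u * w * u⁻¹ = w ∨ u * w * u⁻¹ = w⁻¹) : w ^ 2 = 1 := by
  have h2 : (2 : F) = 0 := CharTwo.two_eq_zero
  rw [sq]
  by_cases e : w⁻¹ = w
  · exact mul_eq_one_iff_eq_inv.2 e.symm
  obtain ⟨i, j, hij⟩ : ∃ i j, w⁻¹.1.1 i j ≠ w.1.1 i j := by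
    by_contra! c
    exact e (Subtype.ext (Subtype.ext (Matrix.ext c)))
  have ne : i ≠ j := fun c => hij (by rw [w⁻¹.2 _ _ c.ge, w.2 _ _ c.ge])
  have key : ∀ k l, k < l → k ≠ i → l ≠ j → single k l 1 * w.1.1 = w.1.1 * single k l 1 :=
    fun k l hkl hk hl => (h (tvU hkl 1)).elim (fun c => comm_tvU hkl (mul_inv_eq_iff_eq_mul.1 c))
      fun c => absurd (by
        have := congrArg (·.1.1) (mul_inv_eq_iff_eq_mul.1 c)
        change (1 + single k l 1) * w.1.1 = w⁻¹.1.1 * (1 + single k l 1) at this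
        replace := congrFun₂ this i j
        rwa [mul_add, add_mul, mul_one, one_mul, Matrix.add_apply, Matrix.add_apply,
          single_mul_apply_of_ne _ _ _ _ _ hk.symm, mul_single_apply_of_ne _ _ _ _ _ hl.symm,
          add_zero, add_zero, eq_comm] at this) hij
  have : (w.1.1 - 1) * (w.1.1 - 1) = 0 := by
    ext a b
    rw [mul_apply]
    refine Finset.sum_eq_zero fun x _ => mul_eq_zero.2 ?_
    rw [Matrix.sub_apply, Matrix.sub_apply, sub_eq_zero, sub_eq_zero]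
    rcases hc i j x ne with rfl | rfl | ⟨h1, k, h3, h4⟩ | ⟨h1, l, h3, h4⟩
    · exact .inl (w.2 _ _ (Fin.zero_le _))
    · exact .inr (w.2 _ _ (Fin.le_last _))
    · refine .inr ((eq_or_ne b x).elim (fun c => w.2 _ _ c.le) fun c => ?_)
      have := congrFun₂ (key k x h3 h4 h1) k b
      rwa [single_mul_apply_same, mul_single_apply_of_ne _ _ _ _ _ c, one_mul,
        ← one_apply_ne c.symm] at this
    · refine .inl ((eq_or_ne a x).elim (fun c => w.2 _ _ c.ge) fun c => ?_)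
      have := congrFun₂ (key x l h3 h1 h4) a l
      rwa [mul_single_apply_same, single_mul_apply_of_ne _ _ _ _ _ c, mul_one,
        ← one_apply_ne c, eq_comm] at this
  refine Subtype.ext (Subtype.ext (Matrix.ext fun a b => ?_))
  have := congrFun₂ this a b
  change (w.1.1 * w.1.1) a b = (1 : Matrix _ _ F) a b
  simp only [sub_mul, mul_sub, mul_one, one_mul, Matrix.sub_apply, Matrix.zero_apply] at this
  linear_combination this + (w.1.1 a b - (1 : Matrix _ _ F) a b) * h2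

theorem tv_χU [CharP F 2] {P : Subgroup (ProjectiveSpecialLinearGroup (Fin (n + 3)) F)}
    (mP : ∀ x, x ∈ P ↔ ∃ y, ιL _ F y = x) {β : MulAut _} (k : Tv P β) {x y : idU (n + 3) F}
    (h : β (ιL _ F x) = ιL _ F y) : x.1.1 0 1 = y.1.1 0 1 := by
  have h12 : (1 : Fin (n + 3)) < 2 := by simp [Fin.lt_def, Nat.mod_eq_of_lt]
  have := k.mem (K := χU.ker.map (ιL _ F)) (fun u hu => ?_) (fun d hd dc => ?_) _
    ((mP _).2 ⟨x, rfl⟩)
  · rwa [h, ← map_inv, ← map_mul, mem_map_iff_mem ιL_inj, MonoidHom.mem_ker, map_mul, map_inv,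
      inv_mul_eq_one] at this
  · obtain ⟨y, rfl⟩ := (mP _).1 hu
    exact ⟨y * y, by
      rw [SetLike.mem_coe, MonoidHom.mem_ker, map_mul, χU_apply, ← ofAdd_add,
        CharTwo.add_self_eq_zero]; rfl, map_mul _ _ _⟩
  · obtain ⟨y, rfl⟩ := (mP _).1 hd
    have := congrFun₂ (comm_tvU h12 (w := y) (ιL_inj (by
      rw [map_mul, map_mul, dc _ ((mP _).2 ⟨_, rfl⟩)]))) 0 2
    rw [mul_single_apply_same, single_mul_apply_of_ne _ _ _ _ _ (by simp), mul_one] at this
    exact mem_map_of_mem _ (congrArg Multiplicative.ofAdd this.symm)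

theorem pf_Ln2 (h : Fintype.card F = 2) (hc : ∀ i j x : Fin (n + 3), i ≠ j → x = 0 ∨
    x = Fin.last (n + 2) ∨ (x ≠ j ∧ ∃ k < x, k ≠ i) ∨ (x ≠ i ∧ ∃ l, x < l ∧ l ≠ j)) :
    PF (ProjectiveSpecialLinearGroup (Fin (n + 3)) F) := by
  have := charP_of_card F (p := 2) (f := 1) h
  have hL := lie_L (F := F) (n := n + 3) (by omega) (by omega)
  have hz := center_L (F := F) (n := n + 3) (by omega) (by omega)
  obtain ⟨π, p1, -, p2⟩ := exists_projL3 (F := F) (ι := Fin (n + 3)) (by simp)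
  obtain ⟨P, mP⟩ := exists_sylL (n + 3) F
  have : IsCyclic (RingAut F × Multiplicative (ZMod 2)) := isCyclic_of_prime_card (p := 2) (by
    rw [Nat.card_prod, (card_ringAut F (p := 2) (f := 1) h).1]; simp)
  have h01 : (0 : Fin (n + 3)) < 1 := by simp
  refine pf_of_gen (UL.cc_of_lie hL) hz P (genAt_of_cyc hz P
    (cyc_of_proj π (p2 ▸ inn_le_range_iotaL) odd_one fun β hβ => ?_) gamL_sq (fun e => ?_)
    (fun u hu => ?_) (fun k => ?_) fun w hw _ k => ?_)
  · obtain ⟨g, rfl⟩ := p2.le hβ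
    have : Subsingleton Fˣ := Finite.card_le_one_iff_subsingleton.1 (by
      rw [Nat.card_units, Nat.card_eq_fintype_card, h])
    rw [pow_one, iotaL_mem_inn_iff (by simp)]
    exact ⟨1, Subsingleton.elim _ _⟩
  · exact c2_ne (congrArg Prod.snd ((p1 _).symm.trans (p2.ge (inn_le_range_iotaL e))))
  · obtain ⟨y, rfl⟩ := (mP _).1 hu
    exact (mP _).2 ⟨_, (gamL_ιL y).symm⟩
  · have : (tvU h01 (1 : F)).1.1 0 1 = (SpecialLinearGroup.transvection h01.ne (1 : F))⁻¹.1
      (Fin.rev 1) (Fin.rev 0) := tv_χU mP k (gamL_ιL _)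
    rw [SpecialLinearGroup.transvection_inv, SpecialLinearGroup.transvection_coe, tvU_val] at this
    simp [Fin.ext_iff, one_apply, single_apply] at this
  · obtain ⟨w, rfl⟩ := (mP _).1 hw
    rw [← map_pow, nz4_idU hc w fun u => ?_, map_one]
    simpa only [← map_inv, ← map_mul, ιL_inj.eq_iff] using k _ ((mP _).2 ⟨u, rfl⟩)

end Cfsg.Agent.Q16
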