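import Mathlib
import Cfsg.Agent.Q16.Defs
import Cfsg.Agent.Q16.GenPF
import Cfsg.Agent.Q16.L45
import Cfsg.Agent.S0243

/-!
`L₃(2^f)`, `L₄(2)`, `L₅(2)`.

`L₃(2)`: proper subgroups have order less than 60, `NoComp`. `L₃(q)`, `q ≥ 4`: `pf_of_gen` with `U`
unitriangular. An automorphism normalising `U` is either (T) conjugation by a triangular semilinear map
or (S) the product of such a map with the graph automorphism.
-/

set_option autoImplicit false

namespace Cfsg.Agent.Q16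

open Subgroup Cfsg Cfsg.Agent.PLocal

variable {F : Type} [Field F] [Fintype F]

section

open Matrix KSG LnS

/-- coordinates on the unitriangular group -/
def u3 (a b c : F) : idU 3 F :=
  ⟨⟨!![1, a, c; 0, 1, b; 0, 0, 1], by simp [det_fin_three]⟩, fun i j h => by
    fin_cases i <;> fin_cases j <;> simp_all⟩

theorem u3_val (a b c : F) : (u3 a b c).1.1 = !![1, a, c; 0, 1, b; 0, 0, 1] := rfl

theorem exists_u3 (x : idU 3 F) : ∃ a b c, x = u3 a b c :=
  ⟨x.1.1 0 1, x.1.1 1 2, x.1.1 0 2, Subtype.ext (Subtype.ext (by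
    ext i j
    fin_cases i <;> fin_cases j <;>
      simp [u3_val, x.2 0 0, x.2 1 1, x.2 2 2, x.2 1 0, x.2 2 0, x.2 2 1]))⟩

theorem u3_mul (a b c a' b' c' : F) :
    u3 a b c * u3 a' b' c' = u3 (a + a') (b + b') (c + c' + a * b') := Subtype.ext (Subtype.ext (by
  change (u3 a b c).1.1 * (u3 a' b' c').1.1 = (u3 _ _ _).1.1
  ext i j
  fin_cases i <;> fin_cases j <;> simp [u3_val, mul_apply, Fin.sum_univ_three] <;> ring))

theorem u3_zero : u3 (0 : F) 0 0 = 1 := Subtype.ext (Subtype.ext (by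
  ext i j
  fin_cases i <;> fin_cases j <;> simp [u3_val]))

theorem u3_inv (a b c : F) : (u3 a b c)⁻¹ = u3 (-a) (-b) (a * b - c) := by
  rw [inv_eq_iff_mul_eq_one, u3_mul, ← u3_zero]
  congr 1 <;> ring

/-- coordinates on the Sylow subgroup -/
def v3 (a b c : F) : ProjectiveSpecialLinearGroup (Fin 3) F := ιL 3 F (u3 a b c)

theorem v3_inj {a b c a' b' c' : F} : v3 a b c = v3 a' b' c' ↔ a = a' ∧ b = b' ∧ c = c' :=
  ⟨fun h => ⟨congrArg (·.1.1 0 1) (ιL_inj h), congrArg (·.1.1 1 2) (ιL_inj h),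
    congrArg (·.1.1 0 2) (ιL_inj h)⟩, by rintro ⟨rfl, rfl, rfl⟩; rfl⟩

theorem v3_mul (a b c a' b' c' : F) :
    v3 a b c * v3 a' b' c' = v3 (a + a') (b + b') (c + c' + a * b') := by
  rw [v3, v3, ← map_mul, u3_mul, v3]

theorem v3_inv (a b c : F) : (v3 a b c)⁻¹ = v3 (-a) (-b) (a * b - c) := by
  rw [v3, ← map_inv, u3_inv, v3]

theorem fld_v3 (σ : RingAut F) (a b c : F) :
    psiL (Fin 3) F (SemidirectProduct.inr (σ, 1)) (v3 a b c) = v3 (σ a) (σ b) (σ c) :=
  (fld_ιL σ _).trans (congrArg (ιL 3 F) (Subtype.ext (Subtype.ext (by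
    ext i j
    fin_cases i <;> fin_cases j <;> simp [fldU, u3_val]))))

theorem gam_v3 (a b c : F) : gamL 3 F (v3 a b c) = v3 (-b) (-a) (a * b - c) :=
  (gamL_ιL _).trans (congrArg (ιL 3 F) (Subtype.ext (Subtype.ext (by
    change ((u3 a b c)⁻¹.1.1ᵀ).submatrix Fin.revPerm Fin.revPerm = _
    rw [u3_inv]
    ext i j
    fin_cases i <;> fin_cases j <;> rfl))))

theorem iota_v3 {g : GL (Fin 3) F} {a b c a' b' c' : F}
    (h : iotaL _ F g (v3 a b c) = v3 a' b' c') :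
    ∃ r : F, g.1 * (u3 a b c).1.1 = (u3 a' b' c').1.1 * scalar _ r * g.1 := by
  obtain ⟨s, hs⟩ := exists_sl (g := g * SpecialLinearGroup.toGL (u3 a b c).1 * g⁻¹)
    ((det_conj_gl _ _).trans (u3 a b c).1.2)
  have h1 := psiL_mk (SemidirectProduct.inl g) (a := (u3 a b c).1) (b := s) (by simpa using hs)
  obtain ⟨r, -, hr⟩ := Matrix.SpecialLinearGroup.mem_center_iff.1
    (QuotientGroup.eq.1 (h.symm.trans h1))
  refine ⟨r, ?_⟩
  rw [hr]
  change _ = ((u3 a' b' c').1 * ((u3 a' b' c').1⁻¹ * s)).1 * _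
  rw [mul_inv_cancel_left]
  exact congrArg Units.val (eq_mul_inv_iff_mul_eq.1 hs).symm

theorem c2_sq : Multiplicative.ofAdd (1 : ZMod 2) * Multiplicative.ofAdd 1 = 1 := by decide

/-- `β` normalises the Sylow subgroup -/
def N3 (β : MulAut (ProjectiveSpecialLinearGroup (Fin 3) F)) : Prop :=
  ∀ a b c, ∃ a' b' c', β (v3 a b c) = v3 a' b' c'

theorem act_iota {g : GL (Fin 3) F} (h : N3 (iotaL _ F g)) : ∃ l m x y : F, ∀ a b c,
    iotaL _ F g (v3 a b c) = v3 (l * a) (m * b) (l * m * c + x * a + y * b) := by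
  have key : ∀ a b c : F, ∃ a' b' c' r, iotaL _ F g (v3 a b c) = v3 a' b' c' ∧ ∀ i j,
      (g.1 * (u3 a b c).1.1) i j = ((u3 a' b' c').1.1 * scalar (Fin 3) r * g.1 :) i j :=
    fun a b c => by
    obtain ⟨a', b', c', e⟩ := h a b c
    obtain ⟨r, hr⟩ := iota_v3 e
    exact ⟨a', b', c', r, e, congrFun₂ hr⟩
  simp only [Fin.forall_fin_succ, u3_val, mul_apply, Fin.sum_univ_three, scalar_apply] at key
  simp at key
  have hd := g.det_ne_zero
  rw [det_fin_three] at hd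
  obtain ⟨_, _, _, -, _, h1⟩ := key 1 0 0
  obtain ⟨_, _, _, -, _, h2⟩ := key 0 1 0
  have a0 : g.1 2 0 = 0 := by grind
  have a1 : g.1 2 1 = 0 := by grind
  have a2 : g.1 2 2 ≠ 0 := by grind
  have a3 : g.1 1 0 = 0 := by grind
  have a4 : g.1 1 1 ≠ 0 := by grind
  clear h1 h2
  refine ⟨g.1 0 0 / g.1 1 1, g.1 1 1 / g.1 2 2, -(g.1 0 0 / g.1 1 1 * g.1 1 2 / g.1 2 2),
    g.1 0 1 / g.1 2 2, fun a b c => ?_⟩
  obtain ⟨a', b', c', e, r, h1⟩ := key a b c
  rw [e, v3_inj]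
  have : r = 1 := by grind
  refine ⟨?_, ?_, ?_⟩ <;> grind

theorem N3.mul {β γ : MulAut (ProjectiveSpecialLinearGroup (Fin 3) F)} (h : N3 β) (k : N3 γ) :
    N3 (β * γ) := fun a b c => by
  obtain ⟨a', b', c', e⟩ := k a b c
  rw [MulAut.mul_apply, e]
  exact h _ _ _

omit [Fintype F] in
theorem ringAut_eq_one {σ : RingAut F} {l : F} (h : ∀ a, l * σ a = a) : σ = 1 :=
  RingEquiv.ext fun a => by
    have := h a
    rwa [show l = 1 by simpa using h 1, one_mul] at this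

variable {π : MulAut (ProjectiveSpecialLinearGroup (Fin 3) F) →* RingAut F × Multiplicative (ZMod 2)}
  (p1 : ∀ x, π (psiL (Fin 3) F x) = x.right) {β : MulAut (ProjectiveSpecialLinearGroup (Fin 3) F)}
include p1

theorem act_T (h : N3 β) (e : (π β).2 = 1) : ∃ l m x y : F, ∀ a b c, β (v3 a b c) =
    v3 (l * (π β).1 a) (m * (π β).1 b) (l * m * (π β).1 c + x * (π β).1 a + y * (π β).1 b) := by
  obtain ⟨⟨g, σ, t⟩, rfl⟩ := psiL_surjective (by simp) β
  rw [p1] at e ⊢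
  obtain rfl : t = 1 := e
  rw [psiL_eq_mul] at h ⊢
  obtain ⟨l, m, x, y, k⟩ := act_iota (g := g) fun a b c => by
    simpa [fld_v3] using h (σ.symm a) (σ.symm b) (σ.symm c)
  exact ⟨l, m, x, y, fun a b c => by rw [MulAut.mul_apply, fld_v3, k]⟩

theorem act_S [CharP F 2] (h : N3 β) (e : (π β).2 ≠ 1) : ∃ l m x y : F, ∀ a b c, β (v3 a b c) =
    v3 (l * (π β).1 b) (m * (π β).1 a)
      (l * m * (π β).1 (a * b + c) + x * (π β).1 b + y * (π β).1 a) := by
  have g : π (gamL 3 F) = (1, Multiplicative.ofAdd 1) := p1 _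
  obtain ⟨l, m, x, y, k⟩ := act_T p1 (h.mul fun a b c => ⟨_, _, _, gam_v3 a b c⟩) (by
    rw [map_mul, g, Prod.snd_mul, (c2_cases _).resolve_left e]; exact c2_sq)
  refine ⟨l, m, x, y, fun a b c => ?_⟩
  have := k b a (a * b + c)
  rw [map_mul π, g, MulAut.mul_apply, gam_v3] at this
  simpa [CharTwo.neg_eq, mul_comm a, CharTwo.sub_eq_add, ← add_assoc, CharTwo.add_self_eq_zero]
    using this

end

theorem pf_L3 [CharP F 2] : PF (Matrix.ProjectiveSpecialLinearGroup (Fin 3) F) := by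
  have h2 : (2 : F) = 0 := CharTwo.two_eq_zero
  have hL := lie_L (F := F) (n := 3) (by omega) (by omega)
  have hz := center_L (F := F) (n := 3) (by omega) (by omega)
  rcases (show 2 ≤ Fintype.card F from Fintype.one_lt_card).eq_or_lt with h4 | h4
  · have := UL.isSimpleGroup_of_lie hL
    have := S0243.result h4.symm 3 (by omega)
    simp [Fin.prod_univ_three] at this
    exact (noComp_of_card (by omega) (by omega)).pf
  obtain ⟨π, p1, -, p2⟩ := KSG.exists_projL3 (F := F) (ι := Fin 3) (by simp)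
  obtain ⟨P, mP⟩ := exists_sylL 3 F
  replace mP : ∀ g, g ∈ P.1 ↔ ∃ y, ιL 3 F y = g := mP
  have mv : ∀ a b c, v3 a b c ∈ P.1 := fun a b c => (mP _).2 ⟨_, rfl⟩
  have n3 : ∀ {β : MulAut _}, (∀ u ∈ P.1, β u ∈ P.1) → N3 β := fun h a b c => by
    obtain ⟨y, hy⟩ := (mP _).1 (h _ (mv a b c))
    obtain ⟨a', b', c', rfl⟩ := exists_u3 y
    exact ⟨_, _, _, hy.symm⟩
  have inn : ∀ β k, β ^ 2 ^ k = 1 → (π β).1 = 1 → (π β).2 = 1 → β ∈ Inn _ := fun β k h a b =>
    inn_of_pow (m := 3) (k := k) (by decide) (pow_mem_inn (by omega) (p2.le (Prod.ext a b)))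
      (h ▸ one_mem _)
  have sq : ∀ β, β * β = 1 → (π β).1 * (π β).1 = 1 := fun β h => by
    rw [← Prod.fst_mul, ← map_mul, h, map_one, Prod.fst_one]
  refine pf_of_gen (UL.cc_of_lie hL) hz P ⟨fun β ⟨k, hk⟩ hn t => ?_, fun w hw _ k => ?_,
    fun α β a1 b1 ab a2 b2 c2 a3 b3 => ?_⟩
  · by_cases e : (π β).2 = 1
    · obtain ⟨l, m, x, y, h⟩ := act_T p1 (n3 hn) e
      exact inn β k hk (ringAut_eq_one fun a => (tv_χU mP t (h a 0 0)).symm) e
    · obtain ⟨l, m, x, y, h⟩ := act_S p1 (n3 hn) e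
      simpa [u3_val] using tv_χU mP t (h 1 0 0)
  · obtain ⟨w, rfl⟩ := (mP _).1 hw
    obtain ⟨a, b, c, rfl⟩ := exists_u3 w
    obtain ⟨t, t0, t1⟩ : ∃ t : F, t ≠ 0 ∧ t ≠ 1 := by
      classical
      obtain ⟨t, -, ht⟩ := Finset.exists_mem_notMem_of_card_lt_card
        (s := {0, 1}) (t := (Finset.univ : Finset F)) (Finset.card_le_two.trans_lt h4)
      exact ⟨t, by simpa using ht⟩
    have := k _ (mv (t * a) 0 0)
    change _ * v3 a b c * _ = v3 a b c ∨ _ * v3 a b c * _ = (v3 a b c)⁻¹ at this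
    simp only [v3_inv, v3_mul, v3_inj] at this
    rw [← map_pow, pow_two, u3_mul, ← map_one (ιL 3 F), ← u3_zero]
    congr 2 <;> grind
  have c1 : α * β * (α * β) = 1 := by
    rw [mul_assoc, ← mul_assoc β, ← ab, mul_assoc, b1, mul_one, a1]
  have := KSG.isCyclic_ringAut F
  by_contra! hc
  by_cases e : (π α).2 = 1
  · have a4 := fun h => a2 (inn α 1 (by simpa [pow_two] using a1) h e)
    by_cases e' : (π β).2 = 1
    · refine c2 (inn _ 1 (by simpa [pow_two] using c1) ?_ (by rw [map_mul, Prod.snd_mul, e, e', mul_one]))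
      rw [map_mul, Prod.fst_mul, eq_of_cyc (sq α a1) (sq β b1) a4
        fun h => b2 (inn β 1 (by simpa [pow_two] using b1) h e'), sq β b1]
    obtain ⟨l, m, x, y, h⟩ := act_T p1 (n3 a3) e
    obtain ⟨l', m', x', y', h'⟩ := act_S p1 (n3 b3) e'
    refine a4 (ringAut_eq_one (l := l) fun a => ?_)
    have := hc _ (mul_mem (mv a 0 0) (a3 _ (mv a 0 0))) (by
      rw [map_mul, ← MulAut.mul_apply, a1, MulAut.one_apply, h, v3_mul, v3_mul]
      simp [add_comm])
    rw [h, v3_mul, h', v3_inj] at this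
    have := this.1
    simp at this
    grind
  obtain ⟨φ, f1, f2, f3, f4, f5⟩ : ∃ φ, φ * φ = 1 ∧ φ ∉ Inn _ ∧ (π φ).2 = 1 ∧ N3 φ ∧
      ∀ u ∈ P.1, α u = u → φ u = u := by
    by_cases e' : (π β).2 = 1
    · exact ⟨β, b1, b2, e', n3 b3, hc⟩
    · exact ⟨α * β, c1, c2, by
        rw [map_mul, Prod.snd_mul, (KSG.c2_cases _).resolve_left e, (KSG.c2_cases _).resolve_left e']
        exact c2_sq, (n3 a3).mul (n3 b3), fun u hu h => by rw [MulAut.mul_apply, hc u hu h, h]⟩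
  obtain ⟨l, m, x, y, h⟩ := act_S p1 (n3 a3) e
  obtain ⟨l', m', x', y', h'⟩ := act_T p1 f4 f3
  refine f2 (inn φ 1 (by simpa [pow_two] using f1) ?_ f3)
  have k : ∀ a b c, α (α (v3 a b c)) = v3 a b c := fun a b c => by
    rw [← MulAut.mul_apply, a1, MulAut.one_apply]
  have s : ∀ t, (π α).1 ((π α).1 t) = t := DFunLike.congr_fun (sq α a1)
  generalize (π α).1 = σ at h s
  generalize (π φ).1 = τ at h' ⊢
  by_cases e : σ = 1
  · subst e
    have n := k 0 0 1
    simp [h, v3_inj] at n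
    refine ringAut_eq_one (l := l' * m') fun c => ?_
    have := f5 _ (mv 0 0 c) (by simp [h, v3_inj]; grind)
    simpa [h', v3_inj] using this
  obtain ⟨r, hr⟩ : ∃ r, σ r ≠ r := not_forall.1 fun c => e (RingEquiv.ext c)
  refine ringAut_eq_one (l := l') fun a => ?_
  have n := k a 0 0
  rw [h, h, v3_inj] at n
  have := f5 _ (mv a (m * σ a) (y * σ a + a * (m * σ a) * (1 + r / (r + σ r)))) (by
    have e : r + σ r ≠ 0 := by grind
    simp only [h, v3_inj, map_add, map_mul, map_one, map_zero, map_div₀, s] at n ⊢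
    refine ⟨?_, ?_, ?_⟩ <;> grind)
  rw [h', v3_inj] at this
  exact this.1

theorem pf_L45 (h : Fintype.card F = 2) {n : ℕ} (hn : n = 4 ∨ n = 5) :
    PF (Matrix.ProjectiveSpecialLinearGroup (Fin n) F) := by
  rcases hn with rfl | rfl <;> exact pf_Ln2 h (by decide)

end Cfsg.Agent.Q16
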