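import Mathlib
import Cfsg.Agent.Q16.Defs
import Cfsg.Agent.K.OutExc
import Cfsg.Agent.K.OutTits
import Cfsg.Agent.UL.PMinExc
import Cfsg.Agent.S2126
import Cfsg.Agent.S2128

/-!
`Sz(q)`, `²F₄(q)`: `Out` has odd order. The Tits group and `U₃(3) = G₂(2)'`: the automorphism group is
`²F₄(2)`, resp. `G₂(2)`, in which centralisers of involutions have characteristic two.
-/

set_option autoImplicit false
set_option linter.style.haveILetI false
set_option linter.unusedSectionVars false

namespace Cfsg.Agent.Q16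

open Subgroup Cfsg Cfsg.Agent.PLocal

variable {H : Type*} [Group H] [Finite H]

omit [Finite H] in
theorem noComp_of_center [IsSimpleGroup H] (h : center H = ⊥ → NoComp H) : NoComp H := by
  rcases (inferInstance : (center H).Normal).eq_bot_or_eq_top with h1 | h1
  · exact h h1
  · exact fun α J _ => not_cp_of_solvable (Group.isSolvable_of_comm fun a b =>
      Subtype.ext (mem_center_iff.1 (h1.ge (mem_top (b : H))) (a : H))) J

/-- A simple normal subgroup of index two with `|Out| = 2` in a group of characteristic two type. -/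
theorem noComp_of_index_two {G : Type*} [Group G] [Finite G] (hc : UL.CC 2 G) (N : Subgroup G)
    [N.Normal] [IsSimpleGroup N] (hi : N.index = 2) (ho : Nat.card (Out N) = 2) : NoComp N := by
  refine noComp_of_center fun hz => ?_
  have key : ∀ x : G, orderOf x = 2 → ∀ J, ¬ Cp (MulAut.conjNormal x : MulAut N) J := by
    intro x hx J
    refine not_comp_of_isCharP ((CP.isCharP_map_iff N.subtype N.subtype_injective).1 ?_)
    have e : (fixedSubgroup (MulAut.conjNormal x : MulAut N)).map N.subtype =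
        centralizer {x} ⊓ N := by
      ext y
      refine ⟨?_, fun hy => ⟨⟨y, hy.2⟩, Subtype.ext ?_, rfl⟩⟩
      · rintro ⟨y, hy, rfl⟩
        exact ⟨mem_centralizer_singleton_iff.2
          (mul_inv_eq_iff_eq_mul.1 (congrArg Subtype.val hy)).symm, y.2⟩
      · exact mul_inv_eq_iff_eq_mul.2 (mem_centralizer_singleton_iff.1 hy.1).symm
    exact e ▸ (hc x hx).of_normal inf_le_left
      (Amb.le_normalizer_inf le_normalizer le_normalizer_of_normal)
  have hinj : Function.Injective (MulAut.conjNormal : G →* MulAut N) := by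
    refine (injective_iff_map_eq_one _).2 fun x hx => by_contra fun hx1 => ?_
    have h1 : (⟨x * x, mul_self_mem_of_index_two hi x⟩ : N) ∈ center N :=
      mem_center_iff.2 fun g => Subtype.ext (by
        have h2 : x * g * x⁻¹ = g := congrArg Subtype.val (DFunLike.congr_fun hx g)
        exact ((Commute.mul_left (mul_inv_eq_iff_eq_mul.1 h2) (mul_inv_eq_iff_eq_mul.1 h2)).symm).eq)
    rw [hz, mem_bot] at h1
    refine key x (orderOf_eq_prime (by rw [pow_two]; exact congrArg Subtype.val h1) hx1) ⊤ ?_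
    have h2 : fixedSubgroup (MulAut.conjNormal x : MulAut N) = ⊤ := by
      rw [hx]; exact eq_top_iff.2 fun _ _ => rfl
    rw [Cp, h2]
    refine ⟨le_rfl, (comp_subgroupOf_iff le_rfl).2 ⟨by simp, ?_⟩⟩
    refine qs_congr (qs_of_simple inferInstance fun h => ?_) topEquiv.symm
    exact bot_ne_top (hz.symm.trans (center_eq_top_iff.2 h))
  have hs : Function.Surjective (MulAut.conjNormal : G →* MulAut N) := by
    refine ((Nat.bijective_iff_injective_and_card _).2 ⟨hinj, ?_⟩).2
    rw [(Inn N).card_eq_card_quotient_mul_card_subgroup, ho, ← N.index_mul_card, hi,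
      Nat.card_congr (MonoidHom.ofInjective (conj_injective hz)).toEquiv]
  intro α J hα
  obtain ⟨x, rfl⟩ := hs α
  exact key x (by rwa [orderOf_injective _ hinj] at hα) J

theorem noComp_Sz (h : Lie.IsoSuzuki H) : NoComp H := by
  have hL : IsLieTypeChar 2 H := by simp [IsLieTypeChar, h]
  haveI := UL.isSimpleGroup_of_lie hL
  obtain ⟨F, _, _, m, h1, h2, ⟨e⟩⟩ := h
  exact noComp_of_center fun hz => noComp_of_odd (UL.cc_of_lie hL) hz (by
    rw [K.card_out_eq e, S2126.result h1 h2]; omega)

theorem f4_Sz (h : Lie.IsoSuzuki H) : F4 H := by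
  obtain ⟨F, _, _, m, h1, h2, ⟨e⟩⟩ := h
  haveI := Chev.SzField.of_fintype h1 h2
  have e' := e.trans (Chev.Suz.lieEquiv F).symm
  haveI := Finite.of_equiv _ e'.toEquiv
  refine F4.congr (fun U w h3 h4 => ?_) e'.symm
  have ho : Nat.card (Out (Sz F m)) = 2 * m + 1 :=
    (K.card_out_eq (Chev.Suz.lieEquiv F)).trans (S2126.result h1 h2)
  obtain ⟨x, rfl⟩ : w ∈ Inn _ := by
    refine (QuotientGroup.eq_one_iff w).1 (orderOf_eq_one_iff.1 (Nat.eq_one_of_dvd_coprimes
      (a := 2 ^ 2) (b := 2 * m + 1) ?_ (orderOf_dvd_of_pow_eq_one ?_)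
      (ho ▸ _root_.orderOf_dvd_natCard _)))
    · exact Nat.Coprime.pow_left 2 (by simp)
    · rw [← QuotientGroup.mk_pow, show 2 ^ 2 = 4 from rfl, h3]; rfl
  have h5 : ∀ u ∈ (U : Subgroup (Sz F m)), x * u = u * x := fun u hu =>
    mul_inv_eq_iff_eq_mul.1 (h4 u hu)
  rcases (inferInstance : (center (Sz F m)).Normal).eq_bot_or_eq_top with hz | hz
  · obtain ⟨p, hp⟩ := Chev.Suz.exists_sylow_eq U
    rw [hp] at h5
    have h6 : x ∈ Chev.Suz.Qp p := ⟨MulAction.mem_stabilizer_iff.1 (Chev.Suz.normalizer_Qp p ▸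
      centralizer_le_normalizer _ fun u hu => (h5 u hu).symm),
      conj_injective hz (by rw [map_pow, h3, map_one])⟩
    have h7 : (⟨x, h6⟩ : Chev.Suz.Qp p) ∈ center _ :=
      mem_center_iff.2 fun u => Subtype.ext (h5 u u.2).symm
    rw [Chev.Suz.center_Qp] at h7
    rw [← map_pow, show x ^ 2 = 1 from (Chev.Suz.mem_Zp.1 h7).2, map_one]
  · rw [← map_pow]
    ext y
    rw [MulAut.conj_apply, ← mem_center_iff.1 (hz.ge (mem_top (x ^ 2))) y, mul_inv_cancel_right,
      MulAut.one_apply]

theorem noComp_2F4 (h : Lie.Iso2F4 H) : NoComp H := by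
  have hL : IsLieTypeChar 2 H := by simp [IsLieTypeChar, h]
  haveI := UL.isSimpleGroup_of_lie hL
  obtain ⟨F, _, _, m, h1, h2, ⟨e⟩⟩ := h
  exact noComp_of_center fun hz => noComp_of_odd (UL.cc_of_lie hL) hz (by
    rw [K.card_out_eq e, S2128.result h1 h2]; omega)

theorem noComp_Tits (h : Lie.IsoTits H) : NoComp H := by
  have key : ∀ {A : Type} [Group A] (N : Subgroup A), Nonempty (H ≃* N) → NoComp N → NoComp H :=
    fun N ⟨e⟩ h => h.congr e.symm
  haveI := S1074.result.2.1
  haveI : Finite (Lie.twistedF4 (ZMod 2) 1) := inferInstance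
  exact key _ h (noComp_of_index_two UL.cc_twistedF4_two _ S1074.result.1 K.TitsO.out_card)

theorem noComp_U33 {F : Type} [Field F] [Fintype F] (h : Fintype.card F = 9) :
    NoComp (PSU 3 F 3) := by
  have key : ∀ {G : Type} [Group G] [Finite G], UL.CC 2 G → Nat.card G = 12096 →
      Nonempty (commutator G ≃* PSU 3 F 3) → NoComp (PSU 3 F 3) := fun {G} _ _ hc hG ⟨e⟩ => by
    haveI := (UL.card_U33 h ⟨e⟩).1
    refine (noComp_of_index_two hc _ ?_ (UL.index_inn_U33 h e)).congr e
    have := (commutator G).card_mul_index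
    rw [(UL.card_U33 h ⟨e⟩).2, hG] at this
    omega
  have hG := S1059.result (ZMod.card 2)
  haveI : Finite (Lie.chevG2.group (ZMod 2)) := Nat.finite_of_card_ne_zero (by rw [hG]; decide)
  exact key (UL.cc_chev 2 (by simp)) (hG.trans (by norm_num)) (S1057.result (ZMod.card 2) h)

end Cfsg.Agent.Q16
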