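import Mathlib
import Cfsg.Agent.Q16.Defs
import Cfsg.Agent.QT.NCExc
import Cfsg.Agent.QT.NCClass
import Cfsg.Agent.QT.Tame

/-!
Simple groups of Lie type in characteristic two all of whose odd ranks are at most two.

In every other group we exhibit an elementary abelian subgroup of order `p³`: three commuting
symmetric groups of degree three, or diagonal matrices.
-/

set_option autoImplicit false
set_option linter.style.haveILetI false

namespace Cfsg.Agent.Q16

open Subgroup Cfsg Cfsg.Agent.PLocal Cfsg.Agent.QT Matrix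

/-- Three independent commuting elements of odd prime order. -/
def R3 (K : Type*) [Group K] : Prop :=
  ∃ (p : ℕ) (x y z : K), p.Prime ∧ p ≠ 2 ∧ x ^ p = 1 ∧ y ^ p = 1 ∧ z ^ p = 1 ∧ Commute x y ∧
    Commute x z ∧ Commute y z ∧ x ≠ 1 ∧ (∀ i : ℤ, y ≠ x ^ i) ∧ ∀ i j : ℤ, z ≠ x ^ i * y ^ j

section Gen

variable {A K O : Type*} [Group A] [Group K] [Group O]

theorem R3.of_equiv (e : K ≃* A) (h : R3 A) : R3 K := by
  obtain ⟨p, x, y, z, hp, hp2, a1, a2, a3, b1, b2, b3, c1, c2, c3⟩ := h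
  refine ⟨p, e.symm x, e.symm y, e.symm z, hp, hp2, by rw [← map_pow, a1, map_one],
    by rw [← map_pow, a2, map_one], by rw [← map_pow, a3, map_one], b1.map _, b2.map _, b3.map _,
    by simpa using c1, fun i h => c2 i (e.symm.injective ?_),
    fun i j h => c3 i j (e.symm.injective ?_)⟩
  · rw [h, map_zpow]
  · rw [h, map_mul, map_zpow, map_zpow]

theorem R3.not_sqt [Finite K] (h : R3 K) : ¬ IsStronglyQuasithin K := by
  obtain ⟨p, x, y, z, hp, hp2, a1, a2, a3, b1, b2, b3, c1, c2, c3⟩ := h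
  haveI := Fact.mk hp
  have cz : ∀ {x y : K}, Commute x y → zpowers x ≤ centralizer (zpowers y : Set K) := fun h => by
    rw [Amb.centralizer_zpowers, zpowers_le, mem_centralizer_singleton_iff]
    exact h.eq
  obtain ⟨E1, l1⟩ := lt_card_sup_zpowers (k := 0) isEA_bot (by simp) a1
    (le_centralizer_iff.1 bot_le (mem_top _)) (by simpa using c1)
  rw [bot_sup_eq] at E1 l1
  obtain ⟨E2, l2⟩ := lt_card_sup_zpowers E1 l1 a2 (cz b1.symm (mem_zpowers _))
    fun ⟨i, hi⟩ => c2 i hi.symm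
  obtain ⟨E3, l3⟩ := lt_card_sup_zpowers E2 l2 a3
    (le_centralizer_iff.1 (sup_le (cz b2) (cz b3)) (mem_zpowers _)) fun h => by
      obtain ⟨_, ⟨i, rfl⟩, _, ⟨j, rfl⟩, e⟩ := (Amb.mem_sup_of_le_normalizer_right
        ((cz b1).trans (centralizer_le_normalizer _))).1 h
      exact c3 i j e
  exact fun hS => not_rank_of_EA E3 l3 (hS p hp hp2)

/-- Independence in a central quotient. -/
theorem r3_of_sep (f : A →* K) (hk : f.ker ≤ center A) {p : ℕ} (hp : p.Prime) (hp2 : p ≠ 2)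
    {x y z t v w : A} (hx : x ^ p = 1) (hy : y ^ p = 1) (hz : z ^ p = 1) (b1 : Commute x y)
    (b2 : Commute x z) (b3 : Commute y z) (t1 : t * x * t⁻¹ = x⁻¹) (t2 : t * y * t⁻¹ = y⁻¹)
    (t3 : Commute t z) (x1 : x ≠ 1) (v1 : Commute x v) (v2 : ¬ Commute y v) (w1 : ¬ Commute z w) :
    R3 K := by
  have hc : ∀ {c : A}, f c = 1 → ∀ g, Commute g c := fun h g => mem_center_iff.1 (hk h) g
  have key : ∀ {e : A}, e ^ p = 1 → t * e * t⁻¹ = e⁻¹ → Commute t e → e = 1 := fun h1 h2 h3 => by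
    rw [h3.eq, mul_inv_cancel_right] at h2
    exact eq_one_of_sq_of_pow_odd (hp.odd_of_ne_two hp2) h1
      (by rw [pow_two, mul_eq_one_iff_eq_inv, ← h2])
  refine ⟨p, f x, f y, f z, hp, hp2, by rw [← map_pow, hx, map_one],
    by rw [← map_pow, hy, map_one], by rw [← map_pow, hz, map_one], b1.map f, b2.map f, b3.map f,
    fun e => x1 (key hx t1 (hc e t)), fun i e => v2 ?_, fun i j e => w1 ?_⟩
  · have h1 : f ((x ^ i)⁻¹ * y) = 1 := by simp [e]
    simpa using (v1.zpow_left i).mul_left (hc h1 v).symm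
  · have h1 : f ((x ^ i * y ^ j)⁻¹ * z) = 1 := by simp [e]
    have h2 : x ^ i * y ^ j = 1 := by
      refine key ?_ ?_ ?_
      · rw [(b1.zpow_zpow i j).mul_pow, ← zpow_natCast, ← zpow_natCast, ← _root_.zpow_mul,
          ← _root_.zpow_mul, mul_comm i, mul_comm j, _root_.zpow_mul, _root_.zpow_mul, zpow_natCast,
          zpow_natCast, hx, hy]
        simp
      · have : t * (x ^ i * y ^ j) * t⁻¹ = (t * x * t⁻¹) ^ i * (t * y * t⁻¹) ^ j := by
          rw [conj_zpow, conj_zpow]; group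
        rw [this, t1, t2, (b1.zpow_zpow i j).eq]
        simp
      · simpa using ((hc h1 t).mul_right t3.inv_right).inv_right
    rw [h2, inv_one, one_mul] at h1
    exact (hc h1 w).symm

/-- Three commuting symmetric groups of degree three. -/
theorem r3_of_invols (ι : A →* O) (hι : Function.Injective ι) (f : A →* K) (hk : f.ker ≤ center A)
    (a b : Fin 3 → O) (ha : ∀ i, a i * a i = 1) (hb : ∀ i, b i * b i = 1)
    (hab : ∀ i, (a i * b i) ^ 3 = 1) (hne : ∀ i, a i ≠ b i)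
    (h1 : ∀ i j, i ≠ j → Commute (a i) (a j)) (h2 : ∀ i j, i ≠ j → Commute (a i) (b j))
    (h3 : ∀ i j, i ≠ j → Commute (b i) (b j)) (m1 : ∀ i, a i * b i ∈ ι.range)
    (m2 : ∀ i j, a i * a j ∈ ι.range) : R3 K := by
  choose x hx using m1
  choose t ht using m2
  have hc : ∀ {g h : A}, Commute g h ↔ Commute (ι g) (ι h) := fun {g h} =>
    ⟨fun e => e.map ι, fun e => hι (by rw [map_mul, map_mul, e.eq])⟩
  have c1 : ∀ i j, i ≠ j → Commute (a i * b i) (a j) := fun i j h =>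
    (h1 i j h).mul_left (h2 j i h.symm).symm
  have c2 : ∀ i j, i ≠ j → Commute (x i) (x j) := fun i j h => by
    rw [hc, hx, hx]
    exact (c1 i j h).mul_right ((h2 i j h).mul_left (h3 i j h))
  have cu : ∀ i, x i ^ 3 = 1 := fun i => hι (by rw [map_pow, hx, hab, map_one])
  have inv : ∀ i, a i * (a i * b i) * (a i)⁻¹ = (a i * b i)⁻¹ := fun i => by
    rw [← mul_assoc, ha, one_mul, _root_.mul_inv_rev, inv_eq_of_mul_eq_one_right (hb i)]
  have nc := fun i => not_commute_of_cube (ha i) (hb i) (hab i) (hne i)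
  refine r3_of_sep f hk Nat.prime_three (by norm_num) (t := t 0 1) (v := t 1 2) (w := t 1 2)
    (cu 0) (cu 1) (cu 2) (c2 _ _ (by decide)) (c2 _ _ (by decide)) (c2 _ _ (by decide))
    (hι ?_) (hι ?_) ?_ (fun e => nc 0 ?_) ?_ (fun e => nc 1 ?_) fun e => nc 2 ?_
  · rw [map_mul, map_mul, map_inv, map_inv, ht, hx, ← inv 0, mul_assoc (a 0) (a 1),
      ← (c1 0 1 (by decide)).eq]
    group
  · rw [map_mul, map_mul, map_inv, map_inv, ht, hx]
    have : a 0 * a 1 * (a 1 * b 1) * (a 0 * a 1)⁻¹ = a 0 * (a 1 * (a 1 * b 1) * (a 1)⁻¹) * (a 0)⁻¹ := by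
      group
    rw [this, inv 1, (c1 1 0 (by decide)).symm.inv_right.eq, mul_inv_cancel_right]
  · rw [hc, ht, hx]
    exact (c1 2 0 (by decide)).symm.mul_left (c1 2 1 (by decide)).symm
  · rw [← hx, e, map_one]
    exact Commute.one_left _
  · rw [hc, ht, hx]
    exact (c1 0 1 (by decide)).mul_right (c1 0 2 (by decide))
  · rw [hc, ht, hx] at e
    simpa using e.mul_right (c1 1 2 (by decide)).inv_right
  · rw [hc, ht, hx] at e
    simpa using (c1 2 1 (by decide)).inv_right.mul_right e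

end Gen

section Monomial

variable {ι F A K : Type*} [Fintype ι] [DecidableEq ι] [Field F] [Group A] [Group K]

/-- A group of matrices that contains the permutation matrices and the diagonal matrices of
determinant one and order `r`. -/
theorem r3_of_monomial (ρ : A →* Matrix ι ι F) (hρ : Function.Injective ρ) (f : A →* K)
    (hf : f.ker ≤ center A) {r : ℕ} (hr : r.Prime) (hr2 : r ≠ 2) {l : F} (hl : l ^ r = 1)
    (hl1 : l ≠ 1) {i j k m : ι} (hij : i ≠ j) (hik : i ≠ k) (him : i ≠ m) (hjk : j ≠ k)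
    (hjm : j ≠ m) (hkm : k ≠ m)
    (hd : ∀ d : ι → F, (∀ a, d a ^ r = 1) → ∏ a, d a = 1 → ∃ g, ρ g = diagonal d)
    (hp : ∀ σ : Equiv.Perm ι, ∃ g, ρ g = σ.permMatrix F) : R3 K := by
  have hl0 : l ≠ 0 := fun e => by simp [e, hr.ne_zero] at hl
  have hl2 : l⁻¹ ≠ l := fun e => hl1 (by
    obtain ⟨n, hn⟩ := hr.odd_of_ne_two hr2
    have h2 : l ^ 2 = 1 := by rw [pow_two]; nth_rw 2 [← e]; exact mul_inv_cancel₀ hl0
    rwa [hn, pow_succ, pow_mul, h2, one_pow, one_mul] at hl)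
  have hc : ∀ {g h : A}, Commute g h ↔ Commute (ρ g) (ρ h) := fun {g h} =>
    ⟨fun e => e.map ρ, fun e => hρ (by rw [map_mul, map_mul, e.eq])⟩
  let D : F → F → F → F → ι → F := fun α β γ δ c =>
    if c = i then α else if c = j then β else if c = k then γ else if c = m then δ else 1
  have hE : ∀ {α β γ δ : F}, α ^ r = 1 → β ^ r = 1 → γ ^ r = 1 → δ ^ r = 1 → α * β * γ * δ = 1 →
      ∃ g, g ^ r = 1 ∧ ρ g = diagonal (D α β γ δ) := fun {α β γ δ} h1 h2 h3 h4 h5 => by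
    have h6 : ∀ c, D α β γ δ c ^ r = 1 := fun c => by
      simp only [D]
      split_ifs <;> simp [*]
    obtain ⟨g, hg⟩ := hd _ h6 (by
      rw [← Finset.prod_subset (Finset.subset_univ {i, j, k, m}) fun c _ hc => by
        simp only [Finset.mem_insert, Finset.mem_singleton, not_or] at hc
        simp [D, hc]]
      simp [D, hij, hik, him, hjk, hjm, hkm, hij.symm, hik.symm, him.symm, hjk.symm, hjm.symm,
        hkm.symm, ← h5, mul_assoc])
    exact ⟨g, hρ (by
      rw [map_pow, hg, diagonal_pow, map_one, ← diagonal_one]; exact congrArg _ (funext h6)), hg⟩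
  have hi : l⁻¹ ^ r = 1 := by rw [inv_pow, hl, inv_one]
  obtain ⟨x, x1, x2⟩ := hE hl hi (one_pow r) (one_pow r) (by simp [hl0])
  obtain ⟨y, y1, y2⟩ := hE (one_pow r) (one_pow r) hl hi (by simp [hl0])
  obtain ⟨z, z1, z2⟩ := hE hl hl hi hi (by simp [hl0])
  obtain ⟨t, ht⟩ := hp (Equiv.swap i j * Equiv.swap k m)
  obtain ⟨v, hv⟩ := hp (Equiv.swap k m)
  obtain ⟨w, hw⟩ := hp (Equiv.swap i k)
  have c1 : ∀ {g g' : A} {e e' : ι → F}, ρ g = diagonal e → ρ g' = diagonal e' → Commute g g' :=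
    fun h h' => hc.2 (h ▸ h' ▸ commute_diagonal _ _)
  have c2 : ∀ {g : A} {e : ι → F}, ρ g = diagonal e →
      (∀ c, e c * e ((Equiv.swap i j * Equiv.swap k m) c) = 1) → t * g * t⁻¹ = g⁻¹ :=
    fun {g e} h h' => by
      rw [mul_inv_eq_iff_eq_mul, eq_inv_mul_iff_mul_eq]
      refine hρ ?_
      rw [map_mul, map_mul, h, ht, perm_mul_diagonal, ← Matrix.mul_assoc, diagonal_mul_diagonal,
        funext h', diagonal_one, Matrix.one_mul]
  have cs : ∀ {P : ι → Prop}, P i → P j → P k → P m →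
      (∀ c, c ≠ i → c ≠ j → c ≠ k → c ≠ m → P c) → ∀ c, P c := fun h1 h2 h3 h4 h5 c => by
    by_cases e1 : c = i
    · exact e1 ▸ h1
    by_cases e2 : c = j
    · exact e2 ▸ h2
    by_cases e3 : c = k
    · exact e3 ▸ h3
    by_cases e4 : c = m
    · exact e4 ▸ h4
    exact h5 c e1 e2 e3 e4
  refine r3_of_sep f hf hr hr2 (t := t) (v := v) (w := w) x1 y1 z1 (c1 x2 y2) (c1 x2 z2) (c1 y2 z2)
    (c2 x2 (cs ?_ ?_ ?_ ?_ fun c h1 h2 h3 h4 => ?_)) (c2 y2 (cs ?_ ?_ ?_ ?_ fun c h1 h2 h3 h4 => ?_))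
    (Commute.symm (hc.2 (z2 ▸ ht ▸ commute_diagonal_perm.2
      (cs ?_ ?_ ?_ ?_ fun c h1 h2 h3 h4 => ?_)))) (fun e => hl1 ?_)
    (hc.2 (x2 ▸ hv ▸ commute_diagonal_perm.2 (cs ?_ ?_ ?_ ?_ fun c h1 h2 h3 h4 => ?_)))
    (fun e => hl2 ?_) fun e => hl2 ?_
  any_goals
    simp [D, Equiv.swap_apply_def, hij.symm, hik.symm, him.symm, hjk.symm, hjm.symm, hkm.symm, *]
    done
  · rw [e, map_one] at x2
    simpa [D] using (congrFun (congrFun x2 i) i).symm
  · rw [hc, y2, hv, commute_diagonal_perm] at e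
    simpa [D, him.symm, hjm.symm, hkm.symm, hik.symm, hjk.symm] using e k
  · rw [hc, z2, hw, commute_diagonal_perm] at e
    simpa [D, hik.symm, hjk.symm] using e i

end Monomial

section Fam

variable {F : Type*} [Field F] [CharP F 2]

theorem r3_PSL_torus [Fintype F] (h : Fintype.card F ≠ 2) {n : ℕ} (hn : 4 ≤ n) :
    R3 (ProjectiveSpecialLinearGroup (Fin n) F) := by
  obtain ⟨e, he, hq⟩ := UL.card_eq_pow F 2 Nat.prime_two
  have h1 : 1 < Fintype.card F := Fintype.one_lt_card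
  obtain ⟨r, l, hr, hr2, -, h2, h3⟩ := exists_root (F := F) dvd_rfl (by omega)
    (Nat.Even.sub_odd h1.le (hq ▸ Nat.even_pow.2 ⟨even_two, by omega⟩) odd_one)
  exact r3_of_monomial _ (slToMat_injective n F) _ (QuotientGroup.ker_mk' _).le hr hr2 h2 h3
    (i := ⟨0, by omega⟩) (j := ⟨1, by omega⟩) (k := ⟨2, by omega⟩) (m := ⟨3, by omega⟩)
    (by simp) (by simp) (by simp) (by simp) (by simp) (by simp)
    (fun d _ hd => ⟨⟨diagonal d, det_diagonal.trans hd⟩, rfl⟩) fun σ => ⟨⟨_, det_perm_two σ⟩, rfl⟩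

theorem r3_PSL {n : ℕ} (hn : 6 ≤ n) : R3 (ProjectiveSpecialLinearGroup (Fin n) F) := by
  have h2 : (1 : F) + 1 = 0 := CharTwo.add_self_eq_zero 1
  have sq : ∀ {i j : Fin n} (h : i ≠ j), SpecialLinearGroup.transvection h (1 : F) *
      SpecialLinearGroup.transvection h 1 = 1 := fun h => by
    rw [← SpecialLinearGroup.transvection_add, h2, SpecialLinearGroup.transvection_coeff_zero]
  have cu : ∀ {i j : Fin n} (h : i ≠ j), (SpecialLinearGroup.transvection h (1 : F) *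
      SpecialLinearGroup.transvection h.symm 1) ^ 3 = 1 := fun {i j} h => by
    refine cube_of_conj (sq h) (sq h.symm) ?_
    rw [inv_eq_of_mul_eq_one_right (sq h), inv_eq_of_mul_eq_one_right (sq h.symm)]
    refine Subtype.ext ?_
    change ((1 + single i j 1) * (1 + single j i 1) * (1 + single i j 1) : Matrix _ _ F) =
      (1 + single j i 1) * (1 + single i j 1) * (1 + single j i 1)
    simp only [mul_add, add_mul, mul_one, one_mul, single_mul_single_same,
      single_mul_single_of_ne _ _ _ _ h, single_mul_single_of_ne _ _ _ _ h.symm, add_zero]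
    have := fun a b : Fin n => show single a b (1 : F) + single a b 1 = 0 by
      rw [← single_add, h2, single_zero]
    linear_combination (norm := abel) this i j - this j i
  have co : ∀ {i j k l : Fin n} (h : i ≠ j) (h' : k ≠ l), j ≠ k → l ≠ i →
      Commute (SpecialLinearGroup.transvection h (1 : F)) (SpecialLinearGroup.transvection h' 1) :=
    fun {i j k l} h h' h1 h3 => Subtype.ext (by
      change ((1 + single i j 1) * (1 + single k l 1) : Matrix _ _ F) =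
        (1 + single k l 1) * (1 + single i j 1)
      simp only [mul_add, add_mul, mul_one, one_mul, single_mul_single_of_ne _ _ _ _ h1,
        single_mul_single_of_ne _ _ _ _ h3]
      abel)
  have ne : ∀ {i j : Fin n} (h : i ≠ j), SpecialLinearGroup.transvection h (1 : F) ≠
      SpecialLinearGroup.transvection h.symm 1 := fun {i j} h e => by
    simpa [SpecialLinearGroup.transvection_coe, h, h.symm] using congrArg (fun g => g.1 i j) e
  have h01 : ∀ i : Fin 3, (⟨i, by omega⟩ : Fin n) ≠ ⟨i + 3, by omega⟩ := fun i => by simp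
  refine r3_of_invols (MonoidHom.id _) Function.injective_id _ (QuotientGroup.ker_mk' _).le
    (fun i => SpecialLinearGroup.transvection (h01 i) (1 : F))
    (fun i => SpecialLinearGroup.transvection (h01 i).symm 1) (fun i => sq _) (fun i => sq _)
    (fun i => cu _) (fun i => ne _) (fun i j h => co _ _ ?_ ?_) (fun i j h => co _ _ ?_ ?_)
    (fun i j h => co _ _ ?_ ?_) (fun i => ⟨_, rfl⟩) fun i j => ⟨_, rfl⟩
  all_goals
    simp only [ne_eq, Fin.ext_iff] at h ⊢
    omega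

theorem r3_PSU [Fintype F] {q n : ℕ} (hF : Fintype.card F = q ^ 2) (hn : 4 ≤ n) :
    R3 (PSU n F q) := by
  have hρ : Function.Injective ((slToMat n F).comp (SU n F q).subtype) :=
    (slToMat_injective n F).comp Subtype.val_injective
  obtain ⟨e, he, rfl⟩ := UL.root_eq_pow Nat.prime_two two_ne_zero hF
  obtain ⟨r, l, hr, hr2, ⟨c, hc⟩, h2, h3⟩ := exists_root (F := F) (m := 2 ^ e + 1)
    (by rw [hF]; exact ⟨2 ^ e - 1, Nat.sq_sub_sq _ 1⟩) (by simp)
    ((Nat.even_pow.2 ⟨even_two, by omega⟩).add_one)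
  refine r3_of_monomial _ hρ _ (QuotientGroup.ker_mk' _).le hr hr2 h2 h3
    (i := ⟨0, by omega⟩) (j := ⟨1, by omega⟩) (k := ⟨2, by omega⟩) (m := ⟨3, by omega⟩)
    (by simp) (by simp) (by simp) (by simp) (by simp) (by simp)
    (fun d h4 hd => ⟨⟨⟨diagonal d, det_diagonal.trans hd⟩, fun u v => ?_⟩, rfl⟩)
    fun σ => ⟨⟨⟨_, det_perm_two σ⟩, fun u v => ?_⟩, rfl⟩
  · change hermForm n F _ (diagonal d *ᵥ u) (diagonal d *ᵥ v) = _
    refine Finset.sum_congr rfl fun a _ => ?_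
    have : d a ^ (2 ^ e + 1) = 1 := by rw [hc, pow_mul, h4, one_pow]
    rw [mulVec_diagonal, mulVec_diagonal, mul_pow]
    linear_combination (u a * v a ^ 2 ^ e) * this
  · change hermForm n F _ (σ.permMatrix F *ᵥ u) (σ.permMatrix F *ᵥ v) = _
    rw [permMatrix_mulVec, permMatrix_mulVec]
    exact Equiv.sum_comp σ fun a => u a * v a ^ 2 ^ e

open Class.Sp in
theorem r3_PSp {m : ℕ} (hm : 3 ≤ m) : R3 (PSp m F) := by
  have sq : ∀ v : Fin m ⊕ Fin m → F, tv v (1 : F) * tv v 1 = 1 := fun v => by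
    rw [tv_mul_tv, CharTwo.add_self_eq_zero, tv_zero]
  have cu : ∀ i : Fin m, (tv (Pi.single (.inl i) 1) (1 : F) * tv (Pi.single (.inr i) 1) 1) ^ 3 = 1 :=
    fun i => cube_of_conj (sq _) (sq _) (by
      rw [conj_tv, conj_tv, tv_smul, tv_smul, form_single_inl_right, form_single_inr_right]
      simp [CharTwo.neg_eq, add_comm])
  have ne : ∀ i : Fin m, tv (Pi.single (.inl i) 1) (1 : F) ≠ tv (Pi.single (.inr i) 1) 1 :=
    fun i e => by
      have := congrArg (fun g => (g • (Pi.single (.inl i) 1 : Fin m ⊕ Fin m → F)) (.inr i)) e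
      simp [tv_smul, form_single_inl_right, form_single_inr_right] at this
  exact r3_of_invols (MonoidHom.id _) Function.injective_id _ (QuotientGroup.ker_mk' _).le
    (fun i => tv (Pi.single (.inl (i.castLE hm)) 1) (1 : F))
    (fun i => tv (Pi.single (.inr (i.castLE hm)) 1) 1) (fun i => sq _) (fun i => sq _)
    (fun i => cu _) (fun i => ne _) (fun i j h => tv_commute (by simp [form_single_inl_right]) _ _)
    (fun i j h => tv_commute (by simp [form_single_inr_right, h.symm]) _ _)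
    (fun i j h => tv_commute (by simp [form_single_inr_right]) _ _) (fun i => ⟨_, rfl⟩)
    fun i j => ⟨_, rfl⟩

open Class.Orth QuadraticMap in
theorem r3_OG {V : Type*} [AddCommGroup V] [Module F V] {Q : QuadraticForm F V} (e f : Fin 3 → V)
    (v : V) (he : ∀ i, Q (e i) = 0) (hf : ∀ i, Q (f i) = 0) (hv : Q v = 1)
    (hee : ∀ i j, polar Q (e i) (e j) = 0) (hff : ∀ i j, polar Q (f i) (f j) = 0)
    (hef : ∀ i j, polar Q (e i) (f j) = if i = j then 1 else 0) (hev : ∀ i, polar Q (e i) v = 0)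
    (hfv : ∀ i, polar Q (f i) v = 0) :
    R3 (commutator (OG Q) ⧸ center (commutator (OG Q))) := by
  have hfe : ∀ i j, polar Q (f i) (e j) = if j = i then 1 else 0 := fun i j => by
    rw [polar_comm, hef]
  have hve : ∀ i, polar Q v (e i) = 0 := fun i => by rw [polar_comm, hev]
  have hvf : ∀ i, polar Q v (f i) = 0 := fun i => by rw [polar_comm, hfv]
  have hvv : polar Q v v = 0 := by simp [CharTwo.two_eq_zero]
  have h2 : (1 : F) + 1 = 0 := CharTwo.add_self_eq_zero 1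
  let α : Fin 3 → V := ![e 0 + f 0, e 1 + f 1, e 2 + f 2]
  let β : Fin 3 → V := ![e 0 + e 1 + f 1, e 0 + f 0 + e 1, e 2 + v]
  have h : (∀ i, Q (α i) = 1) ∧ (∀ i, Q (β i) = 1) ∧ (∀ i, polar Q (α i) (β i) = 1) ∧
      (∀ i j, i ≠ j → polar Q (α i) (α j) = 0 ∧ polar Q (α i) (β j) = 0 ∧ polar Q (β i) (β j) = 0) ∧
      Q (e 0 + e 1 + e 2 + v) = 1 ∧ ∀ i, polar Q (α i) (e 0 + e 1 + e 2 + v) = 1 := by
    simp [α, β, Fin.forall_fin_succ, Q_add, polar_add_left, polar_add_right, he, hf, hv, hee, hff,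
      hef, hfe, hev, hfv, hve, hvf, hvv, h2]
  obtain ⟨a1, a2, a3, a4, a5, a6⟩ := h
  have c := fun i => ab_eq_of_cube (refl_mul_self _) (refl_mul_self _) (refl_cube (a1 i) a5 (a6 i))
  refine r3_of_invols (commutator (OG Q)).subtype (subtype_injective _) _
    (QuotientGroup.ker_mk' _).le (fun i => refl Q (α i)) (fun i => refl Q (β i))
    (fun i => refl_mul_self _) (fun i => refl_mul_self _) (fun i => refl_cube (a1 i) (a2 i) (a3 i))
    (fun i => refl_ne (a1 i) (a2 i) (a3 i)) (fun i j h => refl_commute (a4 i j h).1)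
    (fun i j h => refl_commute (a4 i j h).2.1) (fun i j h => refl_commute (a4 i j h).2.2)
    (fun i => ?_) fun i j => ?_ <;> rw [range_subtype]
  · exact mul_mem_commutator_of_ab (refl_mul_self _)
      (ab_eq_of_cube (refl_mul_self _) (refl_mul_self _) (refl_cube (a1 i) (a2 i) (a3 i)))
  · exact mul_mem_commutator_of_ab (refl_mul_self _) ((c i).trans (c j).symm)

open Class.Orth in
theorem r3_POmegaPlus {m : ℕ} (hm : 4 ≤ m) : R3 (POmega F (quadFormPlus m F)) := by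
  have h0 : 3 ≤ m := by omega
  obtain ⟨c, h3⟩ : ∃ c : Fin m, ∀ i : Fin 3, c ≠ i.castLE h0 :=
    ⟨⟨3, hm⟩, fun i e => by have := congrArg Fin.val e; simp at this; omega⟩
  refine R3.of_equiv (pOmegaCongr (plusEquiv m F)) (r3_OG
    (fun i => Pi.single (.inl (i.castLE h0)) 1) (fun i => Pi.single (.inr (i.castLE h0)) 1)
    (Pi.single (.inl c) 1 + Pi.single (.inr c) 1) ?_ ?_ ?_ ?_ ?_ ?_ ?_ ?_) <;>
  simp [plusQF_apply, quadFormPlus, polar_plusQF, Pi.single_apply, eq_comm, h3]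

open Class.Orth in
theorem r3_POmegaMinus {m : ℕ} (hm : 3 ≤ m) (a b : F) : R3 (POmega F (quadFormMinus m F a b)) := by
  refine R3.of_equiv (pOmegaCongr (minusEquiv m F a b)) (r3_OG
    (fun i => Pi.single (.inl (.inl (i.castLE hm))) 1)
    (fun i => Pi.single (.inl (.inr (i.castLE hm))) 1) (Pi.single (.inr 0) 1)
    ?_ ?_ ?_ ?_ ?_ ?_ ?_ ?_) <;>
  simp [minusQF_apply, quadFormMinus, polar_minusQF, Pi.single_apply, eq_comm]

end Fam

section Exc

open Cfsg.Lie Cfsg.Agent.Chev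

attribute [local instance] goodF4 goodE6 goodE7 goodE8

/-- Three commuting elements of order three, told apart by two further elements. -/
noncomputable def r3B (D : ChevalleyDatum) [Good D] (X Y Z V W : List ℕ) : Bool :=
  ncB D X Y V && eqB D (Z ++ Z ++ Z) [] && eqB D (X ++ Z) (Z ++ X) && eqB D (Y ++ Z) (Z ++ Y) &&
    eqB D (X ++ W) (W ++ X) && eqB D (Y ++ W) (W ++ Y) && neB D (Z ++ W) (W ++ Z)

variable {F : Type*} [Field F] [CharP F 2]

theorem r3_of_r3B {D : ChevalleyDatum} [Good D] {S : Subgroup (GL D.Idx F)} {X Y Z V W : List ℕ}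
    (h : r3B D X Y Z V W = true) (hx : QT.wd D F X ∈ S) (hy : QT.wd D F Y ∈ S) (hz : QT.wd D F Z ∈ S) :
    R3 S := by
  simp only [r3B, ncB, Bool.and_eq_true] at h
  obtain ⟨⟨⟨⟨⟨⟨⟨⟨⟨⟨⟨h1, h2⟩, h3⟩, h4⟩, h5⟩, h6⟩, h7⟩, h8⟩, h9⟩, h10⟩, h11⟩, h12⟩ := h
  have cu : ∀ {X : List ℕ}, eqB D (X ++ X ++ X) [] = true → QT.wd D F X ^ 3 = 1 := fun h => by
    have := wd_eq (F := F) h
    rw [QT.wd_append, QT.wd_append] at this
    rw [pow_three', this]; rfl
  have co : ∀ {X Y : List ℕ}, eqB D (X ++ Y) (Y ++ X) = true → Commute (QT.wd D F X) (QT.wd D F Y) :=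
    fun h => by rw [Commute, SemiconjBy, ← QT.wd_append, ← QT.wd_append, wd_eq h]
  have nc : ∀ {X Y : List ℕ}, neB D (X ++ Y) (Y ++ X) = true → ¬ Commute (QT.wd D F X) (QT.wd D F Y) :=
    fun h e => wd_ne (F := F) h (by rw [QT.wd_append, QT.wd_append, e.eq])
  refine ⟨3, ⟨_, hx⟩, ⟨_, hy⟩, ⟨_, hz⟩, Nat.prime_three, by norm_num, Subtype.ext (cu h1),
    Subtype.ext (cu h2), Subtype.ext (cu h7), Subtype.ext (co h3), Subtype.ext (co h8),
    Subtype.ext (co h9), fun e => wd_ne (F := F) h4 (congrArg Subtype.val e), fun i e => nc h6 ?_,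
    fun i j e => nc h12 ?_⟩
  · rw [show QT.wd D F Y = QT.wd D F X ^ i from congrArg Subtype.val e]
    exact (co h5).zpow_left i
  · rw [show QT.wd D F Z = QT.wd D F X ^ i * QT.wd D F Y ^ j from congrArg Subtype.val e]
    exact ((co h10).zpow_left i).mul_left ((co h11).zpow_left j)

theorem r3_F4 : R3 (chevF4.group F) :=
  r3_of_r3B (X := [33, 14]) (Y := [24, 23]) (Z := [45, 2]) (V := [24]) (W := [45])
    (by decide +kernel) (wd_mem_group _) (wd_mem_group _) (wd_mem_group _)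

theorem e6_chk : r3B chevE6 [56, 15] [46, 25] [36, 35] [46] [36] = true := by decide +kernel

theorem r3_E6 : R3 (chevE6.group F) :=
  r3_of_r3B e6_chk (wd_mem_group _) (wd_mem_group _) (wd_mem_group _)

theorem r3_E7 : R3 (chevE7.group F) :=
  r3_of_r3B (X := [93, 32]) (Y := [78, 47]) (Z := [63, 62]) (V := [78]) (W := [63])
    (by decide +kernel) (wd_mem_group _) (wd_mem_group _) (wd_mem_group _)

theorem r3_E8 : R3 (chevE8.group F) :=
  r3_of_r3B (X := [162, 77]) (Y := [141, 98]) (Z := [120, 119]) (V := [141]) (W := [120])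
    (by decide +kernel) (wd_mem_group _) (wd_mem_group _) (wd_mem_group _)

/-- A word for an element of the Weyl group. -/
def e6G : List (List ℕ) :=
  [[42, 37], [29, 34], [42, 37], [56, 36], [15, 35], [56, 36], [39], [32], [39],
    [42, 37], [29, 34], [42, 37], [39], [32], [39]]

theorem r3_2E6 (q : ℕ) : R3 (twistedE6 F q) := by
  have h1 : QT.wd chevE6 F [56, 36] ∈ twistedE6 F q :=
    wd_mem_gen (Or.inr ⟨1, (e6p1, e6p6), by simp, rfl⟩) (by rw [one_pow]; rfl)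
  have h2 : QT.wd chevE6 F [15, 35] ∈ twistedE6 F q :=
    wd_mem_gen (Or.inr ⟨1, (e6m1, e6m6), by simp, rfl⟩) (by rw [one_pow]; rfl)
  have h3 : QT.wd chevE6 F [42, 37] ∈ twistedE6 F q :=
    wd_mem_gen (Or.inr ⟨1, (e6p3, e6p5), by simp, rfl⟩) (by rw [one_pow]; rfl)
  have h4 : QT.wd chevE6 F [29, 34] ∈ twistedE6 F q :=
    wd_mem_gen (Or.inr ⟨1, (e6m3, e6m5), by simp, rfl⟩) (by rw [one_pow]; rfl)
  have h5 : QT.wd chevE6 F [46] ∈ twistedE6 F q :=
    wd_mem_gen (Or.inl ⟨1, one_pow q, e6p2, by simp, rfl⟩) rfl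
  have h6 : QT.wd chevE6 F [25] ∈ twistedE6 F q :=
    wd_mem_gen (Or.inl ⟨1, one_pow q, e6m2, by simp, rfl⟩) rfl
  have h7 : QT.wd chevE6 F [39] ∈ twistedE6 F q :=
    wd_mem_gen (Or.inl ⟨1, one_pow q, e6p4, by simp, rfl⟩) rfl
  have h8 : QT.wd chevE6 F [32] ∈ twistedE6 F q :=
    wd_mem_gen (Or.inl ⟨1, one_pow q, e6m4, by simp, rfl⟩) rfl
  refine r3_of_r3B (X := [[56, 36], [15, 35]].flatten) (Y := [[46], [25]].flatten) (Z := [69, 2])
    (V := [46]) (W := [69]) (by decide +kernel) (wd_mem ?_) (wd_mem ?_) ?_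
  rotate_left 2
  · rw [wd_eq (L' := (e6G ++ [[46], [25]] ++ e6G.reverse).flatten) (by decide +kernel)]
    refine wd_mem ?_
    simp only [e6G, List.forall_mem_append, List.mem_reverse, List.forall_mem_cons,
      List.not_mem_nil, false_imp_iff, implies_true, and_true, h1, h2, h3, h4, h5, h6, h7, h8]
  all_goals
    simp only [List.forall_mem_cons, List.not_mem_nil, false_imp_iff, implies_true, and_true,
      h1, h2, h5, h6]

end Exc

theorem ql_of_chev {H : Type*} [Group H] [Finite H] (h : IsChevSimple 2 H)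
    (hr : IsStronglyQuasithin H) : QL H := by
  have no : ∀ {A : Type} [Group A], (H ≃* A) → R3 A → QL H := fun e h =>
    absurd hr (h.of_equiv e).not_sqt
  rcases h with (⟨F, _, _, _, n, h1, h2, ⟨e⟩⟩ | ⟨F, _, _, _, m, h1, h2, ⟨e⟩⟩ |
    ⟨F, _, _, _, n, q, h1, h2, h3, ⟨e⟩⟩ | ⟨F, _, _, _, m, -, h1, -⟩ | ⟨F, _, _, _, m, h1, ⟨e⟩⟩ |
    ⟨F, _, _, _, m, a, b, h1, -, ⟨e⟩⟩ | ⟨F, _, _, _, h | ⟨⟨e⟩⟩ | ⟨⟨e⟩⟩ | ⟨⟨e⟩⟩ | ⟨⟨e⟩⟩⟩ |
    ⟨F, _, _, _, q, h1, ⟨-, ⟨e⟩⟩ | h⟩ | ⟨-, h⟩ | ⟨-, h⟩ | ⟨h, -⟩) | ⟨-, h⟩ | ⟨h, -⟩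
  · rcases (by omega : n = 2 ∨ n = 3 ∨ (n = 4 ∨ n = 5) ∨ 6 ≤ n) with rfl | rfl | h3 | h3
    · exact Or.inl ⟨F, _, _, ‹_›, h2 rfl, ⟨e⟩⟩
    · exact Or.inr (Or.inl ⟨F, _, ‹_›, ‹_›, ⟨e⟩⟩)
    · by_cases h4 : Fintype.card F = 2
      · exact Or.inr (Or.inr (Or.inl ⟨F, _, _, n, h4, h3, ⟨e⟩⟩))
      · exact no e (r3_PSL_torus h4 (by omega))
    · exact no e (r3_PSL h3)
  · rcases h1.eq_or_lt with rfl | h3
    · exact Or.inr (Or.inr (Or.inr (Or.inr (Or.inl ⟨F, _, _, ‹_›, h2 rfl, ⟨e⟩⟩))))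
    · exact no e (r3_PSp h3)
  · rcases h2.eq_or_lt with rfl | h4
    · exact Or.inr (Or.inr (Or.inr (Or.inl ⟨F, _, _, ‹_›, q, h1, fun h => h3 ⟨rfl, h⟩, ⟨e⟩⟩)))
    · exact no e (r3_PSU h1 h4)
  · obtain ⟨e, he, hq⟩ := UL.card_eq_pow F 2 Nat.prime_two
    exact absurd (hq ▸ Nat.even_pow.2 ⟨even_two, by omega⟩) (Nat.not_even_iff_odd.2 h1)
  · exact no e (r3_POmegaPlus h1)
  · exact no e (r3_POmegaMinus (by omega) a b)
  · exact Or.inr (Or.inr (Or.inr (Or.inr (Or.inr (Or.inl ⟨F, _, _, ‹_›, h⟩)))))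
  · exact no e r3_F4
  · exact no e r3_E6
  · exact no e r3_E7
  · exact no e r3_E8
  · exact no e (r3_2E6 q)
  · exact Or.inr (Or.inr (Or.inr (Or.inr (Or.inr (Or.inr (Or.inl ⟨F, _, _, ‹_›, q, h1, h⟩))))))
  · exact Or.inr (Or.inr (Or.inr (Or.inr (Or.inr (Or.inr (Or.inr (Or.inl h)))))))
  · exact Or.inr (Or.inr (Or.inr (Or.inr (Or.inr (Or.inr (Or.inr (Or.inr (Or.inl h))))))))
  · omega
  · exact Or.inr (Or.inr (Or.inr (Or.inr (Or.inr (Or.inr (Or.inr (Or.inr (Or.inr h))))))))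
  · omega

end Cfsg.Agent.Q16
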