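import Mathlib
import Cfsg.Agent.Q16.Defs
import Cfsg.Agent.S2690
import Cfsg.Agent.S0243
import Cfsg.Agent.S0249
import Cfsg.Agent.S2065
import Cfsg.Agent.S2131
import Cfsg.Agent.Spor.J1Main
import Cfsg.Agent.Char.Burnside
import Cfsg.Agent.Inv.BrauerFowler

/-! Involutory automorphisms of `A₆`, `L₃(3)`, `L₂(p)`, `J₁`. -/

set_option autoImplicit false

namespace Cfsg.Agent.Q16

open Subgroup Cfsg Cfsg.Agent.PLocal Matrix
open scoped commutatorElement MatrixGroups

variable {F : Type} [Field F] [Fintype F]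

namespace Sm

theorem solv {C : Type*} [Group C] [Finite C] {p d a b : ℕ} (hp : p.Prime) (h : Nat.card C = p * d)
    (hd : d ∣ 2 ^ a * 3 ^ b) (hn : ∀ n, n ∣ d → n ≡ 1 [MOD p] → n = 1) (h1 : ¬ p ∣ d) :
    Group.IsSolvable C := by
  have := Fact.mk hp
  obtain ⟨P⟩ : Nonempty (Sylow p C) := inferInstance
  have hP : Nat.card P = p := by
    rw [P.card_eq_multiplicity, h, Nat.factorization_mul hp.ne_zero (by rintro rfl; simp at h1)]
    simp [hp.factorization_self, Nat.factorization_eq_zero_of_not_dvd h1]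
  have hi : P.1.index = d := Nat.eq_of_mul_eq_mul_left hp.pos (by rw [← h, ← P.1.card_mul_index, hP])
  have := (Nat.card_eq_one_iff_unique.1 (hn _ (hi ▸ P.card_dvd_index) (card_sylow_modEq_one p C))).1
  have := P.normal_of_subsingleton
  have := P.2.isNilpotent
  have := Char.isSolvable_of_card_dvd_pow_mul_pow Nat.prime_two Nat.prime_three (C ⧸ P.1)
    (show P.1.index ∣ _ from hi ▸ hd)
  exact Group.isSolvable_of_ker_le_range P.1.subtype (QuotientGroup.mk' P.1) (by simp)

theorem ne_top {H : Type*} [Group H] {α : MulAut H} (h : orderOf α = 2) : fixedSubgroup α ≠ ⊤ :=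
  fun e => by
    rw [show α = 1 from MulEquiv.ext fun x => e.ge (mem_top x), orderOf_one] at h
    omega

theorem six {H : Type*} [Group H] [Finite H] [IsSimpleGroup H] {α : MulAut H} (h : orderOf α = 2)
    (h6 : (fixedSubgroup α).index = 6) (h5 : 5 ∣ Nat.card (fixedSubgroup α)) : False := by
  have := Fact.mk Nat.prime_five
  obtain ⟨⟨x, hx⟩, ox⟩ := exists_prime_orderOf_dvd_card' 5 h5
  rw [orderOf_mk] at ox
  have a2 : ∀ g, α (α g) = g := fun g => by
    rw [← MulAut.mul_apply, ← pow_two, ← h, pow_orderOf_eq_one, MulAut.one_apply]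
  let f : H ⧸ fixedSubgroup α → H ⧸ fixedSubgroup α := Quotient.map' α fun a b k => by
    rw [QuotientGroup.leftRel_apply] at k ⊢
    rwa [← map_inv, ← map_mul, mem_fixed.1 k]
  let π := Function.Involutive.toPerm f (by rintro ⟨g⟩; exact congrArg QuotientGroup.mk (a2 g))
  let ρ := MulAction.toPermHom H (H ⧸ fixedSubgroup α)
  have i : Function.Injective ρ := (MonoidHom.ker_eq_bot_iff ρ).1 (by
    rw [← normalCore_eq_ker]
    exact (normalCore_normal _).eq_bot_or_eq_top.resolve_right fun e =>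
      ne_top h (top_le_iff.1 (e ▸ normalCore_le _)))
  have c : ∀ g, π * ρ g = ρ (α g) * π := fun g => Equiv.ext (by
    rintro ⟨k⟩; exact congrArg QuotientGroup.mk (map_mul α g k))
  have cx : Commute π (ρ x) := by rw [Commute, SemiconjBy, c, mem_fixed.1 hx]
  have p2 : π ^ 2 = 1 := Equiv.ext (by rintro ⟨g⟩; exact congrArg QuotientGroup.mk (a2 g))
  have x5 : ρ x ^ 5 = 1 := by rw [← map_pow, ← ox, pow_orderOf_eq_one, map_one]
  let e := (Finite.equivFinOfCardEq h6).permCongrHom
  rcases (by decide +kernel : ∀ τ : Equiv.Perm (Fin 6), τ ^ 10 = 1 → τ ^ 5 = 1 ∨ τ ^ 2 = 1) (e (π * ρ x)) (by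
    rw [← map_pow, cx.mul_pow, show 10 = 2 * 5 from rfl, pow_mul, p2, pow_mul', x5]; simp) with k | k <;>
    rw [← map_pow, e.map_eq_one_iff, cx.mul_pow] at k
  · rw [x5, mul_one, show 5 = 2 * 2 + 1 from rfl, pow_succ, pow_mul, p2, one_pow, one_mul] at k
    exact ne_top h (top_le_iff.1 fun g _ => i (by simpa [k] using (c g).symm))
  · rw [p2, one_mul, ← map_pow, map_eq_one_iff ρ i, ← orderOf_dvd_iff_pow_eq_one, ox] at k
    omega

omit [Fintype F] in
/-- conjugation by an invertible matrix -/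
def cj (A : GL (Fin 2) F) : SL(2, F) →* SL(2, F) :=
  MonoidHom.mk' (fun s => ⟨A.1 * s * (A⁻¹).1, by
    rw [det_mul, det_mul, s.det_coe, mul_one, ← det_mul, Units.mul_inv, det_one]⟩) fun s t =>
      Subtype.ext (show A.1 * (s.1 * t.1) * (A⁻¹).1 = A.1 * s.1 * (A⁻¹).1 * (A.1 * t.1 * (A⁻¹).1) by
        simp only [mul_assoc, Units.inv_mul_cancel_left])

omit [Fintype F] in
theorem cj_iff {A : GL (Fin 2) F} {s t : SL(2, F)} : cj A s = t ↔ A.1 * s.1 = t.1 * A.1 :=
  Subtype.ext_iff.trans (Units.mul_inv_eq_iff_eq_mul A)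

theorem exists_gl (h : (Fintype.card F).Prime) (h5 : 4 ≤ Fintype.card F) (β : MulAut PSL(2, F)) :
    ∃ A : GL (Fin 2) F, ∀ s, β (QuotientGroup.mk s) = QuotientGroup.mk (cj A s) := by
  have := Fact.mk h
  obtain ⟨δ, φ, γ, σ, ⟨g, hg⟩, hφ, hγ, rfl⟩ := S2690.result (pow_one _).symm le_rfl le_rfl (fun _ => h5) β
  have hσ : ∀ x, σ x = x := fun x => by
    obtain ⟨y, rfl⟩ := (ZMod.ringEquivOfPrime F h rfl).surjective x
    rw [← ZMod.natCast_zmod_val y, map_natCast, map_natCast]
  have e : ∀ s, φ (QuotientGroup.mk s) = QuotientGroup.mk s := fun s => hφ s s (by ext; simp [hσ])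
  rcases hγ with rfl | hγ
  · exact ⟨g, fun s => by rw [mul_one, MulAut.mul_apply, e, hg s (cj g s) rfl]⟩
  · let w : SL(2, F) := ⟨!![0, 1; -1, 0], by simp [det_fin_two]⟩
    refine ⟨g * w, fun s => ?_⟩
    rw [MulAut.mul_apply, MulAut.mul_apply, hγ s (cj w s) (by
      refine (Units.mul_inv_eq_iff_eq_mul _).2 ?_
      change !![0, 1; -1, 0] * s.1 = (adjugate s.1)ᵀ * !![0, 1; -1, 0]
      ext i j
      fin_cases i <;> fin_cases j <;> simp [adjugate_fin_two, Matrix.mul_apply]), e]
    exact hg _ _ (show (g * w).1 * s.1 * ((g * w)⁻¹).1 = g.1 * ((w : GL (Fin 2) F).1 * s.1 * _) * _ by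
      simp only [_root_.mul_inv_rev, Units.val_mul, mul_assoc])

omit [Fintype F] in
theorem comm_or (A : GL (Fin 2) F) :
    (∀ s, cj A s = s) ∨ ∀ s t, cj A s = s → cj A t = t → Commute s t := by
  simp only [cj_iff]
  by_cases h : A.1 0 1 = 0 ∧ A.1 1 0 = 0 ∧ A.1 0 0 = A.1 1 1
  · refine .inl fun s => ?_
    ext i j
    fin_cases i <;> fin_cases j <;> simp [Matrix.mul_apply, h.1, h.2.1, h.2.2, mul_comm]
  refine .inr fun s t hs ht => Subtype.ext ?_
  have s1 := congrFun (congrFun hs 0) 0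
  have s2 := congrFun (congrFun hs 0) 1
  have s3 := congrFun (congrFun hs 1) 0
  have t1 := congrFun (congrFun ht 0) 0
  have t2 := congrFun (congrFun ht 0) 1
  have t3 := congrFun (congrFun ht 1) 0
  simp only [Matrix.mul_apply, Fin.sum_univ_two] at s1 s2 s3 t1 t2 t3
  have : s.1 0 1 * t.1 1 0 = t.1 0 1 * s.1 1 0 ∧ (s.1 0 0 - s.1 1 1) * t.1 0 1 = (t.1 0 0 - t.1 1 1) * s.1 0 1 ∧
      (s.1 0 0 - s.1 1 1) * t.1 1 0 = (t.1 0 0 - t.1 1 1) * s.1 1 0 := by
    simp only [not_and_or, ← ne_eq, ← sub_ne_zero (a := A.1 0 0)] at h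
    rcases h with h | h | h <;> refine ⟨mul_left_cancel₀ h ?_, mul_left_cancel₀ h ?_, mul_left_cancel₀ h ?_⟩ <;>
      grind
  ext i j
  fin_cases i <;> fin_cases j <;> simp [Matrix.mul_apply] <;> grind

omit [Fintype F] in
theorem fix {A : GL (Fin 2) F} {s : SL(2, F)}
    (h : (QuotientGroup.mk (cj A s) : PSL(2, F)) = QuotientGroup.mk s) :
    ∃ z ∈ center SL(2, F), cj A s = s * z :=
  ⟨_, QuotientGroup.eq.1 h.symm, (mul_inv_cancel_left ..).symm⟩

theorem cen {G : Type*} [Group G] {y s t : G} (h : y ∈ center G) : ⁅s * y, t⁆ = ⁅s, t⁆ := by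
  rw [commutatorElement_def, mul_assoc s, ← mem_center_iff.1 h t]
  simp [commutatorElement_def, mul_assoc]

theorem a54 : ∀ a : Multiplicative (ZMod 2) × alternatingGroup (Fin 5), a ^ 4 = 1 → a ^ 2 = 1 := by
  decide +kernel

theorem no4 {G : Type*} [Group G] [Finite G] {C : Subgroup G} (hC : ¬ 2 ∣ C.index)
    (e : C ≃* Multiplicative (ZMod 2) × alternatingGroup (Fin 5)) {x : G} (h : x ^ 4 = 1) : x ^ 2 = 1 := by
  have := Fact.mk Nat.prime_two
  obtain ⟨g, hg⟩ := (Amb.isPGroup_zpowers (p := 2) ⟨2, h⟩).nonempty_fixed_point_of_prime_not_dvd_card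
    (G ⧸ C) hC
  obtain ⟨g, rfl⟩ := QuotientGroup.mk_surjective g
  have m : g⁻¹ * x * g⁻¹⁻¹ ∈ C := by
    simpa [mul_assoc] using QuotientGroup.eq.1 (hg ⟨x, mem_zpowers x⟩).symm
  have k := a54 (e ⟨_, m⟩)
  simp only [← map_pow, e.map_eq_one_iff, Subtype.ext_iff, coe_pow, conj_pow, coe_one, conj_eq_one_iff] at k
  exact k h

end Sm

open Sm

theorem noComp_A6 : NoComp (alternatingGroup (Fin 6)) := fun α J h => by
  have : IsSimpleGroup (alternatingGroup (Fin 6)) := alternatingGroup.isSimpleGroup (by simp)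
  refine not_cp_of_solvable ?_ J
  have c : Nat.card (alternatingGroup (Fin 6)) = 360 := by
    have := two_mul_nat_card_alternatingGroup (α := Fin 6)
    rw [Nat.card_perm, Nat.card_fin] at this
    simp only [Nat.factorial] at this
    omega
  have h1 := Inv.BrauerFowler.card_dvd_factorial_index (ne_top h)
  have h2 := (fixedSubgroup α).card_mul_index
  have h3 := six h
  rw [c] at h1 h2
  by_cases h5 : 5 ∣ Nat.card (fixedSubgroup α)
  · obtain ⟨d, hd⟩ := id h5
    have h6 : 6 < (fixedSubgroup α).index := by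
      by_contra k
      generalize (fixedSubgroup α).index = n at *
      interval_cases n <;> simp_all [Nat.factorial]
    have h7 : d ∣ 72 := ⟨(fixedSubgroup α).index, by rw [hd, mul_assoc] at h2; omega⟩
    by_cases h8 : d = 6
    · have := IsZGroup.of_squarefree (G := fixedSubgroup α) (by rw [hd, h8]; decide +kernel)
      infer_instance
    · have h9 : d < 11 := by rw [hd] at h2; nlinarith
      refine solv (a := 3) (b := 2) Nat.prime_five hd h7 (fun n a b => ?_) ?_
      · have := Nat.le_of_dvd (Nat.pos_of_dvd_of_pos h7 (by norm_num)) a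
        rw [Nat.ModEq] at b
        interval_cases d <;> interval_cases n <;> simp_all
      · interval_cases d <;> simp_all
  · exact Char.isSolvable_of_card_dvd_pow_mul_pow (a := 3) (b := 2) Nat.prime_two Nat.prime_three _
      (((Nat.prime_five.coprime_iff_not_dvd.2 h5).symm.dvd_mul_left).1 ⟨_, h2.symm⟩)

theorem noComp_L33 (h : Fintype.card F = 3) : NoComp (Matrix.ProjectiveSpecialLinearGroup (Fin 3) F) :=
  fun α J ha => by
  have := S0249.result (F := F) 3 le_rfl
  refine not_cp_of_solvable ?_ J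
  have c : Nat.card PSL(3, F) = 5616 := by
    have h := S0243.result h 3 (by norm_num)
    simp [Fin.prod_univ_succ] at h
    omega
  have p : Nat.Prime 13 := by norm_num
  have h1 := Inv.BrauerFowler.card_dvd_factorial_index (ne_top ha)
  have h2 := (fixedSubgroup α).card_mul_index
  rw [c] at h1 h2
  have h3 := (p.dvd_factorial).1 ((by norm_num : 13 ∣ 5616).trans h1)
  by_cases h5 : 13 ∣ Nat.card (fixedSubgroup α)
  · obtain ⟨d, hd⟩ := h5
    have h7 : d ∣ 432 := ⟨(fixedSubgroup α).index, by rw [hd, mul_assoc] at h2; omega⟩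
    by_cases h8 : d = 27
    · exact Char.isSolvable_of_card_dvd_pow_mul_pow (a := 1) (b := 3) p Nat.prime_three _
        (by rw [hd, h8]; norm_num)
    · have h9 : d < 34 := by rw [hd] at h2; nlinarith
      refine solv (a := 4) (b := 3) p hd h7 (fun n a b => ?_) fun k => by have := k.trans h7; omega
      have := Nat.le_of_dvd (Nat.pos_of_dvd_of_pos h7 (by norm_num)) a
      have k := a.trans h7
      rw [Nat.ModEq] at b
      obtain rfl | rfl | rfl : n = 1 ∨ n = 14 ∨ n = 27 := by omega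
      all_goals omega
  · exact Char.isSolvable_of_card_dvd_pow_mul_pow (a := 4) (b := 3) Nat.prime_two Nat.prime_three _
      (((p.coprime_iff_not_dvd.2 h5).symm.dvd_mul_left).1 ⟨_, h2.symm⟩)

theorem noComp_L2p (h : (Fintype.card F).Prime) (h5 : 4 ≤ Fintype.card F) :
    NoComp (Matrix.ProjectiveSpecialLinearGroup (Fin 2) F) := fun α J ha hJ => by
  obtain ⟨A, hA⟩ := exists_gl h h5 α
  rcases comm_or A with k | k
  · exact ne_top ha (top_le_iff.1 (by rintro ⟨s⟩ -; exact (hA s).trans (congrArg _ (k s))))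
  have e : J = ⁅J, J⁆ := by
    rw [← J.map_subtype_commutator, qs_commutator_eq_top hJ.qs, ← MonoidHom.range_eq_map, range_subtype]
  have le : J ≤ ((cj A).eqLocus (.id _)).map (QuotientGroup.mk' _) := e.trans_le (commutator_le.2 (by
    rintro ⟨s⟩ hs ⟨t⟩ ht
    obtain ⟨y, hy, a⟩ := fix ((hA s).symm.trans (hJ.1 hs))
    obtain ⟨z, hz, b⟩ := fix ((hA t).symm.trans (hJ.1 ht))
    refine ⟨⁅s, t⁆, (map_commutatorElement ..).trans ?_, rfl⟩
    rw [a, b, cen hy, ← commutatorElement_inv, cen hz, commutatorElement_inv]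
    rfl))
  refine qs_not_comm hJ.qs ⟨⟨fun a b => Subtype.ext ?_⟩⟩
  obtain ⟨s, hs, a1⟩ := le a.2
  obtain ⟨t, ht, b1⟩ := le b.2
  rw [coe_mul, coe_mul, ← a1, ← b1]
  exact (k s t hs ht).map _

theorem f4_L2p (h : (Fintype.card F).Prime) (h5 : 4 ≤ Fintype.card F) :
    F4 (Matrix.ProjectiveSpecialLinearGroup (Fin 2) F) := fun U w _ hU => by
  have := Fact.mk Nat.prime_two
  have := Fact.mk h
  have := charP_of_card_eq_prime (R := F) rfl
  have h2 : (2 : F) ≠ 0 := fun k => by
    have := Nat.le_of_dvd two_pos ((CharP.cast_eq_zero_iff F (Fintype.card F) 2).1 k)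
    omega
  obtain ⟨A, hA⟩ := exists_gl h h5 w
  have f : ∀ {s}, QuotientGroup.mk s ∈ U → cj A s = s ∨ w ^ 2 = 1 := fun {s} hs => by
    obtain ⟨z, hz, k⟩ := fix ((hA s).symm.trans (hU _ hs))
    obtain ⟨r, r2, hr⟩ := Matrix.SpecialLinearGroup.mem_center_iff.1 hz
    rw [Fintype.card_fin, sq_eq_one_iff] at r2
    rcases r2 with rfl | rfl
    · exact .inl (by rw [k, show z = 1 from Subtype.ext (hr.symm.trans (map_one _)), mul_one])
    have e1 : A.1 = -(s.1 * A.1 * (s⁻¹).1) := by
      rw [cj_iff, Matrix.SpecialLinearGroup.coe_mul, ← hr, map_neg, map_one] at k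
      rw [← neg_mul, ← neg_mul, ← mul_neg_one, ← k, mul_assoc, ← Matrix.SpecialLinearGroup.coe_mul,
        mul_inv_cancel, Matrix.SpecialLinearGroup.coe_one, mul_one]
    have e2 := congrArg trace e1
    rw [trace_neg, trace_mul_cycle, ← Matrix.SpecialLinearGroup.coe_mul, inv_mul_cancel,
      Matrix.SpecialLinearGroup.coe_one, one_mul, eq_neg_iff_add_eq_zero, ← two_mul, mul_eq_zero,
      or_iff_right h2, trace_fin_two, add_eq_zero_iff_eq_neg] at e2
    refine .inr (MulEquiv.ext ?_)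
    rintro ⟨u⟩
    refine (congrArg w (hA u)).trans ((hA _).trans (congrArg _ (cj_iff.2 ?_)))
    refine (mul_assoc ..).symm.trans ((Units.mul_inv_eq_iff_eq_mul A).2 ?_)
    rw [← mul_assoc, mul_assoc u.1]
    ext i j
    fin_cases i <;> fin_cases j <;> simp [Matrix.mul_apply, e2] <;> ring
  rcases comm_or A with k | k
  · rw [show w = 1 from MulEquiv.ext (by rintro ⟨s⟩; exact (hA s).trans (congrArg _ (k s))), one_pow]
  obtain ⟨a, b, ab⟩ := CharP.sq_add_sq F (Fintype.card F) (-1)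
  let i : SL(2, F) := ⟨!![0, -1; 1, 0], by simp [det_fin_two]⟩
  let j : SL(2, F) := ⟨!![a, b; b, -a], by simp [det_fin_two]; grind⟩
  have m : ∀ {x y : SL(2, F)}, x.1 = -y.1 → QuotientGroup.mk' (center _) x = QuotientGroup.mk' _ y :=
    fun {x y} k => (QuotientGroup.mk'_eq_mk' _).2 ⟨-1, mem_center_iff.2 (by simp), Subtype.ext (by
      change x.1 * -1 = y.1; simp [k])⟩
  have ij : (i * j).1 = -(j * i).1 := by
    change !![0, -1; 1, 0] * !![(a : F), b; b, -a] = -(!![(a : F), b; b, -a] * !![0, -1; 1, 0]); simp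
  have p : ∀ {x : SL(2, F)}, (x * x).1 = -1 → IsPGroup 2 (zpowers (QuotientGroup.mk' (center _) x)) :=
    fun k => Amb.isPGroup_zpowers ⟨1, by rw [pow_one, pow_two, ← map_mul, m (y := 1) k, map_one]⟩
  obtain ⟨⟨g⟩, -, le⟩ := (Amb.isSyl_top U).exists_cj_le ((p (x := i) (by
    change !![0, -1; 1, 0] * !![0, -1; 1, 0] = -1; simp [one_fin_two])).to_sup_of_normal_left' (p (x := j) (by
      change !![(a : F), b; b, -a] * !![(a : F), b; b, -a] = -1; simp [one_fin_two]; grind))
    (zpowers_le.2 (centralizer_le_normalizer _ (by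
      rintro _ ⟨n, rfl⟩
      exact Commute.zpow_left (show _ * _ = _ * _ by rw [← map_mul, m ij, map_mul]) n)))) le_top
  refine (f (s := g * i * g⁻¹) (le (Amb.conj_mem_cj _ (mem_sup_left (mem_zpowers _))))).elim
    (fun c => (f (s := g * j * g⁻¹) (le (Amb.conj_mem_cj _ (mem_sup_right (mem_zpowers _))))).resolve_left
      fun d => ?_) id
  have := (k _ _ c d).eq
  rw [conj_mul, conj_mul, mul_left_inj, mul_right_inj] at this
  rw [this, eq_neg_iff_add_eq_zero, ← two_smul F, smul_eq_zero, or_iff_right h2] at ij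
  simpa [ij] using (j * i).2

theorem f4_J1 : F4 Spor.J1 := fun _ w h4 _ => by
  have := Spor.J1c.isSimpleGroup_J1
  have c1 := Spor.J1c.card_J1
  obtain ⟨x, rfl⟩ : w ∈ Inn Spor.J1 := (index_eq_one.1 S2065.result).ge (mem_top w)
  obtain ⟨t, -, ⟨e⟩⟩ := S2131.result
  have c : Nat.card (centralizer {t}) = 120 := by
    have := two_mul_nat_card_alternatingGroup (α := Fin 5)
    rw [Nat.card_perm, Nat.card_fin] at this
    rw [Nat.card_congr e.toEquiv, Nat.card_prod, Nat.card_congr Multiplicative.toAdd, Nat.card_zmod, this]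
    rfl
  have i := (centralizer {t}).card_mul_index
  rw [c, c1] at i
  rw [← map_pow, map_eq_one_iff _ (conj_injective
    ((inferInstance : (center Spor.J1).Normal).eq_bot_or_eq_top.resolve_right fun k => by
      rw [show centralizer {t} = ⊤ from top_le_iff.1 fun g _ => mem_centralizer_singleton_iff.2
        (mem_center_iff.1 (k.ge (mem_top t)) g), index_top] at i
      omega))] at h4
  rw [← map_pow, no4 (by omega) e h4, map_one]

end Cfsg.Agent.Q16
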