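import Mathlib
import Cfsg.Agent.Q16.Defs
import Cfsg.Agent.Q16.GenPF
import Cfsg.Agent.S2600
import Cfsg.Agent.SpF.U

/-!
`Sp₄(q)`, `q = 2^f ≥ 4`. `genAt_of_cyc`: `Out` is cyclic of order `2f` (S2600). `U` of order `q⁴`,
`Sq U` and `Z(U)` lie in `X_{a+b} X_{2a+b}`, `U / Z(U) = X_a × X_b`. `σ`: for `f` even the field
automorphism of order two; for `f` odd the `f`-th power of the exceptional graph-field automorphism
(KSG/AutSp4 and the proof of S2600; it swaps long and short root subgroups, so `X_a` and `X_b` modulo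
`Z(U)`). Outer: an element of `H` normalising `U` acts on `X_a, X_b` by scalars. `nz4`: an element of
order four has nonzero `a`- and `b`-coordinates and at least `q` conjugates in `U`.
Tools: P4T/K (model `PK` of the Sylow subgroup), Sp4E/*, CL2/SylType.
-/

set_option autoImplicit false

namespace Cfsg.Agent.Q16

open Subgroup Cfsg Cfsg.Agent.PLocal

section

open Matrix SpF

variable {F : Type} [Field F]

/-- the exceptional endomorphism in coordinates -/
def gU (x : U F) : U F := ⟨x.u, x.t ^ 2, x.w + x.t ^ 2 * x.u, x.v ^ 2 + x.t ^ 2 * x.u ^ 2⟩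

theorem gU_iter (k : ℕ) (x : U F) :
    (gU^[2 * k] x).t = x.t ^ 2 ^ k ∧ (gU^[2 * k] x).u = x.u ^ 2 ^ k := by
  induction k with
  | zero => simp
  | succ k ih => simp [mul_add, Function.iterate_succ_apply', gU, ih, pow_succ, pow_mul]

/-- the Sylow subgroup in coordinates -/
def ιU : U F →* PSp 2 F := (QuotientGroup.mk' _).comp U.toSp

variable [CharP F 2]

theorem gam_toSp (x : U F) : KSG.gamHom F (U.toSp x) = U.toSp (gU x) := Subtype.ext (by
  have h2 : (2 : F) = 0 := CharTwo.two_eq_zero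
  ext i j
  change KSG.gamMat _ i j = _
  rcases i with i | i <;> rcases j with j | j <;> fin_cases i <;> fin_cases j <;>
    simp [KSG.gamMat, KSG.wA, KSG.wB, U.toSp, gU] <;> grind)

theorem mk_inj : Function.Injective (QuotientGroup.mk' (center (symplecticGroup (Fin 2) F))) :=
  (injective_iff_map_eq_one _).2 fun g e => (Class.Sp.mem_center_iff.1
    ((QuotientGroup.eq_one_iff g).1 e)).elim id fun e => e.trans (Subtype.ext (by
      ext i j
      simp [Class.Sp.negOne, CharTwo.neg_eq]))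

theorem ιU_inj : Function.Injective (ιU (F := F)) := mk_inj.comp U.toSp_injective

variable [Fintype F]

theorem gam_pow (n : ℕ) (x : U F) : (KSG.gamAut F ^ n) (ιU x) = ιU (gU^[n] x) := by
  induction n with
  | zero => rfl
  | succ n ih =>
    rw [pow_succ', MulAut.mul_apply, ih, Function.iterate_succ_apply']
    exact congrArg QuotientGroup.mk (gam_toSp _)

theorem exists_sylU : ∃ P : Sylow 2 (PSp 2 F), (P : Subgroup (PSp 2 F)) = ιU.range := by
  obtain ⟨T⟩ : Nonempty (Sylow 2 (symplecticGroup (Fin 2) F)) := inferInstance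
  obtain ⟨e⟩ := U.exists_equiv T
  exact ⟨Sylow.ofCard ιU.range (by
    rw [← Nat.card_congr (MonoidHom.ofInjective ιU_inj).toEquiv, ← Nat.card_congr e.toEquiv,
      T.card_eq_multiplicity, Nat.card_congr (MulEquiv.ofBijective _
        ⟨mk_inj, QuotientGroup.mk'_surjective _⟩).toEquiv]), rfl⟩

theorem gam_gen (x : Out (PSp 2 F)) : x ∈ zpowers (QuotientGroup.mk (KSG.gamAut F)) := by
  have h2 := KSG.range_iotaS_eq_inn (m := 2) (F := F) le_rfl CharTwo.two_eq_zero
  have key : ∀ θ ∈ (KSG.psiS 2 F).range, (QuotientGroup.mk θ : Out (PSp 2 F)) ∈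
      zpowers (QuotientGroup.mk (KSG.gamAut F)) := by
    rintro _ ⟨⟨g, σ⟩, rfl⟩
    obtain ⟨k, rfl⟩ := KSG.exists_eq_frobenius_pow 2 σ
    rw [KSG.psiS_eq_mul, QuotientGroup.mk_mul, (QuotientGroup.eq_one_iff _).2 (h2.le ⟨g, rfl⟩),
      one_mul, map_pow, map_pow, ← KSG.gamAut_mul_self, QuotientGroup.mk_pow, QuotientGroup.mk_mul]
    exact pow_mem (mul_mem (mem_zpowers _) (mem_zpowers _)) _
  obtain ⟨θ, rfl⟩ := QuotientGroup.mk_surjective x
  rcases KSG.mem_range_psiS_or θ with h | h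
  · exact key θ h
  · exact (Subgroup.mul_mem_cancel_left _ (mem_zpowers _)).1 (key _ h)

theorem pf_Sp4 {F : Type} [Field F] [Fintype F] [CharP F 2] (h : 3 ≤ Fintype.card F) :
    PF (PSp 2 F) := by
  have h2 : (2 : F) = 0 := CharTwo.two_eq_zero
  have hL : IsLieTypeChar 2 (PSp 2 F) :=
    Or.inr (Or.inl ⟨F, _, _, inferInstance, 2, le_rfl, fun _ => h, ⟨MulEquiv.refl _⟩⟩)
  have hz : center (PSp 2 F) = ⊥ := by
    have := UL.isSimpleGroup_of_lie hL
    refine (Normal.eq_bot_or_eq_top inferInstance).resolve_right fun e => ?_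
    have := mem_center_iff.1 (e.ge (mem_top (ιU ⟨1, 0, 0, 0⟩))) (ιU ⟨0, 1, 0, 0⟩)
    rw [← map_mul, ← map_mul] at this
    simpa using congrArg U.v (ιU_inj this)
  obtain ⟨⟨f, f0⟩, -, hf⟩ := FiniteField.card F 2
  replace hf : Fintype.card F = 2 ^ f := hf
  obtain ⟨hc, hn⟩ := S2600.result f0 hf
  obtain ⟨P, hP⟩ := exists_sylU (F := F)
  have mP : ∀ {x}, x ∈ P ↔ ∃ y, ιU y = x := fun {x} => by rw [← SetLike.mem_coe, ← P.coe_coe, hP]; rfl
  refine pf_of_gen (UL.cc_of_lie hL) hz P (genAt_of_cyc hz P (fun _ _ => inferInstance)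
    (σ := KSG.gamAut F ^ f) ?_ (fun e => ?_) (fun u hu => ?_) ?_ ?_)
  · rw [← (Commute.refl _).mul_pow, KSG.gamAut_mul_self, ← map_pow, ← map_pow,
      show (frobeniusEquiv F 2 : RingAut F) ^ f = 1 from RingEquiv.ext fun x => by
        rw [RingAut.coe_pow, coe_frobeniusEquiv, iterate_frobenius, ← hf, FiniteField.pow_card]; rfl,
      map_one, map_one]
  · have := orderOf_dvd_of_pow_eq_one (x := (QuotientGroup.mk (KSG.gamAut F) : Out _))
      ((QuotientGroup.eq_one_iff _).2 e)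
    rw [orderOf_eq_card_of_forall_mem_zpowers gam_gen, hn] at this
    have := Nat.le_of_dvd f0 this
    omega
  · obtain ⟨x, rfl⟩ := mP.1 hu
    exact mP.2 ⟨_, (gam_pow f x).symm⟩
  · rintro ⟨d, hd, -, dc, k⟩
    obtain ⟨d, rfl⟩ := mP.1 hd
    have dt : d ∈ U.sY F := by
      have a := dc _ (mP.2 ⟨⟨1, 0, 0, 0⟩, rfl⟩)
      have b := dc _ (mP.2 ⟨⟨0, 1, 0, 0⟩, rfl⟩)
      rw [← map_mul, ← map_mul] at a b
      exact ⟨by simpa using congrArg U.v (ιU_inj b), by simpa using congrArg U.v (ιU_inj a)⟩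
    have sq : Sq P ≤ (U.sY F).map ιU := (closure_le _).2 (by
      rintro _ ⟨u, hu, rfl⟩
      obtain ⟨x, rfl⟩ := mP.1 hu
      exact ⟨x * x, ⟨by simp [CharTwo.add_self_eq_zero], by simp [CharTwo.add_self_eq_zero]⟩,
        map_mul _ _ _⟩)
    have key : ∀ x : U F, (gU^[f] x).t = x.t := fun x => by
      have : x⁻¹ * gU^[f] x ∈ U.sY F := by
        rcases k _ (mP.2 ⟨x, rfl⟩) with c | c <;> rw [gam_pow, ← map_inv, ← map_mul] at c
        · exact (mem_map_iff_mem ιU_inj).1 (sq c)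
        · rw [← map_mul] at c
          exact (Subgroup.mul_mem_cancel_right _ dt).1 ((mem_map_iff_mem ιU_inj).1 (sq c))
      exact (neg_add_eq_zero.1 this.1).symm
    clear k
    obtain ⟨k, rfl | rfl⟩ := f.even_or_odd'
    · have k1 : 1 < 2 ^ k := Nat.one_lt_two_pow (by omega)
      have := Nat.le_of_dvd (by omega) ((FiniteField.forall_pow_eq_one_iff F (2 ^ k - 1)).1 fun a =>
        mul_right_cancel (b := a) (by
          rw [← pow_succ, Nat.sub_add_cancel k1.le, one_mul]
          exact Units.ext ((gU_iter k ⟨a.1, 0, 0, 0⟩).1.symm.trans (key _))))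
      rw [hf, two_mul, pow_add] at this
      have := Nat.mul_le_mul_left (2 ^ k) k1
      omega
    · simpa [Function.iterate_succ_apply', gU, gU_iter] using key ⟨1, 0, 0, 0⟩
  · intro w hw _ k
    obtain ⟨w, rfl⟩ := mP.1 hw
    obtain ⟨c, c0, c1⟩ : ∃ c : F, c ≠ 0 ∧ c ≠ 1 := by
      classical
      obtain ⟨c, -, hc⟩ := Finset.exists_mem_notMem_of_card_lt_card
        (s := {0, 1}) (t := (Finset.univ : Finset F)) (Finset.card_le_two.trans_lt h)
      exact ⟨c, by simpa using hc⟩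
    have : w.t * w.u = 0 := by
      rcases k _ (mP.2 ⟨⟨c * w.t, 0, 0, 0⟩, rfl⟩) with e | e <;>
        simp only [← map_inv, ← map_mul] at e <;> have := congrArg U.v (ιU_inj e) <;>
        rw [U.conj_v] at this <;> simp at this <;> grind
    rw [← map_pow, show w ^ 2 = 1 by ext <;> simp [sq] <;> grind, map_one]

end

end Cfsg.Agent.Q16
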