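import Mathlib
import Cfsg.Agent.Q16.Defs
import Cfsg.Agent.Q16.Odd
import Cfsg.Agent.K.InvSpor
import Cfsg.Agent.J4.AutM22
import Cfsg.Agent.J4.ClsA22
import Cfsg.Agent.S0365
import Cfsg.Agent.S2060
import Cfsg.Agent.S2063
import Cfsg.Agent.S2064
import Cfsg.Agent.S2068
import Cfsg.Agent.S5607

/-!
`M₁₁, M₂₃, M₂₄, J₄`: `Out = 1` and involution centralisers are solvable or have characteristic two.
`M₂₂`: the classes of `M₂₂:2`, the stabiliser of a duad in `M₂₄`.
-/

set_option autoImplicit false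
set_option linter.style.haveILetI false

namespace Cfsg.Agent.Q16

open Subgroup Cfsg Cfsg.Agent.PLocal

section Gen

variable {H G : Type*} [Group H] [Group G]

theorem map_fixed (f : H →* G) (hf : Function.Injective f) {α : MulAut H} {t : G}
    (h : ∀ x, f (α x) = t * f x * t⁻¹) :
    (fixedSubgroup α).map f = f.range ⊓ centralizer {t} := by
  ext y
  refine ⟨?_, ?_⟩
  · rintro ⟨y, hy, rfl⟩
    refine ⟨⟨y, rfl⟩, mem_centralizer_singleton_iff.2 (mul_inv_eq_iff_eq_mul.1 ?_).symm⟩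
    rw [← h, mem_fixed.1 hy]
  · rintro ⟨⟨y, rfl⟩, hy⟩
    refine ⟨y, hf ?_, rfl⟩
    rw [h, ← mem_centralizer_singleton_iff.1 hy, mul_inv_cancel_right]

theorem noComp_of_card_out [Finite H] [IsSimpleGroup H] (ho : Nat.card (Out H) = 1)
    (h : ∀ x : H, orderOf x = 2 → ∀ J, ¬ IsComponentOf J (centralizer {x})) : NoComp H :=
  noComp_of_center fun hz α J h1 => by
    obtain ⟨x, rfl⟩ : α ∈ Inn H := (QuotientGroup.eq_one_iff α).1
      ((Nat.card_eq_one_iff_unique.1 ho).1.elim _ _)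
    rw [orderOf_injective MulAut.conj (conj_injective hz)] at h1
    rw [Cp, fixed_conj]
    exact h x h1 J

end Gen

section Golay

open Cfsg.Agent.Comp Cfsg.Agent.Spor Cfsg.Agent.Spor.M24C
open scoped Pointwise

/-- An involution whose fixed points form an octad. -/
theorem charP_octad {N : Subgroup M24} {t : M24} (ho : fixSet (t : Equiv.Perm GolayPt) ∈ octads)
    (hN : fixS (fixSet (t : Equiv.Perm GolayPt)) ≤ N) : CP.IsCharP 2 (N ⊓ centralizer {t}) := by
  set o := fixSet (t : Equiv.Perm GolayPt) with ho'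
  have ht : t ∈ fixS o := mem_fixS.2 fun p hp => mem_fixSet.1 hp
  have hsq : ∀ u ∈ fixS o, u * u = 1 := fun u hu => mul_self_of_mem_fixS_octad ho hu
  have hcm : ∀ u ∈ fixS o, ∀ v ∈ fixS o, u * v = v * u := fun u hu v hv => by
    rw [← inv_eq_of_mul_eq_one_right (hsq _ (mul_mem hu hv)), mul_inv_rev,
      inv_eq_of_mul_eq_one_right (hsq u hu), inv_eq_of_mul_eq_one_right (hsq v hv)]
  have hp : IsPGroup 2 (fixS o) := fun u => ⟨1, Subtype.ext (by simpa [pow_two] using hsq u u.2)⟩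
  have hst : ∀ c ∈ centralizer {t}, c ∈ MulAction.stabilizer M24 o := fun c hc => by
    have := fixSet_conj (c : Equiv.Perm GolayPt) t
    rw [← Subgroup.coe_inv, ← Subgroup.coe_mul, ← Subgroup.coe_mul,
      mem_centralizer_singleton_iff.1 hc, mul_inv_cancel_right] at this
    exact this.symm
  refine CP.isCharP_of_isPGroup_centralizer (R := fixS o) (CP.le_pCoreOf (le_inf hN fun u hu =>
    mem_centralizer_singleton_iff.2 (hcm u hu t ht)) (le_normalizer_iff.2 fun c hc u hu => ?_) hp)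
    (hp.to_le fun c hc => ?_)
  · rw [mem_fixS] at hu ⊢
    intro q hq
    rw [mul_smul, mul_smul, hu _ ((smul_mem_of_mem_stabilizer (inv_mem (hst c hc.2)) q).2 hq),
      smul_inv_smul]
  · obtain ⟨p, hp, -⟩ := exists_moved (mc z1) (mc_ne_one okM_z1 (by decide +kernel)) o
      (by rw [ho.2]; norm_num)
    obtain ⟨u, hu, hup⟩ := exists_fixS_octad ho hp
      (fun h => hp ((smul_mem_of_mem_stabilizer (hst c hc.1.2) p).1 h))
    have h1 : u⁻¹ * c = 1 := by
      by_contra h1
      obtain ⟨q, hq, hmq⟩ := exists_moved _ h1 o (by rw [ho.2]; norm_num)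
      obtain ⟨v, hv, rfl⟩ := exists_fixS_octad ho hp hq
      refine hmq ?_
      rw [← mul_smul, mul_assoc, ← hc.2 v hv, ← mul_assoc, hcm _ (inv_mem hu) v hv, mul_smul,
        mul_smul, ← hup, inv_smul_smul]
    exact inv_mul_eq_one.1 h1 ▸ hu

theorem charP_of_list {C : Subgroup M24} (S L : List ℕ) (hS : ∀ q ∈ S, InH C q)
    (hL : allL L (fun a => and' (Nat.beq (mulC a a) oneC)
      (allL L fun d => Nat.beq (mulC a d) (mulC d a))) = true)
    (hn : ∀ g ∈ C, ∀ q ∈ S, code (g * mc q * g⁻¹ : M24) ∈ L)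
    (hc : ∀ g ∈ C, (∀ q ∈ S, g * mc q * g⁻¹ = mc q) → g ^ 4 = 1) : CP.IsCharP 2 C := by
  simp only [and'_eq_true, allL_iff, beq_iff] at hL
  let X : Set M24 := {x | ∃ c ∈ C, ∃ q ∈ S, x = c * mc q * c⁻¹}
  have h2 : ∀ x ∈ X, code (x : Equiv.Perm GolayPt) ∈ L := by
    rintro _ ⟨c, hc, q, hq, rfl⟩
    exact hn c hc q hq
  haveI := isMulCommutative_closure (k := X) fun x hx y hy => by
    rw [eq_iff_code, code_mul', code_mul']
    exact (hL _ (h2 x hx)).2 _ (h2 y hy)
  have h3 : ∀ x ∈ closure X, x ^ 2 = 1 := fun x hx => by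
    induction hx using closure_induction with
    | mem x hx =>
      rw [pow_two, eq_iff_code, code_mul', code_one']
      exact (hL _ (h2 x hx)).1
    | one => exact one_pow 2
    | mul x y hx hy h h' =>
      rw [Commute.mul_pow (setLike_mul_comm hx hy), h, h', one_mul]
    | inv x _ h => rw [inv_pow, h, inv_one]
  refine CP.isCharP_of_isPGroup_centralizer (R := closure X) (CP.le_pCoreOf ((closure_le _).2 ?_)
    (le_normalizer_closure_iff.2 ?_) fun x => ⟨1, Subtype.ext (h3 x x.2)⟩)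
    fun g => ⟨2, Subtype.ext (hc g g.2.1 fun q hq => ?_)⟩
  · rintro _ ⟨c, hc, q, hq, rfl⟩
    exact mul_mem (mul_mem hc (hS q hq).mc_mem) (inv_mem hc)
  · rintro g hg _ ⟨c, hc, q, hq, rfl⟩
    exact subset_closure ⟨g * c, mul_mem hg hc, q, hq, by group⟩
  · rw [← g.2.2 _ (subset_closure ⟨1, one_mem _, q, hq, by simp⟩), mul_inv_cancel_right]

theorem pow_four_iff (g : M24) : g ^ 4 = 1 ↔
    force (mulC (code g) (code g)) (fun d => Nat.beq (mulC d d) oneC) = true := by
  rw [force_eq, beq_iff, show 4 = 2 * 2 from rfl, pow_mul, pow_two, pow_two, eq_iff_code, code_mul',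
    code_mul', code_one']

/-- A class of involutions in the centraliser of a fixed point free involution. -/
def zL : List ℕ :=
  [0x722ad4ca265de877aa76640a418801, 0x6584198d5079c175c528718859568d,
    0xbae4d8563343a8cb28cf3a4a410c01, 0xbbe409d550b382c4452b3988510db4,
    0x62e549d49041db7b152f7195110c20, 0xbac5430d49439acb460f3cc8595420,
    0x3a2419d6305b00e7a936b98a410e8d, 0x65874308a979db75920874e2aac820,
    0x3da54855537b1ae5c4c8ba48510c20, 0x73e5435629b5da742a0b64ca410c20,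
    0x3aead9c9504328eb452fb988518801, 0x63eb44c946b1db74466b7408518820,
    0x622a09c8b059c377913671a2a189b4, 0x75aa0349497dc275c60864c85189b4,
    0xbda41354897b80c596083cd5110e8d, 0xbbead348a9b3a8c4120b3ce2a18801,
    0x65aad8489379e97594c87255118801, 0x6205480e3359db77a8d6724a495420,
    0xba2a1849535b80c7c4d63a48518a8d, 0x3d84d30e297b28e5aa08bcca495401,
    0xba04d98c905ba8c795363995195401, 0x63c6d98a30b1e974292b718a4ac801,
    0x72074989505dda77c53661885ac820, 0x75a4d9d4b07de875912861a2a10c01,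
    0x3a2b4348895b1ae79616bcd5118820, 0x62ea134a2941c17b2a0f74ca418a8d,
    0xba06030a295b82c7aa163cca4ac9b4, 0xbd86d489467ba8c5c6683c085ac801,
    0x65a404d62679c375aa68740a410db4, 0xba2544d4a65b9ac792763c22a10c20]

theorem okM_zL : ∀ q ∈ zL, okM q = true := by decide +kernel

theorem zL_cent (g : M24) (h : ∀ q ∈ zL, g * mc q * g⁻¹ = mc q) : g ^ 4 = 1 := by
  have hb : ∀ j < 7, dg bM' j < 24 := by decide +kernel
  by_contra h4
  refine chainM'.not_of_srch (fun g => (∀ q ∈ zL, g * mc q * g⁻¹ = mc q) ∧ ¬ g ^ 4 = 1)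
    (fun k c y => allL zL fun q => okConj q q bM' k c y)
    (fun c => and' (allL zL fun q => Nat.beq (conjC c q) q)
      (not' (force (mulC c c) fun d => Nat.beq (mulC d d) oneC)))
    (fun g _ h => ?_) (fun k hk g _ h _ hj hP => (allL_iff _ _).2 fun q hq => ?_) 7 le_rfl
    (inH_one ⊤) (by decide +kernel) (fun j hj => by omega) g trivial (fun j hj => by omega) ⟨h, h4⟩
  · rw [and'_eq_true, not'_eq_true, ← pow_four_iff, allL_iff]
    refine ⟨fun q hq => ?_, h.2⟩
    rw [beq_iff, ← code_mc (okM_zL q hq), ← code_conj', h.1 q hq]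
  · have := okConj_spec (fun j hj => hb j (by omega)) hj (hP.1 q hq)
    rwa [code_mc (okM_zL q hq)] at this

theorem charP_z2 : CP.IsCharP 2 (centralizer {mc z2}) := by
  refine charP_of_list zL zL (fun q hq => inH_centralizer okM_z2 (by revert q; decide +kernel))
    (by decide +kernel) (fun g hg q hq => ?_) fun g _ => zL_cent g
  rw [← gen_eq_of_card S5607.gens_C (by
    rw [S5607.card_C]
    exact card_ge_of_slp (inH_gen (by decide +kernel))
      [1025, 2, 4, 4099, 6, 5, 7, 0, 5, 2, 7, 4, 9, 6, 11271, 12, 9, 10, 11, 16, 17] 2176 5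
      [[21, 22, 23], [18, 14], [7, 0]] (by decide +kernel))] at hg
  have key : ∀ x : M24, code x ∈ zL → code (g * x * g⁻¹ : M24) ∈ zL := by
    induction hg using closure_induction'' with
    | mem _ h =>
      obtain ⟨c, hc, rfl⟩ := h
      simp only [code_conj', (S5607.gens_C c hc).code_mc]
      exact fun x => (by revert c; decide +kernel : ∀ a ∈ zL, conjC c a ∈ zL) _
    | inv_mem _ h =>
      obtain ⟨c, hc, rfl⟩ := h
      simp only [code_conj', Subgroup.coe_inv, code_inv, (S5607.gens_C c hc).code_mc]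
      exact fun x => (by revert c; decide +kernel : ∀ a ∈ zL, conjC (invC c) a ∈ zL) _
    | one => simp
    | mul a b _ _ ha hb =>
      intro x hx
      rw [show a * b * x * (a * b)⁻¹ = a * (b * x * b⁻¹) * a⁻¹ by group]
      exact ha _ (hb x hx)
  exact key _ (by rwa [code_mc (okM_zL q hq)])

/-- An outer involution of `M₂₂ : 2`. -/
def aT : ℕ := 0x5a69ab230539b243e8b31ca418457

/-- The involutions of a normal subgroup of its centraliser. -/
def aL : List ℕ :=
  [0xb96a99b0837b5d25aa8831ed180440, 0xb8e74ab1a5512325bd2839a0eb0440,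
    0xbc269ac9d65448c5be8831c6d28820, 0xbc6b49cace5406c43d2b31c8568440,
    0xbb674ab064796d24292b31dd088820, 0xbba69aca117d8ac42a8b399a320440,
    0xb92a99b0ad50e1243e8b39a3670820]

theorem charP_aT : CP.IsCharP 2 (J4.M22' ⊓ centralizer {mc aT}) := by
  have ht : okM aT = true := by decide +kernel
  have hS : ∀ q ∈ aL.take 2, InH (J4.M22' ⊓ centralizer {mc aT}) q := fun q hq =>
    inH_of_okM (by revert q; decide +kernel) ⟨J4.mc_mem_M22' (by revert q; decide +kernel),
      (inH_centralizer ht (by revert q; decide +kernel)).mc_mem⟩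
  have h1 := fun g (hg : g ∈ J4.M22' ⊓ centralizer {mc aT}) => J4.chainA.forall_conj ht ht
    (fun c => and' (allL (aL.take 2) fun q => force (conjC c q) fun d => anyL aL (Nat.beq d))
      (or' (anyL (aL.take 2) fun q => not' (Nat.beq (conjC c q) q))
        (force (mulC c c) fun d => Nat.beq (mulC d d) oneC))) (by decide +kernel) g
    (J4.M22'_le hg.1) (mul_inv_eq_iff_eq_mul.2 (mem_centralizer_singleton_iff.1 hg.2))
  simp only [and'_eq_true, or'_eq_true, ← pow_four_iff] at h1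
  simp only [not'_eq_true, allL_iff, anyL_iff, beq_iff, force_eq] at h1
  refine charP_of_list _ aL hS (by decide +kernel) (fun g hg q hq => ?_)
    fun g hg h => (h1 g hg).2.resolve_left fun ⟨q, hq, e⟩ => e ?_
  · obtain ⟨a, ha, e⟩ := (h1 g hg).1 q hq
    rwa [code_conj', (hS q hq).code_mc, e]
  · rw [← (hS q hq).code_mc, ← code_conj', h q hq]

theorem fixSet_mem {t : M24} (ht : orderOf t = 2) (h : (fixSet (t : Equiv.Perm GolayPt)).card ≠ 0) :
    fixSet (t : Equiv.Perm GolayPt) ∈ octads := by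
  obtain ⟨k, rfl⟩ := conj_z1 ht h
  rw [Subgroup.coe_mul, Subgroup.coe_mul, Subgroup.coe_inv, fixSet_conj]
  exact smul_mem_octads k.2 fixSet_z1_mem

theorem cc_M24 : UL.CC 2 M24 := fun t ht => by
  by_cases h : (fixSet (t : Equiv.Perm GolayPt)).card = 0
  · obtain ⟨k, rfl⟩ := conj_z2 ht (by omega)
    exact K.isCharP_of_isConj charP_z2 (isConj_iff.2 ⟨k, rfl⟩)
  · exact top_inf_eq (centralizer {t}) ▸ charP_octad (fixSet_mem ht h) le_top

theorem cc_M23 : UL.CC 2 Cfsg.Spor.M23 := fun t ht => by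
  have hle : Cfsg.Spor.M23 ≤ M24 := inf_le_left
  have hf := inclusion_injective hle
  have h0 : none ∈ fixSet (inclusion hle t : M24) := mem_fixSet.2 t.2.2
  rw [← CP.isCharP_map_iff _ hf, ← fixed_conj, map_fixed _ hf (t := inclusion hle t) fun x => rfl]
  exact charP_octad (fixSet_mem (by rwa [orderOf_injective _ hf])
    (Finset.card_ne_zero_of_mem h0)) fun u hu => ⟨⟨u, u.2, mem_fixS.1 hu _ h0⟩, rfl⟩

end Golay

theorem noComp_M11 : NoComp Spor.M11 := by
  haveI := Spor.isM11_M11.1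
  refine noComp_of_card_out S2060.result fun x hx J => ?_
  obtain ⟨t, ht, hc⟩ := Comp.IC.Cv.classes (Spor.MixM11.mb.wm Spor.MixM11.equiv) Spor.MixM11.nc
    Spor.MixM11.lb (by rw [Spor.isM11_M11.2]; decide) Spor.MixM11.cv0 x hx
  obtain ⟨g, rfl⟩ := isConj_iff.1 hc
  rw [← fixed_conj]
  refine not_cp_of_solvable (Char.isSolvable_of_card_dvd_pow_mul_pow (a := 4) (b := 1)
    Nat.prime_two Nat.prime_three _ ?_) J
  rw [fixed_conj, ← MulAut.conj_apply, ← Nat.card_congr (K.centEqv (MulAut.conj g) t).toEquiv,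
    List.mem_singleton.1 ht, Spor.MixM11.mb.card_cent _ Spor.MixM11.Ca (by decide +kernel)]
  norm_num

open Cfsg.Agent.Spor.M24C in
theorem noComp_M22 : NoComp Spor.M22 := by
  intro α J hα hJ
  obtain ⟨g, rfl⟩ := J4.a22Equiv.surjective α
  obtain ⟨x, hx, y, hy, e⟩ := J4.Cl.cN_cover g.2
  have hx' := J4.mc_mem_A22 (J4.Cl.cN_okS hx)
  obtain rfl : g = ⟨y, hy⟩ * ⟨_, hx'⟩ * ⟨y, hy⟩⁻¹ := Subtype.ext e.symm
  have h1 := hJ.congr (J4.a22Equiv ⟨y, hy⟩⁻¹)
  have h0 : ∀ a b : J4.A22, MulAut.congr (J4.a22Equiv a⁻¹) (J4.a22Equiv (a * b * a⁻¹)) =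
      J4.a22Equiv b := fun a b => by
    change J4.a22Equiv a⁻¹ * J4.a22Equiv (a * b * a⁻¹) * (J4.a22Equiv a⁻¹)⁻¹ = _
    rw [← map_inv, ← map_mul, ← map_mul]
    congr 1
    group
  rw [h0] at h1
  have hf := inclusion_injective J4.M22_le_M24
  have h2 := map_fixed _ hf (α := J4.a22Equiv ⟨_, hx'⟩) (t := mc x.1) fun x => rfl
  rw [show (inclusion J4.M22_le_M24).range = J4.M22' from by
    rw [inclusion_range]; exact Subgroup.ext fun _ => J4.coe_mem_M22] at h2
  have h3 : ∀ x ∈ J4.Cl.cN, x.1 = oneC ∨ x.1 = aT ∨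
      ∃ r ∈ [3, 5, 7, 11], x.2 ∣ 2 ^ 8 * r ^ 2 := by decide +kernel
  rcases h3 x hx with h | h | ⟨r, hr, h⟩
  · rw [MulEquiv.orderOf_eq, ← orderOf_coe, ← e, h, mc_oneC] at hα
    simp at hα
  · refine not_comp_of_isCharP ((CP.isCharP_map_iff _ hf).1 ?_) h1
    rw [h2, h]
    exact charP_aT
  · refine not_cp_of_solvable (Char.isSolvable_of_card_dvd_pow_mul_pow (a := 8) (b := 2)
      Nat.prime_two (q := r) (by fin_cases hr <;> norm_num) _ (Dvd.dvd.trans ?_ h)) _ h1
    rw [← card_map_of_injective hf, h2, ← J4.Cl.cN_card hx]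
    exact card_dvd_of_le (inf_le_inf_right _ J4.M22'_le)

theorem noComp_M23 : NoComp Spor.M23 :=
  haveI := Spor.isM23_M23.1
  noComp_of_card_out S2063.result fun x hx _ => not_comp_of_isCharP (cc_M23 x hx)

theorem noComp_M24 : NoComp M24 :=
  haveI := S0365.result
  noComp_of_card_out S2064.result fun x hx _ => not_comp_of_isCharP (cc_M24 x hx)

theorem cc_of_jankoFour {G : Type*} [Group G] [Finite G] [IsSimpleGroup G]
    (hG : ¬ IsMulCommutative G) {z : G} (hJ : IsOfJankoFourTypeAt z) : UL.CC 2 G := by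
  obtain ⟨P, hP⟩ := hJ
  obtain ⟨h⟩ := J4.exists_MM hG hP
  have hV : IsPGroup 2 h.V := IsPGroup.of_card h.card_V
  have h1 : CP.IsCharP 2 (normalizer (h.V : Set G)) := (CP.isCharP_normalizer_iff hV).2
    (CP.isCharP_of_isPGroup (h.cent_V.symm ▸ hV))
  intro t ht
  rcases h.two_classes ht with c | c
  · exact K.isCharP_of_isConj hP.2.2.2.1 c
  · obtain ⟨g, rfl⟩ := isConj_iff.1 c
    exact K.isCharP_of_isConj (K.isCharP_of_le h1 (by
      rwa [← MulAut.conj_apply, MulEquiv.orderOf_eq] at ht) h.cent_t_le) c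

theorem noComp_J4 : NoComp Spor.J4 := by
  haveI := Spor.J4C.Cen.finJ
  haveI := Spor.J4C.simple Spor.J4C.A.boundH
  refine noComp_of_center fun hz => noComp_of_odd (cc_of_jankoFour (fun hc => ?_)
    Spor.J4C.Cen.isOfJankoFourTypeAt) hz (by rw [S2068.result]; norm_num)
  exact bot_ne_top (hz.symm.trans (center_eq_top_iff.2 hc))

end Cfsg.Agent.Q16
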