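import Mathlib
import Cfsg.Agent.Q16.Defs
import Cfsg.Agent.Std.TrmBal
import Cfsg.Agent.PLocal.Pumpup
import Cfsg.Agent.QT.SQT

/-!
Components of centralisers of involutions in a quasithin group of even type: balance, pump-ups,
rank bounds, and the facts of `Q16.Defs` in ambient form.
-/

set_option autoImplicit false
set_option linter.unusedSectionVars false
set_option linter.style.haveILetI false

namespace Cfsg.Agent.Q16

open Cfsg Subgroup Cfsg.Agent.PLocal Cfsg.Agent.PLocal.Amb Cfsg.Agent.Trm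
open scoped commutatorElement

variable {G : Type*} [Group G]

/-- centraliser of an element -/
scoped notation:max "𝐜[" x "]" => Subgroup.centralizer ({x} : Set _)

theorem mem_c {x g : G} : g ∈ 𝐜[x] ↔ g * x = x * g := mem_centralizer_singleton_iff

theorem c_conj (g x : G) : 𝐜[g * x * g⁻¹] = cj(g, 𝐜[x]) := centralizer_singleton_conj g x

theorem le_c_iff {A : Subgroup G} {x : G} : A ≤ 𝐜[x] ↔ x ∈ 𝐂[A] :=
  ⟨fun h => mem_cent.2 fun _ ha => mem_c.1 (h ha), fun h a ha => mem_c.2 (mem_cent.1 h a ha)⟩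

theorem conj_of_mem_c {x g : G} (h : g ∈ 𝐜[x]) : g * x * g⁻¹ = x := by
  rw [mem_c.1 h, mul_inv_cancel_right]

theorem c_comm {x g : G} (h : g ∈ 𝐜[x]) : x ∈ 𝐜[g] := mem_c.2 (mem_c.1 h).symm

/-- `K` is a component of `C(t)`. -/
def Cm (t : G) (K : Subgroup G) : Prop := IsComponentOf K 𝐜[t]

/-- The central quotient. -/
abbrev Bar (K : Subgroup G) : Type _ := K ⧸ center K

/-- The hypotheses on the ambient group. -/
structure Hyp (G : Type*) [Group G] : Prop where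
  simple : IsSimpleGroup G
  ncomm : ¬ IsMulCommutative G
  kp : IsKProper G
  qt : IsQuasithin G
  core : ∀ t : G, Iv t → oddCore 𝐜[t] = ⊥
  kf : ∀ (t : G) (K : Subgroup G), Iv t → Cm t K → PF (Bar K) ∨ XF (Bar K)
  f4 : ∀ (t : G) (K : Subgroup G), Iv t → Cm t K →
    (∀ p : ℕ, p.Prime → p ≠ 2 → PRankLE p 1 K) → F4 (Bar K)
  two : ∀ (t : G) (K : Subgroup G), Iv t → Cm t K → PRankAtLeast 2 2 K

namespace Cm

variable {t : G} {K J : Subgroup G}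

theorem le (h : Cm t K) : K ≤ 𝐜[t] := h.1

theorem cent (h : Cm t K) : t ∈ 𝐂[K] := le_c_iff.1 h.1

theorem qs (h : Cm t K) : IsQuasisimple K := ((comp_subgroupOf_iff h.1).1 h.2).2

theorem perf (h : Cm t K) : ⁅K, K⁆ = K := qsS_commutator h.qs

theorem ne (h : Cm t K) : K ≠ ⊥ := qsS_ne_bot h.qs

theorem not_le (h : Cm t K) : ¬ K ≤ 𝐂[K] := qsS_not_le_centralizer h.qs

theorem eq_or (h : Cm t K) (h' : Cm t J) : K = J ∨ K ≤ 𝐂[J] :=
  or_iff_not_imp_left.2 fun e => commutator_eq_bot_iff_le_centralizer.1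
    (comp_subgroupOf_commute_of_ne h.1 h'.1 h.2 h'.2 e)

theorem conj (h : Cm t K) (g : G) : Cm (g * t * g⁻¹) cj(g, K) := by
  rw [Cm, c_conj]
  exact ⟨cj_mono g h.1, comp_subgroupOf_map h.1 _ (MulAut.conj g).injective h.2⟩

theorem cj (h : Cm t K) {g : G} (hg : g ∈ 𝐜[t]) : Cm t cj(g, K) := by
  have := h.conj g
  rwa [conj_of_mem_c hg] at this

theorem eq_of_le (h : Cm t K) (hJ : IsQuasisimple J) (h1 : K ≤ J) (h2 : J ≤ 𝐜[t]) : K = J :=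
  le_antisymm h1 ((qsS_subnormal hJ K (subnormal_subgroupOf_of_le h2 h.2.1)).resolve_right
    fun e => h.not_le ((le_inf le_rfl h1).trans (e.trans (centralizer_anti h1))))

theorem cj_le_cent (h : Cm t K) {g : G} (hg : g ∈ 𝐜[t]) (hn : g ∉ 𝐍[K]) : cj(g, K) ≤ 𝐂[K] :=
  ((h.cj hg).eq_or h).resolve_left fun e => hn (cj_eq_iff.1 e)

/-- An element of `C(t)` carrying a non-central subgroup of `K` into `K` normalises `K`. -/
theorem mem_normalizer (h : Cm t K) {g x : G} (hg : g ∈ 𝐜[t]) (hx' : x ∉ 𝐂[K])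
    (h1 : g * x * g⁻¹ ∈ K) : g ∈ 𝐍[K] := by
  by_contra hn
  have h2 := le_centralizer_iff.1 (h.cj_le_cent hg hn) h1
  rw [centralizer_cj, conj_mem_cj_iff] at h2
  exact hx' h2

end Cm

/-- The layer of `C(t)`. -/
def EE (t : G) : Subgroup G := (layer 𝐜[t]).map (Subgroup.subtype _)

theorem Cm.le_EE {t : G} {K : Subgroup G} (h : Cm t K) : K ≤ EE t := le_map_layer h.1 h.2

theorem Cm.EE_le {t : G} {K : Subgroup G} (h : Cm t K) : EE t ≤ 𝐍[K] :=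
  map_layer_le_normalizer_comp h.1 h.2

theorem EE_le_iff {t : G} {X : Subgroup G} : EE t ≤ X ↔ ∀ K, Cm t K → K ≤ X :=
  map_layer_le_iff.trans ⟨fun h K hK => h K hK.1 hK.2, fun h K h1 h2 => h K ⟨h1, h2⟩⟩

theorem EE_le_c (t : G) : EE t ≤ 𝐜[t] := map_subtype_le _

theorem c_le_normalizer_EE (t : G) : 𝐜[t] ≤ 𝐍[EE t] := le_normalizer_map_subtype _

/-- The pump-up of `L` in `C(t)`. -/
def pu (t : G) (L : Subgroup G) : Subgroup G := sSup {K | Cm t K ∧ ¬ K ≤ 𝐂[L]}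

theorem le_pu {t : G} {L K : Subgroup G} (h : Cm t K) (h' : ¬ K ≤ 𝐂[L]) : K ≤ pu t L :=
  le_sSup ⟨h, h'⟩

theorem pu_le_iff {t : G} {L X : Subgroup G} :
    pu t L ≤ X ↔ ∀ K, Cm t K → ¬ K ≤ 𝐂[L] → K ≤ X :=
  sSup_le_iff.trans ⟨fun h K h1 h2 => h K ⟨h1, h2⟩, fun h K hK => h K hK.1 hK.2⟩

theorem pu_le_EE (t : G) (L : Subgroup G) : pu t L ≤ EE t := pu_le_iff.2 fun _ h _ => h.le_EE

theorem pu_conj (g t : G) (L : Subgroup G) : pu (g * t * g⁻¹) cj(g, L) = cj(g, pu t L) := by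
  have key : ∀ (g t : G) (L : Subgroup G), cj(g, pu t L) ≤ pu (g * t * g⁻¹) cj(g, L) :=
    fun g t L => cj_le_iff.2 (pu_le_iff.2 fun K h1 h2 => cj_le_iff.1 (le_pu (h1.conj g)
      (by rwa [centralizer_cj, cj_le_cj_iff])))
  refine le_antisymm (le_cj_iff.2 ?_) (key g t L)
  have := key g⁻¹ (g * t * g⁻¹) cj(g, L)
  rwa [cj_inv_cj, show g⁻¹ * (g * t * g⁻¹) * g⁻¹⁻¹ = t by group] at this

theorem mem_normalizer_pu {g t : G} {L : Subgroup G} (h1 : g ∈ 𝐜[t]) (h2 : g ∈ 𝐍[L]) :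
    g ∈ 𝐍[pu t L] := by
  rw [← cj_eq_iff, ← pu_conj, conj_of_mem_c h1, cj_of_mem_normalizer h2]

theorem EE_le_normalizer_pu (t : G) (L : Subgroup G) : EE t ≤ 𝐍[pu t L] :=
  le_normalizer_iff_cj.2 fun _ hg => cj_le_iff.2 (pu_le_iff.2 fun _ h1 h2 => cj_le_iff.1
    ((cj_of_mem_normalizer (h1.EE_le hg)).le.trans (le_pu h1 h2)))

theorem EE_le_pu_sup (t : G) (L : Subgroup G) : EE t ≤ pu t L ⊔ (EE t ⊓ 𝐂[L]) :=
  EE_le_iff.2 fun K hK => by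
    by_cases h : K ≤ 𝐂[L]
    · exact le_sup_of_le_right (le_inf hK.le_EE h)
    · exact le_sup_of_le_left (le_pu hK h)

theorem commutator_le_pu {t : G} {L : Subgroup G} (hL : L ≤ EE t) : ⁅EE t, L⁆ ≤ pu t L := by
  rw [commutator_le]
  intro x hx l hl
  obtain ⟨a, ha, b, hb, rfl⟩ := (mem_sup_of_le_normalizer_left
    (inf_le_left.trans (EE_le_normalizer_pu t L))).1 (EE_le_pu_sup t L hx)
  have : ⁅a * b, l⁆ = a * (l * a⁻¹ * l⁻¹) := by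
    rw [commutatorElement_def, mul_assoc a, cent_comm hb.2 hl]; group
  exact this ▸ mul_mem ha (conj_mem_of_mem_normalizer (EE_le_normalizer_pu t L (hL hl))
    (inv_mem ha))

theorem le_pu_of_perfect {t : G} {L : Subgroup G} (hp : ⁅L, L⁆ = L) (hL : L ≤ EE t) :
    L ≤ pu t L := hp.ge.trans ((commutator_mono hL le_rfl).trans (commutator_le_pu hL))

theorem Cm.pu_eq {t : G} {L : Subgroup G} (h : Cm t L) : pu t L = L :=
  le_antisymm (pu_le_iff.2 fun _ h1 h2 => ((h1.eq_or h).resolve_right h2).le) (le_pu h h.not_le)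

/-- A quasisimple pump-up is a component. -/
theorem cm_of_pu {t : G} {L : Subgroup G} (h : IsQuasisimple (pu t L)) : Cm t (pu t L) := by
  by_contra hc
  refine qsS_ne_bot h (le_bot_iff.1 (pu_le_iff.2 fun K h1 h2 => (hc ?_).elim))
  exact h1.eq_of_le h (le_pu h1 h2) ((pu_le_EE t L).trans (EE_le_c t)) ▸ h1

variable [Finite G]

theorem Cm.syl {t : G} {K S : Subgroup G} (h : Cm t K) (hS : IsSyl 2 S 𝐜[t]) :
    IsSyl 2 (S ⊓ K) K := by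
  have := (hS.inf_of_le (EE_le_c t) (c_le_normalizer_EE t)).inf_of_le h.le_EE h.EE_le
  rwa [inf_assoc, inf_of_le_right h.le_EE] at this

theorem Cm.two_dvd {t : G} {K : Subgroup G} (h : Cm t K) : 2 ∣ Nat.card K := qsS_two_dvd_card h.qs

theorem iv_coe {H : Subgroup G} {x : G} (hx : x ∈ H) (h : Iv x) : orderOf (⟨x, hx⟩ : H) = 2 := by
  rw [← orderOf_coe]; exact h.ord

theorem Cm.down {a b : G} {K : Subgroup G} (hab : b ∈ 𝐜[a]) (hK : Cm b K) (h : K ≤ 𝐜[a]) :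
    K.subgroupOf 𝐜[a] ≤ centralizer {(⟨b, hab⟩ : 𝐜[a])} ∧ IsComponent ((K.subgroupOf 𝐜[a]).subgroupOf
      (centralizer {(⟨b, hab⟩ : 𝐜[a])})) := by
  have h1 := comp_down (le_inf h hK.1) inf_le_left
    (comp_subgroupOf_of_le (le_inf h hK.1) inf_le_right hK.2)
  rw [inf_subgroupOf_left] at h1
  rw [cent_coe]
  exact ⟨comap_mono hK.1, h1⟩

/-- `L`-balance. -/
theorem Hyp.bal (H : Hyp G) {a b : G} (ha : Iv a) (hb : Iv b) (hab : b ∈ 𝐜[a]) {K : Subgroup G}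
    (hK : Cm b K) (h : K ≤ 𝐜[a]) : K ≤ EE a := by
  obtain ⟨h1, h2⟩ := hK.down hab h
  have := IsPComponentOf.le_pLayer_two' (iv_coe hab hb) (isPComponentOf_two_of_comp h1 h2)
  rw [pLayer_eq_layer_of_pPrimeCore_eq_bot (H.core a ha)] at this
  rw [← map_subgroupOf_of_le h]
  exact map_mono this

/-- `K` is the diagonal of `J J^b`. -/
def Dg (b : G) (J K : Subgroup G) : Prop := ∀ x, x ∈ K ↔ ∃ j ∈ J, x = j * (b * j * b⁻¹)

theorem Dg.card_le {b : G} {J K : Subgroup G} (h : Dg b J K) : Nat.card K ≤ Nat.card J :=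
  Nat.card_le_card_of_surjective
    (fun j : J => (⟨j * (b * j * b⁻¹), (h _).2 ⟨j, j.2, rfl⟩⟩ : K)) fun k => by
      obtain ⟨j, hj, e⟩ := (h k).1 k.2
      exact ⟨⟨j, hj⟩, Subtype.ext e.symm⟩

theorem Dg.le {b : G} {J K : Subgroup G} (h : Dg b J K) : K ≤ J ⊔ cj(b, J) := fun x hx => by
  obtain ⟨j, hj, rfl⟩ := (h x).1 hx
  exact mul_mem_sup hj (conj_mem_cj b hj)

/-- An element normalising `J` and centralising `b` and the diagonal centralises `J`. -/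
theorem Dg.mem_cent {b x : G} {J K : Subgroup G} (h : Dg b J K) (hJ : ⁅J, J⁆ = J)
    (hc : cj(b, J) ≤ 𝐂[J]) (h1 : x ∈ 𝐍[J]) (h2 : x ∈ 𝐜[b]) (h3 : x ∈ 𝐂[K]) : x ∈ 𝐂[J] := by
  refine mem_cent_of_comm hJ h1 fun j hj => ?_
  have h4 := cent_conj h3 ((h _).2 ⟨j⁻¹, inv_mem hj, rfl⟩)
  have h5 : b * (j⁻¹ * (x * j * x⁻¹)) * b⁻¹ ∈ 𝐂[J] :=
    hc (conj_mem_cj b (mul_mem (inv_mem hj) (conj_mem_of_mem_normalizer h1 hj)))
  have h6 : x * j * x⁻¹ * j⁻¹ = (b * (j⁻¹ * (x * j * x⁻¹)) * b⁻¹)⁻¹ := by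
    have e : x * (b * j⁻¹ * b⁻¹) * x⁻¹ = b * (x * j⁻¹ * x⁻¹) * b⁻¹ := by
      calc _ = (x * b) * j⁻¹ * (x * b)⁻¹ := by group
        _ = _ := by rw [mem_c.1 h2]; group
    calc _ = x * j * x⁻¹ * (j⁻¹ * (b * j⁻¹ * b⁻¹)) * (b * j * b⁻¹) := by group
      _ = x * (b * j⁻¹ * b⁻¹) * x⁻¹ * (b * j * b⁻¹) := by rw [← h4]; group
      _ = _ := by rw [e]; group
  exact h6 ▸ inv_mem h5

/-- A component of `C(a)` centralises `K`, contains it, or has it as a diagonal. -/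
theorem Hyp.pump (H : Hyp G) {a b : G} (ha : Iv a) (hb : Iv b) (hab : b ∈ 𝐜[a]) {K J : Subgroup G}
    (hK : Cm b K) (h : K ≤ 𝐜[a]) (hJ : Cm a J) (hc : ¬ J ≤ 𝐂[K]) :
    (b ∈ 𝐍[J] ∧ K ≤ J) ∨ (b ∉ 𝐍[J] ∧ Dg b J K) := by
  obtain ⟨h1, h2⟩ := hK.down hab h
  have hc' : ¬ K.subgroupOf 𝐜[a] ≤ 𝐂[J.subgroupOf 𝐜[a]] := fun e => hc (le_centralizer_iff.1
    fun k hk => by
      have := e (show (⟨k, h hk⟩ : 𝐜[a]) ∈ _ from hk)
      rwa [centralizer_subgroupOf hJ.1] at this)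
  by_cases hn : b ∈ 𝐍[J]
  · refine Or.inl ⟨hn, fun k hk => ?_⟩
    have := (balH hJ.2 (iv_coe hab hb) h1 h2).resolve_left hc' (show (⟨k, h hk⟩ : 𝐜[a]) ∈ _ from hk)
    rwa [cj_subgroupOf, cj_of_mem_normalizer hn, sup_idem] at this
  · have hy := isCycled_of_comp hJ.2 (iv_coe hab hb) (by
      rwa [normalizer_eq_subgroupOf, map_subgroupOf_of_le hJ.1])
    have e : K.subgroupOf 𝐜[a] = hy.diagHom.range := by
      by_contra e
      refine hc' (le_centralizer_iff.1 (le_centralizer_iff.1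
        (hy.le_centralizer_of_le_centralizer_range (comp_commutator hJ.2) h1 ?_
        (commutator_eq_bot_iff_le_centralizer.1 (comp_subgroupOf_commute_of_ne h1
          hy.range_le_centralizer h2 (hy.comp_range hJ.2) e)))))
      rw [normalizer_eq_subgroupOf, map_subgroupOf_of_le hJ.1]
      exact comap_mono ((H.bal ha hb hab hK h).trans hJ.EE_le)
    refine Or.inr ⟨hn, fun x => ⟨fun hx => ?_, ?_⟩⟩
    · obtain ⟨j, hj⟩ : (⟨x, h hx⟩ : 𝐜[a]) ∈ hy.diagHom.range := e ▸ hx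
      refine ⟨j.1, j.2, ?_⟩
      rw [hb.inv_eq]
      simpa [IsCycled.diagHom_apply, sq, mul_assoc, Subtype.ext_iff] using hj.symm
    · rintro ⟨j, hj, rfl⟩
      have : hy.diagHom ⟨⟨j, hJ.1 hj⟩, hj⟩ ∈ K.subgroupOf 𝐜[a] := e ▸ ⟨_, rfl⟩
      rw [hb.inv_eq]
      simpa [IsCycled.diagHom_apply, sq, mul_assoc, mem_subgroupOf] using this

theorem Hyp.card_le (H : Hyp G) {a b : G} (ha : Iv a) (hb : Iv b) (hab : b ∈ 𝐜[a])
    {K J : Subgroup G} (hK : Cm b K) (h : K ≤ 𝐜[a]) (hJ : Cm a J) (hc : ¬ J ≤ 𝐂[K]) :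
    Nat.card K ≤ Nat.card J :=
  (H.pump ha hb hab hK h hJ hc).elim (fun e => card_le_of_le e.2) fun e => e.2.card_le

theorem Hyp.le_pu (H : Hyp G) {a b : G} (ha : Iv a) (hb : Iv b) (hab : b ∈ 𝐜[a])
    {K : Subgroup G} (hK : Cm b K) (h : K ≤ 𝐜[a]) : K ≤ pu a K :=
  le_pu_of_perfect hK.perf (H.bal ha hb hab hK h)

theorem Hyp.exists_cm (H : Hyp G) {a b : G} (ha : Iv a) (hb : Iv b) (hab : b ∈ 𝐜[a])
    {K : Subgroup G} (hK : Cm b K) (h : K ≤ 𝐜[a]) : ∃ J, Cm a J ∧ ¬ J ≤ 𝐂[K] := by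
  by_contra hc
  push Not at hc
  exact hK.not_le ((H.le_pu ha hb hab hK h).trans (pu_le_iff.2 fun J h1 h2 => (h2 (hc J h1)).elim))

/-- The shape of a pump-up. -/
theorem Hyp.pu_cases (H : Hyp G) {a b : G} (ha : Iv a) (hb : Iv b) (hab : b ∈ 𝐜[a])
    {K : Subgroup G} (hK : Cm b K) (h : K ≤ 𝐜[a]) : ∃ J, Cm a J ∧
      ((b ∈ 𝐍[J] ∧ K ≤ J ∧ pu a K = J) ∨ (b ∉ 𝐍[J] ∧ Dg b J K ∧ pu a K = J ⊔ cj(b, J))) := by
  obtain ⟨J, hJ, hc⟩ := H.exists_cm ha hb hab hK h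
  refine ⟨J, hJ, (H.pump ha hb hab hK h hJ hc).imp (fun e => ⟨e.1, e.2, le_antisymm
    (pu_le_iff.2 fun J' h1 h2 => ?_) (Q16.le_pu hJ hc)⟩) fun e => ⟨e.1, e.2, le_antisymm
    (pu_le_iff.2 fun J' h1 h2 => ?_) (sup_le (Q16.le_pu hJ hc) (Q16.le_pu (hJ.cj hab) ?_))⟩⟩
  · exact ((h1.eq_or hJ).resolve_right fun c => h2 (c.trans (centralizer_anti e.2))).le
  · rcases h1.eq_or hJ with c | c
    · exact c ▸ le_sup_left
    rcases h1.eq_or (hJ.cj hab) with c' | c'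
    · exact c' ▸ le_sup_right
    · exact (h2 ((le_inf c c').trans ((Amb.centralizer_sup J _).ge.trans
        (centralizer_anti e.2.le)))).elim
  · rwa [cj_le_iff, cj_of_mem (inv_mem hK.cent)]

/-- The pump-up of `L` grows along involutions centralising it. -/
theorem Hyp.pu_mono (H : Hyp G) {t e : G} (ht : Iv t) (he : Iv e) (hte : t ∈ 𝐜[e])
    {L : Subgroup G} (h1 : L ≤ EE t) (h2 : L ≤ EE e) (h : e ∈ 𝐂[pu t L]) : pu t L ≤ pu e L := by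
  refine pu_le_iff.2 fun K hK hc => ?_
  rcases qsS_commutator_eq_self_or_bot hK.qs (h1.trans hK.EE_le) with c | c
  · exact c.ge.trans ((commutator_mono (H.bal he ht hte hK (le_c_iff.2
      (centralizer_anti (Q16.le_pu hK hc) h))) le_rfl).trans (commutator_le_pu h2))
  · exact (hc (commutator_eq_bot_iff_le_centralizer.1 c)).elim

/-! ### Rank bounds -/

theorem Hyp.rk (H : Hyp G) {V E : Subgroup G} (hV : IsPGroup 2 V) (h0 : V ≠ ⊥) {p : ℕ}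
    (hp : p.Prime) (hp2 : p ≠ 2) (hE : IsElementaryAbelian p E) (hc : p ^ 3 ≤ Nat.card E)
    (h : E ≤ 𝐍[V]) : False := by
  haveI := Fact.mk hp
  exact (FT.R2.pRankLE_iff.1 (H.qt p hp hp2 _ ⟨V, hV, h0, rfl⟩) E h hE).not_gt
    (FT.R2.sq_lt_cube.trans_le hc)

theorem Hyp.rk_c (H : Hyp G) {t : G} (ht : Iv t) {E : Subgroup G} {p : ℕ}
    (hp : p.Prime) (hp2 : p ≠ 2) (hE : IsElementaryAbelian p E) (hc : p ^ 3 ≤ Nat.card E)
    (h : E ≤ 𝐜[t]) : False :=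
  H.rk ht.p2.pgrp (by simpa using ht.1) hp hp2 hE hc
    (h.trans (Amb.centralizer_zpowers t ▸ centralizer_le_normalizer' _))

theorem exists_EA_two {p : ℕ} (hp : p.Prime) (hp2 : p ≠ 2) {X Y : Subgroup G} (hX : ⁅X, X⁆ = X)
    (hY : ⁅Y, Y⁆ = Y) (d1 : p ∣ Nat.card X) (d2 : p ∣ Nat.card Y) (h : X ≤ 𝐂[Y]) :
    ∃ E ≤ X ⊔ Y, IsElementaryAbelian p E ∧ p ^ 2 ≤ Nat.card E := by
  haveI := Fact.mk hp
  obtain ⟨E₁, l₁, e₁, k₁⟩ := QT.exists_EA_sup_of_perfect (k := 0) hp2 isEA_bot (by simp) hX d1 bot_le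
  rw [bot_sup_eq] at l₁
  obtain ⟨E₂, l₂, e₂, k₂⟩ := QT.exists_EA_sup_of_perfect hp2 e₁ k₁ hY d2 (l₁.trans h)
  exact ⟨E₂, l₂.trans (sup_le_sup_right l₁ _), e₂, k₂⟩

/-- A rank two subgroup of `C(t)` commuting with a perfect subgroup. -/
theorem Hyp.rk_perf (H : Hyp G) {t : G} (ht : Iv t) {E X : Subgroup G} {p : ℕ}
    (hp : p.Prime) (hp2 : p ≠ 2) (hE : IsElementaryAbelian p E) (hc : p ^ 2 ≤ Nat.card E)
    (hX : ⁅X, X⁆ = X) (hd : p ∣ Nat.card X) (hEX : E ≤ 𝐂[X]) (h1 : E ≤ 𝐜[t]) (h2 : X ≤ 𝐜[t]) :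
    False := by
  haveI := Fact.mk hp
  obtain ⟨E', l, e, k⟩ := QT.exists_EA_sup_of_perfect hp2 hE hc hX hd hEX
  exact H.rk_c ht hp hp2 e k (l.trans (sup_le h1 h2))

/-- A component has at most two conjugates among the components. -/
theorem Hyp.two_cj (H : Hyp G) {t : G} (ht : Iv t) {K : Subgroup G} {a b : G} (h : Cm t K)
    (h1 : Cm t cj(a, K)) (h2 : Cm t cj(b, K)) (n1 : a ∉ 𝐍[K]) (n2 : b ∉ 𝐍[K]) :
    cj(a, K) = cj(b, K) := by
  by_contra hne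
  obtain ⟨p, hp, hp2, hd⟩ := QT.exists_odd_prime_dvd h.perf h.ne
  obtain ⟨E, l, e, k⟩ := exists_EA_two hp hp2 h1.perf h2.perf (card_cj a K ▸ hd) (card_cj b K ▸ hd)
    ((h1.eq_or h2).resolve_left hne)
  exact H.rk_perf ht hp hp2 e k h.perf hd (l.trans (sup_le
    ((h1.eq_or h).resolve_left fun e => n1 (cj_eq_iff.1 e))
    ((h2.eq_or h).resolve_left fun e => n2 (cj_eq_iff.1 e)))) (l.trans (sup_le h1.le h2.le)) h.le

theorem Hyp.inv_mul_mem (H : Hyp G) {t : G} (ht : Iv t) {K : Subgroup G} {a b : G} (h : Cm t K)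
    (h1 : a ∈ 𝐜[t]) (h2 : b ∈ 𝐜[t]) (n1 : a ∉ 𝐍[K]) (n2 : b ∉ 𝐍[K]) : a⁻¹ * b ∈ 𝐍[K] := by
  rw [← cj_eq_iff, cj_mul, ← H.two_cj ht h (h.cj h1) (h.cj h2) n1 n2, cj_inv_cj]

theorem Hyp.sq_mem (H : Hyp G) {t : G} (ht : Iv t) {K : Subgroup G} {a : G} (h : Cm t K)
    (h1 : a ∈ 𝐜[t]) : a * a ∈ 𝐍[K] := by
  by_cases n : a ∈ 𝐍[K]
  · exact mul_mem n n
  · simpa using H.inv_mul_mem ht h (inv_mem h1) h1 (by rwa [inv_mem_iff]) n

/-- The centre of a component is a `2`-group. -/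
theorem Hyp.p2 (H : Hyp G) {t : G} (ht : Iv t) {K : Subgroup G} (h : Cm t K) {x : G} (h1 : x ∈ K)
    (h2 : x ∈ 𝐂[K]) : P2 x := by
  obtain ⟨k, hk⟩ := exists_pow_coprime (p := 2) x
  refine ⟨k, ?_⟩
  set y := x ^ 2 ^ k
  have h3 : y ∈ K ⊓ 𝐂[K] := pow_mem (mem_inf.2 ⟨h1, h2⟩) _
  have h4 : ((zpowers y).subgroupOf 𝐜[t]).IsSubnormal := subnormal_subgroupOf_trans
    (zpowers_le.2 h3.1) h.1 (normal_subgroupOf' ((le_centralizer_iff.1 (zpowers_le.2 h3.2)).trans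
      (centralizer_le_normalizer' _))).isSubnormal h.2.1
  have h5 := Grp.le_pPrimeCore_of_isSubnormal (p := 2) h4 (by
    rwa [Grp.card_subgroupOf_of_le (zpowers_le.2 (h.1 h3.1)), Nat.card_zpowers])
  rw [show pPrimeCore 2 𝐜[t] = ⊥ from H.core t ht] at h5
  exact congrArg Subtype.val (mem_bot.1 (h5 (show (⟨y, h.1 h3.1⟩ : 𝐜[t]) ∈ _ from mem_zpowers y)))

end Cfsg.Agent.Q16
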