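import Mathlib
import Cfsg.Agent.Q16.Amb

/-!
The action on the central quotient of a component and the facts of `Q16.Defs` in ambient form;
a component survives in the centraliser of a commuting involution with large common centraliser.
-/

set_option autoImplicit false
set_option linter.unusedSectionVars false
set_option linter.style.haveILetI false

namespace Cfsg.Agent.Q16

open Cfsg Subgroup Cfsg.Agent.PLocal Cfsg.Agent.PLocal.Amb Cfsg.Agent.Trm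
open scoped commutatorElement

variable {G : Type*} [Group G] {K : Subgroup G}

theorem mem_zp {u x : G} (h : u * u = 1) (hx : x ∈ zpowers u) : x = 1 ∨ x = u := by
  have := mem_of_mem_sup_zpowers (Z := ⊥) (u := u) (le_normalizer_of_normal (mem_top u)) h
    (mem_sup_right hx)
  simpa [mul_inv_eq_one] using this

/-- The action of `N(K)` on `K / Z(K)`. -/
def rh (K : Subgroup G) : 𝐍[K] →* MulAut (Bar K) := automizerHom K 𝐍[K] le_rfl

/-- The projection onto `K / Z(K)`. -/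
abbrev pr (K : Subgroup G) : K →* Bar K := QuotientGroup.mk' (center K)

/-- The image of `A ∩ K` in `K / Z(K)`. -/
def bar (K A : Subgroup G) : Subgroup (Bar K) := (A.subgroupOf K).map (pr K)

theorem pr_surj (K : Subgroup G) : Function.Surjective (pr K) := QuotientGroup.mk'_surjective _

theorem mem_bar {A : Subgroup G} {x : Bar K} : x ∈ bar K A ↔ ∃ a : K, (a : G) ∈ A ∧ pr K a = x :=
  Iff.rfl

theorem pr_eq_one {k : K} : pr K k = 1 ↔ (k : G) ∈ 𝐂[K] := by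
  rw [QuotientGroup.mk'_apply, QuotientGroup.eq_one_iff, mem_center_iff, mem_cent]
  exact ⟨fun h a ha => congrArg Subtype.val (h ⟨a, ha⟩), fun h a => Subtype.ext (h a a.2)⟩

theorem pr_eq {a b : K} : pr K a = pr K b ↔ (a : G)⁻¹ * b ∈ 𝐂[K] := by
  rw [← inv_mul_eq_one, ← map_inv, ← map_mul, pr_eq_one]; rfl

theorem rh_pr (g : 𝐍[K]) (k : K) :
    rh K g (pr K k) = pr K ⟨g * k * (g : G)⁻¹, conj_mem_of_mem_normalizer g.2 k.2⟩ := rfl

theorem rh_eq_one (hK : ⁅K, K⁆ = K) {g : 𝐍[K]} : rh K g = 1 ↔ (g : G) ∈ 𝐂[K] := by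
  rw [← MonoidHom.mem_ker, rh, automizerHom_ker _ hK, mem_subgroupOf]

theorem rh_eq (hK : ⁅K, K⁆ = K) {g h : 𝐍[K]} : rh K g = rh K h ↔ (g : G)⁻¹ * h ∈ 𝐂[K] := by
  rw [← inv_mul_eq_one, ← map_inv, ← map_mul, rh_eq_one hK]; rfl

theorem rh_of_mem (k : K) : rh K ⟨k, le_normalizer k.2⟩ = MulAut.conj (pr K k) := by
  ext y
  obtain ⟨y, rfl⟩ := pr_surj K y
  rfl

theorem rh_fix {g : 𝐍[K]} {k : K} (h : (k : G) ∈ 𝐜[(g : G)]) : rh K g (pr K k) = pr K k := by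
  rw [rh_pr]
  congr 1
  exact Subtype.ext (conj_of_mem_c (c_comm h))

theorem ord_rh (hK : ⁅K, K⁆ = K) {z : G} (hz : Iv z) (hn : z ∈ 𝐍[K]) (hc : z ∉ 𝐂[K]) :
    orderOf (rh K ⟨z, hn⟩) = 2 :=
  iv_iff.1 ⟨fun e => hc ((rh_eq_one hK).1 e), by
    rw [← map_mul, show (⟨z, hn⟩ * ⟨z, hn⟩ : 𝐍[K]) = 1 from Subtype.ext hz.2, map_one]⟩

theorem cp_bar [Finite G] {z : G} {L : Subgroup G} (hn : z ∈ 𝐍[K]) (hL : Cm z L) (h : L ≤ K) :
    Cp (rh K ⟨z, hn⟩) (bar K L) := by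
  set F := (fixedSubgroup (rh K ⟨z, hn⟩)).comap (pr K)
  have h1 : 𝐜[z].subgroupOf K ≤ F := fun k hk => rh_fix hk
  have h2 : F ≤ 𝐍[𝐜[z].subgroupOf K] := le_normalizer_iff_cj.2 fun k hk => by
    rintro _ ⟨y, hy, rfl⟩
    have h3 : (z * k * z⁻¹)⁻¹ * k ∈ 𝐂[K] := pr_eq.1 hk
    refine c_comm (mem_c.2 ?_)
    change z * (k * y * (k : G)⁻¹) = k * y * (k : G)⁻¹ * z
    calc _ = z * k * z⁻¹ * (z * y * z⁻¹) * ((z * k * z⁻¹)⁻¹ * k) * (k : G)⁻¹ * z := by group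
      _ = _ := by
        rw [conj_of_mem_c (c_comm (show (y : G) ∈ 𝐜[z] from hy)), mul_assoc (z * k * z⁻¹),
          ← cent_comm h3 y.2]; group
  have h4 : L.subgroupOf K ≤ 𝐜[z].subgroupOf K := comap_mono hL.1
  have h5 := comp_down (le_inf hL.1 h) inf_le_right
    (comp_subgroupOf_of_le (le_inf hL.1 h) inf_le_left hL.2)
  rw [inf_subgroupOf_right] at h5
  have h6 := subnormal_subgroupOf_map (h4.trans h1) (pr K)
    (subnormal_subgroupOf_trans h4 h1 h5.1 (normal_subgroupOf' h2).isSubnormal)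
  have h7 := map_mono (f := pr K) (h4.trans h1)
  rw [map_comap_eq_self_of_surjective (pr_surj K)] at h6 h7
  refine ⟨h7, (comp_subgroupOf_iff h7).2 ⟨h6, qsS_map ((qsS_subgroupOf_iff h).2 hL.qs) _
    fun e => hL.not_le fun l hl => centralizer_anti h ?_⟩⟩
  exact pr_eq_one.1 (mem_bot.1 (e ▸ mem_map_of_mem (pr K) (show (⟨l, h hl⟩ : K) ∈ _ from hl)))

theorem Cm.not_mem_cent {t z : G} {L : Subgroup G} (hK : Cm t K) (hL : Cm z L) (h : L ≤ K)
    (hne : L ≠ K) : z ∉ 𝐂[K] := fun e => hne (hL.eq_of_le hK.qs h (le_c_iff.2 e))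

variable [Finite G]

theorem syl_bar {U : Subgroup G} (hU : IsSyl 2 U K) :
    ∃ V : Sylow 2 (Bar K), (V : Subgroup (Bar K)) = bar K U := by
  obtain ⟨P, hP⟩ := hU.exists_sylow
  have := (isSyl_top P).map (pr K)
  rw [map_top_of_surjective _ (pr_surj K), hP] at this
  exact this.exists_sylow_top

theorem card_le_of_dvd {U D : Subgroup G} (hU : IsSyl 2 U K) (hD : IsPGroup 2 D) {k : ℕ}
    (h : 2 ^ k * Nat.card D ∣ Nat.card K) : 2 ^ k * Nat.card D ≤ Nat.card U := by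
  obtain ⟨n, hn⟩ := hD.exists_card_eq
  rw [hn, ← pow_add] at h ⊢
  rw [hU.card_eq_pow]
  exact Nat.pow_le_pow_right two_pos
    ((Nat.prime_two.pow_dvd_iff_le_factorization Nat.card_pos.ne').1 h)

theorem four_le {z : G} (hn : z ∈ 𝐍[K]) (h4 : 4 ∣ (fixedSubgroup (rh K ⟨z, hn⟩)).index)
    {U D : Subgroup G} (hU : IsSyl 2 U K) (hD : IsPGroup 2 D) (h1 : D ≤ K) (h2 : D ≤ 𝐜[z]) :
    4 * Nat.card D ≤ Nat.card U := by
  refine card_le_of_dvd (k := 2) hU hD ?_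
  rw [← ((fixedSubgroup (rh K ⟨z, hn⟩)).comap (pr K)).index_mul_card,
    index_comap_of_surjective _ (pr_surj K), ← Grp.card_subgroupOf_of_le h1]
  exact mul_dvd_mul h4 (card_dvd_of_le fun k hk => rh_fix (h2 hk))

theorem card_mul_relIndex' {A B : Subgroup G} (h : A ≤ B) :
    Nat.card A * A.relIndex B = Nat.card B := by
  rw [← Grp.card_subgroupOf_of_le h]; exact card_mul_index _

/-- An index bound passes to intersections. -/
theorem card_inf_le {A B U : Subgroup G} {n : ℕ} (h : A ≤ B) (hU : U ≤ B)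
    (hc : Nat.card B ≤ n * Nat.card A) : Nat.card U ≤ n * Nat.card (A ⊓ U : Subgroup G) := by
  have h1 := relIndex_le_of_le_right (H := A) hU index_ne_zero_of_finite
  have h2 := card_mul_relIndex' h
  have h3 := card_mul_relIndex' (inf_le_right : A ⊓ U ≤ U)
  have h4 : A.relIndex B ≤ n := by
    refine Nat.le_of_mul_le_mul_left ?_ (Nat.card_pos (α := A))
    rw [h2, mul_comm]; exact hc
  rw [← h3, inf_relIndex_right, mul_comm]
  exact Nat.mul_le_mul_right _ (h1.trans h4)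

theorem relIndex_two {A B : Subgroup G} (h : A ≤ B) (hne : ¬ B ≤ A)
    (hc : Nat.card B ≤ 2 * Nat.card A) : A.relIndex B = 2 := by
  have h2 := card_mul_relIndex' h
  have h3 : A.relIndex B ≤ 2 := by
    refine Nat.le_of_mul_le_mul_left ?_ (Nat.card_pos (α := A))
    rw [h2, mul_comm]; exact hc
  have h4 : A.relIndex B ≠ 0 := index_ne_zero_of_finite
  have h5 : A.relIndex B ≠ 1 := fun e => hne (relIndex_eq_one.1 e)
  omega

/-- The centre does not have index at most two in a Sylow `2`-subgroup. -/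
theorem not_le_two (hK : IsQuasisimple K) {U D : Subgroup G} (hU : IsSyl 2 U K) (hD : D ≤ U)
    (hc : D ≤ 𝐂[K]) (h : Nat.card U ≤ 2 * Nat.card D) : False := by
  have hn := syl_not_le_cent hK hU
  have h2 := relIndex_two hD (fun e => hn (e.trans hc)) h
  obtain ⟨u, hu, hu'⟩ := SetLike.not_le_iff_exists.1 hn
  obtain ⟨V, hV⟩ := syl_bar hU
  have h3 : ∀ x ∈ U, x ∈ D ∨ x * u⁻¹ ∈ D := fun x hx => by
    by_contra hc'
    push Not at hc'
    refine hc'.2 ((mul_mem_iff_of_index_two h2 (a := ⟨x, hx⟩) (b := ⟨u, hu⟩⁻¹)).2 ?_)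
    exact iff_of_false hc'.1 fun e => hu' (hc (by simpa [mem_subgroupOf] using e))
  have h4 : ∀ x ∈ (V : Subgroup (Bar K)), x = 1 ∨ x = pr K ⟨u, hU.le hu⟩ := by
    rw [hV]
    rintro _ ⟨x, hx, rfl⟩
    refine (h3 x hx).imp (fun e => pr_eq_one.2 (hc e)) fun e => ?_
    rw [← mul_inv_eq_one, ← map_inv, ← map_mul]
    exact pr_eq_one.2 (hc e)
  have h5 : pr K ⟨u, hU.le hu⟩ ≠ 1 := fun e => hu' (pr_eq_one.1 e)
  have h6 : pr K ⟨u, hU.le hu⟩ ∈ (V : Subgroup (Bar K)) := hV ▸ ⟨_, hu, rfl⟩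
  have h7 : Iv (pr K ⟨u, hU.le hu⟩) := ⟨h5, (h4 _ (mul_mem h6 h6)).resolve_right
    fun e => h5 (mul_eq_left.1 e)⟩
  haveI := hK.1
  haveI : Group.IsPerfect (Bar K) := Group.IsPerfect.ofSurjective (pr_surj K)
  obtain ⟨k, -, hk⟩ := thompson (X := ⊥) Group.IsPerfect.commutator_eq_top (isSyl_top V) (by
    rw [relIndex_bot_left, le_antisymm (fun x hx => (h4 x hx).elim (fun e => e ▸ one_mem _)
      fun e => e ▸ mem_zpowers _) (zpowers_le.2 h6), Nat.card_zpowers, h7.ord]) (mem_top _) h7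
  exact (h7.conj k).1 hk

theorem F1.amb (h : F1 (Bar K)) (hK : ⁅K, K⁆ = K) {z x : G} {L : Subgroup G} (hz : Iv z)
    (hn : z ∈ 𝐍[K]) (hc : z ∉ 𝐂[K]) (hL : Cm z L) (hLK : L ≤ K) (hx : P2 x) (h1 : x ∈ 𝐍[K])
    (h2 : x ∈ 𝐜[z]) (h3 : x ∈ 𝐂[L]) : x ∈ 𝐂[K] ∨ z * x ∈ 𝐂[K] := by
  have ho := ord_rh hK hz hn hc
  have hm : ∀ β ∈ zpowers (rh K ⟨z, hn⟩), β = 1 ∨ β = rh K ⟨z, hn⟩ := fun β =>
    mem_zp (iv_iff.2 ho).2
  have : rh K ⟨x, h1⟩ ∈ zpowers (rh K ⟨z, hn⟩) := by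
    by_contra hc'
    obtain ⟨k, hk⟩ := hx
    obtain ⟨n, h4, h5⟩ := P2.exists_sq_mem (x := rh K ⟨x, h1⟩) ⟨k, by
      rw [← map_pow, show (⟨x, h1⟩ ^ 2 ^ k : 𝐍[K]) = 1 from Subtype.ext hk, map_one]⟩ hc'
    refine h4 ((h _ _ _ ho (cp_bar hn hL hLK) ?_ (hm _ h5) ?_).elim (fun e => e ▸ one_mem _)
      fun e => e ▸ mem_zpowers _)
    · rw [← map_pow, ← map_mul, ← map_mul]
      congr 1
      exact Subtype.ext (mem_c.1 (pow_mem h2 n)).symm
    · rintro _ ⟨l, hl, rfl⟩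
      rw [← map_pow]
      exact rh_fix (le_c_iff.2 (pow_mem h3 n) hl)
  refine (hm _ this).imp (rh_eq_one hK).1 fun e => ?_
  have := (rh_eq hK).1 e.symm
  rwa [hz.inv_eq] at this

theorem F3.amb (h : F3 (Bar K)) (hK : ⁅K, K⁆ = K) {z w : G} {L U : Subgroup G} (hz : Iv z)
    (hn : z ∈ 𝐍[K]) (hc : z ∉ 𝐂[K]) (hL : Cm z L) (hLK : L ≤ K) (hU : IsSyl 2 U K)
    (h4 : w ^ 4 = 1) (h1 : w ∈ 𝐍[K]) (h2 : w ∈ 𝐍[U])
    (h3 : ∀ u ∈ U, u⁻¹ * w * u = w ∨ u⁻¹ * w * u = w⁻¹) : w ^ 2 ∈ 𝐂[K] := by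
  obtain ⟨V, hV⟩ := syl_bar hU
  have hV' : ∀ x, x ∈ V ↔ x ∈ bar K U := fun x => hV ▸ Iff.rfl
  have := h _ _ (ord_rh hK hz hn hc) (cp_bar hn hL hLK) V (rh K ⟨w, h1⟩) (by
    rw [← map_pow, show (⟨w, h1⟩ ^ 4 : 𝐍[K]) = 1 from Subtype.ext h4, map_one]) (fun x hx => by
      obtain ⟨u, hu, rfl⟩ := (hV' x).1 hx
      exact (hV' _).2 ⟨⟨w * u * w⁻¹, conj_mem_of_mem_normalizer h1 u.2⟩,
        (conj_mem_of_mem_normalizer h2 hu : w * u * w⁻¹ ∈ U), rfl⟩) fun x hx => by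
      obtain ⟨u, hu, rfl⟩ := (hV' x).1 hx
      rw [rh_pr, ← map_inv, ← map_mul, ← rh_of_mem, ← map_pow, ← map_one (rh K)]
      refine (h3 u hu).imp (fun e => congrArg _ (Subtype.ext ?_)) fun e =>
        congrArg _ (Subtype.ext ?_)
      · change (u : G)⁻¹ * (w * u * w⁻¹) = 1
        rw [← mul_assoc, ← mul_assoc, e, mul_inv_cancel]
      · change (u : G)⁻¹ * (w * u * w⁻¹) = w ^ 2
        rw [← mul_assoc, ← mul_assoc, e, ← mul_inv_rev, inv_eq_iff_mul_eq_one, ← h4]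
        simp [pow_succ, mul_assoc]
  rwa [← map_pow, rh_eq_one hK] at this

theorem F4.amb (h : F4 (Bar K)) (hK : ⁅K, K⁆ = K) {w : G} {U : Subgroup G} (hU : IsSyl 2 U K)
    (h4 : w ^ 4 = 1) (h1 : w ∈ 𝐍[K]) (h2 : w ∈ 𝐂[U]) : w ^ 2 ∈ 𝐂[K] := by
  obtain ⟨V, hV⟩ := syl_bar hU
  have := h V (rh K ⟨w, h1⟩) (by
    rw [← map_pow, show (⟨w, h1⟩ ^ 4 : 𝐍[K]) = 1 from Subtype.ext h4, map_one]) fun x hx => by
      obtain ⟨u, hu, rfl⟩ : x ∈ bar K U := hV ▸ hx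
      exact rh_fix (le_c_iff.2 h2 hu)
  rwa [← map_pow, rh_eq_one hK] at this

theorem Hyp.f2 (H : Hyp G) {t : G} (ht : Iv t) (hK : Cm t K) : F2 (Bar K) :=
  (H.kf t K ht hK).elim (fun h => h.f2) XF.f2

/-- A proper pump-up of the first kind has a large Sylow subgroup. -/
theorem Hyp.four_le (H : Hyp G) {t z : G} (ht : Iv t) (hz : Iv z) (hK : Cm t K) {L : Subgroup G}
    (hL : Cm z L) (hn : z ∈ 𝐍[K]) (h : L ≤ K) (hne : L ≠ K) {U D : Subgroup G} (hU : IsSyl 2 U K)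
    (hD : IsPGroup 2 D) (h1 : D ≤ K) (h2 : D ≤ 𝐜[z]) : 4 * Nat.card D ≤ Nat.card U :=
  Q16.four_le hn (H.f2 ht hK _ _ (ord_rh hK.perf hz hn (hK.not_mem_cent hL h hne))
    (cp_bar hn hL h)) hU hD h1 h2

/-- A component of `C(z)` centralised by `t` is a component of `C(t)` if `C(t, z)` contains a
subgroup of index at most two of a Sylow `2`-subgroup of `C(t)`. -/
theorem Hyp.surv (H : Hyp G) {t z : G} (ht : Iv t) (hz : Iv z) (hzt : z ∈ 𝐜[t]) {L S : Subgroup G}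
    (hL : Cm z L) (h : L ≤ 𝐜[t]) (hS : IsPGroup 2 S) (h1 : S ≤ 𝐜[t]) (h2 : S ≤ 𝐜[z])
    (hc : ∀ R : Subgroup G, IsPGroup 2 R → Nat.card R ≤ 2 * Nat.card S) : Cm t L := by
  obtain ⟨R, hR, hSR⟩ := exists_isSyl_ge hS h1
  obtain ⟨K, hK, hc'⟩ := H.exists_cm ht hz hzt hL h
  have hU := hK.syl hR
  have h3 := card_inf_le hSR (inf_le_left : R ⊓ K ≤ R) (hc R hR.pgrp)
  rcases H.pump ht hz hzt hL h hK hc' with ⟨hn, hle⟩ | ⟨hn, -⟩
  · by_contra hm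
    have := H.four_le ht hz hK hL hn hle (fun e => hm (e ▸ hK)) hU
      (hS.to_le (inf_le_left : S ⊓ (R ⊓ K) ≤ S)) (inf_le_right.trans inf_le_right)
      (inf_le_left.trans h2)
    have := Nat.card_pos (α := (S ⊓ (R ⊓ K) : Subgroup G))
    omega
  · refine (not_le_two hK.qs hU inf_le_right (fun x hx => hK.cj_le_cent hzt hn ?_) h3).elim
    rw [← conj_of_mem_c (c_comm (h2 hx.1))]
    exact conj_mem_cj z hx.2.2

end Cfsg.Agent.Q16
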