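import Mathlib
import Cfsg.Agent.Q16.Br

/-!
The configuration attached to a non-terminal component of the centraliser of a `2`-central involution.
-/

set_option autoImplicit false
set_option linter.unusedSectionVars false
set_option linter.style.haveILetI false

namespace Cfsg.Agent.Q16

open Cfsg Subgroup Cfsg.Agent.PLocal Cfsg.Agent.PLocal.Amb Cfsg.Agent.Trm
open scoped commutatorElement

variable {G : Type*} [Group G] [Finite G]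

theorem card_le_two_mul {T X : Subgroup G}
    (h : ∀ a ∈ T, ∀ b ∈ T, a ∉ X → b ∉ X → a⁻¹ * b ∈ X) :
    Nat.card T ≤ 2 * Nat.card (T ⊓ X : Subgroup G) := by
  by_cases hle : T ≤ X
  · rw [inf_of_le_left hle]; omega
  obtain ⟨a, ha, ha'⟩ := SetLike.not_le_iff_exists.1 hle
  have : (X.subgroupOf T).index = 2 := index_eq_two_iff'.2 ⟨⟨a⁻¹, inv_mem ha⟩, fun b => by
    by_cases hb : (b : G) ∈ X
    · exact Or.inr ⟨hb, fun e => ha' (by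
        simpa using (X.mul_mem_cancel_right hb).1 (show a⁻¹ * b ∈ X from e))⟩
    · exact Or.inl ⟨h a ha b b.2 ha' hb, hb⟩⟩
  rw [← card_mul_relIndex' (inf_le_left : T ⊓ X ≤ T), inf_relIndex_left, relIndex, this, mul_comm]

theorem Hyp.card_le_two (H : Hyp G) {z : G} (hz : Iv z) {L T : Subgroup G} (hL : Cm z L)
    (h : T ≤ 𝐜[z]) : Nat.card T ≤ 2 * Nat.card (T ⊓ 𝐍[L] : Subgroup G) :=
  card_le_two_mul fun _ ha _ hb => H.inv_mul_mem hz hL (h ha) (h hb)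

theorem mem_syl {T X : Subgroup G} (hT : IsSyl 2 T X) {z : G} (hz : P2 z) (h1 : z ∈ X)
    (h : T ≤ 𝐜[z]) : z ∈ T :=
  hT.le_of_normalizes hz.pgrp (zpowers_le.2 h1) (zpowers_le.2 (centralizer_le_normalizer' _
    (le_c_iff.1 h))) (mem_zpowers z)

theorem two_mul_card_le {A B : Subgroup G} (hB : IsPGroup 2 B) (h : A ≤ B) (hne : ¬ B ≤ A) :
    2 * Nat.card A ≤ Nat.card B := by
  obtain ⟨k, hk⟩ := (hB.to_le h).exists_card_eq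
  rw [hk, ← pow_succ']
  refine FT.R2.pow_succ_le_card hB (hk ▸ (card_le_of_le h).lt_of_ne fun e => hne ?_)
  exact (eq_of_le_of_card_ge h e.ge).ge

/-- We may assume that `T` contains a Sylow subgroup of `C(L)`. -/
theorem Hyp.exists_good (H : Hyp G) {z : G} (hz : Iv z) {L T : Subgroup G} (hT : IsSyl 2 T ⊤)
    (hc : T ≤ 𝐜[z]) (hL : Cm z L) : ∃ (z : G) (T : Subgroup G), Iv z ∧ IsSyl 2 T ⊤ ∧ T ≤ 𝐜[z] ∧
      Cm z L ∧ IsSyl 2 (T ⊓ 𝐂[L]) 𝐂[L] := by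
  obtain ⟨R, hR, h1⟩ := exists_isSyl_ge (hT.pgrp.to_le (inf_le_left : T ⊓ 𝐍[L] ≤ T)) inf_le_right
  have h2 := hR.inf_of_le (centralizer_le_normalizer' L) (normalizer_le_normalizer_centralizer L)
  by_cases hle : R ≤ T ⊓ 𝐍[L]
  · refine ⟨z, T, hz, hT, hc, hL, ?_⟩
    rwa [le_antisymm hle h1, inf_assoc, inf_of_le_right (centralizer_le_normalizer' L)] at h2
  have h3 := H.card_le_two hz hL hc
  obtain ⟨w, hw, h4, h5⟩ := exists_iv_cent' hR.pgrp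
    (hR.le.trans (normalizer_le_normalizer_centralizer L)) hL.cent hz
  have h6 := le_c_iff.2 h5
  exact ⟨w, R, h4, hT.of_card_ge hR.pgrp le_top (h3.trans (two_mul_card_le hR.pgrp h1 hle)), h6,
    H.surv h4 hz (h6 (h1 ⟨mem_syl hT hz.p2 (mem_top z) hc, centralizer_le_normalizer' L hL.cent⟩))
      hL (le_c_iff.2 hw) (hT.pgrp.to_le inf_le_left) (h1.trans h6) (inf_le_left.trans hc)
      fun X hX => (hT.card_le hX le_top).trans h3, h2⟩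

/-- `t` has a maximal proper pump-up of `L`. -/
structure Cf0 (z t : G) (L T : Subgroup G) : Prop where
  hyp : Hyp G
  syl : IsSyl 2 T ⊤
  z_iv : Iv z
  z_c : T ≤ 𝐜[z]
  cm : Cm z L
  t_iv : Iv t
  t_mem : t ∈ T
  t_c : t ∈ 𝐂[L]
  ncm : ¬ Cm t L
  max : ∀ e : G, Iv e → e ∈ 𝐜[z] → e ∈ 𝐂[L] → Nat.card (pu e L) ≤ Nat.card (pu t L)

/-- The configuration. -/
structure Cf (z t : G) (L T : Subgroup G) : Prop extends Cf0 z t L T where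
  cen : T ⊓ 𝐍[L] ⊓ 𝐍[pu t L] ≤ 𝐜[t]

theorem Hyp.card_lt_pu (H : Hyp G) {z t : G} (hz : Iv z) (ht : Iv t) (hzt : z ∈ 𝐜[t])
    {L : Subgroup G} (hL : Cm z L) (h : t ∈ 𝐂[L]) (hn : ¬ Cm t L) :
    Nat.card L < Nat.card (pu t L) := by
  have h1 := H.le_pu ht hz hzt hL (le_c_iff.2 h)
  refine (card_le_of_le h1).lt_of_ne fun e => hn ?_
  have h2 := eq_of_le_of_card_ge h1 e.ge
  have := cm_of_pu (t := t) (L := L) (h2 ▸ hL.qs)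
  rwa [← h2] at this

namespace Cf0

variable {z t : G} {L T : Subgroup G} (C : Cf0 z t L T)
include C

theorem z_mem : z ∈ T := mem_syl C.syl C.z_iv.p2 (mem_top z) C.z_c

theorem zt : z ∈ 𝐜[t] := c_comm (C.z_c C.t_mem)

theorem L_le : L ≤ 𝐜[t] := le_c_iff.2 C.t_c

theorem le_pu : L ≤ pu t L := C.hyp.le_pu C.t_iv C.z_iv C.zt C.cm C.L_le

theorem card_lt : Nat.card L < Nat.card (pu t L) :=
  C.hyp.card_lt_pu C.z_iv C.t_iv C.zt C.cm C.t_c C.ncm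

theorem pu_le : pu t L ≤ 𝐜[t] := (pu_le_EE t L).trans (EE_le_c t)

theorem t_cent : t ∈ 𝐂[pu t L] := le_c_iff.1 C.pu_le

theorem cent_le : 𝐂[pu t L] ≤ 𝐂[L] := centralizer_anti C.le_pu

theorem pu_eq {e : G} (he : Iv e) (h1 : e ∈ 𝐜[z]) (h2 : e ∈ 𝐂[pu t L]) (h3 : t ∈ 𝐜[e]) :
    pu e L = pu t L :=
  (eq_of_le_of_card_ge (C.hyp.pu_mono C.t_iv he h3 (C.hyp.bal C.t_iv C.z_iv C.zt C.cm C.L_le)
    (C.hyp.bal he C.z_iv (c_comm h1) C.cm (le_c_iff.2 (C.cent_le h2))) h2)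
    (C.max e he h1 (C.cent_le h2))).symm

theorem exists_cf : ∃ e, Cf z e L T := by
  obtain ⟨e, he, h1, h2⟩ := exists_iv_cent (T := T ⊓ 𝐍[L] ⊓ 𝐍[pu t L]) (V := T ⊓ 𝐂[pu t L])
    (C.syl.pgrp.to_le (inf_le_left.trans inf_le_left)) (C.syl.pgrp.to_le inf_le_left)
    (le_normalizer_inf ((inf_le_left.trans inf_le_left).trans le_normalizer)
      (le_normalizer_centralizer inf_le_right))
    fun e => C.t_iv.1 (mem_bot.1 (e ▸ mem_inf.2 ⟨C.t_mem, C.t_cent⟩))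
  have h3 := le_c_iff.2 h2
  have h4 := C.pu_eq h1 (C.z_c he.1) he.2 (h3 ⟨⟨C.t_mem, centralizer_le_normalizer' _ C.t_c⟩,
    centralizer_le_normalizer' _ C.t_cent⟩)
  exact ⟨e, ⟨C.hyp, C.syl, C.z_iv, C.z_c, C.cm, h1, he.1, C.cent_le he.2,
    fun h => C.card_lt.ne (by rw [← h4, h.pu_eq]), h4 ▸ C.max⟩, h4 ▸ h3⟩

theorem card_le (X : Subgroup G) (hX : IsPGroup 2 X) : Nat.card X ≤ Nat.card T :=
  C.syl.card_le hX le_top

/-- `C_T(t)` has index at least four. -/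
theorem not_surv {S : Subgroup G} (h1 : S ≤ T) (h2 : S ≤ 𝐜[t]) :
    ¬ Nat.card T ≤ 2 * Nat.card S := fun h =>
  C.ncm (C.hyp.surv C.t_iv C.z_iv C.zt C.cm C.L_le (C.syl.pgrp.to_le h1) h2 (h1.trans C.z_c)
    fun X hX => (C.card_le X hX).trans h)

theorem not_le : ¬ T ⊓ 𝐍[L] ≤ 𝐜[t] := fun h =>
  C.not_surv inf_le_left h (C.hyp.card_le_two C.z_iv C.cm C.z_c)

theorem z_not : z ∉ 𝐂[pu t L] := fun h => by
  have := C.pu_eq C.z_iv (mem_c.2 rfl) h (C.z_c C.t_mem)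
  exact C.card_lt.ne (by rw [← this, C.cm.pu_eq])

theorem exists_g : ∃ g ∈ T ⊓ 𝐍[L], g ∈ 𝐍[T ⊓ 𝐍[L] ⊓ 𝐜[t]] ∧ g ∉ 𝐜[t] := by
  obtain ⟨g, h1, h2⟩ := SetLike.exists_of_lt (lt_inf_normalizer (R := T ⊓ 𝐍[L] ⊓ 𝐜[t])
    (C.syl.pgrp.to_le (inf_le_left : T ⊓ 𝐍[L] ≤ T))
    (inf_le_left.lt_of_ne fun e => C.not_le (e.ge.trans inf_le_right)))
  exact ⟨g, h1.1, h1.2, fun e => h2 ⟨h1.1, e⟩⟩

end Cf0

namespace Cf

variable {z t : G} {L T : Subgroup G} (C : Cf z t L T)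
include C

theorem E_le : T ⊓ 𝐂[pu t L] ≤ T ⊓ 𝐍[L] ⊓ 𝐜[t] := fun _ hx =>
  have h1 := mem_inf.2 ⟨hx.1, centralizer_le_normalizer' _ (C.cent_le hx.2)⟩
  ⟨h1, C.cen ⟨h1, centralizer_le_normalizer' _ hx.2⟩⟩

theorem pu_eq' {e : G} (he : Iv e) (h : e ∈ T ⊓ 𝐂[pu t L]) : pu e L = pu t L :=
  C.pu_eq he (C.z_c h.1) h.2 (c_comm (C.E_le h).2)

/-- `C_T(pu t L)` is a TI-subgroup of `N_T(L)`. -/
theorem ti {g x : G} (hg : g ∈ T ⊓ 𝐍[L]) (hg' : g ∉ 𝐜[t]) (hx : x ∈ T ⊓ 𝐂[pu t L])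
    (h : g * x * g⁻¹ ∈ 𝐂[pu t L]) : x = 1 := by
  by_contra h1
  obtain ⟨n, he⟩ := (p2_of_mem C.syl.pgrp hx.1).exists_iv h1
  have h2 := C.pu_eq' he (pow_mem hx n)
  have h3 := C.pu_eq' (he.conj g) (mem_inf.2 ⟨T.mul_mem (T.mul_mem hg.1 (T.pow_mem hx.1 n))
    (T.inv_mem hg.1), by rw [← conj_pow]; exact pow_mem h n⟩)
  refine hg' (C.cen ⟨hg, cj_eq_iff.1 ?_⟩)
  rw [← h2, ← pu_conj, cj_of_mem_normalizer hg.2, h3, h2]

end Cf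

theorem Hyp.exists_cf (H : Hyp G) {z : G} (hz : Iv z) {L T : Subgroup G} (hT : IsSyl 2 T ⊤)
    (hc : T ≤ 𝐜[z]) (hL : Cm z L) {s : G} (hs : Iv s) (h1 : s ∈ 𝐂[L]) (h2 : ¬ Cm s L) :
    ∃ (z t : G) (T : Subgroup G), Cf z t L T := by
  obtain ⟨z, T, hz, hT, hc, hL, hQ⟩ := H.exists_good hz hT hc hL
  have key : ∀ X : Subgroup G, T ⊓ 𝐂[L] ≤ X → X ≤ 𝐂[L] → ∀ s ∈ X, Iv s → ∃ c ∈ X,
      c * s * c⁻¹ ∈ T ⊓ 𝐂[L] ∧ Nat.card (pu (c * s * c⁻¹) L) = Nat.card (pu s L) ∧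
        (Cm (c * s * c⁻¹) L → Cm s L) := fun X h3 h4 s h5 hs => by
    obtain ⟨c, h6, h7⟩ := (hQ.mono h3 h4).exists_cj_le hs.p2.pgrp (zpowers_le.2 h5)
    have h8 := centralizer_le_normalizer' L (h4 h6)
    refine ⟨c, h6, h7 (conj_mem_cj c (mem_zpowers s)), ?_, fun e => ?_⟩
    · rw [← card_cj c (pu s L), ← pu_conj, cj_of_mem_normalizer h8]
    · have := e.conj c⁻¹
      rwa [cj_of_mem_normalizer (inv_mem h8), show c⁻¹ * (c * s * c⁻¹) * c⁻¹⁻¹ = s by group] at this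
  obtain ⟨c, -, h3, -, h4⟩ := key _ inf_le_right le_rfl s h1 hs
  obtain ⟨t, ht, hm⟩ := Set.exists_max_image {e : G | Iv e ∧ e ∈ 𝐜[z] ∧ e ∈ 𝐂[L]}
    (fun e => Nat.card (pu e L)) (Set.toFinite _) ⟨_, hs.conj c, hc h3.1, h3.2⟩
  obtain ⟨d, -, h5, h6, -⟩ := key (𝐜[z] ⊓ 𝐂[L]) (inf_le_inf_right _ hc) inf_le_right t ht.2 ht.1
  obtain ⟨e, he⟩ := Cf0.exists_cf ⟨H, hT, hz, hc, hL, ht.1.conj d, h5.1, h5.2, fun e =>
    ((H.card_lt_pu hz (hs.conj c) (c_comm (hc h3.1)) hL h3.2 fun e => h2 (h4 e)).trans_le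
      (hm _ ⟨hs.conj c, hc h3.1, h3.2⟩)).ne (by rw [← h6, e.pu_eq]),
    fun e h7 h8 h9 => h6 ▸ hm e ⟨h7, h8, h9⟩⟩
  exact ⟨z, e, T, he⟩

end Cfsg.Agent.Q16
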