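import Mathlib
import Cfsg.Agent.Q16.Br
import Cfsg.Agent.Transfer.Frobenius

/-!
A simple component `L` of the centraliser of a `2`-central involution `z`, normalised by the Sylow
subgroup `T`, contains no `2`-central conjugate of `z` if `JF r n L` and `2 n ≤ |T|`.

Proof. Burnside: `T` and `T^g` are Sylow in `C(z^g)`, so `z^g = z^y` with `y ∈ N(T)`; `y ^ m` (`m` odd)
a `2`-element lies in `T`, so take `y` of odd order (or: keep `y` with `y ^ 2 ∈ N(X) → y ∈ N(X)` for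
`X` normalised by `T`). Put `z i = y^i z y^-i ∈ Z(T)`, `L i = cj(y^i, L)`, so `Cm (z i) (L i)`,
`T ≤ N(L i)`, `z (i+1) ∈ L i`; `U i = T ⊓ L i` is Sylow in `L i` (`Cm.syl`), `Q i = T ⊓ C(L i) ∋ z i`.
`Z(L) = 1` (simple, `Cm.not_le`). (*) An involution `e ∈ Z(T)` centralising `L i` has `Cm e (L i)`
(`Hyp.surv` with `S = T`). `L 0 ≠ L 1` (`z 1 ∈ L 0` centralises `L 1`), so `z 0 ≠ z 1`, and
`L 0 ≠ L 2` (else `y² ∈ N(L)`, `y ∈ N(L)`).
A. `¬ L 0 ≤ C(L 1)`: else also `L 1 ≤ C(L 2)`, `z 2 ∈ L 1` centralises `L 0`, so `L 0`, `L 2` are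
components of `C(z 2)` by (*) and commute. Frobenius (`Transfer.hasNormalPComplement_subgroup_iff_local`;
a perfect group of even order has no normal `2`-complement) gives `1 ≠ V ≤ L 0` a `2`-group and an
element `b ∈ N(V) ∩ L 0` of odd prime order `p` (a power of an odd order element `≠ 1`);
`exists_EA_two` in `L 1 L 2 ≤ C(V)` and `QT.lt_card_sup_zpowers` (`b ∉ L 1 L 2`: `b` centralises
`L 1 L 2`, whose centre is trivial) contradict `Hyp.rk`.
B. `Q 0 ⊓ Q 1 = ⊥`: else `exists_iv_cent` gives `e ∈ Z(T)` in it, `L 0`, `L 1` are components of `C(e)`.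
`alt` left: `T → MulAut (L i)` (`normalizerMonoidHom`) has kernel `Q i`, images `B i` with
`|B i|² < 2 n` (`JF.congr` along conjugation), `|T| ≤ |B 0| |B 1| < 2 n`.
`alt` right: `Z(U i) = ⟨z (i+1)⟩`. `U 0 ⊓ U 1 ⊴ T` has no central involution (`z 1 ≠ z 2`), so it is
trivial and `[U 0, U 1] = 1`; the image of `U 1` in `MulAut (L 0)` fixes `U 0`, so has order
`< |U 0| = |U 1|`, so `U 1 ⊓ Q 0 ≠ ⊥`, it is normal in `T`, so contains `z 2`; by (*) `L 0`, `L 2`
commute, so `z 1 ∈ Q 1 ⊓ Q 2`, against B conjugated by `y`.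
-/

set_option autoImplicit false
set_option linter.unusedSectionVars false
set_option linter.style.haveILetI false

namespace Cfsg.Agent.Q16

open Cfsg Subgroup Cfsg.Agent.PLocal Cfsg.Agent.PLocal.Amb Cfsg.Agent.Trm
open scoped commutatorElement

variable {G : Type*} [Group G] [Finite G]

namespace TrN

/-- the situation, invariant under conjugation by `y` -/
structure St (T : Subgroup G) (y z : G) (L : Subgroup G) : Prop where
  H : Hyp G
  syl : IsSyl 2 T ⊤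
  ny : y ∈ 𝐍[T]
  odd : ∃ m, Odd m ∧ y ^ m ∈ T
  iv : Iv z
  c : T ≤ 𝐜[z]
  cm : Cm z L
  n : T ≤ 𝐍[L]
  simp : IsSimpleGroup L
  mem : y * z * y⁻¹ ∈ L

variable {T L X : Subgroup G} {y z e : G}

theorem mem_T (hT : IsSyl 2 T ⊤) (he : Iv e) (h : T ≤ 𝐜[e]) : e ∈ T :=
  hT.le_of_normalizes he.p2.pgrp le_top (zpowers_le.2 (centralizer_le_normalizer' _ (le_c_iff.1 h)))
    (mem_zpowers e)

/-- the action on `L` -/
def act (h : X ≤ 𝐍[L]) : X →* MulAut L := (normalizerMonoidHom L).comp (inclusion h)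

theorem card_act (h : X ≤ 𝐍[L]) : Nat.card (act h).range = (𝐂[L]).relIndex X := by
  rw [← index_ker, act, ← MonoidHom.comap_ker, normalizerMonoidHom_ker]; rfl

namespace St

variable (s : St T y z L)
include s

theorem cjT : cj(y, T) = T := cj_of_mem_normalizer s.ny

theorem conj : St T y (y * z * y⁻¹) cj(y, L) :=
  { s with
    iv := s.iv.conj y
    c := by rw [c_conj, ← s.cjT]; exact cj_mono y s.c
    cm := s.cm.conj y
    n := by rw [normalizer_cj, ← s.cjT]; exact cj_mono y s.n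
    simp := have := s.simp; ((MulAut.conj y).subgroupMap L).symm.isSimpleGroup
    mem := conj_mem_cj y s.mem }

theorem zl {x : G} (h1 : x ∈ L) (h2 : x ∈ 𝐂[L]) : x = 1 := by
  have := s.simp
  rcases (inferInstance : (center L).Normal).eq_bot_or_eq_top with r | r
  · have k : (⟨x, h1⟩ : L) ∈ center L := mem_center_iff.2 fun a => Subtype.ext (h2 a a.2)
    rw [r, mem_bot] at k
    exact congrArg Subtype.val k
  · exact absurd r (qs_center_ne_top s.cm.qs)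

theorem surv (he : Iv e) (h : T ≤ 𝐜[e]) (h' : e ∈ 𝐂[L]) : Cm e L :=
  s.H.surv he s.iv (h (mem_T s.syl s.iv s.c)) s.cm (le_c_iff.2 h') s.syl.pgrp h s.c fun R hR =>
    (s.syl.card_le hR le_top).trans (by omega)

theorem ne1 : L ≠ cj(y, L) := fun r => s.conj.iv.1 (s.zl s.mem (r ▸ s.conj.cm.cent))

theorem nez : z ≠ y * z * y⁻¹ := fun r => s.conj.iv.1 (s.zl s.mem (r ▸ s.cm.cent))

theorem ne2 : L ≠ cj(y, cj(y, L)) := fun r => by
  obtain ⟨m, ⟨k, rfl⟩, hm⟩ := s.odd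
  rw [← cj_mul, eq_comm, cj_eq_iff, ← pow_two] at r
  have := s.n hm
  rw [pow_succ, pow_mul, mul_mem_cancel_left (pow_mem r k)] at this
  exact s.ne1 (cj_of_mem_normalizer this).symm

theorem le2 (h : y * (y * z * y⁻¹) * y⁻¹ ∈ 𝐂[L]) : L ≤ 𝐂[cj(y, cj(y, L))] :=
  ((s.surv s.conj.conj.iv s.conj.conj.c h).eq_or s.conj.conj.cm).resolve_left s.ne2

theorem not_le : ¬ L ≤ 𝐂[cj(y, L)] := fun h01 => by
  have h12 : cj(y, L) ≤ 𝐂[cj(y, cj(y, L))] := by rw [centralizer_cj]; exact cj_mono y h01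
  have h02 := s.le2 (le_centralizer_iff.1 h01 s.conj.mem)
  have hC : cj(y, L) ⊔ cj(y, cj(y, L)) ≤ 𝐂[L] :=
    sup_le (le_centralizer_iff.1 h01) (le_centralizer_iff.1 h02)
  have := s.simp
  have hn : ¬ HasNormalPComplement 2 L := fun r => by
    obtain ⟨N, hN, h1, k, h2⟩ := Transfer.hasNormalPComplement_iff_exists_normal.1 r
    rcases hN.eq_bot_or_eq_top with rfl | rfl
    · exact qs_not_nilpotent s.cm.qs (IsPGroup.of_card (index_bot.symm.trans h2)).isNilpotent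
    · rw [card_top] at h1
      exact (Nat.coprime_two_right.1 h1).not_two_dvd_nat s.cm.two_dvd
  rw [Transfer.hasNormalPComplement_subgroup_iff_local] at hn
  push Not at hn
  obtain ⟨V, hV, pV, V0, b, hb, nb, ob, cb⟩ := hn
  have b1 : orderOf b ≠ 1 := fun r => cb (by rw [orderOf_eq_one_iff.1 r]; exact one_mem _)
  have hp := Nat.minFac_prime b1
  set p := (orderOf b).minFac
  have hd : p ∣ orderOf b := Nat.minFac_dvd _
  have p2 : p ≠ 2 := fun r => (Nat.coprime_two_right.1 ob).not_two_dvd_nat (r ▸ hd)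
  have ox : orderOf (b ^ (orderOf b / p)) = p := orderOf_pow_orderOf_div (orderOf_pos b).ne' hd
  set x := b ^ (orderOf b / p)
  have hx : x ∈ L := pow_mem hb _
  have dL : p ∣ Nat.card L := ox ▸ orderOf_dvd_natCard L hx
  obtain ⟨E, hE, eE, kE⟩ := exists_EA_two hp p2 s.conj.cm.perf s.conj.conj.cm.perf
    (by rwa [card_cj]) (by rwa [card_cj, card_cj]) h12
  haveI := Fact.mk hp
  obtain ⟨e3, k3⟩ := QT.lt_card_sup_zpowers eE kE (ox ▸ pow_orderOf_eq_one x)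
    (le_centralizer_iff.1 (hE.trans hC) hx) fun r => by
      have := s.zl hx (hC (hE r))
      rw [this, orderOf_one] at ox
      exact hp.one_lt.ne ox
  exact s.H.rk pV V0 hp p2 e3 k3 (sup_le ((hE.trans hC).trans
    ((centralizer_anti hV).trans (centralizer_le_normalizer' _))) (zpowers_le.2 (pow_mem nb _)))

theorem qq : 𝐂[L] ⊓ 𝐂[cj(y, L)] ⊓ T = ⊥ := by
  by_contra r
  obtain ⟨e, he, ie, ce⟩ := exists_iv_cent s.syl.pgrp (s.syl.pgrp.to_le inf_le_right)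
    (le_normalizer_inf (le_normalizer_inf (le_normalizer_centralizer s.n)
      (le_normalizer_centralizer s.conj.n)) le_normalizer) r
  exact s.not_le (((s.surv ie (le_c_iff.2 ce) he.1.1).eq_or
    (s.conj.surv ie (le_c_iff.2 ce) he.1.2)).resolve_left s.ne1)

theorem sylU : IsSyl 2 (T ⊓ L) L := s.cm.syl (s.syl.mono s.c le_top)

theorem left {n : ℕ} (h : ∀ B : Subgroup (MulAut L), IsPGroup 2 B → Nat.card B * Nat.card B < 2 * n) :
    Nat.card T < 2 * n := by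
  have h1 := h _ (s.syl.pgrp.of_surjective _ (act s.n).rangeRestrict_surjective)
  have h2 : (𝐂[cj(y, L)]).relIndex T = (𝐂[L]).relIndex T := by
    rw [centralizer_cj]
    conv_lhs => rw [← s.cjT]
    exact relIndex_map_map_of_injective _ _ (MulAut.conj y).injective
  have h3 := relIndex_inf_le (H := 𝐂[L]) (K := 𝐂[cj(y, L)]) (L := T)
  rw [← inf_relIndex_right, s.qq, relIndex_bot_left, h2] at h3
  rw [card_act] at h1
  omega

theorem right (h : ∀ U : Sylow 2 L, Nat.card (center U) = 2 ∧ ∀ B : Subgroup (MulAut L),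
    IsPGroup 2 B → (∀ β ∈ B, ∀ u ∈ U, β u = u) → Nat.card B < Nat.card U) : False := by
  obtain ⟨U, hU⟩ := s.sylU.exists_sylow
  obtain ⟨h1, h2⟩ := h U
  have mU : ∀ u : L, u ∈ U ↔ (u : G) ∈ T ⊓ L := fun u => by
    rw [← SetLike.mem_coe, ← Sylow.coe_coe, hU]; rfl
  have k0 : ∀ e ∈ L, Iv e → T ≤ 𝐜[e] → e = y * z * y⁻¹ := by
    have k : ∀ e (he : e ∈ L), Iv e → T ≤ 𝐜[e] → ∃ c : center U, c ≠ 1 ∧ ((c : U) : L) = ⟨e, he⟩ :=
      fun e he ie ce => ⟨⟨⟨⟨e, he⟩, (mU _).2 ⟨mem_T s.syl ie ce, he⟩⟩, mem_center_iff.2 fun u =>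
        Subtype.ext (Subtype.ext (mem_c.1 (ce ((mU _).1 u.2).1)))⟩,
        fun r => ie.1 (congrArg (fun c : center U => (((c : U) : L) : G)) r), rfl⟩
    intro e he ie ce
    obtain ⟨c, c1, c2⟩ := k e he ie ce
    obtain ⟨d, d1, d2⟩ := k _ s.mem s.conj.iv s.conj.c
    obtain ⟨w, -, hw⟩ := (Nat.card_eq_two_iff' (1 : center U)).1 h1
    rw [hw c c1, ← hw d d1, d2] at c2
    exact (congrArg Subtype.val c2).symm
  have k1 : ∀ e ∈ cj(y, L), Iv e → T ≤ 𝐜[e] → e = y * (y * z * y⁻¹) * y⁻¹ := fun e he ie ce => by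
    rw [← k0 _ (mem_cj.1 he) (by simpa using ie.conj y⁻¹) (by
      rw [show y⁻¹ * e * y = y⁻¹ * e * y⁻¹⁻¹ by rw [inv_inv], c_conj, le_cj_iff, inv_inv, s.cjT]
      exact ce)]
    group
  have n0 : T ≤ 𝐍[T ⊓ L] := le_normalizer_inf le_normalizer s.n
  have n1 : T ≤ 𝐍[T ⊓ cj(y, L)] := le_normalizer_inf le_normalizer s.conj.n
  have h3 : T ⊓ cj(y, L) ⊓ (T ⊓ L) = ⊥ := by
    by_contra r
    obtain ⟨e, he, ie, ce⟩ := exists_iv_cent s.syl.pgrp (s.syl.pgrp.to_le (inf_le_left.trans inf_le_left))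
      (le_normalizer_inf n1 n0) r
    exact s.conj.nez ((k0 e he.2.2 ie (le_c_iff.2 ce)).symm.trans (k1 e he.1.2 ie (le_c_iff.2 ce)))
  have h4 : T ⊓ cj(y, L) ≤ 𝐂[T ⊓ L] := commutator_eq_bot_iff_le_centralizer.1 (eq_bot_iff.2
    (h3 ▸ le_inf (le_normalizer_iff_commutator_le_left.1 (inf_le_left.trans n1))
      (le_normalizer_iff_commutator_le_right.1 (inf_le_left.trans n0))))
  have h5 := h2 _ ((s.syl.pgrp.to_le (inf_le_left : T ⊓ cj(y, L) ≤ T)).of_surjective _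
    (act (inf_le_left.trans s.n)).rangeRestrict_surjective) (by
      rintro _ ⟨x, rfl⟩ u hu
      exact Subtype.ext (cent_conj (h4 x.2) ((mU u).1 hu)))
  have h6 : Nat.card U = Nat.card ↥(T ⊓ cj(y, L)) := by
    conv_rhs => rw [← s.cjT, ← cj_inf, card_cj]
    rw [← Grp.card_subgroupOf_of_le (inf_le_right : T ⊓ L ≤ L), ← hU]
  rw [card_act, h6, ← inf_relIndex_right] at h5
  obtain ⟨e, he, ie, ce⟩ := exists_iv_cent s.syl.pgrp
    (s.syl.pgrp.to_le (inf_le_right.trans inf_le_left : 𝐂[L] ⊓ (T ⊓ cj(y, L)) ≤ T))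
    (le_normalizer_inf (le_normalizer_centralizer s.n) n1) fun r => by
      rw [r, relIndex_bot_left] at h5
      exact h5.false
  have h7 := s.le2 (k1 e he.2.2 ie (le_c_iff.2 ce) ▸ he.1)
  exact s.conj.iv.1 (mem_bot.1 (s.conj.qq ▸ ⟨⟨s.conj.cm.cent, h7 s.mem⟩,
    mem_T s.syl s.conj.iv s.conj.c⟩))

end St

end TrN

theorem Hyp.trN (H : Hyp G) {T L : Subgroup G} (hT : IsSyl 2 T ⊤) {z g : G} (hz : Iv z)
    (hc : T ≤ 𝐜[z]) (hL : Cm z L) (hn : T ≤ 𝐍[L]) {r n : ℕ} (hJ : JF r n L)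
    (hb : 2 * n ≤ Nat.card T) (h1 : g * z * g⁻¹ ∈ L) (h2 : T ≤ 𝐜[g * z * g⁻¹]) : False := by
  obtain ⟨c, hc', e⟩ := (hT.mono h2 le_top).exists_cj_le (isPGroup_cj g hT.pgrp)
    (by rw [c_conj]; exact cj_mono g hc)
  rw [← cj_mul] at e
  have ny := mem_normalizer_of_cj_le e
  obtain ⟨m, hm, p⟩ := exists_odd_pow_p2 (c * g)
  have s : TrN.St T (c * g) z L := ⟨H, hT, ny, ⟨m, hm, hT.le_of_normalizes p.pgrp le_top
    (zpowers_le.2 (pow_mem ny m)) (mem_zpowers _)⟩, hz, hc, hL, hn, hJ.simple, by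
      rwa [show c * g * z * (c * g)⁻¹ = c * (g * z * g⁻¹) * c⁻¹ by group, conj_of_mem_c hc']⟩
  exact hJ.alt.elim (fun h => (s.left h).not_ge hb) s.right

end Cfsg.Agent.Q16
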