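import Mathlib
import Cfsg.Agent.Q16.Cfg

/-!
The facts of the sporadic track in ambient form.
-/

set_option autoImplicit false
set_option linter.unusedSectionVars false
set_option linter.style.haveILetI false

namespace Cfsg.Agent.Q16

open Cfsg Subgroup Cfsg.Agent.PLocal Cfsg.Agent.PLocal.Amb Cfsg.Agent.Trm
open scoped commutatorElement

variable {G : Type*} [Group G] [Finite G] {K L : Subgroup G} {r n : ℕ}

theorem mem_Rr {Y : Subgroup G} {y : G} (h : y ∈ Y) {k : ℕ} (hk : y ^ r ^ k = 1) : y ∈ Rr r Y :=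
  subset_closure ⟨h, k, hk⟩

theorem Rr_le_iff {Y X : Subgroup G} :
    Rr r Y ≤ X ↔ ∀ y ∈ Y, ∀ k : ℕ, y ^ r ^ k = 1 → y ∈ X :=
  (closure_le _).trans ⟨fun h _ h1 k h2 => h ⟨h1, k, h2⟩, fun h y ⟨h1, k, h2⟩ => h y h1 k h2⟩

theorem Rr_le (Y : Subgroup G) : Rr r Y ≤ Y := Rr_le_iff.2 fun _ h _ _ => h

theorem le_normalizer_Rr (Y : Subgroup G) : Y ≤ 𝐍[Rr r Y] := fun g hg => by
  rw [← cj_eq_iff, ← Rr_map, cj_of_mem hg]

theorem coprime_of_pow {y : G} {k m : ℕ} (hk : y ^ r ^ k = 1) (h : r.Coprime m) :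
    (orderOf y).Coprime m :=
  Nat.Coprime.coprime_dvd_left (orderOf_dvd_of_pow_eq_one hk) (h.pow_left k)

theorem XFr.cen' (h : XFr r n G) {c : G} (hc : TwoC c) : c ∈ Rr r 𝐜[c] ∧
    ∃ g ∈ 𝐜[c], 𝐜[c] ≤ Rr r 𝐜[c] ⊔ zpowers g := by
  obtain ⟨d, h1, h2, g, h3, h4⟩ := h.cen
  obtain ⟨x, rfl⟩ := isConj_iff.1 (h.cls d c h1 hc)
  rw [c_conj, Rr_map]
  refine ⟨conj_mem_cj x h2, _, conj_mem_cj x h3, (cj_mono x h4).trans_eq ?_⟩
  rw [cj_sup, MonoidHom.map_zpowers]; rfl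

/-- The map `L → L Z(K) / Z(K)`. -/
def toBar (h : L ≤ K) : L →* bar K L :=
  ((pr K).comp (inclusion h)).codRestrict _ fun l => ⟨inclusion h l, l.2, rfl⟩

theorem toBar_surj (h : L ≤ K) : Function.Surjective (toBar h) := by
  rintro ⟨_, ⟨l, hl, rfl⟩⟩
  exact ⟨⟨l, hl⟩, rfl⟩

theorem toBar_eq_one (h : L ≤ K) {l : L} : toBar h l = 1 ↔ (l : G) ∈ 𝐂[K] :=
  Subtype.ext_iff.trans pr_eq_one

theorem center_eq_bot_of {X : Type*} [Group X] (hs : IsSimpleGroup X) (hq : IsQuasisimple X) :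
    center X = ⊥ := (inferInstance : (center X).Normal).eq_bot_or_eq_top.resolve_right
      (qs_center_ne_top hq)

theorem mem_cent_of_simple (h : L ≤ K) (hs : IsSimpleGroup (bar K L)) (hq : IsQuasisimple (bar K L))
    {l : G} (h1 : l ∈ L) (h2 : l ∈ 𝐂[L]) : l ∈ 𝐂[K] := by
  refine (toBar_eq_one h (l := ⟨l, h1⟩)).1 (mem_bot.1 (center_eq_bot_of hs hq ▸
    mem_center_iff.2 fun x => ?_))
  obtain ⟨x, rfl⟩ := toBar_surj h x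
  rw [← map_mul, ← map_mul]
  exact congrArg _ (Subtype.ext (mem_cent.1 h2 x x.2))

theorem JF.toBar (h : L ≤ K) (hJ : JF r n (bar K L)) (hq : IsQuasisimple (bar K L)) :
    JF r n (Bar L) := by
  refine hJ.congr ((QuotientGroup.quotientMulEquivOfEq ?_).trans
    (QuotientGroup.quotientKerEquivOfSurjective _ (toBar_surj h))).symm
  ext l
  rw [MonoidHom.mem_ker, toBar_eq_one, ← QuotientGroup.eq_one_iff]
  exact pr_eq_one.trans ⟨mem_cent_of_simple h hJ.simple hq l.2, fun e => centralizer_anti h e⟩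

theorem JF.congr_bar {X Y : Type*} [Group X] [Group Y] [Finite X] (hJ : JF r n (X ⧸ center X))
    (e : X ≃* Y) : JF r n (Y ⧸ center Y) := by
  refine hJ.congr (QuotientGroup.congr _ _ e ?_)
  ext x
  obtain ⟨x, rfl⟩ := e.surjective x
  exact (mem_map_iff_mem (f := (e : X →* Y)) e.injective).trans
    (MulEquivClass.apply_mem_center_iff e).symm

theorem JF.cj (hJ : JF r n (Bar L)) (g : G) : JF r n (Bar cj(g, L)) :=
  hJ.congr_bar ((MulAut.conj g).subgroupMap L)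

theorem JF.of_bar (hJ : JF r n (Bar L)) (hz : ∀ l ∈ L, l ∈ 𝐂[L] → l = 1) : JF r n L :=
  hJ.congr (MulEquiv.ofBijective (pr L) ⟨(injective_iff_map_eq_one _).2 fun l hl =>
    Subtype.ext (hz l l.2 (pr_eq_one.1 hl)), pr_surj L⟩).symm

theorem JF.dvd_card (hJ : JF r n (Bar L)) : r ∣ Nat.card L :=
  hJ.dvd.trans (card_quotient_dvd_card _)

theorem rh_pow {y : G} (hy : y ∈ 𝐍[L]) {m : ℕ} (h : y ^ m = 1) : rh L ⟨y, hy⟩ ^ m = 1 := by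
  rw [← map_pow, show (⟨y, hy⟩ ^ m : 𝐍[L]) = 1 from Subtype.ext h, map_one]

theorem JF.inn (hJ : JF r n (Bar L)) (hr : r.Prime) {y : G} (hy : y ∈ 𝐍[L]) {k : ℕ}
    (hk : y ^ r ^ k = 1) : rh L ⟨y, hy⟩ ∈ Inn (Bar L) := by
  rw [← QuotientGroup.eq_one_iff, ← orderOf_eq_one_iff]
  refine (coprime_of_pow (k := k) ?_ (hr.coprime_iff_not_dvd.2 hJ.out)).eq_one_of_dvd
    (orderOf_dvd_natCard _)
  rw [← QuotientGroup.mk_pow, rh_pow hy hk, QuotientGroup.mk_one]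

theorem JF.exists_mem (hJ : JF r n (Bar L)) (hr : r.Prime) (hL : ⁅L, L⁆ = L) {y : G} (hy : y ∈ 𝐍[L])
    {k : ℕ} (hk : y ^ r ^ k = 1) : ∃ l ∈ L, l⁻¹ * y ∈ 𝐂[L] := by
  obtain ⟨a, ha⟩ := hJ.inn hr hy hk
  obtain ⟨l, rfl⟩ := pr_surj L a
  exact ⟨l, l.2, (rh_eq hL).1 ((rh_of_mem l).trans ha)⟩

theorem qs_bar (hL : IsQuasisimple L) : IsQuasisimple (Bar L) :=
  qs_of_surjective hL _ (pr_surj L) hL.2.toNontrivial

/-- A central `2`-element of `Y` in `O^{r'}(Y)` centralises `L`. -/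
theorem JF.mem_cent (hJ : JF r n (Bar L)) (hr : r.Prime) (hL : IsQuasisimple L) {Y : Subgroup G}
    (hn : Rr r Y ≤ 𝐍[L]) {x : G} (h1 : x ∈ Rr r Y) (h2 : P2 x) (h3 : x ∈ 𝐂[Y]) : x ∈ 𝐂[L] := by
  haveI := Fact.mk hr
  have hi := conj_injective (center_eq_bot_of hJ.simple (qs_bar hL))
  have h4 : Rr r Y ≤ ((Inn (Bar L)).comap (rh L)).map (Subgroup.subtype _) :=
    Rr_le_iff.2 fun y hy k hk => ⟨⟨y, hn (mem_Rr hy hk)⟩, hJ.inn hr _ hk, rfl⟩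
  obtain ⟨a, ha⟩ : rh L ⟨x, hn h1⟩ ∈ Inn (Bar L) := mem_map_subtype.1 (h4 h1)
  by_contra hc
  obtain ⟨j, hj⟩ := h2
  obtain ⟨m, hm⟩ := P2.exists_iv (x := a) ⟨j, hi (by rw [map_pow, ha, rh_pow _ hj, map_one])⟩
    fun e => hc ((rh_eq_one (qsS_commutator hL)).1 (by rw [← ha, e, map_one]))
  refine hc (Rr_le_iff.2 (fun y hy k hk => ?_) h1)
  have hy' := hn (mem_Rr hy hk)
  obtain ⟨b, hb⟩ := hJ.inn hr hy' hk
  by_contra hc'
  have h5 : Commute a b := hi (by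
    rw [map_mul, map_mul, ha, hb, ← map_mul, ← map_mul]
    exact congrArg _ (Subtype.ext (cent_comm h3 hy)))
  obtain ⟨i, -, h6⟩ := (Nat.dvd_prime_pow hr).1 (orderOf_dvd_of_pow_eq_one
    (hi (by rw [map_pow, hb, rh_pow _ hk, map_one]) : b ^ r ^ k = 1))
  rcases i with _ | i
  · refine hc' ((rh_eq_one (qsS_commutator hL) (g := ⟨y, hy'⟩)).1 ?_)
    rw [← hb, orderOf_eq_one_iff.1 h6, map_one]
  · refine (hJ.no2r (a ^ m) (b ^ r ^ i) hm.2 (by rw [← pow_mul, ← pow_succ, ← h6, pow_orderOf_eq_one])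
      (h5.pow_pow _ _)).elim hm.1 (pow_ne_one_of_lt_orderOf (pow_ne_zero _ hr.ne_zero) ?_)
    exact h6 ▸ Nat.pow_lt_pow_right hr.one_lt i.lt_succ_self

theorem mem_c_of_fix (hp : ∀ x ∈ K, x ∈ 𝐂[K] → P2 x) {U : Subgroup G} (hU : IsSyl 2 U K) {y : G}
    (hy : Iv y) (hn : y ∈ 𝐍[K]) (hc : U ≤ 𝐜[y]) (k : K) (hk : rh K ⟨y, hn⟩ (pr K k) = pr K k) :
    (k : G) ∈ 𝐜[y] := by
  set F := ((fixedSubgroup (rh K ⟨y, hn⟩)).comap (pr K)).map K.subtype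
  have h1 : K ⊓ 𝐜[y] ≤ F := fun x hx => ⟨⟨x, hx.1⟩, rh_fix hx.2, rfl⟩
  have h2 := (hU.mono ((le_inf hU.le hc).trans h1) (map_subtype_le _)).sup_eq_of_pRes_le
    (pRes_le_of_pow ?_) h1
  · rw [sup_of_le_left (le_inf hU.le hc)] at h2
    exact (h2.ge ⟨k, hk, rfl⟩).2
  rintro _ ⟨k, hk, rfl⟩
  refine ⟨1, mem_inf.2 ⟨pow_mem k.2 _, c_comm (mem_c.2 (mul_inv_eq_iff_eq_mul.1 ?_))⟩⟩
  have h3 : (y * k * y⁻¹)⁻¹ * k ∈ 𝐂[K] := pr_eq.1 hk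
  have h4 : (y * k * y⁻¹)⁻¹ * k ∈ K := mul_mem (inv_mem (conj_mem_of_mem_normalizer hn k.2)) k.2
  have h5 := conj_of_mem_c (c_comm (hc (mem_syl_of_cent hU h4 h3 (hp _ h4 h3))))
  generalize hs : (y * k * y⁻¹)⁻¹ * k = s at *
  have h6 : y * k * y⁻¹ = k * s⁻¹ := by rw [← hs]; group
  have h7 : s * s = 1 := by
    have : (k : G) = k * (s * s)⁻¹ := by
      calc _ = y * y * k * (y * y)⁻¹ := by rw [hy.2]; group
        _ = y * (y * k * y⁻¹) * y⁻¹ := by group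
        _ = y * (k * s⁻¹) * y⁻¹ := by rw [h6]
        _ = y * k * y⁻¹ * (y * s * y⁻¹)⁻¹ := by group
        _ = _ := by rw [h5, h6]; group
    exact inv_eq_one.1 (left_eq_mul.1 this)
  change y * (k : G) ^ 2 ^ 1 * y⁻¹ = (k : G) ^ 2 ^ 1
  rw [← conj_pow, h6, pow_one, sq, sq, mul_assoc, ← mul_assoc s⁻¹, cent_comm (inv_mem h3) k.2,
    mul_assoc, ← mul_inv_rev, h7, inv_one, mul_one]

theorem Rr_le_bar (hr : r.Prime) (h2 : r ≠ 2) (hp : ∀ x ∈ K, x ∈ 𝐂[K] → P2 x) {Y : Subgroup G}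
    {X : Subgroup (Bar K)} (h : X ≤ bar K Y) : Rr r X ≤ bar K (Rr r Y) :=
  Rr_le_iff.2 fun b hb k hk => by
    obtain ⟨y, hy, rfl⟩ := h hb
    obtain ⟨m, hm⟩ := hp _ (y ^ r ^ k).2 (pr_eq_one.1 (by rw [map_pow, hk]))
    refine mem_of_pow_mem_of_coprime (n := 2 ^ m) ⟨y ^ 2 ^ m, mem_Rr (k := k) (pow_mem hy _) ?_,
      map_pow _ _ _⟩ (coprime_of_pow hk (((Nat.coprime_primes hr Nat.prime_two).2 h2).pow_right m))
    change ((y : G) ^ 2 ^ m) ^ r ^ k = 1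
    rw [← pow_mul, mul_comm, pow_mul]
    exact hm

/-- An involution centralising a Sylow subgroup of `K` acts as a `2`-central involution `c`, and
`c` and `Z(K)` lie in `O^{r'}(C_K(y))`. -/
theorem XFr.amb (hX : XFr r n (Bar K)) (hK : IsQuasisimple K) (hp : ∀ x ∈ K, x ∈ 𝐂[K] → P2 x)
    {U : Subgroup G} (hU : IsSyl 2 U K) {y : G} (hy : Iv y) (hn : y ∈ 𝐍[K]) (hy' : y ∉ 𝐂[K])
    (hc : U ≤ 𝐜[y]) : ∃ c : K, (c : G)⁻¹ * y ∈ 𝐂[K] ∧ TwoC (pr K c) ∧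
      (c : G) ∈ Rr r (K ⊓ 𝐜[y]) ∧ K ⊓ 𝐂[K] ≤ Rr r (K ⊓ 𝐜[y]) := by
  have hpf := qsS_commutator hK
  have ho := ord_rh hpf hy hn hy'
  obtain ⟨V, hV⟩ := syl_bar hU
  have h1 : ¬ 2 ∣ (fixedSubgroup (rh K ⟨y, hn⟩)).index := fun e => V.not_dvd_index (e.trans
    (index_dvd_of_le (hV ▸ fun _ ⟨u, hu, e⟩ => e ▸ rh_fix (hc hu))))
  obtain ⟨a, ha⟩ := (hX.xp _ ho).1 h1
  obtain ⟨c, rfl⟩ := pr_surj K a
  have h2 : TwoC (pr K c) := ⟨by rw [← ho, ← ha, orderOf_injective _ (conj_injective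
    (center_eq_bot_of hK.2 (qs_bar hK)))], by rwa [← fixed_conj, ha]⟩
  obtain ⟨h3, g, h4, h5⟩ := hX.cen' h2
  have h6 : ∀ k : K, pr K k ∈ 𝐜[pr K c] ↔ (k : G) ∈ 𝐜[y] := fun k => by
    rw [← fixed_conj, ha]
    exact ⟨mem_c_of_fix hp hU hy hn hc k, fun e => rh_fix e⟩
  have h7 : Rr r 𝐜[pr K c] ≤ bar K (Rr r (K ⊓ 𝐜[y])) := Rr_le_bar hX.prime hX.odd hp fun b hb => by
    obtain ⟨k, rfl⟩ := pr_surj K b
    exact ⟨k, mem_inf.2 ⟨k.2, (h6 k).1 hb⟩, rfl⟩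
  obtain ⟨g, rfl⟩ := pr_surj K g
  set Y := K ⊓ 𝐜[y]
  set R := Rr r Y
  have hg : (g : G) ∈ Y := ⟨g.2, (h6 g).1 h4⟩
  have h8 : Y ≤ (R ⊔ zpowers (g : G)) ⊔ (K ⊓ 𝐂[K]) := fun k hk => by
    obtain ⟨a, h8, h9⟩ : pr K ⟨k, hk.1⟩ ∈ bar K (R ⊔ zpowers (g : G)) :=
      sup_le (h7.trans (map_mono (comap_mono le_sup_left)))
        (zpowers_le.2 ⟨g, mem_sup_right (mem_zpowers _), rfl⟩) (h5 ((h6 _).2 hk.2))
    rw [← mul_inv_cancel_left (a : G) k]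
    exact mul_mem_sup h8 ⟨K.mul_mem (K.inv_mem a.2) hk.1, pr_eq.1 h9⟩
  have hZ : K ⊓ 𝐂[K] ≤ U := fun x hx => mem_syl_of_cent hU hx.1 hx.2 (hp x hx.1 hx.2)
  have hUY : U ≤ Y := le_inf hU.le hc
  have h9 : ∀ u ∈ Y, (g : G) ∈ cmod R u → Y ≤ cmod R u := fun u hu e => h8.trans (sup_le (sup_le
    (fun x hx => ⟨le_normalizer hx, by
      rw [mul_assoc, mul_assoc, ← mul_assoc u]
      exact mul_mem hx (conj_mem_of_mem_normalizer (le_normalizer_Rr Y hu) (inv_mem hx))⟩)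
    (zpowers_le.2 e)) fun x hx => ⟨le_normalizer_Rr Y (hUY (hZ hx)), by
      rw [cent_conj hx.2 hu.1, mul_inv_cancel]; exact one_mem _⟩)
  have h10 : ⁅Y, Y⁆ ≤ R := commutator_le.2 fun a ha b hb => (h9 b hb ⟨le_normalizer_Rr Y hg, by
    have := inv_mem (h9 g hg ⟨le_normalizer_Rr Y hg, by simp⟩ hb).2
    simpa [mul_assoc] using this⟩ ha).2
  have h11 : K ⊓ 𝐂[K] ≤ R := fun x hx =>
    h10 (commutator_mono hUY hUY (mem_comm_of_cent hpf hU (hZ hx) hx.2))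
  obtain ⟨a, h12, h13⟩ := h7 h3
  refine ⟨c, (rh_eq hpf).1 ((rh_of_mem c).trans ha), h2, ?_, h11⟩
  rw [← mul_inv_cancel_left (a : G) c]
  exact mul_mem h12 (h11 ⟨K.mul_mem (K.inv_mem a.2) c.2, pr_eq.1 h13⟩)

theorem Hyp.not_dvd (H : Hyp G) {d : G} (hd : Iv d) (hr : r.Prime) (h2 : r ≠ 2) {E A : Subgroup G}
    (hE : IsElementaryAbelian r E) (hc : r ^ 2 ≤ Nat.card E) (h3 : E ≤ 𝐜[d]) (h4 : A ≤ 𝐜[d])
    (h5 : A ≤ 𝐂[E]) (h6 : ∀ x ∈ E, x ∈ A → x = 1) : ¬ r ∣ Nat.card A := fun h => by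
  haveI := Fact.mk hr
  obtain ⟨b, hb⟩ := exists_prime_orderOf_dvd_card' r h
  obtain ⟨h7, h8⟩ := QT.lt_card_sup_zpowers hE hc (x := (b : G)) (by
    rw [← hb, ← orderOf_coe, pow_orderOf_eq_one]) (h5 b.2) fun e => hr.one_lt.ne (by
      rw [← hb, ← orderOf_coe, h6 b e b.2, orderOf_one])
  exact H.rk_c hd hr h2 h7 h8 (sup_le h3 (zpowers_le.2 (h4 b.2)))

theorem XFr.exists_EA (hX : XFr r n (Bar K)) (hp : ∀ x ∈ K, x ∈ 𝐂[K] → P2 x) :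
    ∃ E ≤ K, IsElementaryAbelian r E ∧ r ^ 2 ≤ Nat.card E ∧ ∀ x ∈ E, x ∈ 𝐂[K] → x = 1 := by
  haveI := Fact.mk hX.prime
  have hco := (Nat.coprime_primes hX.prime Nat.prime_two).2 hX.odd
  have : ¬ PRankLE r 1 K := fun h => by
    obtain ⟨k, hk⟩ := IsPGroup.exists_card_eq (p := 2) (G := center K) (isPGroup_iff.2 fun x hx =>
      (hp x x.2 (pr_eq_one.1 ((QuotientGroup.eq_one_iff x).2 hx))).imp fun _ e => Subtype.ext e)
    obtain ⟨A, h1, h2, h3⟩ := hX.rank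
    have := FT.R2.pRankLE_quotient_of_coprime (center K) (hk ▸ hco.symm.pow_left k) h A h1 h2
    exact (Nat.pow_lt_pow_right hX.prime.one_lt one_lt_two).not_ge (h3.trans this)
  rw [FT.R2.pRankLE_iff] at this
  push Not at this
  obtain ⟨E, h1, h2, h3⟩ := this
  refine ⟨E, h1, h2, FT.R2.pow_succ_le_card (isEA_isPGroup h2) h3, fun x h4 h5 =>
    eq_one_of_isPGroup_of_coprime (hp x (h1 h4) h5).pgrp (mem_zpowers x)
      (coprime_of_pow (k := 1) (by simpa using h2.2 x h4) hco)⟩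

theorem eq_one_of_sup {A B : Subgroup G} (h : A ≤ 𝐂[B]) (hA : ∀ x ∈ A, x ∈ 𝐂[A] → x = 1)
    (hB : ∀ x ∈ B, x ∈ 𝐂[B] → x = 1) {x : G} (hx : x ∈ A ⊔ B) (h1 : x ∈ 𝐂[A]) (h2 : x ∈ 𝐂[B]) :
    x = 1 := by
  obtain ⟨a, ha, b, hb, rfl⟩ := (mem_sup_of_le_normalizer_right
    (h.trans (centralizer_le_normalizer' B))).1 hx
  rw [hA a ha ((mul_mem_cancel_right (le_centralizer_iff.1 h hb)).1 h1),
    hB b hb ((mul_mem_cancel_left (h ha)).1 h2), one_mul]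

/-- With two conjugate components, `r`-elements normalising both lie in their product. -/
theorem Hyp.mem_sup (H : Hyp G) {y : G} (hy : Iv y) {A B : Subgroup G} (hA : Cm y A) (hB : Cm y B)
    (h : A ≤ 𝐂[B]) (hr : r.Prime) (h2 : r ≠ 2) (jA : JF r n (Bar A)) (jB : JF r n (Bar B))
    (zA : ∀ x ∈ A, x ∈ 𝐂[A] → x = 1) (zB : ∀ x ∈ B, x ∈ 𝐂[B] → x = 1) {b : G} (hb : b ∈ 𝐜[y])
    (nA : b ∈ 𝐍[A]) (nB : b ∈ 𝐍[B]) {k : ℕ} (hk : b ^ r ^ k = 1) : b ∈ A ⊔ B := by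
  obtain ⟨E, h3, h4, h5⟩ := exists_EA_two hr h2 hA.perf hB.perf jA.dvd_card jB.dvd_card h
  have h6 := H.not_dvd hy hr h2 (A := 𝐜[y] ⊓ 𝐂[A ⊔ B]) h4 h5 (h3.trans (sup_le hA.le hB.le))
    inf_le_left (inf_le_right.trans (centralizer_anti h3)) fun x h6 h7 =>
      eq_one_of_sup h zA zB (h3 h6) (centralizer_anti le_sup_left h7.2)
        (centralizer_anti le_sup_right h7.2)
  obtain ⟨l, hl, h7⟩ := jA.exists_mem hr hA.perf nA hk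
  obtain ⟨m, hm, h8⟩ := jB.exists_mem hr hB.perf nB hk
  have h9 : (l * m)⁻¹ * b ∈ 𝐜[y] ⊓ 𝐂[A ⊔ B] := by
    refine mem_inf.2 ⟨mul_mem (inv_mem (mul_mem (hA.le hl) (hB.le hm))) hb, ?_⟩
    rw [Amb.centralizer_sup]
    refine mem_inf.2 ⟨?_, ?_⟩
    · rw [mul_inv_rev, mul_assoc]
      exact mul_mem (inv_mem (le_centralizer_iff.1 h hm)) h7
    · rw [cent_comm (h hl) hm, mul_inv_rev, mul_assoc]
      exact mul_mem (inv_mem (h hl)) h8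
  have h10 : l * m ∈ A ⊔ B := mul_mem_sup hl hm
  refine mem_of_pow_mem_of_coprime ?_ (coprime_of_pow hk (hr.coprime_iff_not_dvd.2 h6))
  have h11 : Commute (l * m) ((l * m)⁻¹ * b) := Trm.mem_cent.1 h9.2 _ h10
  rw [← mul_inv_cancel_left (l * m) b, h11.mul_pow,
    orderOf_dvd_iff_pow_eq_one.1 (Subgroup.orderOf_dvd_natCard _ h9), mul_one]
  exact pow_mem h10 _

end Cfsg.Agent.Q16
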