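import Mathlib
import Cfsg.Agent.Q16.Defs
import Cfsg.Agent.KSG.SymCoxeter
import Cfsg.Agent.PLocal.FStarP

/-! Components of groups with a normal symmetric subgroup or a large normal `2`-subgroup. -/

set_option autoImplicit false

namespace Cfsg.Agent.Q16.HSx

open Subgroup Cfsg Cfsg.Agent.PLocal Cfsg.Agent.PLocal.Amb Equiv
open scoped commutatorElement

variable {H : Type*} [Group H] [Finite H]

theorem solv_two {Q : Subgroup H} (hQ : IsPGroup 2 Q) : Group.IsSolvable Q :=
  haveI := hQ.isNilpotent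
  inferInstance

theorem noComp_of {C Q J : Subgroup H} (hQ : IsPGroup 2 Q) (h1 : Q ≤ C)
    (h2 : C ≤ normalizer (Q : Set H)) (k : ℕ)
    (h3 : Nat.card (centralizer (Q : Set H)) = 2 ^ k) : ¬ IsComponentOf J C := fun hJ =>
  qs_not_solvable ((comp_subgroupOf_iff hJ.1).1 hJ.2).2 (solv_two ((IsPGroup.of_card h3).to_le
    (commutator_eq_bot_iff_le_centralizer.1
      (comp_subgroupOf_commute_of_solvable hJ.1 h1 hJ.2 (solv_two hQ) (hJ.1.trans h2)))))

omit [Finite H] in
theorem sym_hom {n : ℕ} (hn : 4 ≤ n) (t : Fin n → H) (h1 : ∀ i, t i * t i = 1)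
    (h2 : ∀ i j : Fin n, (i : ℕ) + 1 < j → Commute (t i) (t j))
    (h3 : ∀ i j : Fin n, (i : ℕ) + 1 = j → t i * t j * t i = t j * t i * t j)
    {i j : Fin n} (hne : t i * t j ≠ 1) : ∃ φ : Perm (Fin (n + 1)) →* H, Function.Injective φ ∧
      (∀ i : Fin n, φ (swap i.castSucc i.succ) = t i) ∧ ∀ K, (∀ i, t i ∈ K) → φ.range ≤ K := by
  obtain ⟨φ, hφ⟩ := KSG.exists_hom_perm_of_rels t h1 h2 h3
  refine ⟨φ, ?_, hφ, fun K hK => ?_⟩
  · rw [← MonoidHom.ker_eq_bot_iff]
    by_contra hk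
    have := Perm.alternatingGroup_le_of_normal (α := Fin (n + 1)) (by simp; omega)
      ((Subgroup.nontrivial_iff_ne_bot φ.ker).2 hk)
    refine hne ?_
    rw [← hφ, ← hφ, ← map_mul]
    exact this (Perm.mem_alternatingGroup.2 (by
      rw [map_mul, Perm.sign_swap (Fin.castSucc_lt_succ).ne, Perm.sign_swap (Fin.castSucc_lt_succ).ne]
      simp))
  · rintro _ ⟨σ, rfl⟩
    have : (⊤ : Submonoid (Perm (Fin (n + 1)))) ≤ (K.comap φ).toSubmonoid := by
      rw [← Perm.mclosure_swap_castSucc_succ, Submonoid.closure_le]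
      rintro _ ⟨i, rfl⟩
      change φ _ ∈ K
      rw [hφ]; exact hK i
    exact this (Submonoid.mem_top σ)

theorem comp_eq {α : Type*} [Fintype α] [DecidableEq α] (h5 : 5 ≤ Nat.card α) {φ : Perm α →* H}
    (hφ : Function.Injective φ) {C J : Subgroup H} (h1 : φ.range ≤ C)
    (h2 : C ≤ normalizer (φ.range : Set H)) (k : ℕ) (h3 : Nat.card C = 2 ^ k * Nat.card (Perm α))
    (hJ : IsComponentOf J C) : J = (alternatingGroup α).map φ := by
  have hq := ((comp_subgroupOf_iff hJ.1).1 hJ.2).2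
  have hp : ⁅J, J⁆ = J := qsS_commutator hq
  have hn : (φ.range.subgroupOf C).Normal := (normal_subgroupOf_iff_le_normalizer h1).2 h2
  have hi : (φ.range.subgroupOf C).index = 2 ^ k := by
    have e := (φ.range.subgroupOf C).index_mul_card
    rw [Nat.card_congr (subgroupOfEquivOfLe h1).toEquiv,
      ← Nat.card_congr (MonoidHom.ofInjective hφ).toEquiv, h3] at e
    exact Nat.eq_of_mul_eq_mul_right Nat.card_pos e
  have h4 : J ≤ φ.range := by
    rw [← Cfsg.Agent.PLocal.CP.pRes_eq_of_perfect (p := 2) hp]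
    refine pRes_le_of_pow fun g hg => ⟨k, ?_⟩
    have := (φ.range.subgroupOf C).pow_index_mem ⟨g, hJ.1 hg⟩
    rwa [hi] at this
  have h6 : J ≤ (alternatingGroup α).map φ := by
    rw [← alternatingGroup.commutator_perm_eq h5, _root_.commutator_def, map_commutator,
      ← MonoidHom.range_eq_map, ← hp]
    exact commutator_mono h4 h4
  have hs : IsSimpleGroup ((alternatingGroup α).map φ) :=
    haveI := alternatingGroup.isSimpleGroup (α := α) h5
    ((alternatingGroup α).equivMapOfInjective φ hφ).symm.isSimpleGroup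
  rcases IsSubnormal.eq_bot_or_top_of_isSimpleGroup hs
    (subnormal_subgroupOf_of_le ((map_le_range φ _).trans h1) hJ.2.1) with e | e
  · rw [subgroupOf_eq_bot, disjoint_iff, inf_eq_left.2 h6] at e
    refine (comp_ne_bot hJ.2 ?_).elim
    rw [e, bot_subgroupOf]
  · exact le_antisymm h6 (subgroupOf_eq_top.1 e)

theorem cyc_two {α : Type*} [Fintype α] [DecidableEq α] {σ : Perm α} (h : orderOf σ = 2) :
    ∃ k, σ.cycleType = Multiset.replicate (k + 1) 2 ∧ σ.support.card = 2 * (k + 1) ∧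
      (σ ∈ alternatingGroup α → Odd k) := by
  obtain ⟨k, hk⟩ := Perm.cycleType_prime_order (σ := σ) (h ▸ Nat.prime_two)
  rw [h] at hk
  refine ⟨k, hk, by rw [← Perm.sum_cycleType, hk]; simp; ring, fun hs => ?_⟩
  rw [Perm.mem_alternatingGroup, Perm.sign_of_cycleType, hk] at hs
  by_contra hn
  obtain ⟨m, rfl⟩ := Nat.not_odd_iff_even.1 hn
  rw [Odd.neg_one_pow ⟨3 * m + 1, by simp; ring⟩] at hs
  exact absurd hs (by decide)

theorem conj_two {α : Type*} [Fintype α] [DecidableEq α] {σ τ : Perm α} (h : orderOf σ = 2)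
    (h' : orderOf τ = 2) (e : σ.support.card = τ.support.card) : IsConj σ τ := by
  obtain ⟨k, h1, h2, -⟩ := cyc_two h
  obtain ⟨l, h3, h4, -⟩ := cyc_two h'
  rw [Perm.isConj_iff_cycleType_eq, h1, h3, show k = l by omega]

theorem supp_alt {m : ℕ} {σ : Perm (Fin m)} (h : orderOf σ = 2) (hs : σ ∈ alternatingGroup (Fin m))
    (hm : m < 12) : σ.support.card = 4 ∨ σ.support.card = 8 ∧ 8 ≤ m := by
  obtain ⟨k, -, h2, h3⟩ := cyc_two h
  obtain ⟨l, rfl⟩ := h3 hs
  have := σ.support.card_le_univ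
  rw [Fintype.card_fin] at this
  omega

omit [Finite H] in
theorem twoC_of {c d : H} (h : TwoC c) (e : IsConj c d) : TwoC d := by
  obtain ⟨g, rfl⟩ := isConj_iff.1 e
  exact h.conj g

end Cfsg.Agent.Q16.HSx
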