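import Cfsg.Agent.Comp.InvCov
import Cfsg.Agent.Comp.Ev2
import Cfsg.Agent.Comp.LookT
import Cfsg.Agent.Spor.ModelHS

set_option autoImplicit false
set_option Elab.async false
set_option maxRecDepth 4096

namespace Cfsg.Agent.Q16.HSd

open Cfsg.Agent.Comp

noncomputable def ns_2 : Net :=
 (Net.cons (nat_lit 64) (nat_lit 0x118020c0a1c52090)
 (Net.cons (nat_lit 32) (nat_lit 0x18044c00000000024632600)
 (Net.cons (nat_lit 16) (nat_lit 0x1000000b1840000072200004344)
 (Net.cons (nat_lit 8) (nat_lit 0x8000e0005200820040003000c000f2)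
 (Net.cons (nat_lit 4) (nat_lit 0xc000208090c04040c060c040804)
 (Net.cons (nat_lit 2) (nat_lit 0x20000220200020212110202022123200)
 (Net.cons (nat_lit 1) (nat_lit 0x10000140411111104001104141045001)
 (Net.cons (nat_lit 2) (nat_lit 0x20000220200002202000202022020000)
 (Net.cons (nat_lit 4) (nat_lit 0x8000200020c040408060c040800)
 (Net.cons (nat_lit 8) (nat_lit 0x8000e0005200820040003000c000f2)
 (Net.cons (nat_lit 16) (nat_lit 0x100000031800000050200004344)
 (Net.cons (nat_lit 32) (nat_lit 0x18044c00000000024632600)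
 (Net.cons (nat_lit 64) (nat_lit 0x118020c0a1c52090)
 Net.nil)))))))))))))

noncomputable def ns_3 : Net :=
 (Net.cons (nat_lit 64) (nat_lit 0x444114a006020408)
 (Net.cons (nat_lit 32) (nat_lit 0x1a140020000000002100010c)
 (Net.cons (nat_lit 16) (nat_lit 0x468000002980000080000000a2b2)
 (Net.cons (nat_lit 8) (nat_lit 0x18005000ca00480018004000b800a6)
 (Net.cons (nat_lit 4) (nat_lit 0x404000e0e0000000006020c0a06020a)
 (Net.cons (nat_lit 2) (nat_lit 0x10220220230022000002200102210300)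
 (Net.cons (nat_lit 1) (nat_lit 0x110410454041501150014044104041)
 (Net.cons (nat_lit 2) (nat_lit 0x220220200022000000000020200000)
 (Net.cons (nat_lit 4) (nat_lit 0x4000008080000000006020c0404020a)
 (Net.cons (nat_lit 8) (nat_lit 0x18005000c200480018004000b800a4)
 (Net.cons (nat_lit 16) (nat_lit 0x468000002980000080000000a2a2)
 (Net.cons (nat_lit 32) (nat_lit 0x1a140020000000002100010c)
 (Net.cons (nat_lit 64) (nat_lit 0x444114a006020008)
 Net.nil)))))))))))))

noncomputable def ns_4 : Net :=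
 (Net.cons (nat_lit 64) (nat_lit 0x698122337a16d2c0)
 (Net.cons (nat_lit 32) (nat_lit 0x580c022000000008a6d4cb4)
 (Net.cons (nat_lit 16) (nat_lit 0x4182000079c4000046160000dad8)
 (Net.cons (nat_lit 8) (nat_lit 0x700000006a00c00008004200f4)
 (Net.cons (nat_lit 4) (nat_lit 0x9020300040c0409080600020d09)
 (Net.cons (nat_lit 2) (nat_lit 0x20000203203313031032202033001333)
 (Net.cons (nat_lit 1) (nat_lit 0x44010040115505550451151500440055)
 (Net.cons (nat_lit 2) (nat_lit 0x20000000020000000002202000000000)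
 (Net.cons (nat_lit 4) (nat_lit 0x8020800040c0400080600000800)
 (Net.cons (nat_lit 8) (nat_lit 0x700000002800c00008004200f4)
 (Net.cons (nat_lit 16) (nat_lit 0x4182000079c4000046100000dad8)
 (Net.cons (nat_lit 32) (nat_lit 0x580c002000000008a6d4cb4)
 (Net.cons (nat_lit 64) (nat_lit 0x698122337a16d2c0)
 Net.nil)))))))))))))

noncomputable def ns_5 : Net :=
 (Net.cons (nat_lit 64) (nat_lit 0x45c089a01bddca0)
 (Net.cons (nat_lit 32) (nat_lit 0xa60e000a00000000b7026420)
 (Net.cons (nat_lit 16) (nat_lit 0x2e400000b1780000ba040000fedc)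
 (Net.cons (nat_lit 8) (nat_lit 0x80084007d00b00006008b00080096)
 (Net.cons (nat_lit 4) (nat_lit 0x804000a0d050f04010200040c040b0c)
 (Net.cons (nat_lit 2) (nat_lit 0x122201033021022201202000033123)
 (Net.cons (nat_lit 1) (nat_lit 0x450414455010400440401551405)
 (Net.cons (nat_lit 2) (nat_lit 0x200220000020200200000002000)
 (Net.cons (nat_lit 4) (nat_lit 0x4000a00040000000000040004040c)
 (Net.cons (nat_lit 8) (nat_lit 0x80084008000b00006008800080096)
 (Net.cons (nat_lit 16) (nat_lit 0x2e400000b1780000ba040000eedc)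
 (Net.cons (nat_lit 32) (nat_lit 0xa60e000a00000000b7026420)
 (Net.cons (nat_lit 64) (nat_lit 0x45c089a01bddca0)
 Net.nil)))))))))))))

noncomputable def ns_6 : Net :=
 (Net.cons (nat_lit 64) (nat_lit 0x303bbfaf78a60f63)
 (Net.cons (nat_lit 32) (nat_lit 0x2678789800000000b05c6fbd)
 (Net.cons (nat_lit 16) (nat_lit 0x3e0e0000a7a2000007e000005f55)
 (Net.cons (nat_lit 8) (nat_lit 0x42008e00870020007000f90042004c)
 (Net.cons (nat_lit 4) (nat_lit 0x8010b080f0c02040600000002050004)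
 (Net.cons (nat_lit 2) (nat_lit 0x30031202022000223020112110110303)
 (Net.cons (nat_lit 1) (nat_lit 0x10141115415101414410054040000405)
 (Net.cons (nat_lit 2) (nat_lit 0x2200200202000200002020000200)
 (Net.cons (nat_lit 4) (nat_lit 0xe000208060c02080400080202000004)
 (Net.cons (nat_lit 8) (nat_lit 0x64009c00120028002000fa00920048)
 (Net.cons (nat_lit 16) (nat_lit 0xa260000962600002e6c00009f10)
 (Net.cons (nat_lit 32) (nat_lit 0x1669eb94000000003e9c6fb2)
 (Net.cons (nat_lit 64) (nat_lit 0x303bbfac99e49478)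
 Net.nil)))))))))))))

noncomputable def ns_7 : Net :=
 (Net.cons (nat_lit 64) (nat_lit 0xb2b7c3f294605a3c)
 (Net.cons (nat_lit 32) (nat_lit 0x82addd3f000000006ea4a1bb)
 (Net.cons (nat_lit 16) (nat_lit 0xfd10000a373000064d60000a804)
 (Net.cons (nat_lit 8) (nat_lit 0x9600420045005e001e008d001d0094)
 (Net.cons (nat_lit 4) (nat_lit 0x7010208050b0d0c060a050a07000000)
 (Net.cons (nat_lit 2) (nat_lit 0x10200023021103031000200111000213)
 (Net.cons (nat_lit 1) (nat_lit 0x40451044501444010004140101050045)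
 (Net.cons (nat_lit 2) (nat_lit 0x200020000020000002000202000000)
 (Net.cons (nat_lit 4) (nat_lit 0xc04020a0608060c0400040e02000004)
 (Net.cons (nat_lit 8) (nat_lit 0x8200d2006000bc001c00c0001800de)
 (Net.cons (nat_lit 16) (nat_lit 0x1fd00000e3e0000045fa0000ec06)
 (Net.cons (nat_lit 32) (nat_lit 0xa0ae1cae0000000027ec95b4)
 (Net.cons (nat_lit 64) (nat_lit 0xb2b7c3f2fbce2cd2)
 Net.nil)))))))))))))

noncomputable def ns_8 : Net :=
 (Net.cons (nat_lit 64) (nat_lit 0x584d8eabc79c2af)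
 (Net.cons (nat_lit 32) (nat_lit 0x64488930000000037e48b29)
 (Net.cons (nat_lit 16) (nat_lit 0x177200001e6800008f3f0000d903)
 (Net.cons (nat_lit 8) (nat_lit 0xb0008c0049000c00340024002800fc)
 (Net.cons (nat_lit 4) (nat_lit 0x604000d0501060f070c0604000a0a)
 (Net.cons (nat_lit 2) (nat_lit 0x20100203133022202110001003302030)
 (Net.cons (nat_lit 1) (nat_lit 0x10100101140441415104410105411445)
 (Net.cons (nat_lit 2) (nat_lit 0x2220022000200200200200020)
 (Net.cons (nat_lit 4) (nat_lit 0x200080a060c0c020c0c0404000208)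
 (Net.cons (nat_lit 8) (nat_lit 0xa0004c002a002000e0002e00480072)
 (Net.cons (nat_lit 16) (nat_lit 0x177200005e40000002200000d940)
 (Net.cons (nat_lit 32) (nat_lit 0x2401890000000005fef8824)
 (Net.cons (nat_lit 64) (nat_lit 0x584d8e88d498896)
 Net.nil)))))))))))))

noncomputable def ns_9 : Net :=
 (Net.cons (nat_lit 64) (nat_lit 0xab71625bded48cf)
 (Net.cons (nat_lit 32) (nat_lit 0xd77b2ab700000000de3ee2d9)
 (Net.cons (nat_lit 16) (nat_lit 0x55710000cae00000b8320000fc08)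
 (Net.cons (nat_lit 8) (nat_lit 0x9e002a00e2000e00b000da00a80092)
 (Net.cons (nat_lit 4) (nat_lit 0x408030c0404000a080a020c040e010c)
 (Net.cons (nat_lit 2) (nat_lit 0x12221121021101201020303202030010)
 (Net.cons (nat_lit 1) (nat_lit 0x11041045004014144014101044104)
 (Net.cons (nat_lit 2) (nat_lit 0x20020020002000022000002002000)
 (Net.cons (nat_lit 4) (nat_lit 0xc0802040400000208080202000e0200)
 (Net.cons (nat_lit 8) (nat_lit 0x2400a0000200b8000800a00036)
 (Net.cons (nat_lit 16) (nat_lit 0x5dd80000c8c20000782800005900)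
 (Net.cons (nat_lit 32) (nat_lit 0xd57a289400000000ea3e8a18)
 (Net.cons (nat_lit 64) (nat_lit 0xab7162aa0828a60)
 Net.nil)))))))))))))

noncomputable def ns_10 : Net :=
 (Net.cons (nat_lit 64) (nat_lit 0x1ebefca36beee318)
 (Net.cons (nat_lit 32) (nat_lit 0xe67d7a5d00000000ea99416b)
 (Net.cons (nat_lit 16) (nat_lit 0xe16000080980000c3d20000cf97)
 (Net.cons (nat_lit 8) (nat_lit 0x200040036008c00390013007a00a9)
 (Net.cons (nat_lit 4) (nat_lit 0x4010809040e0609050a08020c0f040a)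
 (Net.cons (nat_lit 2) (nat_lit 0x10002203202001220200122113120101)
 (Net.cons (nat_lit 1) (nat_lit 0x14151041405041040540010405010401)
 (Net.cons (nat_lit 2) (nat_lit 0x202000000000020020020000020002)
 (Net.cons (nat_lit 4) (nat_lit 0x80c060e08040808040804000e)
 (Net.cons (nat_lit 8) (nat_lit 0xa00c8003c00b0007800d200ec00a8)
 (Net.cons (nat_lit 16) (nat_lit 0x82ec00009998000081c20000eed0)
 (Net.cons (nat_lit 32) (nat_lit 0xf67182d8000000002b994070)
 (Net.cons (nat_lit 64) (nat_lit 0x1ebefca677a64346)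
 Net.nil)))))))))))))

noncomputable def ns_11 : Net :=
 (Net.cons (nat_lit 64) (nat_lit 0xb60f3dee10ee4088)
 (Net.cons (nat_lit 32) (nat_lit 0x28390e010000000047ec4b14)
 (Net.cons (nat_lit 16) (nat_lit 0x1256000031e80000cf8200003506)
 (Net.cons (nat_lit 8) (nat_lit 0x60003a0024004d00f200c1008400eb)
 (Net.cons (nat_lit 4) (nat_lit 0x80203050b060e05080c080104010105)
 (Net.cons (nat_lit 2) (nat_lit 0x22000330020301000000020120012021)
 (Net.cons (nat_lit 1) (nat_lit 0x44011501014144041104040040514110)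
 (Net.cons (nat_lit 2) (nat_lit 0x22000000000202022000000000000220)
 (Net.cons (nat_lit 4) (nat_lit 0x20e0a0402040808000408040804)
 (Net.cons (nat_lit 8) (nat_lit 0x62003e0026000800f200c800e0002a)
 (Net.cons (nat_lit 16) (nat_lit 0x1a540000442a0000cd8a000075c4)
 (Net.cons (nat_lit 32) (nat_lit 0xbc383aa200000000062c8908)
 (Net.cons (nat_lit 64) (nat_lit 0xb60f3de5955ec1d0)
 Net.nil)))))))))))))

noncomputable def ns_12 : Net :=
 (Net.cons (nat_lit 64) (nat_lit 0x8c13390fe1f7afb4)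
 (Net.cons (nat_lit 32) (nat_lit 0xac33d8e5000000000d43a5bd)
 (Net.cons (nat_lit 16) (nat_lit 0xf1a500005b1d0000c091000093e8)
 (Net.cons (nat_lit 8) (nat_lit 0x6200000091000800e900ed00b4004a)
 (Net.cons (nat_lit 4) (nat_lit 0x3030802000c06000e0c060406080505)
 (Net.cons (nat_lit 2) (nat_lit 0x23030022220212021212202002201312)
 (Net.cons (nat_lit 1) (nat_lit 0x15440040114011011441414014000144)
 (Net.cons (nat_lit 2) (nat_lit 0x20020200002002200022002000200)
 (Net.cons (nat_lit 4) (nat_lit 0x200000808020000040c0000000008)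
 (Net.cons (nat_lit 8) (nat_lit 0xc2002800080018002800e800940086)
 (Net.cons (nat_lit 16) (nat_lit 0x79a4000043040000c632000053c0)
 (Net.cons (nat_lit 32) (nat_lit 0x2031e8e0000000004e2f2130)
 (Net.cons (nat_lit 64) (nat_lit 0x8c13390e066ded1e)
 Net.nil)))))))))))))

noncomputable def ns_13 : Net :=
 (Net.cons (nat_lit 64) (nat_lit 0x15c0c190b48a95dd)
 (Net.cons (nat_lit 32) (nat_lit 0x852aea6b000000001b3c6817)
 (Net.cons (nat_lit 16) (nat_lit 0x96060000910400005d28000091ab)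
 (Net.cons (nat_lit 8) (nat_lit 0x84001d00cc00d000e20030002000a2)
 (Net.cons (nat_lit 4) (nat_lit 0x802080e040d08040c0e04050f070002)
 (Net.cons (nat_lit 2) (nat_lit 0x1221222020203033002012021110202)
 (Net.cons (nat_lit 1) (nat_lit 0x4404114444101051014054410410401)
 (Net.cons (nat_lit 2) (nat_lit 0x2002222220202002020002020200202)
 (Net.cons (nat_lit 4) (nat_lit 0x8000800000c08000c0c0400040a0000)
 (Net.cons (nat_lit 8) (nat_lit 0x84006400c800c400e0000800fa0028)
 (Net.cons (nat_lit 16) (nat_lit 0x96cc0000d10400006718000039e0)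
 (Net.cons (nat_lit 32) (nat_lit 0x91aa6b6600000000313c5a58)
 (Net.cons (nat_lit 64) (nat_lit 0x15c0c1944e909520)
 Net.nil)))))))))))))

noncomputable def ns_14 : Net :=
 (Net.cons (nat_lit 64) (nat_lit 0xb8a06c0696ffc680)
 (Net.cons (nat_lit 32) (nat_lit 0x8a7b05080000000084cb7301)
 (Net.cons (nat_lit 16) (nat_lit 0x45000000f820000082d60000a020)
 (Net.cons (nat_lit 8) (nat_lit 0x7d000c0060003400c0005c00c2007a)
 (Net.cons (nat_lit 4) (nat_lit 0x6040c000400080a08050f0c0704050a)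
 (Net.cons (nat_lit 2) (nat_lit 0x3230000120002220122310321200322)
 (Net.cons (nat_lit 1) (nat_lit 0x11414001014014140114410040401414)
 (Net.cons (nat_lit 2) (nat_lit 0x2002002022020200220020020000002)
 (Net.cons (nat_lit 4) (nat_lit 0x6080c000c0008060c040c0c02040408)
 (Net.cons (nat_lit 8) (nat_lit 0x64000c004000b0008400dc00900050)
 (Net.cons (nat_lit 16) (nat_lit 0x450000004ca0000082900000b438)
 (Net.cons (nat_lit 32) (nat_lit 0xaafb450800000000c3c97300)
 (Net.cons (nat_lit 64) (nat_lit 0xb8a06c06a3ffcc44)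
 Net.nil)))))))))))))

noncomputable def ns_15 : Net :=
 (Net.cons (nat_lit 64) (nat_lit 0x672ef4372f24e94a)
 (Net.cons (nat_lit 32) (nat_lit 0xd04349ab0000000099c06c58)
 (Net.cons (nat_lit 16) (nat_lit 0x9a090000a414000068810000e54e)
 (Net.cons (nat_lit 8) (nat_lit 0xfb007f008a00440011005000cc00c4)
 (Net.cons (nat_lit 4) (nat_lit 0x403000f0a04000a0d040f0808080802)
 (Net.cons (nat_lit 2) (nat_lit 0x310130011000300101100103222021)
 (Net.cons (nat_lit 1) (nat_lit 0x1151545445000111000500444104000)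
 (Net.cons (nat_lit 2) (nat_lit 0x2202020000000000000000202200000)
 (Net.cons (nat_lit 4) (nat_lit 0x200080004000c04040a0800080400)
 (Net.cons (nat_lit 8) (nat_lit 0xf200fa008a00660040005c00d40006)
 (Net.cons (nat_lit 16) (nat_lit 0xe080000c0160000614000006740)
 (Net.cons (nat_lit 32) (nat_lit 0xf2695da00000000009c06796)
 (Net.cons (nat_lit 64) (nat_lit 0x672ef4326b2ecba2)
 Net.nil)))))))))))))

noncomputable def ns_16 : Net :=
 (Net.cons (nat_lit 64) (nat_lit 0x63cdb376f63060e4)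
 (Net.cons (nat_lit 32) (nat_lit 0x2fd065e800000000eb89a7e5)
 (Net.cons (nat_lit 16) (nat_lit 0x6072000090a60000b9d900009c38)
 (Net.cons (nat_lit 8) (nat_lit 0xb90011002c003000e100c400180024)
 (Net.cons (nat_lit 4) (nat_lit 0xe040d0808000909060a0c0a0c000608)
 (Net.cons (nat_lit 2) (nat_lit 0x33101230000222100120330001203)
 (Net.cons (nat_lit 1) (nat_lit 0x51054504500111544041014410000404)
 (Net.cons (nat_lit 2) (nat_lit 0x2002000000002020002002020000000)
 (Net.cons (nat_lit 4) (nat_lit 0x4000c0c0402080002020e0a0c000a08)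
 (Net.cons (nat_lit 8) (nat_lit 0xb00094006e009a008a00d2001800a0)
 (Net.cons (nat_lit 16) (nat_lit 0x4660000038c000099d800009038)
 (Net.cons (nat_lit 32) (nat_lit 0x2cd955a000000000fb8ba7ea)
 (Net.cons (nat_lit 64) (nat_lit 0x63cdb37e4119ec48)
 Net.nil)))))))))))))

noncomputable def ns_17 : Net :=
 (Net.cons (nat_lit 64) (nat_lit 0x32cc12935cb3014a)
 (Net.cons (nat_lit 32) (nat_lit 0x5bdccac000000008d21ecc1)
 (Net.cons (nat_lit 16) (nat_lit 0x8331000020d0000084220000b889)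
 (Net.cons (nat_lit 8) (nat_lit 0x42006d002000520088002d00200043)
 (Net.cons (nat_lit 4) (nat_lit 0x40506070c0206080000000608040d06)
 (Net.cons (nat_lit 2) (nat_lit 0x10222221022002230122010022030230)
 (Net.cons (nat_lit 1) (nat_lit 0x40414140041404110011044544041514)
 (Net.cons (nat_lit 2) (nat_lit 0x20022000000002200002000020022000)
 (Net.cons (nat_lit 4) (nat_lit 0x604060c0c040804000c0008040408)
 (Net.cons (nat_lit 8) (nat_lit 0xe60062003000520088006000600060)
 (Net.cons (nat_lit 16) (nat_lit 0x81a8000000160000c8200000b8ea)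
 (Net.cons (nat_lit 32) (nat_lit 0x5bddcaa000000000d20eccc)
 (Net.cons (nat_lit 64) (nat_lit 0x32cc12956cb22b4c)
 Net.nil)))))))))))))

noncomputable def ns_18 : Net :=
 (Net.cons (nat_lit 64) (nat_lit 0x40193d4edc54638a)
 (Net.cons (nat_lit 32) (nat_lit 0x405aa34a0000000021982bf5)
 (Net.cons (nat_lit 16) (nat_lit 0x80180000ff5c0000aa220000b0e2)
 (Net.cons (nat_lit 8) (nat_lit 0x20013002400ba0082002d008800c8)
 (Net.cons (nat_lit 4) (nat_lit 0xc040700050800090a020e0d0802080f)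
 (Net.cons (nat_lit 2) (nat_lit 0x11200032101020200220102233230)
 (Net.cons (nat_lit 1) (nat_lit 0x4000105114445001014040404050444)
 (Net.cons (nat_lit 2) (nat_lit 0x2000000022000000020000000000220)
 (Net.cons (nat_lit 4) (nat_lit 0xc040400000c0a08080e000c08080a0e)
 (Net.cons (nat_lit 8) (nat_lit 0x2000c004000a80000006c008a000a)
 (Net.cons (nat_lit 16) (nat_lit 0x80100000be4c0000a32a00003060)
 (Net.cons (nat_lit 32) (nat_lit 0x405ab64400000000257c6964)
 (Net.cons (nat_lit 64) (nat_lit 0x40193d4f1ae42744)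
 Net.nil)))))))))))))

noncomputable def ns_19 : Net :=
 (Net.cons (nat_lit 64) (nat_lit 0xbe9d56b1bcc7a28a)
 (Net.cons (nat_lit 32) (nat_lit 0x163f563400000000e33c0345)
 (Net.cons (nat_lit 16) (nat_lit 0xca1200002029000020040000b1ee)
 (Net.cons (nat_lit 8) (nat_lit 0x2a002a004e00ac009c0027006d00d8)
 (Net.cons (nat_lit 4) (nat_lit 0x600020c050d0c070f0c0c0200040406)
 (Net.cons (nat_lit 2) (nat_lit 0x202002131000312000022001023001)
 (Net.cons (nat_lit 1) (nat_lit 0x14001441411101451104404144411004)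
 (Net.cons (nat_lit 2) (nat_lit 0x2000002220200202002002020002002)
 (Net.cons (nat_lit 4) (nat_lit 0x400080c080c0002080c040000060404)
 (Net.cons (nat_lit 8) (nat_lit 0x8003a004a00bc00dc0024006c0088)
 (Net.cons (nat_lit 16) (nat_lit 0xca28000003380000a3400000f50c)
 (Net.cons (nat_lit 32) (nat_lit 0x26ae428400000000e35e2240)
 (Net.cons (nat_lit 64) (nat_lit 0xbe9d56b1fccee0c0)
 Net.nil)))))))))))))

noncomputable def ns_20 : Net :=
 (Net.cons (nat_lit 64) (nat_lit 0x3cff7764b76dd87a)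
 (Net.cons (nat_lit 32) (nat_lit 0x56051b2400000000445f02a2)
 (Net.cons (nat_lit 16) (nat_lit 0xc280000828c0000c69d00007000)
 (Net.cons (nat_lit 8) (nat_lit 0xda000000dd00e800c200ec00e20057)
 (Net.cons (nat_lit 4) (nat_lit 0xa060a060401040c0c0d0401080c0400)
 (Net.cons (nat_lit 2) (nat_lit 0x22022102212330120010220302020311)
 (Net.cons (nat_lit 1) (nat_lit 0x14140100411114040440400011040100)
 (Net.cons (nat_lit 2) (nat_lit 0x20020000222000000200200002000000)
 (Net.cons (nat_lit 4) (nat_lit 0x2040c000408040c0c0c040c080c0200)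
 (Net.cons (nat_lit 8) (nat_lit 0x98002a00c4000800c000e000620042)
 (Net.cons (nat_lit 16) (nat_lit 0x428000032100000c68400001180)
 (Net.cons (nat_lit 32) (nat_lit 0x66367e0400000000845f0aac)
 (Net.cons (nat_lit 64) (nat_lit 0x3cff776062e5dd00)
 Net.nil)))))))))))))

noncomputable def ns_21 : Net :=
 (Net.cons (nat_lit 64) (nat_lit 0x1221f07d3430808)
 (Net.cons (nat_lit 32) (nat_lit 0x3318224000000000a8696d00)
 (Net.cons (nat_lit 16) (nat_lit 0x13200000c4840000163c00004852)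
 (Net.cons (nat_lit 8) (nat_lit 0x100028000500e800c0008000120062)
 (Net.cons (nat_lit 4) (nat_lit 0x200000e0c0e0a0c04010b040e00080e)
 (Net.cons (nat_lit 2) (nat_lit 0x20020032123222000211202202002)
 (Net.cons (nat_lit 1) (nat_lit 0x1001501014405100000550001104041)
 (Net.cons (nat_lit 2) (nat_lit 0x22000200000000002202002)
 (Net.cons (nat_lit 4) (nat_lit 0x200000a0c0e0a08000004040800000c)
 (Net.cons (nat_lit 8) (nat_lit 0x2800c400e800c0008000100060)
 (Net.cons (nat_lit 16) (nat_lit 0x13200000c4840000161c00006a40)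
 (Net.cons (nat_lit 32) (nat_lit 0x3318224000000000a8696d00)
 (Net.cons (nat_lit 64) (nat_lit 0x1221f07d3430808)
 Net.nil)))))))))))))

noncomputable def ns_22 : Net :=
 (Net.cons (nat_lit 64) (nat_lit 0xaab41523762bafc0)
 (Net.cons (nat_lit 32) (nat_lit 0x57101c2a00000000f5a2e21e)
 (Net.cons (nat_lit 16) (nat_lit 0x680c0000054a0000e330000009cc)
 (Net.cons (nat_lit 8) (nat_lit 0x3c0059004100f200be008e00800064)
 (Net.cons (nat_lit 4) (nat_lit 0x608040d060c0c040e0406080d000e0b)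
 (Net.cons (nat_lit 2) (nat_lit 0x2202031212000102020232022010333)
 (Net.cons (nat_lit 1) (nat_lit 0x41104050445004401441404011040514)
 (Net.cons (nat_lit 2) (nat_lit 0x20202000020002200020202020000022)
 (Net.cons (nat_lit 4) (nat_lit 0x6000408060c0c0c0e0204000000040c)
 (Net.cons (nat_lit 8) (nat_lit 0x280058004400d000be008e00900006)
 (Net.cons (nat_lit 16) (nat_lit 0x69280000a5560000c330000009c4)
 (Net.cons (nat_lit 32) (nat_lit 0xdf340d2400000000b5a94004)
 (Net.cons (nat_lit 64) (nat_lit 0xaab41523762bab80)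
 Net.nil)))))))))))))

noncomputable def ns_23 : Net :=
 (Net.cons (nat_lit 64) (nat_lit 0x431e50c6688a6040)
 (Net.cons (nat_lit 32) (nat_lit 0xc7985108000000006c092128)
 (Net.cons (nat_lit 16) (nat_lit 0x40800000c2a000000c280000f441)
 (Net.cons (nat_lit 8) (nat_lit 0x88009000f9004800a8008000620024)
 (Net.cons (nat_lit 4) (nat_lit 0x80c0c0001050804080204000003080e)
 (Net.cons (nat_lit 2) (nat_lit 0x3120110300330203000222020002130)
 (Net.cons (nat_lit 1) (nat_lit 0x41000404511550440401411501511001)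
 (Net.cons (nat_lit 2) (nat_lit 0x2000000000000200000222000002000)
 (Net.cons (nat_lit 4) (nat_lit 0x40c0c000a0e0804080204000000080e)
 (Net.cons (nat_lit 8) (nat_lit 0x8800900002004800a8008000620024)
 (Net.cons (nat_lit 16) (nat_lit 0x1000000c2a000000c280000d400)
 (Net.cons (nat_lit 32) (nat_lit 0xc5985108000000006c092128)
 (Net.cons (nat_lit 64) (nat_lit 0x431e50c6680a2040)
 Net.nil)))))))))))))

noncomputable def ns_24 : Net :=
 (Net.cons (nat_lit 64) (nat_lit 0x804b772cf6053d4f)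
 (Net.cons (nat_lit 32) (nat_lit 0xcec3b02000000000b08372fc)
 (Net.cons (nat_lit 16) (nat_lit 0x654e0000d5e200005b49000049bc)
 (Net.cons (nat_lit 8) (nat_lit 0x4b00a20035004e00d8002200d40082)
 (Net.cons (nat_lit 4) (nat_lit 0x20a000c04030d0a0607070e0f0c0001)
 (Net.cons (nat_lit 2) (nat_lit 0x3212002010201200203023010300130)
 (Net.cons (nat_lit 1) (nat_lit 0x1444004004514114451144141104114)
 (Net.cons (nat_lit 2) (nat_lit 0x2202002000022200000002222200200)
 (Net.cons (nat_lit 4) (nat_lit 0x204040402020a04000e0c000c0400)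
 (Net.cons (nat_lit 8) (nat_lit 0x4800a00024007c005a00b000c00086)
 (Net.cons (nat_lit 16) (nat_lit 0xa54e0000d5c400006168000045a4)
 (Net.cons (nat_lit 32) (nat_lit 0xce80b72000000000c3177262)
 (Net.cons (nat_lit 64) (nat_lit 0x804b7724b4311a30)
 Net.nil)))))))))))))

noncomputable def ns_25 : Net :=
 (Net.cons (nat_lit 64) (nat_lit 0xff6b3c380ae37ac9)
 (Net.cons (nat_lit 32) (nat_lit 0xb2aedde8000000003ca40647)
 (Net.cons (nat_lit 16) (nat_lit 0x780f0000924e00007db40000e943)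
 (Net.cons (nat_lit 8) (nat_lit 0x6500550073000600800084004a0002)
 (Net.cons (nat_lit 4) (nat_lit 0x1040501010f00000c00080206090400)
 (Net.cons (nat_lit 2) (nat_lit 0x2203200000122320100021122300130)
 (Net.cons (nat_lit 1) (nat_lit 0x5001114055000410400144504100011)
 (Net.cons (nat_lit 2) (nat_lit 0x2200000000220000000002200000)
 (Net.cons (nat_lit 4) (nat_lit 0xa080000000a00060c000a02040c0400)
 (Net.cons (nat_lit 8) (nat_lit 0x2400d40056000e0080002e00480000)
 (Net.cons (nat_lit 16) (nat_lit 0x70880000ae440000793400006a44)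
 (Net.cons (nat_lit 32) (nat_lit 0xedadf1c8000000003c240406)
 (Net.cons (nat_lit 64) (nat_lit 0xff6b3c31371a83f8)
 Net.nil)))))))))))))

noncomputable def ns_26 : Net :=
 (Net.cons (nat_lit 64) (nat_lit 0x2b4528262d4351f0)
 (Net.cons (nat_lit 32) (nat_lit 0x94f8d02c000000002b811050)
 (Net.cons (nat_lit 16) (nat_lit 0xa90400000ec0000029780000810c)
 (Net.cons (nat_lit 8) (nat_lit 0x62000800c10030005600ba00a800ec)
 (Net.cons (nat_lit 4) (nat_lit 0x20b0100040408040d0903020c020205)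
 (Net.cons (nat_lit 2) (nat_lit 0x12203002030320210233310202002002)
 (Net.cons (nat_lit 1) (nat_lit 0x44010004440410440511111051101414)
 (Net.cons (nat_lit 2) (nat_lit 0x2000000200200220022200002202222)
 (Net.cons (nat_lit 4) (nat_lit 0x20208000a0408020c00020208020200)
 (Net.cons (nat_lit 8) (nat_lit 0x660008008000300044003000a8006c)
 (Net.cons (nat_lit 16) (nat_lit 0xa90400000cc00000ac680000011c)
 (Net.cons (nat_lit 32) (nat_lit 0x94f8d82c000000003ba390c0)
 (Net.cons (nat_lit 64) (nat_lit 0x2b4528262d4350f0)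
 Net.nil)))))))))))))

noncomputable def ns_27 : Net :=
 (Net.cons (nat_lit 64) (nat_lit 0x40c2560654ac9008)
 (Net.cons (nat_lit 32) (nat_lit 0x24d1044500000000ca152080)
 (Net.cons (nat_lit 16) (nat_lit 0x22800000cfa80000c41400003470)
 (Net.cons (nat_lit 8) (nat_lit 0x5400000058000200200040009100f2)
 (Net.cons (nat_lit 4) (nat_lit 0x20606080e08040a0200000d0e080209)
 (Net.cons (nat_lit 2) (nat_lit 0x211202211023222201212032320200)
 (Net.cons (nat_lit 1) (nat_lit 0x10400441400415011000000400041440)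
 (Net.cons (nat_lit 2) (nat_lit 0x200202200020022000000000020200)
 (Net.cons (nat_lit 4) (nat_lit 0x20606080608040a0200000c04080208)
 (Net.cons (nat_lit 8) (nat_lit 0x540000005800020020004000900072)
 (Net.cons (nat_lit 16) (nat_lit 0x22800000cf880000c41400003470)
 (Net.cons (nat_lit 32) (nat_lit 0x2451044000000000ca152080)
 (Net.cons (nat_lit 64) (nat_lit 0x40c2560454ac9008)
 Net.nil)))))))))))))

noncomputable def ns_28 : Net :=
 (Net.cons (nat_lit 64) (nat_lit 0xa20a40470e19e9e0)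
 (Net.cons (nat_lit 32) (nat_lit 0xce3946140000000066f18aa3)
 (Net.cons (nat_lit 16) (nat_lit 0xa858000053ca0000aac40000d997)
 (Net.cons (nat_lit 8) (nat_lit 0x4600a8006200b100f400ff00c500aa)
 (Net.cons (nat_lit 4) (nat_lit 0x40200030d0c0a090206060601080b06)
 (Net.cons (nat_lit 2) (nat_lit 0x2110202012002002220112200110231)
 (Net.cons (nat_lit 1) (nat_lit 0x4140410040400041011144040041451)
 (Net.cons (nat_lit 2) (nat_lit 0x2000020020000002020002000000000)
 (Net.cons (nat_lit 4) (nat_lit 0x40000000c0c08080a02080400080a08)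
 (Net.cons (nat_lit 8) (nat_lit 0x400a800a200b0004000d800440088)
 (Net.cons (nat_lit 16) (nat_lit 0xa858000042c2000092f400008c94)
 (Net.cons (nat_lit 32) (nat_lit 0xce3906120000000067240780)
 (Net.cons (nat_lit 64) (nat_lit 0xa20a40458709f9a2)
 Net.nil)))))))))))))

noncomputable def ns_29 : Net :=
 (Net.cons (nat_lit 64) (nat_lit 0x2697e7ad5522ca78)
 (Net.cons (nat_lit 32) (nat_lit 0x5303acd000000000e456df8f)
 (Net.cons (nat_lit 16) (nat_lit 0xcf450000f28a0000bc2400009201)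
 (Net.cons (nat_lit 8) (nat_lit 0xac00e0004600a4005a009a0050007a)
 (Net.cons (nat_lit 4) (nat_lit 0x50e06080407020409000309040c0c0b)
 (Net.cons (nat_lit 2) (nat_lit 0x1310032020300200200212301200001)
 (Net.cons (nat_lit 1) (nat_lit 0x41544114144400414500141100141410)
 (Net.cons (nat_lit 2) (nat_lit 0x22002220200000000002000000220)
 (Net.cons (nat_lit 4) (nat_lit 0xa04080402000c04000c00040c0608)
 (Net.cons (nat_lit 8) (nat_lit 0x2a00e2002600a4004a002200500040)
 (Net.cons (nat_lit 16) (nat_lit 0xa8c4000076080000703c00008a20)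
 (Net.cons (nat_lit 32) (nat_lit 0x7380cc5000000000fc7ed786)
 (Net.cons (nat_lit 64) (nat_lit 0x2697e7a4d571a258)
 Net.nil)))))))))))))

noncomputable def ns_30 : Net :=
 (Net.cons (nat_lit 64) (nat_lit 0x9950b1878d2ca4d4)
 (Net.cons (nat_lit 32) (nat_lit 0x7d10f84400000000373e206f)
 (Net.cons (nat_lit 16) (nat_lit 0xbc980000202d000075720000477e)
 (Net.cons (nat_lit 8) (nat_lit 0x28005000c2002500f6000f00f60016)
 (Net.cons (nat_lit 4) (nat_lit 0x80c0c030a050000020a0903070e080e)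
 (Net.cons (nat_lit 2) (nat_lit 0x203130000222200001200202020231)
 (Net.cons (nat_lit 1) (nat_lit 0x40041440415014105041510541054014)
 (Net.cons (nat_lit 2) (nat_lit 0x20020002200000000022000022)
 (Net.cons (nat_lit 4) (nat_lit 0x400020a0c0208000e0c0200080006)
 (Net.cons (nat_lit 8) (nat_lit 0x20000000780024009400320098001a)
 (Net.cons (nat_lit 16) (nat_lit 0x5498000022160000557800000794)
 (Net.cons (nat_lit 32) (nat_lit 0xfc00d94e000000007336287a)
 (Net.cons (nat_lit 64) (nat_lit 0x9950b18bf56edc2c)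
 Net.nil)))))))))))))

noncomputable def ns_31 : Net :=
 (Net.cons (nat_lit 64) (nat_lit 0x8834010105d42431)
 (Net.cons (nat_lit 32) (nat_lit 0x91f0275e00000000a5709d02)
 (Net.cons (nat_lit 16) (nat_lit 0xa0560000eb340000718000003b07)
 (Net.cons (nat_lit 8) (nat_lit 0x68001e000000e4002a00fa005000ea)
 (Net.cons (nat_lit 4) (nat_lit 0x7060d0600000c010407000a08090f02)
 (Net.cons (nat_lit 2) (nat_lit 0x3021221010232203102221300301320)
 (Net.cons (nat_lit 1) (nat_lit 0x4500140000050410514141540111440)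
 (Net.cons (nat_lit 2) (nat_lit 0x2000220000000200002020020220020)
 (Net.cons (nat_lit 4) (nat_lit 0x60e040604000c020206040008000204)
 (Net.cons (nat_lit 8) (nat_lit 0x68001a000000ec00d80098005200a4)
 (Net.cons (nat_lit 16) (nat_lit 0xa05600002b3000006332000073c4)
 (Net.cons (nat_lit 32) (nat_lit 0x91c4265600000000e1b39daa)
 (Net.cons (nat_lit 64) (nat_lit 0x8834010ff9ed3f50)
 Net.nil)))))))))))))

noncomputable def ns_32 : Net :=
 (Net.cons (nat_lit 64) (nat_lit 0x7cec55fa4e243ad8)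
 (Net.cons (nat_lit 32) (nat_lit 0x1d05464400000000b6be86ae)
 (Net.cons (nat_lit 16) (nat_lit 0x70cc000041420000949f00001103)
 (Net.cons (nat_lit 8) (nat_lit 0x6d00d8009400d8000b00a800000089)
 (Net.cons (nat_lit 4) (nat_lit 0xc0b030e04000100000a0608010a0d)
 (Net.cons (nat_lit 2) (nat_lit 0x11013131331220300220223202102000)
 (Net.cons (nat_lit 1) (nat_lit 0x14400540415450440501144101010101)
 (Net.cons (nat_lit 2) (nat_lit 0x20200000200000000000000002)
 (Net.cons (nat_lit 4) (nat_lit 0x80200020208060a020a0600000a00)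
 (Net.cons (nat_lit 8) (nat_lit 0x2000cc000800c8008a0000001000c8)
 (Net.cons (nat_lit 16) (nat_lit 0x304000006d300000129000005300)
 (Net.cons (nat_lit 32) (nat_lit 0x3d21176800000000b5ad8ea8)
 (Net.cons (nat_lit 64) (nat_lit 0x7cec55faa58f3194)
 Net.nil)))))))))))))

noncomputable def ns_33 : Net :=
 (Net.cons (nat_lit 64) (nat_lit 0x1a4700211080e000)
 (Net.cons (nat_lit 32) (nat_lit 0x597a200000000000a13e2118)
 (Net.cons (nat_lit 16) (nat_lit 0x402200000842000077140000fdc8)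
 (Net.cons (nat_lit 8) (nat_lit 0x210068004000e0001e00c60040005c)
 (Net.cons (nat_lit 4) (nat_lit 0x4080606080f0c0600000500080a05)
 (Net.cons (nat_lit 2) (nat_lit 0x2102000000233003000001121021022)
 (Net.cons (nat_lit 1) (nat_lit 0x11010001100114441110010440510100)
 (Net.cons (nat_lit 2) (nat_lit 0x20000000200002000000020020000)
 (Net.cons (nat_lit 4) (nat_lit 0x40802020800000e00000800080200)
 (Net.cons (nat_lit 8) (nat_lit 0x2a0068004000e0001800c20040005c)
 (Net.cons (nat_lit 16) (nat_lit 0x4022000008400000f3080000fdc8)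
 (Net.cons (nat_lit 32) (nat_lit 0x597a200000000000a13e2118)
 (Net.cons (nat_lit 64) (nat_lit 0x1a4700211080e000)
 Net.nil)))))))))))))

noncomputable def ns_34 : Net :=
 (Net.cons (nat_lit 64) (nat_lit 0x4e8d00691f811a90)
 (Net.cons (nat_lit 32) (nat_lit 0x16806102000000007e63d635)
 (Net.cons (nat_lit 16) (nat_lit 0x23250000db22000063080000c6f8)
 (Net.cons (nat_lit 8) (nat_lit 0x8c0040002a00ec00510079006400af)
 (Net.cons (nat_lit 4) (nat_lit 0x102040e0201060f0505080d0900020c)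
 (Net.cons (nat_lit 2) (nat_lit 0x22000201002002122103002010220101)
 (Net.cons (nat_lit 1) (nat_lit 0x1010440141001510001140405541514)
 (Net.cons (nat_lit 2) (nat_lit 0x2020220220000020002020000002000)
 (Net.cons (nat_lit 4) (nat_lit 0x802040a0000080600040a0c0800000c)
 (Net.cons (nat_lit 8) (nat_lit 0xa80040009a00ae000800ea003000be)
 (Net.cons (nat_lit 16) (nat_lit 0x63240000df020000242a0000c6a4)
 (Net.cons (nat_lit 32) (nat_lit 0x1681610c00000000fe03a5ac)
 (Net.cons (nat_lit 64) (nat_lit 0x4e8d00604a82338a)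
 Net.nil)))))))))))))

noncomputable def ns_35 : Net :=
 (Net.cons (nat_lit 64) (nat_lit 0x16053621a336b479)
 (Net.cons (nat_lit 32) (nat_lit 0xc210e45d000000007e814d12)
 (Net.cons (nat_lit 16) (nat_lit 0xa47e0000222c000017230000c042)
 (Net.cons (nat_lit 8) (nat_lit 0x600d200b300140008001a00000050)
 (Net.cons (nat_lit 4) (nat_lit 0xe03040500030801000d0106040a0103)
 (Net.cons (nat_lit 2) (nat_lit 0x121030220022002301120123201022)
 (Net.cons (nat_lit 1) (nat_lit 0x4150011010104140101414101001041)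
 (Net.cons (nat_lit 2) (nat_lit 0x20020202000202000002000020)
 (Net.cons (nat_lit 4) (nat_lit 0x802040002000802040404000c080008)
 (Net.cons (nat_lit 8) (nat_lit 0x400c6009000100048004800c80090)
 (Net.cons (nat_lit 16) (nat_lit 0xb27e000033ae00009222000000a0)
 (Net.cons (nat_lit 32) (nat_lit 0xd211c450000000001eeb84d2)
 (Net.cons (nat_lit 64) (nat_lit 0x16053629bc07e460)
 Net.nil)))))))))))))

noncomputable def ns_36 : Net :=
 (Net.cons (nat_lit 64) (nat_lit 0x3f012c2b9d9e1)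
 (Net.cons (nat_lit 32) (nat_lit 0x8df89ad200000000cba030ae)
 (Net.cons (nat_lit 16) (nat_lit 0xf3000001420000090f00000f29c)
 (Net.cons (nat_lit 8) (nat_lit 0x1a007d0020009b0024005900b9001a)
 (Net.cons (nat_lit 4) (nat_lit 0x204030200000705020c0000010c050c)
 (Net.cons (nat_lit 2) (nat_lit 0x31223020002301120322003010222)
 (Net.cons (nat_lit 1) (nat_lit 0x10014014140005100044401011401014)
 (Net.cons (nat_lit 2) (nat_lit 0x20000002020000200020200022000002)
 (Net.cons (nat_lit 4) (nat_lit 0xa0c0a0c0200040400040a00020c080c)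
 (Net.cons (nat_lit 8) (nat_lit 0x1a00a80020008a002000d800b20098)
 (Net.cons (nat_lit 16) (nat_lit 0x8fa200001420000091300000b30c)
 (Net.cons (nat_lit 32) (nat_lit 0x8df91ac600000000ef783366)
 (Net.cons (nat_lit 64) (nat_lit 0x3f01d8458f948)
 Net.nil)))))))))))))

noncomputable def ns_37 : Net :=
 (Net.cons (nat_lit 64) (nat_lit 0x678b387d777c6c02)
 (Net.cons (nat_lit 32) (nat_lit 0xa4b2b6650000000095c9a960)
 (Net.cons (nat_lit 16) (nat_lit 0x3a63000029460000f9600000d3e6)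
 (Net.cons (nat_lit 8) (nat_lit 0x4100b600e900c40068006200040084)
 (Net.cons (nat_lit 4) (nat_lit 0x7020202050a0c030a000c000802000f)
 (Net.cons (nat_lit 2) (nat_lit 0x2220221022031000011330121001213)
 (Net.cons (nat_lit 1) (nat_lit 0x5101404410004014140410144100404)
 (Net.cons (nat_lit 2) (nat_lit 0x200200020000020220020200200200)
 (Net.cons (nat_lit 4) (nat_lit 0xa08000a0c080c000e0c0c0008020404)
 (Net.cons (nat_lit 8) (nat_lit 0x1a00b000a400940020006400940084)
 (Net.cons (nat_lit 16) (nat_lit 0x9c600000408400007420000093f0)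
 (Net.cons (nat_lit 32) (nat_lit 0xa73a964c000000001da9efe4)
 (Net.cons (nat_lit 64) (nat_lit 0x678b38771a0a4c8c)
 Net.nil)))))))))))))

noncomputable def ns_38 : Net :=
 (Net.cons (nat_lit 64) (nat_lit 0xc0f0d18239a5e040)
 (Net.cons (nat_lit 32) (nat_lit 0x49daa320000000002d108400)
 (Net.cons (nat_lit 16) (nat_lit 0xf90a0000981400001d5000005b04)
 (Net.cons (nat_lit 8) (nat_lit 0x400001009a0008001000a900a400d2)
 (Net.cons (nat_lit 4) (nat_lit 0xc020c040800090c0404040c0c0005)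
 (Net.cons (nat_lit 2) (nat_lit 0x30202220200000023000100222233013)
 (Net.cons (nat_lit 1) (nat_lit 0x50040140004104005000005101400114)
 (Net.cons (nat_lit 2) (nat_lit 0x220000000000000000202200002)
 (Net.cons (nat_lit 4) (nat_lit 0xc0204000800080c000404080c0002)
 (Net.cons (nat_lit 8) (nat_lit 0x400000008a0008001000a800a400d2)
 (Net.cons (nat_lit 16) (nat_lit 0xf9080000181000001d5000005b04)
 (Net.cons (nat_lit 32) (nat_lit 0x49daa220000000002d108400)
 (Net.cons (nat_lit 64) (nat_lit 0xc0f0d18330a5e040)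
 Net.nil)))))))))))))

noncomputable def ns_39 : Net :=
 (Net.cons (nat_lit 64) (nat_lit 0x152050b061356018)
 (Net.cons (nat_lit 32) (nat_lit 0x3f3c000000000000ae088005)
 (Net.cons (nat_lit 16) (nat_lit 0x6e280000b6200000c64800008420)
 (Net.cons (nat_lit 8) (nat_lit 0x50008400c000000082006800100060)
 (Net.cons (nat_lit 4) (nat_lit 0x10008040802080208040c0a0a0e0808)
 (Net.cons (nat_lit 2) (nat_lit 0x100212230020022000020123232221)
 (Net.cons (nat_lit 1) (nat_lit 0x41401404114540001004110400144)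
 (Net.cons (nat_lit 2) (nat_lit 0x202200020020000000020200202)
 (Net.cons (nat_lit 4) (nat_lit 0x4080208020800080a0a0e0806)
 (Net.cons (nat_lit 8) (nat_lit 0x50008400c000000002006800100060)
 (Net.cons (nat_lit 16) (nat_lit 0x6e080000b6200000c64000008420)
 (Net.cons (nat_lit 32) (nat_lit 0x3f3c000000000000ae08a000)
 (Net.cons (nat_lit 64) (nat_lit 0x152050b061356018)
 Net.nil)))))))))))))

noncomputable def ns_40 : Net :=
 (Net.cons (nat_lit 64) (nat_lit 0xe776e5d0611d0e10)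
 (Net.cons (nat_lit 32) (nat_lit 0x2c70f7a800000000ce97fc1a)
 (Net.cons (nat_lit 16) (nat_lit 0x3bee0000f9d80000668600001207)
 (Net.cons (nat_lit 8) (nat_lit 0x1a00b5002e004500e800ca000d0089)
 (Net.cons (nat_lit 4) (nat_lit 0x70e0e060200000c060c000b05080808)
 (Net.cons (nat_lit 2) (nat_lit 0x30203223001030303020200220000220)
 (Net.cons (nat_lit 1) (nat_lit 0x45441404045140114015104141010100)
 (Net.cons (nat_lit 2) (nat_lit 0x202202020000222000202220020200)
 (Net.cons (nat_lit 4) (nat_lit 0x6080806000004000608000406080808)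
 (Net.cons (nat_lit 8) (nat_lit 0x8e00b20024008000e8004c00040080)
 (Net.cons (nat_lit 16) (nat_lit 0xdcbc00003d860000369400001326)
 (Net.cons (nat_lit 32) (nat_lit 0x2e12d63200000000c696e638)
 (Net.cons (nat_lit 64) (nat_lit 0xe776e5d829ab8400)
 Net.nil)))))))))))))

noncomputable def ns_41 : Net :=
 (Net.cons (nat_lit 64) (nat_lit 0x92428869d041e91)
 (Net.cons (nat_lit 32) (nat_lit 0xa73d383b00000000a578ae23)
 (Net.cons (nat_lit 16) (nat_lit 0x1ea800000106000040ac00009853)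
 (Net.cons (nat_lit 8) (nat_lit 0x2d001a00a800c6005c00d2007600f2)
 (Net.cons (nat_lit 4) (nat_lit 0x40300020a000a0006000605080c0707)
 (Net.cons (nat_lit 2) (nat_lit 0x32220202020000032231000100302111)
 (Net.cons (nat_lit 1) (nat_lit 0x11101401010441444541450404101510)
 (Net.cons (nat_lit 2) (nat_lit 0x2200000000020002020000202000020)
 (Net.cons (nat_lit 4) (nat_lit 0x40200000a000a080202020c08000602)
 (Net.cons (nat_lit 8) (nat_lit 0x24001a00a80042005e008800f00060)
 (Net.cons (nat_lit 16) (nat_lit 0x1680000009000000c49400004c54)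
 (Net.cons (nat_lit 32) (nat_lit 0xa71d10b00000000025292d06)
 (Net.cons (nat_lit 64) (nat_lit 0x9242882b3a8d700)
 Net.nil)))))))))))))

noncomputable def ns_42 : Net :=
 (Net.cons (nat_lit 64) (nat_lit 0xe4b31bd172f4eb38)
 (Net.cons (nat_lit 32) (nat_lit 0x259767c40000000001706b0d)
 (Net.cons (nat_lit 16) (nat_lit 0x68e00000227200000c68000070cb)
 (Net.cons (nat_lit 8) (nat_lit 0x5100cf00de00c2000800ed000100b2)
 (Net.cons (nat_lit 4) (nat_lit 0x80c0c010a040b0c030c080002060209)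
 (Net.cons (nat_lit 2) (nat_lit 0x10030211300330120030020000013201)
 (Net.cons (nat_lit 1) (nat_lit 0x44014110404511101410444141400414)
 (Net.cons (nat_lit 2) (nat_lit 0x20200000020000020220202200220)
 (Net.cons (nat_lit 4) (nat_lit 0x80804020a0e020e020c080a0e0a0604)
 (Net.cons (nat_lit 8) (nat_lit 0x9400ec001600c000140084000400f6)
 (Net.cons (nat_lit 16) (nat_lit 0x9f40000aa720000044c0000508c)
 (Net.cons (nat_lit 32) (nat_lit 0x5267e8200000000017c2b06)
 (Net.cons (nat_lit 64) (nat_lit 0xe4b31bdfb0c4c408)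
 Net.nil)))))))))))))

noncomputable def ns_43 : Net :=
 (Net.cons (nat_lit 64) (nat_lit 0xfb45f0658d40f549)
 (Net.cons (nat_lit 32) (nat_lit 0xf39dba72000000008ac29163)
 (Net.cons (nat_lit 16) (nat_lit 0xd3e0000021e700000d580000023c)
 (Net.cons (nat_lit 8) (nat_lit 0xd4000a00250091000000bc0077004e)
 (Net.cons (nat_lit 4) (nat_lit 0xc0c000f0b04060b0806080b040d0c03)
 (Net.cons (nat_lit 2) (nat_lit 0x20012230122303110322000110220012)
 (Net.cons (nat_lit 1) (nat_lit 0x10040144114404010114144000444140)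
 (Net.cons (nat_lit 2) (nat_lit 0x220220202020202202000002000)
 (Net.cons (nat_lit 4) (nat_lit 0x80400020a0006080006020a04000e0e)
 (Net.cons (nat_lit 8) (nat_lit 0xfc001000c000f40082003800740062)
 (Net.cons (nat_lit 16) (nat_lit 0xa1a40000b5e2000007e80000662e)
 (Net.cons (nat_lit 32) (nat_lit 0xe09c4a54000000008a5091ec)
 (Net.cons (nat_lit 64) (nat_lit 0xfb45f0695b093718)
 Net.nil)))))))))))))

noncomputable def ns_44 : Net :=
 (Net.cons (nat_lit 64) (nat_lit 0x87cadc7b488ff46b)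
 (Net.cons (nat_lit 32) (nat_lit 0x26c8befd00000000d0c3f5ab)
 (Net.cons (nat_lit 16) (nat_lit 0x58a2000051720000d72000001b38)
 (Net.cons (nat_lit 8) (nat_lit 0x1c002600c5004c003c0050002e003e)
 (Net.cons (nat_lit 4) (nat_lit 0x20a08010103090c090b0004080a050b)
 (Net.cons (nat_lit 2) (nat_lit 0x22120203121321211211203201201032)
 (Net.cons (nat_lit 1) (nat_lit 0x41400010411510511504001140011141)
 (Net.cons (nat_lit 2) (nat_lit 0x2200000002020000000002200000200)
 (Net.cons (nat_lit 4) (nat_lit 0x80408020c02040c0c0000080c0a0400)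
 (Net.cons (nat_lit 8) (nat_lit 0x7c00260000004c00fe0070002a0014)
 (Net.cons (nat_lit 16) (nat_lit 0xd86a000094100000e7a000003b24)
 (Net.cons (nat_lit 32) (nat_lit 0x254a268200000000e0e2f620)
 (Net.cons (nat_lit 64) (nat_lit 0x87cadc715b1fe88a)
 Net.nil)))))))))))))

noncomputable def ns_45 : Net :=
 (Net.cons (nat_lit 64) (nat_lit 0x101009f840014980)
 (Net.cons (nat_lit 32) (nat_lit 0x147a104000000000cd014010)
 (Net.cons (nat_lit 16) (nat_lit 0x15b00000f188000048a00000c770)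
 (Net.cons (nat_lit 8) (nat_lit 0x180008002600ac00e4002000e10013)
 (Net.cons (nat_lit 4) (nat_lit 0x2000900010c0a020802010a0a0604)
 (Net.cons (nat_lit 2) (nat_lit 0x2000022012010212122022001023031)
 (Net.cons (nat_lit 1) (nat_lit 0x1400404401104104040440004051141)
 (Net.cons (nat_lit 2) (nat_lit 0x2000002000200202020200000000000)
 (Net.cons (nat_lit 4) (nat_lit 0x8000a0c08020c0c00080e0402)
 (Net.cons (nat_lit 8) (nat_lit 0x80008002600ac00e4002000640084)
 (Net.cons (nat_lit 16) (nat_lit 0x15b00000f188000048a00000e270)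
 (Net.cons (nat_lit 32) (nat_lit 0x147a100000000000e9010010)
 (Net.cons (nat_lit 64) (nat_lit 0x101009f840014980)
 Net.nil)))))))))))))

noncomputable def ns_46 : Net :=
 (Net.cons (nat_lit 64) (nat_lit 0x8a9a0ad542c100b0)
 (Net.cons (nat_lit 32) (nat_lit 0x3c821c50000000003d251020)
 (Net.cons (nat_lit 16) (nat_lit 0x8a880000c0240000290200008344)
 (Net.cons (nat_lit 8) (nat_lit 0x2000d2004a002c00200018008100f6)
 (Net.cons (nat_lit 4) (nat_lit 0x8080c09080c040c020408040a0c0e00)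
 (Net.cons (nat_lit 2) (nat_lit 0x22020202022000030000001003120200)
 (Net.cons (nat_lit 1) (nat_lit 0x14100000404500000101040015011441)
 (Net.cons (nat_lit 2) (nat_lit 0x22000000002000000000000000020200)
 (Net.cons (nat_lit 4) (nat_lit 0x8080808080c000c020008040a0c0600)
 (Net.cons (nat_lit 8) (nat_lit 0x200050004a000400200010000000f2)
 (Net.cons (nat_lit 16) (nat_lit 0x8a800000c0240000090200008344)
 (Net.cons (nat_lit 32) (nat_lit 0x34821c40000000003c251020)
 (Net.cons (nat_lit 64) (nat_lit 0x8a9a0ad542c100b0)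
 Net.nil)))))))))))))

noncomputable def ns_47 : Net :=
 (Net.cons (nat_lit 64) (nat_lit 0xafc09f1ecc7c9ff9)
 (Net.cons (nat_lit 32) (nat_lit 0x8edc22a70000000053b0caa3)
 (Net.cons (nat_lit 16) (nat_lit 0x25c00000b8420000aa510000758a)
 (Net.cons (nat_lit 8) (nat_lit 0x88007f00d700ca000d00e400c10008)
 (Net.cons (nat_lit 4) (nat_lit 0x2040c0b0c0202090a00060b0f0b0804)
 (Net.cons (nat_lit 2) (nat_lit 0x22101001012101102200001023111020)
 (Net.cons (nat_lit 1) (nat_lit 0x5401014011000044041405010511041)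
 (Net.cons (nat_lit 2) (nat_lit 0x2020002000022000200020002020)
 (Net.cons (nat_lit 4) (nat_lit 0x2040a00040004040400040a06000c02)
 (Net.cons (nat_lit 8) (nat_lit 0x5000d4009e006600e6003c0038)
 (Net.cons (nat_lit 16) (nat_lit 0xa4d400007b000000eadc000075e0)
 (Net.cons (nat_lit 32) (nat_lit 0xa11cb5a00000000053838ae8)
 (Net.cons (nat_lit 64) (nat_lit 0xafc09f176a986d7c)
 Net.nil)))))))))))))

noncomputable def ns_48 : Net :=
 (Net.cons (nat_lit 64) (nat_lit 0x7debf3953eb2e1b3)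
 (Net.cons (nat_lit 32) (nat_lit 0xfa321aba00000000c7dc8ef0)
 (Net.cons (nat_lit 16) (nat_lit 0x1e8c0000a68f0000403c00009962)
 (Net.cons (nat_lit 8) (nat_lit 0xf500d000de002f00700088007300f6)
 (Net.cons (nat_lit 4) (nat_lit 0x70a0f04020f0e0b0708040d08060207)
 (Net.cons (nat_lit 2) (nat_lit 0x30101201013330102100023210300232)
 (Net.cons (nat_lit 1) (nat_lit 0x41401104405140040104041440400414)
 (Net.cons (nat_lit 2) (nat_lit 0x22202002200000020000002000200222)
 (Net.cons (nat_lit 4) (nat_lit 0xc080e0e08000e0a0200040408040006)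
 (Net.cons (nat_lit 8) (nat_lit 0xb400e80052007a00f40006005000f2)
 (Net.cons (nat_lit 16) (nat_lit 0xdd9e00008202000040700000a960)
 (Net.cons (nat_lit 32) (nat_lit 0xe21949ba0000000045c882d0)
 (Net.cons (nat_lit 64) (nat_lit 0x7debf3939bc5c830)
 Net.nil)))))))))))))

noncomputable def ns_49 : Net :=
 (Net.cons (nat_lit 64) (nat_lit 0xde398301a1fddcf8)
 (Net.cons (nat_lit 32) (nat_lit 0xb1ae6edf00000000b2eb8bec)
 (Net.cons (nat_lit 16) (nat_lit 0xd67a000094550000e7c6000009a8)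
 (Net.cons (nat_lit 8) (nat_lit 0x49007300aa006900d800f90018005d)
 (Net.cons (nat_lit 4) (nat_lit 0xe090007080805020608010c0c00050c)
 (Net.cons (nat_lit 2) (nat_lit 0x3120111300323000203323030222023)
 (Net.cons (nat_lit 1) (nat_lit 0x41041040400440104111100150404011)
 (Net.cons (nat_lit 2) (nat_lit 0x22002020000200002002000000202022)
 (Net.cons (nat_lit 4) (nat_lit 0x8080a0408000c02020a000408040008)
 (Net.cons (nat_lit 8) (nat_lit 0xd600a20078003e00600070005c)
 (Net.cons (nat_lit 16) (nat_lit 0x90740000147c0000c7820000412a)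
 (Net.cons (nat_lit 32) (nat_lit 0xe7afeed000000000b22fd7d0)
 (Net.cons (nat_lit 64) (nat_lit 0xde398306b2fdba9e)
 Net.nil)))))))))))))

noncomputable def ns_50 : Net :=
 (Net.cons (nat_lit 64) (nat_lit 0x22ab12f92d846028)
 (Net.cons (nat_lit 32) (nat_lit 0x87f98a08000000001c56a000)
 (Net.cons (nat_lit 16) (nat_lit 0x8f82000048ea0000204000002c30)
 (Net.cons (nat_lit 8) (nat_lit 0x20003400a000c00010000000a000f6)
 (Net.cons (nat_lit 4) (nat_lit 0xa000104020402020c0000040b0d0206)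
 (Net.cons (nat_lit 2) (nat_lit 0x22022220000322133002000131221212)
 (Net.cons (nat_lit 1) (nat_lit 0x510410100010050004400014114414)
 (Net.cons (nat_lit 2) (nat_lit 0x20220200000000002000020222200)
 (Net.cons (nat_lit 4) (nat_lit 0x20402020c00000404000a08)
 (Net.cons (nat_lit 8) (nat_lit 0x200034008000c00010000000a00008)
 (Net.cons (nat_lit 16) (nat_lit 0x8f8000005a6a0000204000002c30)
 (Net.cons (nat_lit 32) (nat_lit 0x87f98a08000000001c56a000)
 (Net.cons (nat_lit 64) (nat_lit 0x22ab12f925844028)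
 Net.nil)))))))))))))

noncomputable def ns_51 : Net :=
 (Net.cons (nat_lit 64) (nat_lit 0x154014326e0c3044)
 (Net.cons (nat_lit 32) (nat_lit 0x253064100000000088318140)
 (Net.cons (nat_lit 16) (nat_lit 0x542000001d840000c822000098d0)
 (Net.cons (nat_lit 8) (nat_lit 0x100000000c003000c600be0078)
 (Net.cons (nat_lit 4) (nat_lit 0x20004010a0008000204080a0e0d0a0a)
 (Net.cons (nat_lit 2) (nat_lit 0x10102000010203220020032231130200)
 (Net.cons (nat_lit 1) (nat_lit 0x1004000104100445041400050415440)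
 (Net.cons (nat_lit 2) (nat_lit 0x2000000200220020000000020200)
 (Net.cons (nat_lit 4) (nat_lit 0x200040002000800020408000e000a08)
 (Net.cons (nat_lit 8) (nat_lit 0x100000000400300044009e0030)
 (Net.cons (nat_lit 16) (nat_lit 0x540000001d840000c82200009010)
 (Net.cons (nat_lit 32) (nat_lit 0x253064000000000080318100)
 (Net.cons (nat_lit 64) (nat_lit 0x154014326e0c3040)
 Net.nil)))))))))))))

noncomputable def ns_52 : Net :=
 (Net.cons (nat_lit 64) (nat_lit 0xcdd9d1c360d4253a)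
 (Net.cons (nat_lit 32) (nat_lit 0x9530186400000000cb37e5ec)
 (Net.cons (nat_lit 16) (nat_lit 0x40250000658e0000b8660000146c)
 (Net.cons (nat_lit 8) (nat_lit 0x7d004000f5003c00b0006d0038007c)
 (Net.cons (nat_lit 4) (nat_lit 0xe000c08010e05030308080002060c00)
 (Net.cons (nat_lit 2) (nat_lit 0x320320000012322022210202303002)
 (Net.cons (nat_lit 1) (nat_lit 0x1110140044401544141155104400004)
 (Net.cons (nat_lit 2) (nat_lit 0x2220200022002022020000200200000)
 (Net.cons (nat_lit 4) (nat_lit 0x2000c0008000c00000e080000060800)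
 (Net.cons (nat_lit 8) (nat_lit 0xf400480070003c00d000de0038007c)
 (Net.cons (nat_lit 16) (nat_lit 0x8c000040940000336400001444)
 (Net.cons (nat_lit 32) (nat_lit 0x917818e400000000eb17ede4)
 (Net.cons (nat_lit 64) (nat_lit 0xcdd9d1c36cd5e8b8)
 Net.nil)))))))))))))

noncomputable def ns_53 : Net :=
 (Net.cons (nat_lit 64) (nat_lit 0x36688204adbb0bf0)
 (Net.cons (nat_lit 32) (nat_lit 0x693f7a1a00000000a86fc35d)
 (Net.cons (nat_lit 16) (nat_lit 0x64080000a04c0000e98e00006552)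
 (Net.cons (nat_lit 8) (nat_lit 0x33001e0000002e00c5009c00720049)
 (Net.cons (nat_lit 4) (nat_lit 0x70b0207080c080804080804030e040b)
 (Net.cons (nat_lit 2) (nat_lit 0x3311230022020230002100312201201)
 (Net.cons (nat_lit 1) (nat_lit 0x10505440044001410041145411450144)
 (Net.cons (nat_lit 2) (nat_lit 0x220002000220002220022200200)
 (Net.cons (nat_lit 4) (nat_lit 0x60a0c060804080a0000040c0a0e0400)
 (Net.cons (nat_lit 8) (nat_lit 0x42001a0004002c00c400ac00f00054)
 (Net.cons (nat_lit 16) (nat_lit 0x3c0c0000a2440000e1a200002dc6)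
 (Net.cons (nat_lit 32) (nat_lit 0x4d7ff81c00000000206bdbdc)
 (Net.cons (nat_lit 64) (nat_lit 0x366882008ee79de0)
 Net.nil)))))))))))))

noncomputable def ns_54 : Net :=
 (Net.cons (nat_lit 64) (nat_lit 0xdf5b6a90a6c0edd0)
 (Net.cons (nat_lit 32) (nat_lit 0x6f52a916000000004404c824)
 (Net.cons (nat_lit 16) (nat_lit 0xcec80000c73c0000d4e000003cd5)
 (Net.cons (nat_lit 8) (nat_lit 0x68001e00d400ae0094008900030084)
 (Net.cons (nat_lit 4) (nat_lit 0x2030c0406070b020008040209090200)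
 (Net.cons (nat_lit 2) (nat_lit 0x20021201103032102010020203012320)
 (Net.cons (nat_lit 1) (nat_lit 0x10410104444441144014410115440410)
 (Net.cons (nat_lit 2) (nat_lit 0x220000202000202000020000200200)
 (Net.cons (nat_lit 4) (nat_lit 0xa080c0002060a06000c0c020a08020a)
 (Net.cons (nat_lit 8) (nat_lit 0xe2001a008000dc00d000880026008c)
 (Net.cons (nat_lit 16) (nat_lit 0xe6c00000d32e000094c000001ca4)
 (Net.cons (nat_lit 32) (nat_lit 0xfb5b8b840000000064244c4c)
 (Net.cons (nat_lit 64) (nat_lit 0xdf5b6a91004097da)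
 Net.nil)))))))))))))

noncomputable def ns_55 : Net :=
 (Net.cons (nat_lit 64) (nat_lit 0x772e2a99058eb7fe)
 (Net.cons (nat_lit 32) (nat_lit 0xbc3e72b30000000021281ad8)
 (Net.cons (nat_lit 16) (nat_lit 0x621e00000a8e000084940000ee96)
 (Net.cons (nat_lit 8) (nat_lit 0x3e0004000500fe00bd00ca006000d2)
 (Net.cons (nat_lit 4) (nat_lit 0x8060a020e04040a080008020c00070e)
 (Net.cons (nat_lit 2) (nat_lit 0x20103220100023012320122000210123)
 (Net.cons (nat_lit 1) (nat_lit 0x4104411414110051144415104401011)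
 (Net.cons (nat_lit 2) (nat_lit 0x2000220200220000200020200200020)
 (Net.cons (nat_lit 4) (nat_lit 0x40408020804080a0800000a08060608)
 (Net.cons (nat_lit 8) (nat_lit 0x4003e002c007c003400180064004a)
 (Net.cons (nat_lit 16) (nat_lit 0x2200000cc2000004b40000ead0)
 (Net.cons (nat_lit 32) (nat_lit 0xef12722e0000000029681bdc)
 (Net.cons (nat_lit 64) (nat_lit 0x772e2a9509dd292e)
 Net.nil)))))))))))))

noncomputable def ns_56 : Net :=
 (Net.cons (nat_lit 64) (nat_lit 0x6a2a46055b6317ec)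
 (Net.cons (nat_lit 32) (nat_lit 0xae2c56050000000040545704)
 (Net.cons (nat_lit 16) (nat_lit 0x1c260000b9120000ee93000039ca)
 (Net.cons (nat_lit 8) (nat_lit 0xe004000e00043003f00900023009b)
 (Net.cons (nat_lit 4) (nat_lit 0x404050309080e04080f03010c)
 (Net.cons (nat_lit 2) (nat_lit 0x20020002010312310002300212122020)
 (Net.cons (nat_lit 1) (nat_lit 0x14040401010410150550104111441150)
 (Net.cons (nat_lit 2) (nat_lit 0x20000020000200000202220020200)
 (Net.cons (nat_lit 4) (nat_lit 0x60000020e040002080e00040c020004)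
 (Net.cons (nat_lit 8) (nat_lit 0xc004400000028002a00c000a0002a)
 (Net.cons (nat_lit 16) (nat_lit 0x1a2a0000b8ea0000aa060000104c)
 (Net.cons (nat_lit 32) (nat_lit 0xc60c500c00000000c1106e42)
 (Net.cons (nat_lit 64) (nat_lit 0x6a2a4606f3d23742)
 Net.nil)))))))))))))

noncomputable def ns_57 : Net :=
 (Net.cons (nat_lit 64) (nat_lit 0xe6c4cca403c8620)
 (Net.cons (nat_lit 32) (nat_lit 0xae5ec2d000000000200a5600)
 (Net.cons (nat_lit 16) (nat_lit 0x8e880000280800001022000041f2)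
 (Net.cons (nat_lit 8) (nat_lit 0xbc00c0002c00310010001900be004c)
 (Net.cons (nat_lit 4) (nat_lit 0xe0208090200040601020c00020c0e08)
 (Net.cons (nat_lit 2) (nat_lit 0x32020000002221030002020201202100)
 (Net.cons (nat_lit 1) (nat_lit 0x50444000044144510010440410054050)
 (Net.cons (nat_lit 2) (nat_lit 0x200000002220020000020200002000)
 (Net.cons (nat_lit 4) (nat_lit 0xe0c08000000040600020c00000c060a)
 (Net.cons (nat_lit 8) (nat_lit 0xbc00c0002c00780010000800be004c)
 (Net.cons (nat_lit 16) (nat_lit 0x8e88000028080000102200004140)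
 (Net.cons (nat_lit 32) (nat_lit 0xa25ec29000000000200a5600)
 (Net.cons (nat_lit 64) (nat_lit 0xe6c4cca403c8620)
 Net.nil)))))))))))))

noncomputable def ns_58 : Net :=
 (Net.cons (nat_lit 64) (nat_lit 0x300a040301780008)
 (Net.cons (nat_lit 32) (nat_lit 0x920a0480000000008b14a850)
 (Net.cons (nat_lit 16) (nat_lit 0x220000002c7f0000f6800000daa8)
 (Net.cons (nat_lit 8) (nat_lit 0x8000840048002500220082001800d0)
 (Net.cons (nat_lit 4) (nat_lit 0x800000b0609060d0300000c050e08)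
 (Net.cons (nat_lit 2) (nat_lit 0x2200032212032000000220200023)
 (Net.cons (nat_lit 1) (nat_lit 0x404444150010451045144005405)
 (Net.cons (nat_lit 2) (nat_lit 0x200022200000000000200000000)
 (Net.cons (nat_lit 4) (nat_lit 0xa0008000c00000000000208)
 (Net.cons (nat_lit 8) (nat_lit 0x8000840024004400220080001800d0)
 (Net.cons (nat_lit 16) (nat_lit 0x2200000071040000f6800000daa8)
 (Net.cons (nat_lit 32) (nat_lit 0x920a0480000000008b14a850)
 (Net.cons (nat_lit 64) (nat_lit 0x300a040321784000)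
 Net.nil)))))))))))))

noncomputable def ns_59 : Net :=
 (Net.cons (nat_lit 64) (nat_lit 0xa451043e6d260040)
 (Net.cons (nat_lit 32) (nat_lit 0x8c6e01900000000042539204)
 (Net.cons (nat_lit 16) (nat_lit 0x2074000041600000138e000005a0)
 (Net.cons (nat_lit 8) (nat_lit 0x1600600010000500f0001a0084000a)
 (Net.cons (nat_lit 4) (nat_lit 0x808000e0600000a00050004020c0100)
 (Net.cons (nat_lit 2) (nat_lit 0x22212110322001310000001201222203)
 (Net.cons (nat_lit 1) (nat_lit 0x14004001044010505100410100400410)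
 (Net.cons (nat_lit 2) (nat_lit 0x22002000022000000000000200200200)
 (Net.cons (nat_lit 4) (nat_lit 0x80800060600000a00000004000c0000)
 (Net.cons (nat_lit 8) (nat_lit 0x1600600010000000f200180084000a)
 (Net.cons (nat_lit 16) (nat_lit 0x2074000041600000108400000520)
 (Net.cons (nat_lit 32) (nat_lit 0x8c6e01900000000042539204)
 (Net.cons (nat_lit 64) (nat_lit 0xa451043e6d260040)
 Net.nil)))))))))))))

noncomputable def ns_60 : Net :=
 (Net.cons (nat_lit 64) (nat_lit 0x7cac6f496388a3a3)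
 (Net.cons (nat_lit 32) (nat_lit 0xc471680000000000eba511d7)
 (Net.cons (nat_lit 16) (nat_lit 0x56f700003c5c0000c9e4000016da)
 (Net.cons (nat_lit 8) (nat_lit 0x6600a400dc00af00120099009d00d0)
 (Net.cons (nat_lit 4) (nat_lit 0x80508070a0f0e01020c0c010c0004)
 (Net.cons (nat_lit 2) (nat_lit 0x212320010023202001200122121000)
 (Net.cons (nat_lit 1) (nat_lit 0x4401110444001411101145410010445)
 (Net.cons (nat_lit 2) (nat_lit 0x2002220022002202000200020020200)
 (Net.cons (nat_lit 4) (nat_lit 0xc0e08080808060402060402080c0602)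
 (Net.cons (nat_lit 8) (nat_lit 0x2200c000a8008600320010001c00f4)
 (Net.cons (nat_lit 16) (nat_lit 0x5ef60000637a000049f2000096d2)
 (Net.cons (nat_lit 32) (nat_lit 0xd8f1224c00000000eaa41172)
 (Net.cons (nat_lit 64) (nat_lit 0x7cac6f49a04cb606)
 Net.nil)))))))))))))

noncomputable def ns_61 : Net :=
 (Net.cons (nat_lit 64) (nat_lit 0x3149cbecdbf5f08f)
 (Net.cons (nat_lit 32) (nat_lit 0x3e485b2b0000000016346434)
 (Net.cons (nat_lit 16) (nat_lit 0xdb640000471a0000be120000be08)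
 (Net.cons (nat_lit 8) (nat_lit 0x690008003800e8007000b200370068)
 (Net.cons (nat_lit 4) (nat_lit 0x70400080208020604080e0508050208)
 (Net.cons (nat_lit 2) (nat_lit 0x13210002133200322010221213112321)
 (Net.cons (nat_lit 1) (nat_lit 0x10440141104501054004544150414104)
 (Net.cons (nat_lit 2) (nat_lit 0x200200002000002002020000002202)
 (Net.cons (nat_lit 4) (nat_lit 0x80400000808020c040c0a0c08000600)
 (Net.cons (nat_lit 8) (nat_lit 0x44000200e80000005400a00068006c)
 (Net.cons (nat_lit 16) (nat_lit 0xd264000027880000ae0000003c92)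
 (Net.cons (nat_lit 32) (nat_lit 0x1f499ba00000000014246420)
 (Net.cons (nat_lit 64) (nat_lit 0x3149cbec1053130a)
 Net.nil)))))))))))))

noncomputable def ns_62 : Net :=
 (Net.cons (nat_lit 64) (nat_lit 0x17e04c79cfda49ca)
 (Net.cons (nat_lit 32) (nat_lit 0x33823001000000009ebb20d3)
 (Net.cons (nat_lit 16) (nat_lit 0x2416000017f8000018050000468f)
 (Net.cons (nat_lit 8) (nat_lit 0x76000400c10089004000b6005b005b)
 (Net.cons (nat_lit 4) (nat_lit 0x1000808000d040e0409040e00000801)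
 (Net.cons (nat_lit 2) (nat_lit 0x21022021020333301010120333020220)
 (Net.cons (nat_lit 1) (nat_lit 0x40141040414114041005411414400144)
 (Net.cons (nat_lit 2) (nat_lit 0x20222000002222000000000020000020)
 (Net.cons (nat_lit 4) (nat_lit 0x402080e0c08000a0406040c0c040a04)
 (Net.cons (nat_lit 8) (nat_lit 0x70000c004c000e005000ac00900072)
 (Net.cons (nat_lit 16) (nat_lit 0x140000da5000008a820000af80)
 (Net.cons (nat_lit 32) (nat_lit 0x22027402000000007ebd92de)
 (Net.cons (nat_lit 64) (nat_lit 0x17e04c78b95a943e)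
 Net.nil)))))))))))))

noncomputable def ns_63 : Net :=
 (Net.cons (nat_lit 64) (nat_lit 0xdc07b26183cc800)
 (Net.cons (nat_lit 32) (nat_lit 0xcd58dc920000000032eb2c0c)
 (Net.cons (nat_lit 16) (nat_lit 0xee200000060700004e780000c6e0)
 (Net.cons (nat_lit 8) (nat_lit 0xea00040028006a008e009400e800f8)
 (Net.cons (nat_lit 4) (nat_lit 0x60c0d0c00000f0200000004060c0506)
 (Net.cons (nat_lit 2) (nat_lit 0x3022210000302230212322031202231)
 (Net.cons (nat_lit 1) (nat_lit 0x40141101114044401001540550114050)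
 (Net.cons (nat_lit 2) (nat_lit 0x22200000002200002020000202000)
 (Net.cons (nat_lit 4) (nat_lit 0x604000400020c00000000040e000406)
 (Net.cons (nat_lit 8) (nat_lit 0xea000400280008000a0094005000f8)
 (Net.cons (nat_lit 16) (nat_lit 0xee2000002e0000004e780000c6e0)
 (Net.cons (nat_lit 32) (nat_lit 0xcd58dc920000000032eb2c0c)
 (Net.cons (nat_lit 64) (nat_lit 0xdc07b26183cc800)
 Net.nil)))))))))))))

noncomputable def ns_64 : Net :=
 (Net.cons (nat_lit 64) (nat_lit 0xdf79500ab2ea1000)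
 (Net.cons (nat_lit 32) (nat_lit 0xe40cd402000000003184c608)
 (Net.cons (nat_lit 16) (nat_lit 0x44340000364200005440000059ce)
 (Net.cons (nat_lit 8) (nat_lit 0x2800d400e800e800e4009000b200e8)
 (Net.cons (nat_lit 4) (nat_lit 0xc00040f01040c000c000b060c02020f)
 (Net.cons (nat_lit 2) (nat_lit 0x13211002022000130222223002012000)
 (Net.cons (nat_lit 1) (nat_lit 0x5400044401555000144110151504411)
 (Net.cons (nat_lit 2) (nat_lit 0x200020002000000222220002000200)
 (Net.cons (nat_lit 4) (nat_lit 0xc00040000040000080000060e000c00)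
 (Net.cons (nat_lit 8) (nat_lit 0x2000d400c800e800e40090008000e8)
 (Net.cons (nat_lit 16) (nat_lit 0x44340000364200005440000059ce)
 (Net.cons (nat_lit 32) (nat_lit 0xe40cd402000000003184c600)
 (Net.cons (nat_lit 64) (nat_lit 0xdf79500ab2ea1000)
 Net.nil)))))))))))))

noncomputable def ns_65 : Net :=
 (Net.cons (nat_lit 64) (nat_lit 0x44d2195942fa5000)
 (Net.cons (nat_lit 32) (nat_lit 0xcc031e100000000013078488)
 (Net.cons (nat_lit 16) (nat_lit 0x4042000044b40000860d00009712)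
 (Net.cons (nat_lit 8) (nat_lit 0x94000800fc00e80086002000240012)
 (Net.cons (nat_lit 4) (nat_lit 0x8060a050f0609060a0008000c0f0e00)
 (Net.cons (nat_lit 2) (nat_lit 0x20210102330231222022222300110330)
 (Net.cons (nat_lit 1) (nat_lit 0x10405000001414011101400511414555)
 (Net.cons (nat_lit 2) (nat_lit 0x20200000000220022002200000220000)
 (Net.cons (nat_lit 4) (nat_lit 0x8060a00000604020a00080000000e00)
 (Net.cons (nat_lit 8) (nat_lit 0x14000800fc00c80080002000240012)
 (Net.cons (nat_lit 16) (nat_lit 0x4042000044b40000860400009712)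
 (Net.cons (nat_lit 32) (nat_lit 0xcc031e100000000013078488)
 (Net.cons (nat_lit 64) (nat_lit 0x44d2195942ea5000)
 Net.nil)))))))))))))

noncomputable def ns_66 : Net :=
 (Net.cons (nat_lit 64) (nat_lit 0x1d0140c12dd84640)
 (Net.cons (nat_lit 32) (nat_lit 0xd5000e8000000006130a328)
 (Net.cons (nat_lit 16) (nat_lit 0x10000029a00000e48c00007162)
 (Net.cons (nat_lit 8) (nat_lit 0x4800600056003a0048004b003c)
 (Net.cons (nat_lit 4) (nat_lit 0x10408070d0c0d0004040a080000000f)
 (Net.cons (nat_lit 2) (nat_lit 0x10031022222023220202020021031)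
 (Net.cons (nat_lit 1) (nat_lit 0x4041400411540140014441410414)
 (Net.cons (nat_lit 2) (nat_lit 0x20000222020220002022000020)
 (Net.cons (nat_lit 4) (nat_lit 0x408000c0c000004040a0800000000)
 (Net.cons (nat_lit 8) (nat_lit 0x4800600056003800480040003c)
 (Net.cons (nat_lit 16) (nat_lit 0x10000029a00000e48c00007142)
 (Net.cons (nat_lit 32) (nat_lit 0xd500068000000006130a328)
 (Net.cons (nat_lit 64) (nat_lit 0x1d0140c129580640)
 Net.nil)))))))))))))

noncomputable def ns_67 : Net :=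
 (Net.cons (nat_lit 64) (nat_lit 0xe5853ef3c60617a8)
 (Net.cons (nat_lit 32) (nat_lit 0x402b971200000000e9243a42)
 (Net.cons (nat_lit 16) (nat_lit 0xa62d0000515600007002000041de)
 (Net.cons (nat_lit 8) (nat_lit 0x6000f800cc00f000ac005e00aa0084)
 (Net.cons (nat_lit 4) (nat_lit 0xc0a040506070f0804080a0106010008)
 (Net.cons (nat_lit 2) (nat_lit 0x22210222223010313210030203020033)
 (Net.cons (nat_lit 1) (nat_lit 0x41041140140414104410440154040000)
 (Net.cons (nat_lit 2) (nat_lit 0x22020220220022202000020000020000)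
 (Net.cons (nat_lit 4) (nat_lit 0xc06000c000a0c080000000008000000)
 (Net.cons (nat_lit 8) (nat_lit 0x4200c4004800c800b4001400a00084)
 (Net.cons (nat_lit 16) (nat_lit 0x8280000009d60000cb0c00004164)
 (Net.cons (nat_lit 32) (nat_lit 0xc4aabde400000000e9243a42)
 (Net.cons (nat_lit 64) (nat_lit 0xe5853ef2c62603a8)
 Net.nil)))))))))))))

noncomputable def ns_68 : Net :=
 (Net.cons (nat_lit 64) (nat_lit 0xe21410c0a5814250)
 (Net.cons (nat_lit 32) (nat_lit 0x220700c0000000002b612320)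
 (Net.cons (nat_lit 16) (nat_lit 0x2250000047280000b47000004046)
 (Net.cons (nat_lit 8) (nat_lit 0x8200040048001200aa0014008800c0)
 (Net.cons (nat_lit 4) (nat_lit 0x4040008010c02040a09000400020a08)
 (Net.cons (nat_lit 2) (nat_lit 0x2010220221013020000011000332000)
 (Net.cons (nat_lit 1) (nat_lit 0x4401410440405100500000444504551)
 (Net.cons (nat_lit 2) (nat_lit 0x2000220220000000000000000002000)
 (Net.cons (nat_lit 4) (nat_lit 0x4040008000c02000a00000400020a08)
 (Net.cons (nat_lit 8) (nat_lit 0x8200040040001200a80014008800c0)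
 (Net.cons (nat_lit 16) (nat_lit 0x2250000047280000947000004046)
 (Net.cons (nat_lit 32) (nat_lit 0x22070040000000002b612320)
 (Net.cons (nat_lit 64) (nat_lit 0xe21410c0a5010250)
 Net.nil)))))))))))))

noncomputable def ns_69 : Net :=
 (Net.cons (nat_lit 64) (nat_lit 0x8001205806964280)
 (Net.cons (nat_lit 32) (nat_lit 0x8a0108600000000064083280)
 (Net.cons (nat_lit 16) (nat_lit 0x2010000010150000130000001368)
 (Net.cons (nat_lit 8) (nat_lit 0x4000600000006e001800d800c7)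
 (Net.cons (nat_lit 4) (nat_lit 0xa010802080e04080c02020400040d04)
 (Net.cons (nat_lit 2) (nat_lit 0x22310210022001223201133)
 (Net.cons (nat_lit 1) (nat_lit 0x4004010001104114040000410514)
 (Net.cons (nat_lit 2) (nat_lit 0x20000202020000000200022)
 (Net.cons (nat_lit 4) (nat_lit 0x8000800040c0c02000400040804)
 (Net.cons (nat_lit 8) (nat_lit 0x40002000400002001800880010)
 (Net.cons (nat_lit 16) (nat_lit 0x2010000050500000130000001368)
 (Net.cons (nat_lit 32) (nat_lit 0x8a0108600000000064083280)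
 (Net.cons (nat_lit 64) (nat_lit 0x8001205806964200)
 Net.nil)))))))))))))

noncomputable def ns_70 : Net :=
 (Net.cons (nat_lit 64) (nat_lit 0x864a14a420129b12)
 (Net.cons (nat_lit 32) (nat_lit 0x66260509000000003163c014)
 (Net.cons (nat_lit 16) (nat_lit 0x646000006270000022520000b880)
 (Net.cons (nat_lit 8) (nat_lit 0x800840080008400000020003800a2)
 (Net.cons (nat_lit 4) (nat_lit 0xc000004040b0c010004000c08020c00)
 (Net.cons (nat_lit 2) (nat_lit 0x2020102212202130010022000003103)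
 (Net.cons (nat_lit 1) (nat_lit 0x40045001401140410100410104015050)
 (Net.cons (nat_lit 2) (nat_lit 0x20002202200020000020000000000)
 (Net.cons (nat_lit 4) (nat_lit 0xc00000004000c0c0004000808020c00)
 (Net.cons (nat_lit 8) (nat_lit 0x800840080008400000020002000a2)
 (Net.cons (nat_lit 16) (nat_lit 0x644000006270000022520000b800)
 (Net.cons (nat_lit 32) (nat_lit 0x66260500000000003143c014)
 (Net.cons (nat_lit 64) (nat_lit 0x864a14a420129b10)
 Net.nil)))))))))))))

noncomputable def ns_71 : Net :=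
 (Net.cons (nat_lit 64) (nat_lit 0x180a174622181010)
 (Net.cons (nat_lit 32) (nat_lit 0x185646480000000009508012)
 (Net.cons (nat_lit 16) (nat_lit 0x55400003d200000e5280000aaa2)
 (Net.cons (nat_lit 8) (nat_lit 0xa0000008800860000008e00540093)
 (Net.cons (nat_lit 4) (nat_lit 0xc030a0200000008040900080c)
 (Net.cons (nat_lit 2) (nat_lit 0x1021130220020210000202200010)
 (Net.cons (nat_lit 1) (nat_lit 0x5000010140111014004055144011505)
 (Net.cons (nat_lit 2) (nat_lit 0x20020220020000000202000000)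
 (Net.cons (nat_lit 4) (nat_lit 0xc04080200000008040800080c)
 (Net.cons (nat_lit 8) (nat_lit 0xa0000008000800000002a005400b0)
 (Net.cons (nat_lit 16) (nat_lit 0x55000003d200000e5280000aaa2)
 (Net.cons (nat_lit 32) (nat_lit 0x105646080000000029708002)
 (Net.cons (nat_lit 64) (nat_lit 0x180a174622181010)
 Net.nil)))))))))))))

noncomputable def ns_72 : Net :=
 (Net.cons (nat_lit 64) (nat_lit 0x9501e11fca91b6fd)
 (Net.cons (nat_lit 32) (nat_lit 0x9502042000000000737cca46)
 (Net.cons (nat_lit 16) (nat_lit 0xa11a00002af9000069ae00005ddb)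
 (Net.cons (nat_lit 8) (nat_lit 0x120045004e0053006200c800eb0048)
 (Net.cons (nat_lit 4) (nat_lit 0x9000800090f0602000c000e08020004)
 (Net.cons (nat_lit 2) (nat_lit 0x20222012002200022212033220221)
 (Net.cons (nat_lit 1) (nat_lit 0x14010144141014451014110441010040)
 (Net.cons (nat_lit 2) (nat_lit 0x2020222000020200020020222000000)
 (Net.cons (nat_lit 4) (nat_lit 0xa00080008020c0e0004040404000000)
 (Net.cons (nat_lit 8) (nat_lit 0x12004000de00780030002a00e00068)
 (Net.cons (nat_lit 16) (nat_lit 0xa118000082600000690000005f40)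
 (Net.cons (nat_lit 32) (nat_lit 0x2a43400000000335cce44)
 (Net.cons (nat_lit 64) (nat_lit 0x9501e11b8abb5076)
 Net.nil)))))))))))))

noncomputable def ns_73 : Net :=
 (Net.cons (nat_lit 64) (nat_lit 0x11b03907a0648660)
 (Net.cons (nat_lit 32) (nat_lit 0xb78061100000000080482284)
 (Net.cons (nat_lit 16) (nat_lit 0x23320000c9040000ea080000cb01)
 (Net.cons (nat_lit 8) (nat_lit 0x820005008200180040004800e200a2)
 (Net.cons (nat_lit 4) (nat_lit 0x4000808080406090800000c040d0008)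
 (Net.cons (nat_lit 2) (nat_lit 0x20000220200123022002223000122311)
 (Net.cons (nat_lit 1) (nat_lit 0x41005400111045004401000401114504)
 (Net.cons (nat_lit 2) (nat_lit 0x20000200200020002002000000202000)
 (Net.cons (nat_lit 4) (nat_lit 0x4000808080400080800000c00060008)
 (Net.cons (nat_lit 8) (nat_lit 0x20004000200180040004800e200a2)
 (Net.cons (nat_lit 16) (nat_lit 0x23220000c9000000e80800004904)
 (Net.cons (nat_lit 32) (nat_lit 0xb78061100000000082402084)
 (Net.cons (nat_lit 64) (nat_lit 0x11b03907a0648660)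
 Net.nil)))))))))))))

noncomputable def ns_74 : Net :=
 (Net.cons (nat_lit 64) (nat_lit 0xfc03ef7f0c2f3ba1)
 (Net.cons (nat_lit 32) (nat_lit 0x60230a35000000002156cb46)
 (Net.cons (nat_lit 16) (nat_lit 0x32100000e1e70000319c00003006)
 (Net.cons (nat_lit 8) (nat_lit 0x2200490043004200d2005e00220094)
 (Net.cons (nat_lit 4) (nat_lit 0x8010c02040d000a0c0e0104000a0802)
 (Net.cons (nat_lit 2) (nat_lit 0x20001220312101310330230210200003)
 (Net.cons (nat_lit 1) (nat_lit 0x4014141154441500110100410000404)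
 (Net.cons (nat_lit 2) (nat_lit 0x2220000222000000000020000002)
 (Net.cons (nat_lit 4) (nat_lit 0xc020004080e08060c0e060c0e080802)
 (Net.cons (nat_lit 8) (nat_lit 0x20000c001e00c400d20014002c0084)
 (Net.cons (nat_lit 16) (nat_lit 0xd61000006e7600003190000034b2)
 (Net.cons (nat_lit 32) (nat_lit 0xf0200e340000000023c2cb42)
 (Net.cons (nat_lit 64) (nat_lit 0xfc03ef7fb3b31ff0)
 Net.nil)))))))))))))

noncomputable def ns_75 : Net :=
 (Net.cons (nat_lit 64) (nat_lit 0x31059002c71bdb7c)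
 (Net.cons (nat_lit 32) (nat_lit 0xb10b901a0000000036d49498)
 (Net.cons (nat_lit 16) (nat_lit 0x11200006a380000c8f0000066f3)
 (Net.cons (nat_lit 8) (nat_lit 0xb40082008d00a6008e0075000700c4)
 (Net.cons (nat_lit 4) (nat_lit 0x40300000d0c060a0e04060408070005)
 (Net.cons (nat_lit 2) (nat_lit 0x10020000300123101202031120300213)
 (Net.cons (nat_lit 1) (nat_lit 0x100104554014144000404541444105)
 (Net.cons (nat_lit 2) (nat_lit 0x2000220200)
 (Net.cons (nat_lit 4) (nat_lit 0x4080008040c08080e080a0002080c04)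
 (Net.cons (nat_lit 8) (nat_lit 0xb4008200a000e400800008008600c8)
 (Net.cons (nat_lit 16) (nat_lit 0x8116000071b800003c2800006ba8)
 (Net.cons (nat_lit 32) (nat_lit 0xa00e101000000000fc349cc8)
 (Net.cons (nat_lit 64) (nat_lit 0x31059000867057aa)
 Net.nil)))))))))))))

noncomputable def ns_76 : Net :=
 (Net.cons (nat_lit 64) (nat_lit 0x10e2ce4e7bb31fa9)
 (Net.cons (nat_lit 32) (nat_lit 0x795d8ca000000000481eafe5)
 (Net.cons (nat_lit 16) (nat_lit 0x9e4d00004c6e0000a4b7000057d9)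
 (Net.cons (nat_lit 8) (nat_lit 0x2b0068001a00010098001b00f90053)
 (Net.cons (nat_lit 4) (nat_lit 0x60f080c040408060d000a0509020009)
 (Net.cons (nat_lit 2) (nat_lit 0x23120003023202011021021302012112)
 (Net.cons (nat_lit 1) (nat_lit 0x44545000441401111001010011414051)
 (Net.cons (nat_lit 2) (nat_lit 0x2000000022202002000000022002002)
 (Net.cons (nat_lit 4) (nat_lit 0xa0a0804000c08040808080000020404)
 (Net.cons (nat_lit 8) (nat_lit 0xa8002800d000000010000200580050)
 (Net.cons (nat_lit 16) (nat_lit 0x9ee00000c82c000003b000000640)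
 (Net.cons (nat_lit 32) (nat_lit 0x79bfc0ac000000002a02be4c)
 (Net.cons (nat_lit 64) (nat_lit 0x10e2ce44e37ef514)
 Net.nil)))))))))))))

noncomputable def ns_77 : Net :=
 (Net.cons (nat_lit 64) (nat_lit 0x15fddf6a443846d0)
 (Net.cons (nat_lit 32) (nat_lit 0x550bfcf800000000328348f7)
 (Net.cons (nat_lit 16) (nat_lit 0xd1730000db050000b0930000890a)
 (Net.cons (nat_lit 8) (nat_lit 0xe8000500ab00070082009800f4000d)
 (Net.cons (nat_lit 4) (nat_lit 0x103050108040902020100010704070f)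
 (Net.cons (nat_lit 2) (nat_lit 0x10211103321302210000002111201020)
 (Net.cons (nat_lit 1) (nat_lit 0x14101445515005414000401110045050)
 (Net.cons (nat_lit 2) (nat_lit 0x20000220020000220000002200020000)
 (Net.cons (nat_lit 4) (nat_lit 0x4060004040c08000800080200040606)
 (Net.cons (nat_lit 8) (nat_lit 0xe80062005a00080080005800f00088)
 (Net.cons (nat_lit 16) (nat_lit 0xd5100000ce480000b81000008b04)
 (Net.cons (nat_lit 32) (nat_lit 0x45cb64d0000000007a83486a)
 (Net.cons (nat_lit 64) (nat_lit 0x15fddf6a40f21036)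
 Net.nil)))))))))))))

noncomputable def ns_78 : Net :=
 (Net.cons (nat_lit 64) (nat_lit 0x311b6d056b6593e9)
 (Net.cons (nat_lit 32) (nat_lit 0x9d6eaa5f0000000069fd86df)
 (Net.cons (nat_lit 16) (nat_lit 0x7f7c00005ca100007c510000fc32)
 (Net.cons (nat_lit 8) (nat_lit 0x61005800e90080004c00b0001a0003)
 (Net.cons (nat_lit 4) (nat_lit 0xe0607020c0c00000c08020802080806)
 (Net.cons (nat_lit 2) (nat_lit 0x2221203322300002100102000321323)
 (Net.cons (nat_lit 1) (nat_lit 0x41410414101450011504444540000104)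
 (Net.cons (nat_lit 2) (nat_lit 0x22200200000200022000200020000202)
 (Net.cons (nat_lit 4) (nat_lit 0xa040200060c00000408020200040002)
 (Net.cons (nat_lit 8) (nat_lit 0x22007800e80080004c00340088000a)
 (Net.cons (nat_lit 16) (nat_lit 0xde6800005ca000007c500000f612)
 (Net.cons (nat_lit 32) (nat_lit 0xad7cc25e00000000effd0452)
 (Net.cons (nat_lit 64) (nat_lit 0x311b6d05c22413e2)
 Net.nil)))))))))))))

noncomputable def ns_79 : Net :=
 (Net.cons (nat_lit 64) (nat_lit 0x206470c82f142006)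
 (Net.cons (nat_lit 32) (nat_lit 0x38415b200000000000020840)
 (Net.cons (nat_lit 16) (nat_lit 0x59e40000841000000fc00000c040)
 (Net.cons (nat_lit 8) (nat_lit 0xec000a005000600090001d00ca00b0)
 (Net.cons (nat_lit 4) (nat_lit 0x40a00060c08000601000a0c000c000f)
 (Net.cons (nat_lit 2) (nat_lit 0x31000000032220300002000202012222)
 (Net.cons (nat_lit 1) (nat_lit 0x50411001100410510441104001000011)
 (Net.cons (nat_lit 2) (nat_lit 0x220000002000002000022)
 (Net.cons (nat_lit 4) (nat_lit 0x40a00020c0800060000020c00040000)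
 (Net.cons (nat_lit 8) (nat_lit 0xec0000005000200090001c00c800b0)
 (Net.cons (nat_lit 16) (nat_lit 0x59e400008010000003c00000c040)
 (Net.cons (nat_lit 32) (nat_lit 0x38415b200000000000020840)
 (Net.cons (nat_lit 64) (nat_lit 0x206470c82f142006)
 Net.nil)))))))))))))

noncomputable def ns_80 : Net :=
 (Net.cons (nat_lit 64) (nat_lit 0xdf5c08b195849014)
 (Net.cons (nat_lit 32) (nat_lit 0x92c4f911000000002c0355b1)
 (Net.cons (nat_lit 16) (nat_lit 0x2ecc00008d6e0000d6310000f029)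
 (Net.cons (nat_lit 8) (nat_lit 0x2c00fb006800fe0090008c0052002d)
 (Net.cons (nat_lit 4) (nat_lit 0x80801080c0b01000e0800000e0d0800)
 (Net.cons (nat_lit 2) (nat_lit 0x13201223221030003002200100012303)
 (Net.cons (nat_lit 1) (nat_lit 0x1104010541011054001000104451400)
 (Net.cons (nat_lit 2) (nat_lit 0x2002020022000000002000002000200)
 (Net.cons (nat_lit 4) (nat_lit 0x8000c080a0c08000808020c000804)
 (Net.cons (nat_lit 8) (nat_lit 0x2c00f6004c00f8008000ac0010002c)
 (Net.cons (nat_lit 16) (nat_lit 0x2f4000008b4a0000f2900000e260)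
 (Net.cons (nat_lit 32) (nat_lit 0x1f94f124000000002c2351f0)
 (Net.cons (nat_lit 64) (nat_lit 0xdf5c08b193a4d48c)
 Net.nil)))))))))))))

noncomputable def ns_81 : Net :=
 (Net.cons (nat_lit 64) (nat_lit 0xc1527b1660fa6564)
 (Net.cons (nat_lit 32) (nat_lit 0x84bd27af0000000034c6e63d)
 (Net.cons (nat_lit 16) (nat_lit 0xb2d00006a0800006ae200006694)
 (Net.cons (nat_lit 8) (nat_lit 0xc400470040009100c8005800b000e0)
 (Net.cons (nat_lit 4) (nat_lit 0x40d030d0608030c0600020400080a02)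
 (Net.cons (nat_lit 2) (nat_lit 0x2220031003010131021102021210332)
 (Net.cons (nat_lit 1) (nat_lit 0x4540014141010005441504104145501)
 (Net.cons (nat_lit 2) (nat_lit 0x2020000022000000020002200200000)
 (Net.cons (nat_lit 4) (nat_lit 0x40200080e0800080a040c0600000c06)
 (Net.cons (nat_lit 8) (nat_lit 0x4e00520010009000e8007000b0006e)
 (Net.cons (nat_lit 16) (nat_lit 0xb8c00001908000048c0000066bc)
 (Net.cons (nat_lit 32) (nat_lit 0x85ad67ba0000000002ebe612)
 (Net.cons (nat_lit 64) (nat_lit 0xc1527b1c8c4e9d42)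
 Net.nil)))))))))))))

noncomputable def ns_82 : Net :=
 (Net.cons (nat_lit 64) (nat_lit 0xc40e74008cfe029b)
 (Net.cons (nat_lit 32) (nat_lit 0x8f49e1e00000000ba4db056)
 (Net.cons (nat_lit 16) (nat_lit 0xf884000013ca0000bb780000c905)
 (Net.cons (nat_lit 8) (nat_lit 0xe0009000b4005300fc00f6006200c4)
 (Net.cons (nat_lit 4) (nat_lit 0xc080808000a000e0d00020a0e040c01)
 (Net.cons (nat_lit 2) (nat_lit 0x30101202011003112220130210010102)
 (Net.cons (nat_lit 1) (nat_lit 0x50104400401404411410151050500405)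
 (Net.cons (nat_lit 2) (nat_lit 0x200200002202202000002000000200)
 (Net.cons (nat_lit 4) (nat_lit 0x8020808000a000a0800040804060404)
 (Net.cons (nat_lit 8) (nat_lit 0xf8001400b0007200d4006400e0008c)
 (Net.cons (nat_lit 16) (nat_lit 0x3c80000032c20000320800008764)
 (Net.cons (nat_lit 32) (nat_lit 0xcfcca1800000000828c3ac8)
 (Net.cons (nat_lit 64) (nat_lit 0xc40e740ca97ace08)
 Net.nil)))))))))))))

noncomputable def ns_83 : Net :=
 (Net.cons (nat_lit 64) (nat_lit 0x2fb5590e2606467e)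
 (Net.cons (nat_lit 32) (nat_lit 0x9f349e2e0000000063f2150a)
 (Net.cons (nat_lit 16) (nat_lit 0xa98e00006eb5000074820000345e)
 (Net.cons (nat_lit 8) (nat_lit 0x8f00dc006800ee0074001500a0009a)
 (Net.cons (nat_lit 4) (nat_lit 0x10e080708060c0a0008080804030c0a)
 (Net.cons (nat_lit 2) (nat_lit 0x300210000211013022013000030021)
 (Net.cons (nat_lit 1) (nat_lit 0x5100005404150510104044004400411)
 (Net.cons (nat_lit 2) (nat_lit 0x2000000000022000000200)
 (Net.cons (nat_lit 4) (nat_lit 0x4080e0806000c00000e0200020000)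
 (Net.cons (nat_lit 8) (nat_lit 0x9c00fc002800f00066002600a80050)
 (Net.cons (nat_lit 16) (nat_lit 0xb08a00000e600000d6f20000f452)
 (Net.cons (nat_lit 32) (nat_lit 0xbc91d6240000000063f2379e)
 (Net.cons (nat_lit 64) (nat_lit 0x2fb5590dd8b6a08a)
 Net.nil)))))))))))))

noncomputable def ns_84 : Net :=
 (Net.cons (nat_lit 64) (nat_lit 0xb84912478470c000)
 (Net.cons (nat_lit 32) (nat_lit 0x6e2a1048000000000d532904)
 (Net.cons (nat_lit 16) (nat_lit 0x580200008d140000092600004640)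
 (Net.cons (nat_lit 8) (nat_lit 0x640008002800a30058008900940092)
 (Net.cons (nat_lit 4) (nat_lit 0x8000c080c04070304000c04030c000a)
 (Net.cons (nat_lit 2) (nat_lit 0x12012200020220221200223213020301)
 (Net.cons (nat_lit 1) (nat_lit 0x1441411114410405010114040510)
 (Net.cons (nat_lit 2) (nat_lit 0x2200020222020200020202020000)
 (Net.cons (nat_lit 4) (nat_lit 0x8000c080c000c080400000c04040002)
 (Net.cons (nat_lit 8) (nat_lit 0x440008002800580058002000940092)
 (Net.cons (nat_lit 16) (nat_lit 0x580200008d140000092600004640)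
 (Net.cons (nat_lit 32) (nat_lit 0x662a1008000000000d532904)
 (Net.cons (nat_lit 64) (nat_lit 0xb84912478470c000)
 Net.nil)))))))))))))

noncomputable def ns_85 : Net :=
 (Net.cons (nat_lit 64) (nat_lit 0x9818468302698240)
 (Net.cons (nat_lit 32) (nat_lit 0x6c12d00000000000ad003050)
 (Net.cons (nat_lit 16) (nat_lit 0x840a000000f00000b972000003ec)
 (Net.cons (nat_lit 8) (nat_lit 0x4000800002002e009600c800ac0006)
 (Net.cons (nat_lit 4) (nat_lit 0x8000008000006030208040200000008)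
 (Net.cons (nat_lit 2) (nat_lit 0x102200003023130303012022000330)
 (Net.cons (nat_lit 1) (nat_lit 0x14001405005140141515000100104005)
 (Net.cons (nat_lit 2) (nat_lit 0x2200000020020000000000000000)
 (Net.cons (nat_lit 4) (nat_lit 0x800000800000604000a040200000008)
 (Net.cons (nat_lit 8) (nat_lit 0x4000800002002e00a000c000a80006)
 (Net.cons (nat_lit 16) (nat_lit 0x8402000000f00000b972000003ec)
 (Net.cons (nat_lit 32) (nat_lit 0x6412d00000000000ad003010)
 (Net.cons (nat_lit 64) (nat_lit 0x9818468302698240)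
 Net.nil)))))))))))))

noncomputable def ns_86 : Net :=
 (Net.cons (nat_lit 64) (nat_lit 0x900cc0c1c4090c0)
 (Net.cons (nat_lit 32) (nat_lit 0xc600cc0200000000d5650388)
 (Net.cons (nat_lit 16) (nat_lit 0x420800000d80000085680000c344)
 (Net.cons (nat_lit 8) (nat_lit 0x480040003000fc0018000c009000a2)
 (Net.cons (nat_lit 4) (nat_lit 0xc080c0402020a01000d090c0c0a0c04)
 (Net.cons (nat_lit 2) (nat_lit 0x2000201000230201222022330101000)
 (Net.cons (nat_lit 1) (nat_lit 0x41404000055454510140044051040400)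
 (Net.cons (nat_lit 2) (nat_lit 0x2000000000202020220022000000000)
 (Net.cons (nat_lit 4) (nat_lit 0xc080c0402020402000c000c0c080c00)
 (Net.cons (nat_lit 8) (nat_lit 0x480040003000040018000c00900080)
 (Net.cons (nat_lit 16) (nat_lit 0x420800000d80000085680000c344)
 (Net.cons (nat_lit 32) (nat_lit 0xc600c00200000000d5650388)
 (Net.cons (nat_lit 64) (nat_lit 0x900cc0c1c4090c0)
 Net.nil)))))))))))))

noncomputable def ns_87 : Net :=
 (Net.cons (nat_lit 64) (nat_lit 0x200151842e28d300)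
 (Net.cons (nat_lit 32) (nat_lit 0xd20353200000000078dcbb20)
 (Net.cons (nat_lit 16) (nat_lit 0x4289000060180000612000004458)
 (Net.cons (nat_lit 8) (nat_lit 0xf00074006800b4002400f200020078)
 (Net.cons (nat_lit 4) (nat_lit 0x8010605040908020000020f0c04060c)
 (Net.cons (nat_lit 2) (nat_lit 0x2322001202021120300002121300220)
 (Net.cons (nat_lit 1) (nat_lit 0x4100400410010040005510541400)
 (Net.cons (nat_lit 2) (nat_lit 0x2000200020020000000020000200)
 (Net.cons (nat_lit 4) (nat_lit 0x800060404080800000000000c040608)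
 (Net.cons (nat_lit 8) (nat_lit 0xf0007400280034000400f200000078)
 (Net.cons (nat_lit 16) (nat_lit 0x1288000060180000612000004058)
 (Net.cons (nat_lit 32) (nat_lit 0xd20353200000000078d4bb20)
 (Net.cons (nat_lit 64) (nat_lit 0x200151842e28d300)
 Net.nil)))))))))))))

noncomputable def ns_88 : Net :=
 (Net.cons (nat_lit 64) (nat_lit 0x2010480b3025a060)
 (Net.cons (nat_lit 32) (nat_lit 0x224418800000000090207000)
 (Net.cons (nat_lit 16) (nat_lit 0x4850000041a100003a1000000e00)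
 (Net.cons (nat_lit 8) (nat_lit 0x80008001400a200a100f8008400c0)
 (Net.cons (nat_lit 4) (nat_lit 0x400080c0802000803010e060f02000a)
 (Net.cons (nat_lit 2) (nat_lit 0x2002013020200022002230222001200)
 (Net.cons (nat_lit 1) (nat_lit 0x4041005111405444110451144000004)
 (Net.cons (nat_lit 2) (nat_lit 0x2002000020200022000200222000000)
 (Net.cons (nat_lit 4) (nat_lit 0x400080c080200080200080200000008)
 (Net.cons (nat_lit 8) (nat_lit 0x8000800140002001000f8008400c0)
 (Net.cons (nat_lit 16) (nat_lit 0x4850000001a000003a1000000a00)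
 (Net.cons (nat_lit 32) (nat_lit 0x224418800000000090207000)
 (Net.cons (nat_lit 64) (nat_lit 0x2010480b3025a060)
 Net.nil)))))))))))))

noncomputable def ns_89 : Net :=
 (Net.cons (nat_lit 64) (nat_lit 0x300920022420c140)
 (Net.cons (nat_lit 32) (nat_lit 0x620144080000000074069480)
 (Net.cons (nat_lit 16) (nat_lit 0x76080000100800001b400000a428)
 (Net.cons (nat_lit 8) (nat_lit 0x8007200c800b40098006400a80078)
 (Net.cons (nat_lit 4) (nat_lit 0xd080c0600070e090804080a04)
 (Net.cons (nat_lit 2) (nat_lit 0x20000031302220221320200101022022)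
 (Net.cons (nat_lit 1) (nat_lit 0x44000000044041401414404000014511)
 (Net.cons (nat_lit 2) (nat_lit 0x20000000002020200220200000022022)
 (Net.cons (nat_lit 4) (nat_lit 0x8080c0600000c000804080a00)
 (Net.cons (nat_lit 8) (nat_lit 0x8007000c800240098006400800078)
 (Net.cons (nat_lit 16) (nat_lit 0x76080000100800001b400000a428)
 (Net.cons (nat_lit 32) (nat_lit 0x620044080000000074029480)
 (Net.cons (nat_lit 64) (nat_lit 0x300920022420c140)
 Net.nil)))))))))))))

noncomputable def ns_90 : Net :=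
 (Net.cons (nat_lit 64) (nat_lit 0x2a0001c948620148)
 (Net.cons (nat_lit 32) (nat_lit 0x31050800000000052b0da0a)
 (Net.cons (nat_lit 16) (nat_lit 0x42400000ae660000516400007d60)
 (Net.cons (nat_lit 8) (nat_lit 0x68001500c200a800040051007400c2)
 (Net.cons (nat_lit 4) (nat_lit 0x4080008000c040a060c080400000d06)
 (Net.cons (nat_lit 2) (nat_lit 0x1000220002222320012230311102222)
 (Net.cons (nat_lit 1) (nat_lit 0x500410404441041001100000000444)
 (Net.cons (nat_lit 2) (nat_lit 0x220202022020002200000000222)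
 (Net.cons (nat_lit 4) (nat_lit 0x408000808080400020c0c0000000c00)
 (Net.cons (nat_lit 8) (nat_lit 0x680014002000aa0004001400040000)
 (Net.cons (nat_lit 16) (nat_lit 0x4240000004600000514400007960)
 (Net.cons (nat_lit 32) (nat_lit 0x31050000000000052b0da0a)
 (Net.cons (nat_lit 64) (nat_lit 0x2a0001c948620148)
 Net.nil)))))))))))))

noncomputable def ns_91 : Net :=
 (Net.cons (nat_lit 64) (nat_lit 0x161a70eaa862dc0)
 (Net.cons (nat_lit 32) (nat_lit 0x81aae3400000000093a82160)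
 (Net.cons (nat_lit 16) (nat_lit 0xa145000033840000ca0600000e30)
 (Net.cons (nat_lit 8) (nat_lit 0x2000060074008b00fc007f00bc0082)
 (Net.cons (nat_lit 4) (nat_lit 0xa0c0c0606060009090e0d030c090c0d)
 (Net.cons (nat_lit 2) (nat_lit 0x30323032000202332133000132211)
 (Net.cons (nat_lit 1) (nat_lit 0x1440541101115111114454110141000)
 (Net.cons (nat_lit 2) (nat_lit 0x2200022002000020202200200022000)
 (Net.cons (nat_lit 4) (nat_lit 0xa020c06060200020008040000060800)
 (Net.cons (nat_lit 8) (nat_lit 0x8000060074008800ec009400040082)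
 (Net.cons (nat_lit 16) (nat_lit 0xa00c000033800000931800000c30)
 (Net.cons (nat_lit 32) (nat_lit 0x81aae3400000000093a82160)
 (Net.cons (nat_lit 64) (nat_lit 0x161a70e2b262cc0)
 Net.nil)))))))))))))

noncomputable def ns_92 : Net :=
 (Net.cons (nat_lit 64) (nat_lit 0x933d265ad2ee2210)
 (Net.cons (nat_lit 32) (nat_lit 0x1b2f004200000000fc523a10)
 (Net.cons (nat_lit 16) (nat_lit 0x22620000ae2e00000812000075a8)
 (Net.cons (nat_lit 8) (nat_lit 0x730018001d001800d000ac009600ae)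
 (Net.cons (nat_lit 4) (nat_lit 0x80202020a0404040e02070b0c080e02)
 (Net.cons (nat_lit 2) (nat_lit 0x10030001302032212220330003300203)
 (Net.cons (nat_lit 1) (nat_lit 0x1151400111541101010141105514145)
 (Net.cons (nat_lit 2) (nat_lit 0x22000202000000200000200)
 (Net.cons (nat_lit 4) (nat_lit 0x2020004040a040a0208080c080c02)
 (Net.cons (nat_lit 8) (nat_lit 0x7200180018001c00d0003c009200ae)
 (Net.cons (nat_lit 16) (nat_lit 0x2262000049120000981000007428)
 (Net.cons (nat_lit 32) (nat_lit 0x1a26004000000000b4523a10)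
 (Net.cons (nat_lit 64) (nat_lit 0x933d265ad2ee2210)
 Net.nil)))))))))))))

noncomputable def ns_93 : Net :=
 (Net.cons (nat_lit 64) (nat_lit 0x52a92ab82e4d010)
 (Net.cons (nat_lit 32) (nat_lit 0x4d5bb024000000003e42c008)
 (Net.cons (nat_lit 16) (nat_lit 0x3e20000961400000f07000053d6)
 (Net.cons (nat_lit 8) (nat_lit 0x30002c00ac00c00061008800e900e8)
 (Net.cons (nat_lit 4) (nat_lit 0x6080906050008080c0100040c0f0e0e)
 (Net.cons (nat_lit 2) (nat_lit 0x2002101122220233131221203111320)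
 (Net.cons (nat_lit 1) (nat_lit 0x10010400101415051401444511400511)
 (Net.cons (nat_lit 2) (nat_lit 0x200220002000220002000020)
 (Net.cons (nat_lit 4) (nat_lit 0x2000804040008080000000804000e0a)
 (Net.cons (nat_lit 8) (nat_lit 0x30002c001c008000300088002000e8)
 (Net.cons (nat_lit 16) (nat_lit 0x3e2000096140000071000005056)
 (Net.cons (nat_lit 32) (nat_lit 0x4c5b2020000000003e42c000)
 (Net.cons (nat_lit 64) (nat_lit 0x52a92ab82e4d010)
 Net.nil)))))))))))))

noncomputable def ns_94 : Net :=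
 (Net.cons (nat_lit 64) (nat_lit 0x198281c1e0064190)
 (Net.cons (nat_lit 32) (nat_lit 0xed05514000000000bcde1601)
 (Net.cons (nat_lit 16) (nat_lit 0x64800000af0400007c8000006682)
 (Net.cons (nat_lit 8) (nat_lit 0xd000c90078002200b200fe00f100b3)
 (Net.cons (nat_lit 4) (nat_lit 0x5000c0f0e080c0804080e00080a09)
 (Net.cons (nat_lit 2) (nat_lit 0x2023002133220232223220332222131)
 (Net.cons (nat_lit 1) (nat_lit 0x1040400145001101415101454441141)
 (Net.cons (nat_lit 2) (nat_lit 0x2020000020000200220202202222020)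
 (Net.cons (nat_lit 4) (nat_lit 0x40008000e080c0e00080800000e04)
 (Net.cons (nat_lit 8) (nat_lit 0x5000c80078002200d000c600900096)
 (Net.cons (nat_lit 16) (nat_lit 0x64840000af04000012b400006682)
 (Net.cons (nat_lit 32) (nat_lit 0xed05514000000000fede1604)
 (Net.cons (nat_lit 64) (nat_lit 0x198281c5a0024190)
 Net.nil)))))))))))))

noncomputable def ns_95 : Net :=
 (Net.cons (nat_lit 64) (nat_lit 0x416863eea5261580)
 (Net.cons (nat_lit 32) (nat_lit 0x595b54e000000000f5f99e10)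
 (Net.cons (nat_lit 16) (nat_lit 0xee20000c70c000097d200006f74)
 (Net.cons (nat_lit 8) (nat_lit 0xd0001a00e800a2002c005d0008008a)
 (Net.cons (nat_lit 4) (nat_lit 0xe0800050e000c040c0501060a0d0c0c)
 (Net.cons (nat_lit 2) (nat_lit 0x2202000232020030022133210333210)
 (Net.cons (nat_lit 1) (nat_lit 0x11114100054041101040410105145001)
 (Net.cons (nat_lit 2) (nat_lit 0x2202000002020000020020200000000)
 (Net.cons (nat_lit 4) (nat_lit 0xa0800000e00040400040c060a020c04)
 (Net.cons (nat_lit 8) (nat_lit 0xd00012008800a2002c00540008008a)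
 (Net.cons (nat_lit 16) (nat_lit 0xec200004500000095d200006f74)
 (Net.cons (nat_lit 32) (nat_lit 0x195b54e000000000f5f99e10)
 (Net.cons (nat_lit 64) (nat_lit 0x416863eea5261580)
 Net.nil)))))))))))))

noncomputable def ns_96 : Net :=
 (Net.cons (nat_lit 64) (nat_lit 0x184028e002d02112)
 (Net.cons (nat_lit 32) (nat_lit 0x8146e64000000000644a3a20)
 (Net.cons (nat_lit 16) (nat_lit 0xa92000003b2400004300000051c6)
 (Net.cons (nat_lit 8) (nat_lit 0x8800c700a000a200f60061009a00c4)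
 (Net.cons (nat_lit 4) (nat_lit 0x604080c0d080b050407020e000a09)
 (Net.cons (nat_lit 2) (nat_lit 0x200200223102003122221113300213)
 (Net.cons (nat_lit 1) (nat_lit 0x10444141110010400001510515011104)
 (Net.cons (nat_lit 2) (nat_lit 0x20002020020000002020000000202)
 (Net.cons (nat_lit 4) (nat_lit 0x808040808080800000c0008000a04)
 (Net.cons (nat_lit 8) (nat_lit 0x88000800a000a20054004e009200c4)
 (Net.cons (nat_lit 16) (nat_lit 0xa920000023040000430000001050)
 (Net.cons (nat_lit 32) (nat_lit 0x8146e64000000000644a3a20)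
 (Net.cons (nat_lit 64) (nat_lit 0x184028e002502012)
 Net.nil)))))))))))))

noncomputable def ns_97 : Net :=
 (Net.cons (nat_lit 64) (nat_lit 0x708317e8b0e12800)
 (Net.cons (nat_lit 32) (nat_lit 0x747e5440000000004842a688)
 (Net.cons (nat_lit 16) (nat_lit 0x23c20000a9180000820c00008aa4)
 (Net.cons (nat_lit 8) (nat_lit 0x1400200090002000400028008100be)
 (Net.cons (nat_lit 4) (nat_lit 0x20d020a0b01000608020c0b0c0e0804)
 (Net.cons (nat_lit 2) (nat_lit 0x1311223200203010102002030121320)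
 (Net.cons (nat_lit 1) (nat_lit 0x10410440110015400010001150040515)
 (Net.cons (nat_lit 2) (nat_lit 0x200220020000000000000200020020)
 (Net.cons (nat_lit 4) (nat_lit 0x202020a00000004000200000c060804)
 (Net.cons (nat_lit 8) (nat_lit 0x14002000900020000000280080009e)
 (Net.cons (nat_lit 16) (nat_lit 0x23c2000029180000800800008aa4)
 (Net.cons (nat_lit 32) (nat_lit 0x347e5440000000004842a688)
 (Net.cons (nat_lit 64) (nat_lit 0x708317e0b0e12800)
 Net.nil)))))))))))))

noncomputable def ns_98 : Net :=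
 (Net.cons (nat_lit 64) (nat_lit 0xe71c94da9d263921)
 (Net.cons (nat_lit 32) (nat_lit 0xa04dd41d000000004da57290)
 (Net.cons (nat_lit 16) (nat_lit 0x61d50000c6ec00003bdf00005299)
 (Net.cons (nat_lit 8) (nat_lit 0x8200b4001200b700d40041004800ff)
 (Net.cons (nat_lit 4) (nat_lit 0x80d0508010004010d06050606060c03)
 (Net.cons (nat_lit 2) (nat_lit 0x131130033231223032030020022101)
 (Net.cons (nat_lit 1) (nat_lit 0x4440045151444155140014004051115)
 (Net.cons (nat_lit 2) (nat_lit 0x20000002202000020022002000200)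
 (Net.cons (nat_lit 4) (nat_lit 0x80c0008020000000602040404060208)
 (Net.cons (nat_lit 8) (nat_lit 0x8600e00022003400cc0000000a0076)
 (Net.cons (nat_lit 16) (nat_lit 0xa5980000fc4000003afe0000f090)
 (Net.cons (nat_lit 32) (nat_lit 0x6751540600000000458672bc)
 (Net.cons (nat_lit 64) (nat_lit 0xe71c94d0d9260d60)
 Net.nil)))))))))))))

noncomputable def ns_99 : Net :=
 (Net.cons (nat_lit 64) (nat_lit 0x9429e3d42d405f60)
 (Net.cons (nat_lit 32) (nat_lit 0x5bd48a4b00000000e6e1e35f)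
 (Net.cons (nat_lit 16) (nat_lit 0xbd6c000016260000c0c600003528)
 (Net.cons (nat_lit 8) (nat_lit 0x9d004d00a200d5002a00d500b6009e)
 (Net.cons (nat_lit 4) (nat_lit 0x800010706020a030c070d0000080801)
 (Net.cons (nat_lit 2) (nat_lit 0x31002012302110212303332330320100)
 (Net.cons (nat_lit 1) (nat_lit 0x11401105400401114014401044140500)
 (Net.cons (nat_lit 2) (nat_lit 0x22002200200002022000200000220000)
 (Net.cons (nat_lit 4) (nat_lit 0x208000c06020a0e0a040006040c0200)
 (Net.cons (nat_lit 8) (nat_lit 0x14000a00820014000c001400f00096)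
 (Net.cons (nat_lit 16) (nat_lit 0x74680000a606000047a400003520)
 (Net.cons (nat_lit 32) (nat_lit 0x5ffc0a1000000000c7f3f374)
 (Net.cons (nat_lit 64) (nat_lit 0x9429e3d2d000d05c)
 Net.nil)))))))))))))

noncomputable def ns_100 : Net :=
 (Net.cons (nat_lit 64) (nat_lit 0xe80580cd57c4b8f7)
 (Net.cons (nat_lit 32) (nat_lit 0x22044ecb000000001161821c)
 (Net.cons (nat_lit 16) (nat_lit 0xec470000c5060000ad60000093f6)
 (Net.cons (nat_lit 8) (nat_lit 0x42008800490015009e001400ae0032)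
 (Net.cons (nat_lit 4) (nat_lit 0xe0801080403080c0703070a0b0f)
 (Net.cons (nat_lit 2) (nat_lit 0x2032200220000320222302010301010)
 (Net.cons (nat_lit 1) (nat_lit 0x4040400511410041041404141101444)
 (Net.cons (nat_lit 2) (nat_lit 0x20200020220002020202020002202)
 (Net.cons (nat_lit 4) (nat_lit 0xc000c00000a0004080e060000080e0a)
 (Net.cons (nat_lit 8) (nat_lit 0x400080005800000024000400e40048)
 (Net.cons (nat_lit 16) (nat_lit 0xa4420000f5240000b9520000e5c2)
 (Net.cons (nat_lit 32) (nat_lit 0xe200ce800000000003718a18)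
 (Net.cons (nat_lit 64) (nat_lit 0xe80580c956f4bcb2)
 Net.nil)))))))))))))

noncomputable def ns_101 : Net :=
 (Net.cons (nat_lit 64) (nat_lit 0xdb0aa1052aba179)
 (Net.cons (nat_lit 32) (nat_lit 0x406b6e0000000000fc3a3bae)
 (Net.cons (nat_lit 16) (nat_lit 0x2c95000093820000aaab000011fc)
 (Net.cons (nat_lit 8) (nat_lit 0x60000e00b200890008004000610017)
 (Net.cons (nat_lit 4) (nat_lit 0x603080002040a01060e09020d090c0d)
 (Net.cons (nat_lit 2) (nat_lit 0x230001023000130233102003120230)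
 (Net.cons (nat_lit 1) (nat_lit 0x1414001050011111411504104100110)
 (Net.cons (nat_lit 2) (nat_lit 0x2200002000000020220002000200020)
 (Net.cons (nat_lit 4) (nat_lit 0x204080800040008020804040c04080c)
 (Net.cons (nat_lit 8) (nat_lit 0x64000600140020004c000000800012)
 (Net.cons (nat_lit 16) (nat_lit 0x288e000012220000f8800000d1b2)
 (Net.cons (nat_lit 32) (nat_lit 0x404bc412000000009e3c2b2c)
 (Net.cons (nat_lit 64) (nat_lit 0xdb0aa1a42573c2a)
 Net.nil)))))))))))))

noncomputable def ns_102 : Net :=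
 (Net.cons (nat_lit 64) (nat_lit 0x4091d442feda3167)
 (Net.cons (nat_lit 32) (nat_lit 0x4665c536000000005df8ea88)
 (Net.cons (nat_lit 16) (nat_lit 0x53ae0000b5d80000efb40000bb4b)
 (Net.cons (nat_lit 8) (nat_lit 0x4100d6001000a900bc00070068000b)
 (Net.cons (nat_lit 4) (nat_lit 0x50c0000040d01080f02020b00020b07)
 (Net.cons (nat_lit 2) (nat_lit 0x1101021200112221122002111002330)
 (Net.cons (nat_lit 1) (nat_lit 0x114001400501151110401400050111)
 (Net.cons (nat_lit 2) (nat_lit 0x200000200000000220000000000000)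
 (Net.cons (nat_lit 4) (nat_lit 0x80400040c0800080808000000000c)
 (Net.cons (nat_lit 8) (nat_lit 0x1400160050003a00ec0028006200be)
 (Net.cons (nat_lit 16) (nat_lit 0x17da00003d5800000d060000a942)
 (Net.cons (nat_lit 32) (nat_lit 0x674c13000000000cc94e398)
 (Net.cons (nat_lit 64) (nat_lit 0x4091d44d3faac51c)
 Net.nil)))))))))))))

noncomputable def ns_103 : Net :=
 (Net.cons (nat_lit 64) (nat_lit 0xb4889fcc964449c)
 (Net.cons (nat_lit 32) (nat_lit 0xbc9f6a2e00000000f4dbfb8d)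
 (Net.cons (nat_lit 16) (nat_lit 0x8c480000068800005c730000f679)
 (Net.cons (nat_lit 8) (nat_lit 0x1100d500a800700010003d00ec00b6)
 (Net.cons (nat_lit 4) (nat_lit 0x90d0a080e08020008030e04070c0008)
 (Net.cons (nat_lit 2) (nat_lit 0x20002121030010020020332100010203)
 (Net.cons (nat_lit 1) (nat_lit 0x11045100404011014010410044401411)
 (Net.cons (nat_lit 2) (nat_lit 0x2000200000022022000020002000200)
 (Net.cons (nat_lit 4) (nat_lit 0x200020002080800040a000400080008)
 (Net.cons (nat_lit 8) (nat_lit 0x8200b200a8006a009800fc00aa0084)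
 (Net.cons (nat_lit 16) (nat_lit 0xa49200000fc0000078720000d648)
 (Net.cons (nat_lit 32) (nat_lit 0xbcd7eacc00000000d06f9980)
 (Net.cons (nat_lit 64) (nat_lit 0xb4889f68ba07fd8)
 Net.nil)))))))))))))

noncomputable def ns : List Net := [Spor.ModelHS.ns_0, Spor.ModelHS.ns_1, ns_2, ns_3, ns_4, ns_5, ns_6, ns_7, ns_8, ns_9, ns_10, ns_11, ns_12, ns_13, ns_14, ns_15, ns_16, ns_17, ns_18, ns_19, ns_20, ns_21, ns_22, ns_23, ns_24, ns_25, ns_26, ns_27, ns_28, ns_29, ns_30, ns_31, ns_32, ns_33, ns_34, ns_35, ns_36, ns_37, ns_38, ns_39, ns_40, ns_41, ns_42, ns_43, ns_44, ns_45, ns_46, ns_47, ns_48, ns_49, ns_50, ns_51, ns_52, ns_53, ns_54, ns_55, ns_56, ns_57, ns_58, ns_59, ns_60, ns_61, ns_62, ns_63, ns_64, ns_65, ns_66, ns_67, ns_68, ns_69, ns_70, ns_71, ns_72, ns_73, ns_74, ns_75, ns_76, ns_77, ns_78, ns_79, ns_80, ns_81, ns_82, ns_83, ns_84, ns_85, ns_86, ns_87, ns_88, ns_89, ns_90, ns_91, ns_92, ns_93, ns_94, ns_95, ns_96, ns_97, ns_98, ns_99,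 ns_100, ns_101, ns_102, ns_103]

theorem ctx : Ctx 128 7 ns := ctx_of (by decide +kernel)

theorem lctx : LCtx 128 7 8 127 trN7 ns := lctx_of ctx trOK7 (by decide +kernel)

noncomputable def E : List ℕ → ℕ → ℕ := pfW0 128 7 8 127 trN7 ns

theorem hE : Evl 128 ns E := evl_pfW0 lctx

open Cfsg.Agent.Comp.IC Subgroup

theorem geq : gen Spor.ModelHS.ns Spor.ModelHS.G_ss0 = gen ns [[0], [2]] :=
  gen_eq_of_take (ns := Spor.ModelHS.ns) (ns' := ns) (k := 2) rfl (ws := Spor.ModelHS.G_ss0) (by decide +kernel)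

theorem hn : Nat.card (gen ns [[0], [2]]) = 44352000 :=
  geq ▸ Spor.ModelHS.G_card

noncomputable def equiv : Cfsg.Spor.HS ≃* ↥(gen ns [[0], [2]]) :=
  Spor.ModelHS.equiv.trans (MulEquiv.subgroupCongr geq)

theorem kn_0 : Known ns (gen ns [[0], [2]]) 3 :=
  known_gen (by decide +kernel)

noncomputable def CaG_S6 : List SD :=
  []

noncomputable def CaG_d5 : SD :=
  ⟨0, 1, [6], lab 1 1 0, 1⟩

noncomputable def CaG_S5 : List SD :=
  CaG_d5 :: CaG_S6

noncomputable def CaG_d4 : SD :=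
  ⟨36, 2, [34, 36, 38, 6], lab 3 7 (nat_lit 0x604000b02600000828028000000000020000000000002400000100100000203), 3⟩

noncomputable def CaG_S4 : List SD :=
  CaG_d4 :: CaG_S5

noncomputable def CaG_d3 : SD :=
  ⟨56, 2, [28, 30, 32, 34, 36, 38, 6], lab 4 15 (nat_lit 0x880000600000072030000000000000000000000000000000000000000000000001000000000000000000000000400000), 2⟩

noncomputable def CaG_S3 : List SD :=
  CaG_d3 :: CaG_S4

noncomputable def CaG_d2 : SD :=
  ⟨27, 2, [22, 24, 26, 28, 30, 32, 34, 36, 38, 6], lab 5 31 (nat_lit 0x1003940b034c54a40020c4740cc0214b208140000001158b010c9040004002004000001a020003000090000000d805000a601c003c00011a03802f6800a), 3⟩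

noncomputable def CaG_S2 : List SD :=
  CaG_d2 :: CaG_S3

noncomputable def CaG_d1 : SD :=
  ⟨18, 1, [16, 18, 20, 22, 24, 26, 28, 30, 32, 34, 36, 38, 6], lab 5 31 (nat_lit 0x50000000000000000169000000000c00000000050480000000400009008404c00000090140001dc0000000007000000000200000010000780000000000000), 2⟩

noncomputable def CaG_S1 : List SD :=
  CaG_d1 :: CaG_S2

noncomputable def CaG_d0 : SD :=
  ⟨12, 2, [0, 2, 12, 14, 16, 18, 20, 22, 24, 26, 28, 30, 32, 34, 36, 38, 6], lab 6 63 (nat_lit 0x5cf0c864511f1ce69105154409219b16040f2d905340a1c120044111638331f6540950c610a0d041a1421c23cd48711f1484c02c018e35851e1820ca0c314741f2401d178929f39b3d41cc), 3⟩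

noncomputable def CaG_S0 : List SD :=
  CaG_d0 :: CaG_S1

theorem kn_1 : Known ns (gen ns [[0], [2]]) 67108811 :=
  kn_0.steps ctx (es := [(6, [2, 2, 2, 0]),
 (7, [3, 1, 2, 1, 2, 0]),
 (8, [15, 2, 13, 14, 12, 3]),
 (9, [2, 15, 15, 13, 3, 15, 13, 1]),
 (10, [18, 18, 17]),
 (11, [18, 17, 20]),
 (12, [20, 16, 18, 16, 19, 17, 19, 17]),
 (13, [25, 22, 22, 22]),
 (14, [27, 23, 27, 27, 24, 22, 22, 24, 27, 22, 27]),
 (15, [24, 24, 24, 24, 27, 23, 23, 26, 24]),
 (16, [29, 31, 29, 29]),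
 (17, [31, 32, 29, 29, 30, 30, 30, 30, 28]),
 (18, [29, 30, 33, 33, 28, 30, 29, 32, 29]),
 (19, [35, 35, 37, 37, 35, 36]),
 (3, [39, 39, 39, 37, 35, 37, 38, 37, 37]),
 (20, [38, 35, 6]),
 (21, [31, 28, 38, 37, 6]),
 (22, [31, 24, 31, 28, 36, 6]),
 (23, [29, 25, 22, 31, 28, 35]),
 (24, [28, 21, 35, 22, 29, 38, 38]),
 (25, [23, 2, 0, 16, 30, 24, 31, 28, 38, 35])]) (by decide +kernel)

theorem CaG_ex : Exact 128 ns CaG_S0 ∧ gen ns (sTop CaG_S0) = gen ns [[0], [2]] ∧ gen ns [[0], [2]] = gen ns [[0], [2]] :=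
  exact_of_known ctx hn (le_rfl) kn_1 (by decide +kernel)

noncomputable def Ca_as : List (List ℕ) :=
  [[6]]

noncomputable def Ca_p : List (List ℕ × List ℕ) :=
  derAs (dg Ca_as) [[0]]

noncomputable def Ca_s : List (ℕ × ℕ) :=
  derSs 128 7 ns (dg Ca_as) [[0]]

noncomputable def Ca_k0 : List (List ℕ) :=
  [[50], [48], [44], [46], [42], [40], [6]]

noncomputable def Ca_k1 : List (List ℕ) :=
  [[48], [44], [46], [42], [40], [6]]

noncomputable def Ca_k2 : List (List ℕ) :=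
  [[44], [46], [42], [40], [6]]

noncomputable def Ca_k3 : List (List ℕ) :=
  [[42], [40], [6]]

noncomputable def Ca_k4 : List (List ℕ) :=
  [[40], [6]]

noncomputable def Ca_k5 : List (List ℕ) :=
  [[6]]

noncomputable def Ca_k6 : List (List ℕ) :=
  []

theorem Ca_cm : commB 128 7 ns (dg Ca_as) Ca_k0 = true :=
  by decide +kernel

theorem Ca_g0 : Good 128 ns Ca_p Ca_s (gen ns (sTop CaG_S0)) Ca_k0 :=
  good_der ctx kn_1 (CaG_ex.2.1.trans CaG_ex.2.2.symm) _ _ ((and'_eq_true _ _).2 ⟨by decide +kernel, Ca_cm⟩)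

theorem Ca_g1 : Good 128 ns Ca_p Ca_s (gen ns (sTop CaG_S1)) Ca_k1 :=
  Ca_g0.tail ctx CaG_ex.1 (by decide +kernel)

theorem Ca_g2 : Good 128 ns Ca_p Ca_s (gen ns (sTop CaG_S2)) Ca_k2 :=
  Ca_g1.tail ctx CaG_ex.1.tail (by decide +kernel)

theorem Ca_g3 : Good 128 ns Ca_p Ca_s (gen ns (sTop CaG_S3)) Ca_k3 :=
  Ca_g2.tail ctx CaG_ex.1.tail.tail (by decide +kernel)

theorem Ca_g4 : Good 128 ns Ca_p Ca_s (gen ns (sTop CaG_S4)) Ca_k4 :=
  Ca_g3.tail ctx CaG_ex.1.tail.tail.tail (by decide +kernel)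

theorem Ca_g5 : Good 128 ns Ca_p Ca_s (gen ns (sTop CaG_S5)) Ca_k5 :=
  Ca_g4.tail ctx CaG_ex.1.tail.tail.tail.tail (by decide +kernel)

theorem Ca_l6 : LevX 128 ns Ca_p Ca_s (gen ns (sTop CaG_S6)) Ca_k6 1 :=
  levX_nil _ _ _ _

theorem Ca_l5 : LevX 128 ns Ca_p Ca_s (gen ns (sTop CaG_S5)) Ca_k5 2 :=
  Ca_l6.step ctx CaG_ex.1.tail.tail.tail.tail.tail Ca_g5 (br_zero _ _ _ _ _ _ _) [] 1 1 (by decide +kernel)

theorem Ca_l4 : LevX 128 ns Ca_p Ca_s (gen ns (sTop CaG_S4)) Ca_k4 4 :=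
  Ca_l5.step ctx CaG_ex.1.tail.tail.tail.tail Ca_g4 (br_zero _ _ _ _ _ _ _) [] 1 1 (by decide +kernel)

theorem Ca_l3 : LevX 128 ns Ca_p Ca_s (gen ns (sTop CaG_S3)) Ca_k3 8 :=
  Ca_l4.step ctx CaG_ex.1.tail.tail.tail Ca_g3 (br_zero _ _ _ _ _ _ _) [] 1 1 (by decide +kernel)

theorem Ca_l2 : LevX 128 ns Ca_p Ca_s (gen ns (sTop CaG_S2)) Ca_k2 64 :=
  Ca_l3.step ctx CaG_ex.1.tail.tail Ca_g2 (br_zero _ _ _ _ _ _ _) [] 2 2 (by decide +kernel)

theorem Ca_l1 : LevX 128 ns Ca_p Ca_s (gen ns (sTop CaG_S1)) Ca_k1 384 :=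
  Ca_l2.step ctx CaG_ex.1.tail Ca_g1 (br_zero _ _ _ _ _ _ _) [] 2 2 (by decide +kernel)

theorem Ca_l0 : LevX 128 ns Ca_p Ca_s (gen ns (sTop CaG_S0)) Ca_k0 7680 :=
  Ca_l1.step ctx CaG_ex.1 Ca_g0 (br_zero _ _ _ _ _ _ _) [] 2 2 (by decide +kernel)

theorem Ca : CentEq ns (gen ns [[0], [2]]) Ca_as Ca_k0 7680 :=
  centEq_of ctx CaG_ex.2.1 Ca_l0 Ca_g0 Ca_cm

noncomputable def CbG_S7 : List SD :=
  []

noncomputable def CbG_d6 : SD :=
  ⟨0, 2, [52], lab 1 1 (nat_lit 0x8000000000), 1⟩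

noncomputable def CbG_S6 : List SD :=
  CbG_d6 :: CbG_S7

noncomputable def CbG_d5 : SD :=
  ⟨5, 2, [54, 52], lab 2 3 (nat_lit 0x800000000000000c0000000000000000000000000000), 2⟩

noncomputable def CbG_S5 : List SD :=
  CbG_d5 :: CbG_S6

noncomputable def CbG_d4 : SD :=
  ⟨38, 2, [56, 54, 52], lab 3 7 (nat_lit 0x20000000000000000000000000000000000000000008000000000000000000), 2⟩

noncomputable def CbG_S4 : List SD :=
  CbG_d4 :: CbG_S5

noncomputable def CbG_d3 : SD :=
  ⟨11, 2, [58, 56, 54, 52], lab 3 7 (nat_lit 0x20000000000021800000000000c01c0021000000407030c0001e0004000000001c0007018), 4⟩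

noncomputable def CbG_S3 : List SD :=
  CbG_d3 :: CbG_S4

noncomputable def CbG_d2 : SD :=
  ⟨9, 2, [60, 58, 56, 54, 52], lab 4 15 (nat_lit 0x403002000000000000600020000180000000010030000600000389000600000000000120000080000), 3⟩

noncomputable def CbG_S2 : List SD :=
  CbG_d2 :: CbG_S3

noncomputable def CbG_d1 : SD :=
  ⟨82, 2, [62, 60, 58, 56, 54, 52], lab 4 15 (nat_lit 0x7071008040000002807003000000030040000000006005020001000000000000300080b6000000000000000000), 3⟩

noncomputable def CbG_S1 : List SD :=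
  CbG_d1 :: CbG_S2

noncomputable def CbG_d0 : SD :=
  ⟨2, 2, [64, 62, 60, 58, 56, 54, 52], lab 4 15 (nat_lit 0x2000a0050909330a126644732a09c0589050115d160d14120d0871744789351c61163391352a8a7d8132d24615c0521a086), 5⟩

noncomputable def CbG_S0 : List SD :=
  CbG_d0 :: CbG_S1

theorem kn_2 : Known ns (gen ns [[0], [2]]) 274877906907 :=
  kn_1.steps ctx (es := [(26, [39, 2, 20, 29, 39, 36]),
 (27, [33, 0, 16, 32, 23, 29, 34, 6]),
 (28, [25, 2, 31, 16, 28, 24, 36, 29, 38, 37, 34, 6]),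
 (29, [28, 0, 16, 26, 25, 22, 29, 38, 6]),
 (30, [23, 2, 0, 16, 37, 23, 35, 28, 39, 36, 6]),
 (31, [15, 0, 0, 31, 16, 26, 35, 28, 37, 35, 6]),
 (32, [3, 13, 19, 31, 24, 36, 28, 34, 6]),
 (33, [52, 54, 53]),
 (34, [58, 58, 57, 54, 52]),
 (35, [56, 58, 58, 52, 56, 54]),
 (36, [52, 58, 60, 52, 58, 52]),
 (37, [52, 65, 65, 63, 61, 62, 58, 60, 56, 52, 59, 57]),
 (4, [65, 62, 59, 60, 58, 58, 56])]) (by decide +kernel)

theorem CbG_ex : Exact 128 ns CbG_S0 ∧ gen ns (sTop CbG_S0) = gen ns [[0], [2]] ∧ gen ns [[0], [2]] = gen ns [[0], [2]] :=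
  exact_of_known ctx hn (le_rfl) kn_2 (by decide +kernel)

noncomputable def Cb_as : List (List ℕ) :=
  [[8]]

noncomputable def Cb_p : List (List ℕ × List ℕ) :=
  derAs (dg Cb_as) [[0]]

noncomputable def Cb_s : List (ℕ × ℕ) :=
  derSs 128 7 ns (dg Cb_as) [[0]]

noncomputable def Cb_k0 : List (List ℕ) :=
  [[74], [72], [68], [70], [66]]

noncomputable def Cb_k1 : List (List ℕ) :=
  [[72], [68], [70], [66]]

noncomputable def Cb_k2 : List (List ℕ) :=
  [[72], [68], [70], [66]]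

noncomputable def Cb_k3 : List (List ℕ) :=
  [[68], [70], [66]]

noncomputable def Cb_k4 : List (List ℕ) :=
  [[66]]

noncomputable def Cb_k5 : List (List ℕ) :=
  [[66]]

noncomputable def Cb_k6 : List (List ℕ) :=
  []

noncomputable def Cb_k7 : List (List ℕ) :=
  []

theorem Cb_cm : commB 128 7 ns (dg Cb_as) Cb_k0 = true :=
  by decide +kernel

theorem Cb_g0 : Good 128 ns Cb_p Cb_s (gen ns (sTop CbG_S0)) Cb_k0 :=
  good_der ctx kn_2 (CbG_ex.2.1.trans CbG_ex.2.2.symm) _ _ ((and'_eq_true _ _).2 ⟨by decide +kernel, Cb_cm⟩)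

theorem Cb_g1 : Good 128 ns Cb_p Cb_s (gen ns (sTop CbG_S1)) Cb_k1 :=
  Cb_g0.tail ctx CbG_ex.1 (by decide +kernel)

theorem Cb_g2 : Good 128 ns Cb_p Cb_s (gen ns (sTop CbG_S2)) Cb_k2 :=
  Cb_g1.tail ctx CbG_ex.1.tail (by decide +kernel)

theorem Cb_g3 : Good 128 ns Cb_p Cb_s (gen ns (sTop CbG_S3)) Cb_k3 :=
  Cb_g2.tail ctx CbG_ex.1.tail.tail (by decide +kernel)

theorem Cb_g4 : Good 128 ns Cb_p Cb_s (gen ns (sTop CbG_S4)) Cb_k4 :=
  Cb_g3.tail ctx CbG_ex.1.tail.tail.tail (by decide +kernel)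

theorem Cb_g5 : Good 128 ns Cb_p Cb_s (gen ns (sTop CbG_S5)) Cb_k5 :=
  Cb_g4.tail ctx CbG_ex.1.tail.tail.tail.tail (by decide +kernel)

theorem Cb_g6 : Good 128 ns Cb_p Cb_s (gen ns (sTop CbG_S6)) Cb_k6 :=
  Cb_g5.tail ctx CbG_ex.1.tail.tail.tail.tail.tail (by decide +kernel)

theorem Cb_l7 : LevX 128 ns Cb_p Cb_s (gen ns (sTop CbG_S7)) Cb_k7 1 :=
  levX_nil _ _ _ _

theorem Cb_c6_36 : Br 128 ns Cb_p Cb_s (gen ns (sTop CbG_S6)) CbG_d6.p (Nat.shiftLeft 1 36) (InCs ns CbG_S6 []) :=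
  br_of_cnt ctx CbG_ex.1.tail.tail.tail.tail.tail.tail [52] (.pair 16 0 20 0 0) (by decide +kernel) _

theorem Cb_c6_39 : Br 128 ns Cb_p Cb_s (gen ns (sTop CbG_S6)) CbG_d6.p (Nat.shiftLeft 1 39) (InCs ns CbG_S6 []) :=
  br_of_cnt ctx CbG_ex.1.tail.tail.tail.tail.tail.tail [53] (.pair 88 0 36 0 0) (by decide +kernel) _

theorem Cb_l6 : LevX 128 ns Cb_p Cb_s (gen ns (sTop CbG_S6)) Cb_k6 1 :=
  Cb_l7.step ctx CbG_ex.1.tail.tail.tail.tail.tail.tail Cb_g6 (((br_zero _ _ _ _ _ _ _).lor Cb_c6_36).lor Cb_c6_39) [] 0 0 (by decide +kernel)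

theorem Cb_c5_83 : Br 128 ns Cb_p Cb_s (gen ns (sTop CbG_S5)) CbG_d5.p (Nat.shiftLeft 1 83) (InCs ns CbG_S5 []) :=
  br_of_cnt ctx CbG_ex.1.tail.tail.tail.tail.tail [54] (.pair 35 2 73 2 0) (by decide +kernel) _

theorem Cb_l5 : LevX 128 ns Cb_p Cb_s (gen ns (sTop CbG_S5)) Cb_k5 2 :=
  Cb_l6.step ctx CbG_ex.1.tail.tail.tail.tail.tail Cb_g5 ((br_zero _ _ _ _ _ _ _).lor Cb_c5_83) [] 1 1 (by decide +kernel)

theorem Cb_l4 : LevX 128 ns Cb_p Cb_s (gen ns (sTop CbG_S4)) Cb_k4 2 :=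
  Cb_l5.step ctx CbG_ex.1.tail.tail.tail.tail Cb_g4 (br_zero _ _ _ _ _ _ _) [(0, 11, 0)] 0 0 (by decide +kernel)

theorem Cb_l3 : LevX 128 ns Cb_p Cb_s (gen ns (sTop CbG_S3)) Cb_k3 8 :=
  Cb_l4.step ctx CbG_ex.1.tail.tail.tail Cb_g3 (br_zero _ _ _ _ _ _ _) [(0, 38, 2)] 1 1 (by decide +kernel)

theorem Cb_c2_37 : Br 128 ns Cb_p Cb_s (gen ns (sTop CbG_S2)) CbG_d2.p (Nat.shiftLeft 1 37) (InCs ns CbG_S2 []) :=
  br_of_cnt ctx CbG_ex.1.tail.tail [60] (.pair 6 2 0 3 0) (by decide +kernel) _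

theorem Cb_l2 : LevX 128 ns Cb_p Cb_s (gen ns (sTop CbG_S2)) Cb_k2 72 :=
  Cb_l3.step ctx CbG_ex.1.tail.tail Cb_g2 ((br_zero _ _ _ _ _ _ _).lor Cb_c2_37) [] 1 1 (by decide +kernel)

theorem Cb_l1 : LevX 128 ns Cb_p Cb_s (gen ns (sTop CbG_S1)) Cb_k1 72 :=
  Cb_l2.step ctx CbG_ex.1.tail Cb_g1 (br_zero _ _ _ _ _ _ _) [(0, 2, 0)] 0 0 (by decide +kernel)

theorem Cb_c0_69 : Br 128 ns Cb_p Cb_s (gen ns (sTop CbG_S0)) CbG_d0.p (Nat.shiftLeft 1 69) (InCs ns CbG_S0 []) :=
  br_of_cnt ctx CbG_ex.1 [64] (.pair 0 2 2 0 0) (by decide +kernel) _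

theorem Cb_l0 : LevX 128 ns Cb_p Cb_s (gen ns (sTop CbG_S0)) Cb_k0 2880 :=
  Cb_l1.step ctx CbG_ex.1 Cb_g0 ((br_zero _ _ _ _ _ _ _).lor Cb_c0_69) [] 4 4 (by decide +kernel)

theorem Cb : CentEq ns (gen ns [[0], [2]]) Cb_as Cb_k0 2880 :=
  centEq_of ctx CbG_ex.2.1 Cb_l0 Cb_g0 Cb_cm

noncomputable def CcG_S6 : List SD :=
  []

noncomputable def CcG_d5 : SD :=
  ⟨8, 1, [76, 78], lab 2 3 (nat_lit 0x8000080000000000000000000000000000000), 2⟩

noncomputable def CcG_S5 : List SD :=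
  CcG_d5 :: CcG_S6

noncomputable def CcG_d4 : SD :=
  ⟨12, 3, [80, 76, 78], lab 3 7 (nat_lit 0x400040200008000000800000000008000000000100080000000008040000000000), 4⟩

noncomputable def CcG_S4 : List SD :=
  CcG_d4 :: CcG_S5

noncomputable def CcG_d3 : SD :=
  ⟨51, 2, [82, 80, 76, 78], lab 3 7 (nat_lit 0x8000c1000000000000600000180003010080000100000000000000100000040000018030000), 3⟩

noncomputable def CcG_S3 : List SD :=
  CcG_d3 :: CcG_S4

noncomputable def CcG_d2 : SD :=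
  ⟨6, 2, [84, 82, 80, 76, 78], lab 4 15 (nat_lit 0x450000000204000050010000050000000005000000000000020000000000000030030000010000000610403000100000006), 4⟩

noncomputable def CcG_S2 : List SD :=
  CcG_d2 :: CcG_S3

noncomputable def CcG_d1 : SD :=
  ⟨28, 2, [86, 84, 82, 80, 76, 78], lab 4 15 (nat_lit 0x8300000000704507100000007000000000010110000000000100000023040006000000000001000000050000000000000), 4⟩

noncomputable def CcG_S1 : List SD :=
  CcG_d1 :: CcG_S2

noncomputable def CcG_d0 : SD :=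
  ⟨3, 3, [88, 86, 84, 82, 80, 76, 78], lab 4 15 (nat_lit 0x2082695c9c108508263805706c340417195600c7946001a017130341a736a121965c1203053ca696819034181513a02000a1), 4⟩

noncomputable def CcG_S0 : List SD :=
  CcG_d0 :: CcG_S1

theorem kn_3 : Known ns (gen ns [[0], [2]]) 1125899906842587 :=
  kn_2.steps ctx (es := [(38, [34, 17, 35, 27, 34, 29, 39, 36]),
 (39, [26, 16, 25, 25, 36, 29, 38, 34]),
 (40, [20, 1, 34, 17, 28, 22, 31, 28]),
 (41, [19, 14, 0, 26, 16, 28, 23, 29, 37, 35, 6]),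
 (42, [26, 16, 34, 23, 35, 28, 37, 35, 6]),
 (43, [33, 1, 16, 31, 27, 32, 6]),
 (44, [18, 2, 28, 21, 30, 23, 28, 6]),
 (45, [78, 80, 80, 76]),
 (46, [76, 82, 82, 78]),
 (47, [81, 82, 85, 78, 82, 78, 80]),
 (48, [87, 87, 83, 84, 84, 81, 82, 81, 81]),
 (49, [87, 88, 87, 88, 87, 84, 83, 83, 81, 76, 80])]) (by decide +kernel)

theorem CcG_ex : Exact 128 ns CcG_S0 ∧ gen ns (sTop CcG_S0) = gen ns [[0], [2]] ∧ gen ns [[0], [2]] = gen ns [[0], [2]] :=
  exact_of_known ctx hn (le_rfl) kn_3 (by decide +kernel)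

noncomputable def Cc_as : List (List ℕ) :=
  [[4]]

noncomputable def Cc_p : List (List ℕ × List ℕ) :=
  derAs (dg Cc_as) [[0]]

noncomputable def Cc_s : List (ℕ × ℕ) :=
  derSs 128 7 ns (dg Cc_as) [[0]]

noncomputable def Cc_k0 : List (List ℕ) :=
  [[98], [96], [94], [92], [90], [76]]

noncomputable def Cc_k1 : List (List ℕ) :=
  [[96], [94], [92], [90], [76]]

noncomputable def Cc_k2 : List (List ℕ) :=
  [[94], [92], [90], [76]]

noncomputable def Cc_k3 : List (List ℕ) :=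
  [[92], [90], [76]]

noncomputable def Cc_k4 : List (List ℕ) :=
  [[90], [76]]

noncomputable def Cc_k5 : List (List ℕ) :=
  [[76]]

noncomputable def Cc_k6 : List (List ℕ) :=
  []

theorem Cc_cm : commB 128 7 ns (dg Cc_as) Cc_k0 = true :=
  by decide +kernel

theorem Cc_g0 : Good 128 ns Cc_p Cc_s (gen ns (sTop CcG_S0)) Cc_k0 :=
  good_der ctx kn_3 (CcG_ex.2.1.trans CcG_ex.2.2.symm) _ _ ((and'_eq_true _ _).2 ⟨by decide +kernel, Cc_cm⟩)

theorem Cc_g1 : Good 128 ns Cc_p Cc_s (gen ns (sTop CcG_S1)) Cc_k1 :=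
  Cc_g0.tail ctx CcG_ex.1 (by decide +kernel)

theorem Cc_g2 : Good 128 ns Cc_p Cc_s (gen ns (sTop CcG_S2)) Cc_k2 :=
  Cc_g1.tail ctx CcG_ex.1.tail (by decide +kernel)

theorem Cc_g3 : Good 128 ns Cc_p Cc_s (gen ns (sTop CcG_S3)) Cc_k3 :=
  Cc_g2.tail ctx CcG_ex.1.tail.tail (by decide +kernel)

theorem Cc_g4 : Good 128 ns Cc_p Cc_s (gen ns (sTop CcG_S4)) Cc_k4 :=
  Cc_g3.tail ctx CcG_ex.1.tail.tail.tail (by decide +kernel)

theorem Cc_g5 : Good 128 ns Cc_p Cc_s (gen ns (sTop CcG_S5)) Cc_k5 :=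
  Cc_g4.tail ctx CcG_ex.1.tail.tail.tail.tail (by decide +kernel)

theorem Cc_l6 : LevX 128 ns Cc_p Cc_s (gen ns (sTop CcG_S6)) Cc_k6 1 :=
  levX_nil _ _ _ _

theorem Cc_l5 : LevX 128 ns Cc_p Cc_s (gen ns (sTop CcG_S5)) Cc_k5 2 :=
  Cc_l6.step ctx CcG_ex.1.tail.tail.tail.tail.tail Cc_g5 (br_zero _ _ _ _ _ _ _) [] 1 1 (by decide +kernel)

theorem Cc_l4 : LevX 128 ns Cc_p Cc_s (gen ns (sTop CcG_S4)) Cc_k4 6 :=
  Cc_l5.step ctx CcG_ex.1.tail.tail.tail.tail Cc_g4 (br_zero _ _ _ _ _ _ _) [] 1 1 (by decide +kernel)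

theorem Cc_l3 : LevX 128 ns Cc_p Cc_s (gen ns (sTop CcG_S3)) Cc_k3 24 :=
  Cc_l4.step ctx CcG_ex.1.tail.tail.tail Cc_g3 (br_zero _ _ _ _ _ _ _) [] 2 2 (by decide +kernel)

theorem Cc_l2 : LevX 128 ns Cc_p Cc_s (gen ns (sTop CcG_S2)) Cc_k2 168 :=
  Cc_l3.step ctx CcG_ex.1.tail.tail Cc_g2 (br_zero _ _ _ _ _ _ _) [] 2 2 (by decide +kernel)

theorem Cc_l1 : LevX 128 ns Cc_p Cc_s (gen ns (sTop CcG_S1)) Cc_k1 1344 :=
  Cc_l2.step ctx CcG_ex.1.tail Cc_g1 (br_zero _ _ _ _ _ _ _) [] 2 2 (by decide +kernel)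

theorem Cc_l0 : LevX 128 ns Cc_p Cc_s (gen ns (sTop CcG_S0)) Cc_k0 40320 :=
  Cc_l1.step ctx CcG_ex.1 Cc_g0 (br_zero _ _ _ _ _ _ _) [] 3 3 (by decide +kernel)

theorem Cc : CentEq ns (gen ns [[0], [2]]) Cc_as Cc_k0 40320 :=
  centEq_of ctx CcG_ex.2.1 Cc_l0 Cc_g0 Cc_cm

noncomputable def CdG_S7 : List SD :=
  []

noncomputable def CdG_d6 : SD :=
  ⟨1, 1, [100], lab 1 1 0, 1⟩

noncomputable def CdG_S6 : List SD :=
  CdG_d6 :: CdG_S7

noncomputable def CdG_d5 : SD :=
  ⟨3, 1, [102, 100], lab 2 3 0, 1⟩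

noncomputable def CdG_S5 : List SD :=
  CdG_d5 :: CdG_S6

noncomputable def CdG_d4 : SD :=
  ⟨32, 2, [104, 102, 100], lab 3 7 (nat_lit 0x100000000200000000400001000000000000000000000000000000), 3⟩

noncomputable def CdG_S4 : List SD :=
  CdG_d4 :: CdG_S5

noncomputable def CdG_d3 : SD :=
  ⟨0, 1, [106, 104, 102, 100], lab 3 7 (nat_lit 0x200000000000000000000000000000000000000000000000), 2⟩

noncomputable def CdG_S3 : List SD :=
  CdG_d3 :: CdG_S4

noncomputable def CdG_d2 : SD :=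
  ⟨45, 3, [108, 106, 104, 102, 100], lab 4 15 (nat_lit 0x363112000810200300622004330640000588241046500200100042600132800100001001062320006010500000040240), 5⟩

noncomputable def CdG_S2 : List SD :=
  CdG_d2 :: CdG_S3

noncomputable def CdG_d1 : SD :=
  ⟨33, 3, [110, 108, 106, 104, 102, 100], lab 4 15 (nat_lit 0x400a0062400a003a30420270650080011134042787873100370a72124266a3352005002014013571260010601210208a0440), 5⟩

noncomputable def CdG_S1 : List SD :=
  CdG_d1 :: CdG_S2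

noncomputable def CdG_d0 : SD :=
  ⟨28, 3, [112, 110, 108, 106, 104, 102, 100], lab 4 15 (nat_lit 0x73510198814943110a2071032432268000094110966468706388613540102c03750324c0129a3501010612a71a0108055a14), 4⟩

noncomputable def CdG_S0 : List SD :=
  CdG_d0 :: CdG_S1

theorem kn_4 : Known ns (gen ns [[0], [2]]) 9223372036854775771 :=
  kn_3.steps ctx (es := [(50, [39, 15, 17, 38, 22, 35, 28, 37, 34]),
 (51, [28, 3, 25, 18, 28, 24, 37, 35, 6]),
 (52, [16, 14, 34, 17, 27, 24, 36, 29, 36, 6]),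
 (53, [13, 23, 17, 35, 22, 36, 28, 36, 36, 6]),
 (54, [23, 0, 28, 21, 29, 25, 22, 38, 38]),
 (55, [12, 0, 27, 18, 34, 22, 31, 28, 36, 36, 6]),
 (56, [33, 0, 23, 17, 27, 24, 32, 38, 35, 6]),
 (57, [105, 102, 104, 102]),
 (58, [107, 100, 104, 102]),
 (59, [106, 105, 100]),
 (60, [105, 109, 102, 108, 105, 102]),
 (61, [108, 100, 110, 110, 106, 108, 108, 107, 104, 102]),
 (62, [106, 113, 113, 109, 111, 108, 108, 105, 102, 104, 102, 100])]) (by decide +kernel)

theorem CdG_ex : Exact 128 ns CdG_S0 ∧ gen ns (sTop CdG_S0) = gen ns [[0], [2]] ∧ gen ns [[0], [2]] = gen ns [[0], [2]] :=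
  exact_of_known ctx hn (le_rfl) kn_4 (by decide +kernel)

noncomputable def Cd_as : List (List ℕ) :=
  [[10]]

noncomputable def Cd_p : List (List ℕ × List ℕ) :=
  derAs (dg Cd_as) [[0]]

noncomputable def Cd_s : List (ℕ × ℕ) :=
  derSs 128 7 ns (dg Cd_as) [[0]]

noncomputable def Cd_k0 : List (List ℕ) :=
  [[124], [122], [120], [116], [118], [114], [102]]

noncomputable def Cd_k1 : List (List ℕ) :=
  [[122], [120], [116], [118], [114], [102]]

noncomputable def Cd_k2 : List (List ℕ) :=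
  [[120], [116], [118], [114], [102]]

noncomputable def Cd_k3 : List (List ℕ) :=
  [[116], [118], [114], [102]]

noncomputable def Cd_k4 : List (List ℕ) :=
  [[114], [102]]

noncomputable def Cd_k5 : List (List ℕ) :=
  [[102]]

noncomputable def Cd_k6 : List (List ℕ) :=
  []

noncomputable def Cd_k7 : List (List ℕ) :=
  []

theorem Cd_cm : commB 128 7 ns (dg Cd_as) Cd_k0 = true :=
  by decide +kernel

theorem Cd_g0 : Good 128 ns Cd_p Cd_s (gen ns (sTop CdG_S0)) Cd_k0 :=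
  good_der ctx kn_4 (CdG_ex.2.1.trans CdG_ex.2.2.symm) _ _ ((and'_eq_true _ _).2 ⟨by decide +kernel, Cd_cm⟩)

theorem Cd_g1 : Good 128 ns Cd_p Cd_s (gen ns (sTop CdG_S1)) Cd_k1 :=
  Cd_g0.tail ctx CdG_ex.1 (by decide +kernel)

theorem Cd_g2 : Good 128 ns Cd_p Cd_s (gen ns (sTop CdG_S2)) Cd_k2 :=
  Cd_g1.tail ctx CdG_ex.1.tail (by decide +kernel)

theorem Cd_g3 : Good 128 ns Cd_p Cd_s (gen ns (sTop CdG_S3)) Cd_k3 :=
  Cd_g2.tail ctx CdG_ex.1.tail.tail (by decide +kernel)

theorem Cd_g4 : Good 128 ns Cd_p Cd_s (gen ns (sTop CdG_S4)) Cd_k4 :=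
  Cd_g3.tail ctx CdG_ex.1.tail.tail.tail (by decide +kernel)

theorem Cd_g5 : Good 128 ns Cd_p Cd_s (gen ns (sTop CdG_S5)) Cd_k5 :=
  Cd_g4.tail ctx CdG_ex.1.tail.tail.tail.tail (by decide +kernel)

theorem Cd_g6 : Good 128 ns Cd_p Cd_s (gen ns (sTop CdG_S6)) Cd_k6 :=
  Cd_g5.tail ctx CdG_ex.1.tail.tail.tail.tail.tail (by decide +kernel)

theorem Cd_l7 : LevX 128 ns Cd_p Cd_s (gen ns (sTop CdG_S7)) Cd_k7 1 :=
  levX_nil _ _ _ _

theorem Cd_l6 : LevX 128 ns Cd_p Cd_s (gen ns (sTop CdG_S6)) Cd_k6 1 :=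
  Cd_l7.step ctx CdG_ex.1.tail.tail.tail.tail.tail.tail Cd_g6 (br_zero _ _ _ _ _ _ _) [(0, 61, 1)] 0 0 (by decide +kernel)

theorem Cd_l5 : LevX 128 ns Cd_p Cd_s (gen ns (sTop CdG_S5)) Cd_k5 2 :=
  Cd_l6.step ctx CdG_ex.1.tail.tail.tail.tail.tail Cd_g5 (br_zero _ _ _ _ _ _ _) [] 1 1 (by decide +kernel)

theorem Cd_l4 : LevX 128 ns Cd_p Cd_s (gen ns (sTop CdG_S4)) Cd_k4 4 :=
  Cd_l5.step ctx CdG_ex.1.tail.tail.tail.tail Cd_g4 (br_zero _ _ _ _ _ _ _) [(0, 40, 2)] 1 1 (by decide +kernel)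

theorem Cd_l3 : LevX 128 ns Cd_p Cd_s (gen ns (sTop CdG_S3)) Cd_k3 16 :=
  Cd_l4.step ctx CdG_ex.1.tail.tail.tail Cd_g3 (br_zero _ _ _ _ _ _ _) [] 1 1 (by decide +kernel)

theorem Cd_l2 : LevX 128 ns Cd_p Cd_s (gen ns (sTop CdG_S2)) Cd_k2 64 :=
  Cd_l3.step ctx CdG_ex.1.tail.tail Cd_g2 (br_zero _ _ _ _ _ _ _) [] 3 3 (by decide +kernel)

theorem Cd_l1 : LevX 128 ns Cd_p Cd_s (gen ns (sTop CdG_S1)) Cd_k1 320 :=
  Cd_l2.step ctx CdG_ex.1.tail Cd_g1 (br_zero _ _ _ _ _ _ _) [] 2 2 (by decide +kernel)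

theorem Cd_l0 : LevX 128 ns Cd_p Cd_s (gen ns (sTop CdG_S0)) Cd_k0 1920 :=
  Cd_l1.step ctx CdG_ex.1 Cd_g0 (br_zero _ _ _ _ _ _ _) [] 2 2 (by decide +kernel)

theorem Cd : CentEq ns (gen ns [[0], [2]]) Cd_as Cd_k0 1920 :=
  centEq_of ctx CdG_ex.2.1 Cd_l0 Cd_g0 Cd_cm

noncomputable def QaG_S5 : List SD :=
  []

noncomputable def QaG_d4 : SD :=
  ⟨0, 2, [144, 146], lab 2 3 (nat_lit 0x20000000000004000000000000000000000088000000008000), 3⟩

noncomputable def QaG_S4 : List SD :=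
  QaG_d4 :: QaG_S5

noncomputable def QaG_d3 : SD :=
  ⟨6, 4, [148, 144, 146], lab 3 7 (nat_lit 0x40000020000022500024840000104080000000620602203298000614300009000004004024), 6⟩

noncomputable def QaG_S3 : List SD :=
  QaG_d3 :: QaG_S4

noncomputable def QaG_d2 : SD :=
  ⟨11, 2, [150, 148, 144, 146], lab 3 7 (nat_lit 0x800000000000000000000001000000c00629040002080018000018000030000000000000000), 4⟩

noncomputable def QaG_S2 : List SD :=
  QaG_d2 :: QaG_S3

noncomputable def QaG_d1 : SD :=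
  ⟨96, 3, [152, 150, 148, 144, 146], lab 4 15 (nat_lit 0x740235154821300470130608381021040202062004108001001100040720001023433005501060350350510010414523578), 4⟩

noncomputable def QaG_S1 : List SD :=
  QaG_d1 :: QaG_S2

noncomputable def QaG_d0 : SD :=
  ⟨12, 3, [154, 152, 150, 148, 144, 146], lab 4 15 (nat_lit 0x712168843632300350529761467a46713560777957221200902014513096411986359234a5718620106304a0186057260219), 5⟩

noncomputable def QaG_S0 : List SD :=
  QaG_d0 :: QaG_S1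

theorem kn_5 : Known ns (gen ns [[0], [2]]) 302231454903657293676507 :=
  kn_4.steps ctx (es := [(63, [19, 14, 0, 19, 37, 22, 36, 29, 38, 38, 6]),
 (64, [16, 15, 34, 16, 6, 23, 30, 38, 34, 6]),
 (65, [1, 1, 35, 16, 33, 22, 28, 38, 35]),
 (66, [31, 28, 39, 34]),
 (67, [16, 15, 17, 29, 25, 22, 28, 39, 34, 6]),
 (68, [22, 25, 36, 28, 34, 6]),
 (69, [16, 26, 26, 22, 31, 28, 34, 6]),
 (70, [33, 22, 29, 38, 6]),
 (71, [28, 3, 20, 16, 25, 26, 28, 38]),
 (72, [34, 17, 36, 22, 36, 29, 38, 34, 6]),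
 (73, [34, 17, 34, 23, 32, 38, 37, 34, 6]),
 (74, [28, 21, 31, 22, 34, 29, 39, 6]),
 (75, [23, 17, 28, 24, 31, 28, 6]),
 (76, [19, 35, 25, 22, 32, 38, 37, 6]),
 (77, [24, 15, 19, 28, 24, 28, 37, 35, 6])]) (by decide +kernel)

theorem QaG_ex : Exact 128 ns QaG_S0 ∧ gen ns (sTop QaG_S0) = gen ns [[0], [2]] ∧ gen ns [[0], [2]] = gen ns [[0], [2]] :=
  exact_of_known ctx hn (le_rfl) kn_5 (by decide +kernel)

noncomputable def Qa_as : List (List ℕ) :=
  [[132], [42], [134], [136], [138], [6]]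

noncomputable def Qa_p : List (List ℕ × List ℕ) :=
  derAs (dg Qa_as) [[0], [2], [4], [6], [8], [10]]

noncomputable def Qa_s : List (ℕ × ℕ) :=
  derSs 128 7 ns (dg Qa_as) [[0], [2], [4], [6], [8], [10]]

noncomputable def Qa_k0 : List (List ℕ) :=
  [[134], [6]]

noncomputable def Qa_k1 : List (List ℕ) :=
  [[6]]

noncomputable def Qa_k2 : List (List ℕ) :=
  [[6]]

noncomputable def Qa_k3 : List (List ℕ) :=
  []

noncomputable def Qa_k4 : List (List ℕ) :=
  []

noncomputable def Qa_k5 : List (List ℕ) :=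
  []

theorem Qa_cm : commB 128 7 ns (dg Qa_as) Qa_k0 = true :=
  by decide +kernel

theorem Qa_g0 : Good 128 ns Qa_p Qa_s (gen ns (sTop QaG_S0)) Qa_k0 :=
  good_der ctx kn_5 (QaG_ex.2.1.trans QaG_ex.2.2.symm) _ _ ((and'_eq_true _ _).2 ⟨by decide +kernel, Qa_cm⟩)

theorem Qa_g1 : Good 128 ns Qa_p Qa_s (gen ns (sTop QaG_S1)) Qa_k1 :=
  Qa_g0.tail ctx QaG_ex.1 (by decide +kernel)

theorem Qa_g2 : Good 128 ns Qa_p Qa_s (gen ns (sTop QaG_S2)) Qa_k2 :=
  Qa_g1.tail ctx QaG_ex.1.tail (by decide +kernel)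

theorem Qa_g3 : Good 128 ns Qa_p Qa_s (gen ns (sTop QaG_S3)) Qa_k3 :=
  Qa_g2.tail ctx QaG_ex.1.tail.tail (by decide +kernel)

theorem Qa_g4 : Good 128 ns Qa_p Qa_s (gen ns (sTop QaG_S4)) Qa_k4 :=
  Qa_g3.tail ctx QaG_ex.1.tail.tail.tail (by decide +kernel)

theorem Qa_l5 : LevX 128 ns Qa_p Qa_s (gen ns (sTop QaG_S5)) Qa_k5 1 :=
  levX_nil _ _ _ _

theorem Qa_l4 : LevX 128 ns Qa_p Qa_s (gen ns (sTop QaG_S4)) Qa_k4 1 :=
  Qa_l5.step ctx QaG_ex.1.tail.tail.tail.tail Qa_g4 (br_zero _ _ _ _ _ _ _) [(0, 86, 2)] 0 0 (by decide +kernel)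

theorem Qa_l3 : LevX 128 ns Qa_p Qa_s (gen ns (sTop QaG_S3)) Qa_k3 1 :=
  Qa_l4.step ctx QaG_ex.1.tail.tail.tail Qa_g3 (br_zero _ _ _ _ _ _ _) [(0, 67, 3), (2, 94, 4)] 0 0 (by decide +kernel)

theorem Qa_l2 : LevX 128 ns Qa_p Qa_s (gen ns (sTop QaG_S2)) Qa_k2 2 :=
  Qa_l3.step ctx QaG_ex.1.tail.tail Qa_g2 (br_zero _ _ _ _ _ _ _) [] 1 1 (by decide +kernel)

theorem Qa_l1 : LevX 128 ns Qa_p Qa_s (gen ns (sTop QaG_S1)) Qa_k1 2 :=
  Qa_l2.step ctx QaG_ex.1.tail Qa_g1 (br_zero _ _ _ _ _ _ _) [] 0 0 (by decide +kernel)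

theorem Qa_l0 : LevX 128 ns Qa_p Qa_s (gen ns (sTop QaG_S0)) Qa_k0 4 :=
  Qa_l1.step ctx QaG_ex.1 Qa_g0 (br_zero _ _ _ _ _ _ _) [] 1 1 (by decide +kernel)

theorem Qa : CentEq ns (gen ns [[0], [2]]) Qa_as Qa_k0 4 :=
  centEq_of ctx QaG_ex.2.1 Qa_l0 Qa_g0 Qa_cm

noncomputable def QdG_S5 : List SD :=
  []

noncomputable def QdG_d4 : SD :=
  ⟨0, 2, [156, 158], lab 2 3 (nat_lit 0x4000000002080000000000000000008000000080000000), 3⟩

noncomputable def QdG_S4 : List SD :=
  QdG_d4 :: QdG_S5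

noncomputable def QdG_d3 : SD :=
  ⟨4, 2, [160, 156, 158], lab 3 7 (nat_lit 0xc00000000000000000000101000c0000000802000000001400000000000000000), 3⟩

noncomputable def QdG_S3 : List SD :=
  QdG_d3 :: QdG_S4

noncomputable def QdG_d2 : SD :=
  ⟨34, 4, [162, 160, 156, 158], lab 3 7 (nat_lit 0x25a001c080800408051ab128006200a986e0032220080581a08000a8e000006800d00140a36), 5⟩

noncomputable def QdG_S2 : List SD :=
  QdG_d2 :: QdG_S3

noncomputable def QdG_d1 : SD :=
  ⟨17, 3, [164, 162, 160, 156, 158], lab 4 15 (nat_lit 0x3676200070014700020000650101053000715005803050636174504114010646236082008424604010068273716006044620), 5⟩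

noncomputable def QdG_S1 : List SD :=
  QdG_d1 :: QdG_S2

noncomputable def QdG_d0 : SD :=
  ⟨8, 3, [166, 164, 162, 160, 156, 158], lab 4 15 (nat_lit 0x506121236833350125009176112a12a12a633207a911824275357481869949224464a411506405312732a512043003508980), 5⟩

noncomputable def QdG_S0 : List SD :=
  QdG_d0 :: QdG_S1

theorem kn_6 : Known ns (gen ns [[0], [2]]) 77371252455336267181195227 :=
  kn_5.steps ctx (es := [(78, [12, 34, 16, 32, 26, 31, 28, 37, 35, 6]),
 (79, [23, 2, 26, 16, 27, 23, 36, 29]),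
 (80, [20, 2, 0, 25, 16, 31, 28, 34]),
 (81, [31, 2, 0, 34, 16, 35, 22, 34]),
 (82, [24, 2, 0, 35, 16, 24, 24, 28, 36, 36]),
 (83, [2, 2, 27, 18, 22, 25, 36, 28, 34, 6]),
 (84, [156, 156]),
 (85, [160, 158, 160, 156, 156])]) (by decide +kernel)

theorem QdG_ex : Exact 128 ns QdG_S0 ∧ gen ns (sTop QdG_S0) = gen ns [[0], [2]] ∧ gen ns [[0], [2]] = gen ns [[0], [2]] :=
  exact_of_known ctx hn (le_rfl) kn_6 (by decide +kernel)

noncomputable def Qd_as : List (List ℕ) :=
  [[140], [116], [102], [142]]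

noncomputable def Qd_p : List (List ℕ × List ℕ) :=
  derAs (dg Qd_as) [[0], [2], [4], [6]]

noncomputable def Qd_s : List (ℕ × ℕ) :=
  derSs 128 7 ns (dg Qd_as) [[0], [2], [4], [6]]

noncomputable def Qd_k0 : List (List ℕ) :=
  [[140], [142], [170], [168]]

noncomputable def Qd_k1 : List (List ℕ) :=
  [[170], [168]]

noncomputable def Qd_k2 : List (List ℕ) :=
  [[170], [168]]

noncomputable def Qd_k3 : List (List ℕ) :=
  [[170], [168]]

noncomputable def Qd_k4 : List (List ℕ) :=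
  [[168]]

noncomputable def Qd_k5 : List (List ℕ) :=
  []

theorem Qd_cm : commB 128 7 ns (dg Qd_as) Qd_k0 = true :=
  by decide +kernel

theorem Qd_g0 : Good 128 ns Qd_p Qd_s (gen ns (sTop QdG_S0)) Qd_k0 :=
  good_der ctx kn_6 (QdG_ex.2.1.trans QdG_ex.2.2.symm) _ _ ((and'_eq_true _ _).2 ⟨by decide +kernel, Qd_cm⟩)

theorem Qd_g1 : Good 128 ns Qd_p Qd_s (gen ns (sTop QdG_S1)) Qd_k1 :=
  Qd_g0.tail ctx QdG_ex.1 (by decide +kernel)

theorem Qd_g2 : Good 128 ns Qd_p Qd_s (gen ns (sTop QdG_S2)) Qd_k2 :=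
  Qd_g1.tail ctx QdG_ex.1.tail (by decide +kernel)

theorem Qd_g3 : Good 128 ns Qd_p Qd_s (gen ns (sTop QdG_S3)) Qd_k3 :=
  Qd_g2.tail ctx QdG_ex.1.tail.tail (by decide +kernel)

theorem Qd_g4 : Good 128 ns Qd_p Qd_s (gen ns (sTop QdG_S4)) Qd_k4 :=
  Qd_g3.tail ctx QdG_ex.1.tail.tail.tail (by decide +kernel)

theorem Qd_l5 : LevX 128 ns Qd_p Qd_s (gen ns (sTop QdG_S5)) Qd_k5 1 :=
  levX_nil _ _ _ _

theorem Qd_l4 : LevX 128 ns Qd_p Qd_s (gen ns (sTop QdG_S4)) Qd_k4 2 :=
  Qd_l5.step ctx QdG_ex.1.tail.tail.tail.tail Qd_g4 (br_zero _ _ _ _ _ _ _) [] 1 1 (by decide +kernel)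

theorem Qd_l3 : LevX 128 ns Qd_p Qd_s (gen ns (sTop QdG_S3)) Qd_k3 4 :=
  Qd_l4.step ctx QdG_ex.1.tail.tail.tail Qd_g3 (br_zero _ _ _ _ _ _ _) [] 1 1 (by decide +kernel)

theorem Qd_l2 : LevX 128 ns Qd_p Qd_s (gen ns (sTop QdG_S2)) Qd_k2 4 :=
  Qd_l3.step ctx QdG_ex.1.tail.tail Qd_g2 (br_zero _ _ _ _ _ _ _) [(0, 8, 0)] 0 0 (by decide +kernel)

theorem Qd_l1 : LevX 128 ns Qd_p Qd_s (gen ns (sTop QdG_S1)) Qd_k1 4 :=
  Qd_l2.step ctx QdG_ex.1.tail Qd_g1 (br_zero _ _ _ _ _ _ _) [(0, 82, 3), (3, 8, 0)] 0 0 (by decide +kernel)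

theorem Qd_l0 : LevX 128 ns Qd_p Qd_s (gen ns (sTop QdG_S0)) Qd_k0 16 :=
  Qd_l1.step ctx QdG_ex.1 Qd_g0 (br_zero _ _ _ _ _ _ _) [] 1 1 (by decide +kernel)

theorem Qd : CentEq ns (gen ns [[0], [2]]) Qd_as Qd_k0 16 :=
  centEq_of ctx QdG_ex.2.1 Qd_l0 Qd_g0 Qd_cm

theorem kn_7 : Known ns (gen ns [[0], [2]]) 20282409603651670423947251285979 :=
  kn_6.steps ctx (es := [(86, [16, 0, 32, 16, 35, 27, 31, 28, 38, 37, 6]),
 (87, [39, 2, 31, 16, 26, 29, 39]),
 (88, [24, 0, 25, 18, 31, 27, 28, 39, 36]),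
 (89, [15, 0, 32, 16, 31, 22, 28, 36, 38, 34]),
 (90, [28, 3, 35, 23, 36, 29, 35]),
 (91, [15, 0, 0, 26, 16, 27, 22, 30, 38, 38, 6]),
 (92, [33, 0, 35, 16, 30, 26, 36]),
 (93, [24, 12, 20, 25, 35, 28, 6]),
 (94, [33, 0, 27, 18, 27, 24, 30]),
 (95, [16, 15, 27, 18, 25, 25, 37, 34]),
 (96, [24, 12, 24, 16, 35, 25, 22, 36, 28]),
 (97, [33, 0, 26, 16, 32, 26, 36, 28, 34, 6]),
 (98, [15, 0, 35, 16, 35, 25, 22, 36, 28, 38]),
 (99, [24, 12, 32, 16, 26, 25, 22, 38, 37, 34]),
 (100, [29, 2, 0, 23, 17, 26, 25, 22, 32, 38, 35, 6]),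
 (101, [26, 0, 34, 17, 37, 23, 36, 28, 36, 6]),
 (102, [26, 2, 23, 17, 33, 26, 22, 36, 28, 38]),
 (103, [34, 0, 32, 16, 30, 26, 38, 37])]) (by decide +kernel)

theorem mo : Mo 128 7 ns (gen ns [[0], [2]]) 20282409603651670423947251285979 :=
  ⟨ctx, kn_7, gen_le_supp ctx.ok _⟩

instance fin : Finite Cfsg.Spor.HS := mo.finite equiv

theorem ka_0 : Known ns (gen ns [[4], [0], [2]]) 7 :=
  known_gen (by decide +kernel)

theorem GA : gen ns [[0], [2]] ≤ gen ns [[4], [0], [2]] :=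
  gen_le_of_subsetL _ (by decide +kernel)

theorem ka_a : Known ns (gen ns [[4], [0], [2]]) 20282409603651670423947251285983 :=
  (kn_7.mono GA).lor ka_0

theorem ka_1 : Known ns (gen ns [[4], [0], [2]]) 20282409603651670423947251286015 :=
  ka_a.steps ctx (es := [(5, [4, 206])]) (by decide +kernel)

theorem moA : Mo 128 7 ns (gen ns [[4], [0], [2]]) 20282409603651670423947251286015 :=
  ⟨ctx, ka_1, gen_le_supp ctx.ok _⟩

abbrev AA := ↥(gen ns [[4], [0], [2]])

noncomputable abbrev fA : List ℕ → AA := ev (MulEquiv.refl AA) ns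

noncomputable abbrev qA := eqKn 128 7 ns 20282409603651670423947251286015

instance finA : Finite AA := moA.finite (MulEquiv.refl AA)

noncomputable abbrev f0 : List ℕ → Cfsg.Spor.HS := ev equiv ns

noncomputable abbrev q0 := eqKn 128 7 ns 20282409603651670423947251285979

theorem wm : WM fA qA :=
  wm_of_qs (moA.qs _)

theorem qs : QS equiv ns q0 :=
  mo.qs _

noncomputable def top : List ℕ := [4, 126, 128, 130, 132, 42, 134, 136, 138, 6]

noncomputable def ts : List (List ℕ) := [[6], [8], [4], [10]]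

theorem nc : Nc fA top :=
  wm.nc (hs := [([], [[126, 130, 134, 136, 6], [128], [130, 138, 6], [132, 42, 138], [42], [134], [136, 138, 6], [138], [6]]),
 ([], [[128, 130, 134, 138], [130], [132, 136], [42, 134, 136, 138, 6], [134], [136], [138, 6], [6]]),
 ([], [[130], [132, 42, 138, 6], [42], [134, 6], [136, 138, 6], [138], [6]]),
 ([], [[132, 134, 136, 138], [42, 138, 6], [134], [136, 6], [138], [6]]),
 ([], [[42, 6], [134], [136], [138, 6], [6]]),
 ([], [[134], [136, 6], [138], [6]]),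
 ([6], [[136], [138], [6]]),
 ([], [[138], [6]]),
 ([], [[6]]),
 ([], [])]) (by decide +kernel)

theorem lb : 2 ^ top.length ≤ Nat.card (sg fA top) :=
  le_card_sg moA _ [(0, 3, [[126], [4], [4, 130, 42, 138], [132, 136, 6], [128, 130, 138]]),
 (2, 2, [[4, 130, 42, 138], [132, 136, 6], [128, 130, 138]])] (by decide +kernel)

theorem ser : Ser fA top :=
  nc.ser lb

noncomputable def cv1c : CT :=
  (.two (.two (.two (.two (.two (.two (.two (.two (.two .triv
 (.lf [] [6]))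
 (.one [126] [] (.lf [26, 14, 12] [6])))
 (.one [4] [6] (.one [130] [] (.lf [8, 24, 1] [6]))))
 (.two (.two (.one [128] [] (.no []))
 (.one [126] [] (.no [])))
 (.one [4] [6] (.one [130] [] (.no [])))))
 (.one [126] [136, 138, 6] (.two (.one [130] [6] (.one [132] [] (.lf [34, 17] [6])))
 (.one [4] [6] (.one [132] [] (.no []))))))
 (.one [4] [138] (.one [130] [136, 138] (.one [126] [] (.two (.one [42] [] (.lf [28] [6]))
 (.one [132] [] (.no [])))))))
 (.two (.two (.one [132] [136, 138, 6] (.two (.one [4] [6] (.one [136] [] (.lf [1, 2] [8])))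
 (.one [128] [6] (.one [130] [] (.no [])))))
 (.one [126] [136, 138, 6] (.two (.one [4] [6] (.no [6]))
 (.one [128] [6] (.no [6])))))
 (.one [4] [] (.one [130] [136, 138] (.no [136, 138, 6])))))
 (.one [126] [134, 138] (.two (.one [132] [138, 6] (.two (.two (.one [136] [6] (.one [134] [] (.lf [12, 37, 16] [8])))
 (.one [4] [6] (.no [6])))
 (.two (.one [136] [6] (.one [128] [] (.lf [17, 22, 13] [6])))
 (.one [4] [6] (.no [6])))))
 (.one [4] [138] (.no [138, 6])))))
 (.two (.one [4] [134, 136, 6] (.two (.two (.one [42] [136, 138] (.one [132] [] (.two (.one [138] [] (.lf [17, 2, 6] [8]))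
 (.one [126] [] (.no [])))))
 (.one [126] [136, 138, 6] (.no [136, 138])))
 (.two (.one [130] [136, 138] (.one [126] [] (.no [])))
 (.one [126] [138] (.no [138])))))
 (.one [4] [134, 136, 138, 6] (.no [134, 138, 6]))))

theorem cv1 : Cv fA ts [126, 128, 130, 132, 42, 134, 136, 138, 6] [] :=
  ser.cv' wm cv1c 0 (p := 4) (by decide +kernel)

noncomputable def cv2c : CT :=
  (.two (.two (.one [126] [134, 136, 6] (.two (.one [132] [138] (.two (.two (.one [130] [6] (.two (.lf [] [4])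
 (.lf [17, 10, 13, 2] [10])))
 (.one [4] [6] (.no [6])))
 (.two (.one [130] [6] (.one [128] [] (.no [])))
 (.one [4] [6] (.no [])))))
 (.one [4] [138] (.no [138]))))
 (.two (.two (.two (.two (.one [126] [6] (.one [130] [6] (.one [132] [] (.lf [35, 27, 6] [10]))))
 (.one [126] [6] (.one [130] [6] (.one [128] [] (.lf [15, 1] [4])))))
 (.one [126] [138, 6] (.two (.two (.one [134] [] (.lf [2, 32, 6] [10]))
 (.one [132] [] (.lf [10, 17, 0] [4])))
 (.one [4] [6] (.one [130] [] (.no []))))))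
 (.one [4] [138] (.one [130] [136] (.two (.two (.one [126] [] (.no []))
 (.one [42] [] (.lf [20, 35, 3] [10])))
 (.two (.one [126] [] (.no []))
 (.one [134] [] (.lf [24, 20, 1] [4])))))))
 (.two (.two (.one [132] [136, 138] (.one [126] [] (.one [4] [6] (.no [6]))))
 (.one [126] [138] (.one [126, 132] [] (.one [4] [6] (.one [134] [] (.lf [10, 20, 34] [10]))))))
 (.one [4] [] (.one [130] [136] (.no [136, 6]))))))
 (.two (.one [4] [134, 136, 6] (.no [134, 136, 6]))
 (.one [4] [134, 136, 138, 6] (.two (.two (.one [132] [138] (.one [126] [6] (.no [138])))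
 (.one [126] [138, 6] (.no [138])))
 (.two (.one [130] [136, 6] (.no [136]))
 (.one [126] [136, 138] (.one [4, 128] [138, 6] (.one [126, 42] [6] (.one [134] [] (.lf [33, 22, 12, 0] [10]))))))))))

theorem cv2 : Cv fA ts [126, 128, 130, 132, 42, 134, 136, 138, 6] [4] :=
  ser.cv' wm cv2c 0 (p := 4) (by decide +kernel)

theorem cv0 : Cv fA ts top [] :=
  ser.two wm 0 (by decide +kernel) cv1 cv2

theorem pc_a : IsPGroup 2 (sub equiv ns Qa_as) :=
  mo.isPGroup equiv two_pos (ss := [132, 42, 134, 136, 138, 6]) (isPcP_of ctx (hs := [([], [[0, 8], [2], [4], [6, 8], [8]]),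
 ([], [[0], [2, 6], [4], [6]]),
 ([4], [[0], [2], [4]]),
 ([], [[0], [2]]),
 ([], [[0]]),
 ([], [])]) (by decide +kernel))
    (by decide +kernel)

theorem le_a : sub equiv ns Qa_as ≤ sub equiv ns Ca_k0 :=
  sub_mono _ (Ca.le_of ctx mo.k (by decide +kernel))

theorem nr_a : sub equiv ns Ca_k0 ≤ normalizer (sub equiv ns Qa_as : Set Cfsg.Spor.HS) :=
  qs.sub_le_normalizer mo.k [[[132, 134, 138, 6], [42], [134, 6], [132, 42, 134], [132, 136], [6]],
 [[42, 138], [132, 42, 136], [134], [138], [136, 138, 6], [6]],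
 [[136, 6], [132, 42, 136], [134], [132, 6], [132, 42, 138], [6]],
 [[132], [132, 42, 136, 6], [134, 6], [136], [136, 138, 6], [6]],
 [[132, 6], [42], [134], [136, 6], [138], [6]],
 [[132, 6], [42, 6], [134], [136, 6], [138, 6], [6]],
 [[132], [42], [134], [136], [138], [6]]] (by decide +kernel)

theorem ce_a : Nat.card (centralizer (sub equiv ns Qa_as : Set Cfsg.Spor.HS)) = 4 :=
  by
  rw [Qa.cent_sub mo.k equiv (by decide +kernel), Qa.card_sub]

theorem pc_d : IsPGroup 2 (sub equiv ns Qd_as) :=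
  mo.isPGroup equiv two_pos (ss := [140, 116, 102, 142]) (isPcP_of ctx (hs := [([], [[0], [2], [4]]),
 ([], [[0], [2]]),
 ([], [[0]]),
 ([], [])]) (by decide +kernel))
    (by decide +kernel)

theorem le_d : sub equiv ns Qd_as ≤ sub equiv ns Cd_k0 :=
  sub_mono _ (Cd.le_of ctx mo.k (by decide +kernel))

theorem nr_d : sub equiv ns Cd_k0 ≤ normalizer (sub equiv ns Qd_as : Set Cfsg.Spor.HS) :=
  qs.sub_le_normalizer mo.k [[[102], [140, 116, 102, 142], [140], [140, 116, 102]],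
 [[142], [140, 102, 142], [102], [116, 142]],
 [[102], [140, 142], [140, 116, 102], [142]],
 [[140], [116], [102], [142]],
 [[140], [116], [102], [142]],
 [[140], [116], [102], [142]],
 [[140], [116], [102], [142]]] (by decide +kernel)

theorem ce_d : Nat.card (centralizer (sub equiv ns Qd_as : Set Cfsg.Spor.HS)) = 16 :=
  by
  rw [Qd.cent_sub mo.k equiv (by decide +kernel), Qd.card_sub]

noncomputable def us : List (List ℕ) :=
  [[172], [174], [176], [178], [180]]

noncomputable def vs : List (List ℕ) :=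
  [[182], [184], [186], [188], [190], [192], [194]]

theorem nr_b : sub equiv ns Cb_k0 ≤ normalizer (sub equiv ns us : Set Cfsg.Spor.HS) :=
  qs.sub_le_normalizer mo.k [[[174, 172, 178, 176, 174, 180, 178], [172, 176, 180], [176, 174, 172, 178, 176, 174, 180, 178, 176], [174, 172, 176, 174, 180], [172, 174, 172, 176, 174, 172, 178, 176, 174, 172, 180, 178, 176, 174, 172]],
 [[174, 176, 178, 176, 174], [178], [178, 180, 178], [172, 174, 176, 178, 180, 178, 176, 174, 172], [172, 174, 172]],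
 [[172, 174, 172, 176, 178, 176, 180, 178, 176, 174, 172], [174, 172, 176, 174, 172, 178, 176, 174, 172, 180, 178, 176, 174], [172, 174, 176, 174, 172, 178, 176, 174, 180, 178, 176, 174, 172], [172, 174, 172, 178, 176, 174, 172, 180, 178], [172, 174, 172, 176, 174, 172, 178, 176, 174, 172, 180, 178, 176, 174, 172]],
 [[172, 174, 172, 176, 174, 172, 180], [172, 176, 174, 172, 178, 176, 174, 172, 180, 178, 176], [172, 174, 172, 176, 178, 176, 180, 178, 176, 174, 172], [176, 174, 172, 178, 176, 174, 180, 178, 176], [172, 174, 172, 178, 176, 174, 172, 180, 178]],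
 [[172, 174, 176, 178, 176, 174, 172], [176, 178, 176], [176, 178, 180, 178, 176], [174, 176, 178, 180, 178, 176, 174], [174, 176, 174]]] (by decide +kernel)

theorem le_b : sub equiv ns us ≤ sub equiv ns Cb_k0 :=
  sub_mono _ (Cb.le_of ctx mo.k (by decide +kernel))

theorem le_c : sub equiv ns vs ≤ sub equiv ns Cc_k0 :=
  sub_mono _ (Cc.le_of ctx mo.k (by decide +kernel))

theorem cj_b : IsConj (f0 [6]) (f0 [172, 176]) :=
  qs.isConj [26, 12, 16] (by decide +kernel)

theorem cj_c : IsConj (f0 [6]) (f0 [182, 186]) :=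
  qs.isConj [1, 6, 13] (by decide +kernel)

theorem cj_c2 : IsConj (f0 [6]) (f0 [182, 186, 190, 194]) :=
  qs.isConj [17, 1, 13] (by decide +kernel)

theorem ord_z : orderOf (f0 [6]) = 2 :=
  haveI : Fact (Nat.Prime 2) := ⟨by norm_num⟩
  mo.orderOf equiv 2 0 (by decide +kernel)

theorem ord_t : orderOf (f0 [8]) = 2 :=
  haveI : Fact (Nat.Prime 2) := ⟨by norm_num⟩
  mo.orderOf equiv 2 0 (by decide +kernel)

theorem ord_y1 : orderOf (f0 [196]) = 5 :=
  haveI : Fact (Nat.Prime 5) := ⟨by norm_num⟩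
  mo.orderOf equiv 5 0 (by decide +kernel)

theorem ord_y2 : orderOf (f0 [198]) = 5 :=
  haveI : Fact (Nat.Prime 5) := ⟨by norm_num⟩
  mo.orderOf equiv 5 0 (by decide +kernel)

theorem ord_b5 : orderOf (f0 [200]) = 5 :=
  haveI : Fact (Nat.Prime 5) := ⟨by norm_num⟩
  mo.orderOf equiv 5 0 (by decide +kernel)

theorem lb_a : 7680 ≤ Nat.card (sub equiv ns [[196], [198], [128]]) :=
  mo.le_card_sub equiv [(0, 4, [[196], [198, 128], [196, 196, 128, 196, 198, 196, 128, 198]]),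
 (2, 7, [[198, 128], [196, 196, 128, 196, 198, 196, 128, 198]]),
 (1, 2, [[196, 196, 128, 196, 198, 196, 128, 198]])] (by decide +kernel)

theorem le_y : sub equiv ns [[196], [198], [128]] ≤ sub equiv ns Ca_k0 :=
  sub_mono _ (Ca.le_of ctx mo.k (by decide +kernel))

theorem z_eq : f0 (powW [196, 198] 3) = f0 [6] :=
  qs _ _ (by decide +kernel)

theorem lb_5 : 25 ≤ Nat.card (sub equiv ns [[196], [200]]) :=
  mo.le_card_sub equiv [(0, 4, [[200], [196]])] (by decide +kernel)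

theorem cm_5 : Commute (f0 [196]) (f0 [200]) :=
  qs.commute (by decide +kernel)

end Cfsg.Agent.Q16.HSd
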