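import Mathlib
import Cfsg.Agent.Q16.Defs
import Cfsg.Agent.Q16.JF
import Cfsg.Agent.Q16.XHSa
import Cfsg.Agent.Q16.XHSd
import Cfsg.Agent.Spor.Co0Simple
import Cfsg.Agent.S2072

/-!
`HS`, `r = 5`, `n = 512`. Classes: 2A (2-central, `C = 4.2⁴.S₅` of order 7680), 2B (`C = 2 × Aut(A₆)` of
order 2880), outer 2C (`Fix = S₈`), outer 2D (`Fix = 2⁴.S₅` of order 1920). The automorphism group is the
permutation group `AA = HS:2` on 100 points.
-/

set_option autoImplicit false
set_option linter.style.haveILetI false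

namespace Cfsg.Agent.Q16

open Subgroup Cfsg Cfsg.Agent.PLocal

namespace HSx

open Cfsg.Agent.Comp Cfsg.Agent.Comp.IC Equiv HSd

theorem card_HS : Nat.card Spor.HS = 44352000 := (Nat.card_congr equiv.toEquiv).trans hn

theorem cen_HS : center Spor.HS = ⊥ :=
  haveI := Spor.Leech.simple_hs_std
  haveI : IsSimpleGroup Spor.HS := Spor.Leech.hsEquiv.isSimpleGroup
  JFx.cen_bot (by rw [card_HS]; norm_num)

theorem s_nrm : ∀ a ∈ gen ns [[0], [2]], wp ns [4] * a * (wp ns [4])⁻¹ ∈ gen ns [[0], [2]] := by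
  have key : ∀ u v, inK 20282409603651670423947251285979 v = true →
      eqW 128 7 ns ([4] ++ u) (v ++ [4]) = true →
      wp ns [4] * wp ns u * (wp ns [4])⁻¹ ∈ gen ns [[0], [2]] := fun u v h1 h2 => by
    rw [← wp_append, wp_eq_of_eqW ctx h2, wp_append, mul_inv_cancel_right]
    exact mo.k.word h1
  refine fun a ha => (gen_le_iff.2 fun u hu => ?_ :
    _ ≤ (gen ns [[0], [2]]).comap (MulAut.conj (wp ns [4])).toMonoidHom) ha
  simp only [List.mem_cons, List.not_mem_nil, or_false] at hu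
  rcases hu with rfl | rfl
  · exact key _ [202] (by decide +kernel) (by decide +kernel)
  · exact key _ [204] (by decide +kernel) (by decide +kernel)

theorem s_sq : wp ns [4] * wp ns [4] ∈ gen ns [[0], [2]] := by
  rw [← wp_append, wp_eq_of_eqW ctx (v := []) (by decide +kernel)]
  exact one_mem _

theorem s_not : wp ns [4] ∉ gen ns [[0], [2]] := fun h => by
  have h1 : Nat.card AA = 44352000 := by
    rw [← hn, AA, gen_cons, sup_eq_left.2 (zpowers_le.2 h)]
  have h2 := (sg fA top).card_subgroup_dvd_card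
  rw [le_antisymm nc.card_le lb, h1] at h2
  exact absurd h2 (by decide +kernel)

theorem card_AA : Nat.card AA = 88704000 := by
  rw [AA, gen_cons, card_adjoin s_nrm s_sq s_not, hn]

theorem AA_le : gen ns [[4], [0], [2]] ≤ normalizer (gen ns [[0], [2]] : Set (Perm ℕ)) := by
  haveI := finite_gen ctx.ok [[0], [2]]
  rw [gen_cons]
  exact sup_le le_normalizer (zpowers_le.2 (mem_normalizer_fintype s_nrm))

/-- the action of a normalising group of permutations -/
noncomputable def psi {H : Type*} [Group H] {G A : Subgroup (Perm ℕ)} (e : H ≃* G)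
    (h : A ≤ normalizer (G : Set (Perm ℕ))) : A →* MulAut H :=
  (MulAut.congr e.symm).toMonoidHom.comp (G.normalizerMonoidHom.comp (inclusion h))

theorem pm_psi {H : Type*} [Group H] {G A : Subgroup (Perm ℕ)} (e : H ≃* G)
    (h : A ≤ normalizer (G : Set (Perm ℕ))) (a : A) (x : H) :
    pm e (psi e h a x) = a * pm e x * (a : Perm ℕ)⁻¹ := by
  change (e (e.symm (G.normalizerMonoidHom (inclusion h a) (e x))) : Perm ℕ) = _
  rw [MulEquiv.apply_symm_apply]
  rfl

/-- the action of `HS:2` on `HS` -/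
noncomputable def ψ : AA →* MulAut Spor.HS := psi equiv AA_le

theorem pm_ψ (a : AA) (x : Spor.HS) : pm equiv (ψ a x) = a * pm equiv x * (a : Perm ℕ)⁻¹ :=
  pm_psi equiv AA_le a x

theorem ψ_inn {a : AA} {x : Spor.HS} (h : (a : Perm ℕ) = pm equiv x) : ψ a = MulAut.conj x :=
  MulEquiv.ext fun y => pm_inj equiv (by rw [pm_ψ, h]; simp)

theorem coe_fA {u : List ℕ} (h : inK 20282409603651670423947251286015 u = true) :
    (fA u : Perm ℕ) = wp ns u := moA.k.pm_ev (MulEquiv.refl AA) h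

theorem fix_ψ {T : List ℕ} {kws : List (List ℕ)} {n : ℕ}
    (hC : CentEq ns (gen ns [[0], [2]]) [T] kws n)
    (h : inK 20282409603651670423947251286015 T = true) :
    fixedSubgroup (ψ (fA T)) = sub equiv ns kws := by
  ext x
  rw [mem_fixed, mem_sub, hC.iff, ← (pm_inj equiv).eq_iff, pm_ψ, coe_fA h, mul_inv_eq_iff_eq_mul]
  simp [pm_mem, eq_comm]

theorem idx_sub {T : List ℕ} {kws : List (List ℕ)} {n : ℕ}
    (hC : CentEq ns (gen ns [[0], [2]]) [T] kws n) (m : ℕ) (h : 0 < n ∧ m * n = 44352000) :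
    (sub equiv ns kws).index = m := by
  have e := (sub equiv ns kws).index_mul_card
  rw [hC.card_sub, card_HS, ← h.2] at e
  exact Nat.eq_of_mul_eq_mul_right h.1 e

theorem fa : fixedSubgroup (ψ (fA [6])) = sub equiv ns Ca_k0 := fix_ψ Ca (by decide +kernel)
theorem fb : fixedSubgroup (ψ (fA [8])) = sub equiv ns Cb_k0 := fix_ψ Cb (by decide +kernel)
theorem fc : fixedSubgroup (ψ (fA [4])) = sub equiv ns Cc_k0 := fix_ψ Cc (by decide +kernel)
theorem fd : fixedSubgroup (ψ (fA [10])) = sub equiv ns Cd_k0 := fix_ψ Cd (by decide +kernel)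
theorem ia : (sub equiv ns Ca_k0).index = 5775 := idx_sub Ca _ (by norm_num)
theorem ib : (sub equiv ns Cb_k0).index = 15400 := idx_sub Cb _ (by norm_num)
theorem ic : (sub equiv ns Cc_k0).index = 1100 := idx_sub Cc _ (by norm_num)
theorem id' : (sub equiv ns Cd_k0).index = 23100 := idx_sub Cd _ (by norm_num)

theorem cls_AA {a : AA} (h : orderOf a = 2) : ∃ γ : MulAut Spor.HS,
    ψ a = γ * ψ (fA [6]) * γ⁻¹ ∨ ψ a = γ * ψ (fA [8]) * γ⁻¹ ∨ ψ a = γ * ψ (fA [4]) * γ⁻¹ ∨
      ψ a = γ * ψ (fA [10]) * γ⁻¹ := by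
  obtain ⟨t, ht, e⟩ := cv0.classes wm nc lb (by rw [card_AA]; decide +kernel) a h
  obtain ⟨g, rfl⟩ := isConj_iff.1 e
  refine ⟨ψ g, ?_⟩
  simp only [ts, List.map_cons, List.map_nil, List.mem_cons, List.not_mem_nil, or_false] at ht
  rcases ht with rfl | rfl | rfl | rfl <;> simp

theorem idx_conj (γ α : MulAut Spor.HS) :
    (fixedSubgroup (γ * α * γ⁻¹)).index = (fixedSubgroup α).index := index_fixed_congr γ α

theorem cases_AA (a : AA) : (∃ x, (a : Perm ℕ) = pm equiv x) ∨
    ∃ x, ((a * fA [4] : AA) : Perm ℕ) = pm equiv x := by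
  refine ((mem_adjoin s_nrm s_sq).1 ((gen_cons ns [4] _).le a.2)).imp (fun h => ?_) fun h => ?_
  · exact ⟨_, (pm_liftE equiv h).symm⟩
  · exact ⟨_, by rw [Subgroup.coe_mul, coe_fA (by decide +kernel)]; exact (pm_liftE equiv h).symm⟩

theorem ψ_inj : Function.Injective ψ := by
  have k1 : ∀ a : AA, ψ a = 1 → (a : Perm ℕ) ∈ gen ns [[0], [2]] → a = 1 := fun a h hm => by
    have e := (pm_liftE equiv hm).symm
    rw [ψ_inn e, ← map_one MulAut.conj] at h
    rw [conj_injective cen_HS h, map_one] at e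
    exact Subtype.ext e
  refine (injective_iff_map_eq_one _).2 fun a h => by_contra fun hne => ?_
  have h1 : ((gen ns [[0], [2]]).subgroupOf (gen ns [[4], [0], [2]])).index = 2 := by
    have e := ((gen ns [[0], [2]]).subgroupOf (gen ns [[4], [0], [2]])).index_mul_card
    rw [Nat.card_congr (subgroupOfEquivOfLe GA).toEquiv, hn, card_AA] at e
    exact Nat.eq_of_mul_eq_mul_right (by norm_num) (e.trans (by norm_num : 88704000 = 2 * 44352000))
  have h2 : a * a = 1 := k1 _ (by rw [map_mul, h, mul_one]) (mul_self_mem_of_index_two h1 a)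
  obtain ⟨γ, e⟩ := cls_AA (orderOf_eq_prime (by rw [sq, h2]) hne)
  have h3 : (fixedSubgroup (ψ a)).index = 1 := by
    rw [h, index_eq_one, eq_top_iff]; exact fun _ _ => rfl
  rcases e with e | e | e | e <;> rw [e, idx_conj] at h3
  · rw [fa, ia] at h3; omega
  · rw [fb, ib] at h3; omega
  · rw [fc, ic] at h3; omega
  · rw [fd, id'] at h3; omega

theorem ψ_surj : Function.Surjective ψ :=
  (ψ_inj.bijective_of_nat_card_le (by
    rw [JFx.card_aut cen_HS, S2072.result, card_HS, card_AA])).2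

theorem cls_aut {α : MulAut Spor.HS} (h : orderOf α = 2) : ∃ γ : MulAut Spor.HS,
    α = γ * ψ (fA [6]) * γ⁻¹ ∨ α = γ * ψ (fA [8]) * γ⁻¹ ∨ α = γ * ψ (fA [4]) * γ⁻¹ ∨
      α = γ * ψ (fA [10]) * γ⁻¹ := by
  obtain ⟨a, rfl⟩ := ψ_surj α
  exact cls_AA (by rwa [orderOf_injective ψ ψ_inj] at h)

theorem ψ_z : ψ (fA [6]) = MulAut.conj (f0 [6]) :=
  ψ_inn (by rw [coe_fA (by decide +kernel), mo.k.pm_ev equiv (by decide +kernel)])

theorem cent_z : centralizer {f0 [6]} = sub equiv ns Ca_k0 := by rw [← fixed_conj, ← ψ_z, fa]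

theorem twoC_z : TwoC (f0 [6]) := ⟨ord_z, by rw [cent_z, ia]; norm_num⟩

theorem conj_z {c : Spor.HS} (h : TwoC c) : IsConj (f0 [6]) c := by
  obtain ⟨γ, e⟩ := cls_aut (α := MulAut.conj c)
    (by rw [orderOf_injective MulAut.conj (conj_injective cen_HS), h.1])
  have h3 := h.2
  rw [← fixed_conj] at h3
  rcases e with e | e | e | e
  · have e1 : c = γ (f0 [6]) := conj_injective cen_HS (by rw [e, ψ_z]; ext y; simp)
    have e2 : ψ (fA [4]) (f0 [6]) = f0 [6] := mem_fixed.1 (by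
      rw [fc]
      exact sub_mono _ (Cc.le_of (us := [[6]]) ctx mo.k (by decide +kernel))
        (mo.k.ev_mem equiv (by decide +kernel)))
    obtain ⟨a, rfl⟩ := ψ_surj γ
    rcases cases_AA a with ⟨x, hx⟩ | ⟨x, hx⟩
    · exact isConj_iff.2 ⟨x, by rw [e1, ψ_inn hx]; rfl⟩
    · have := ψ_inn hx
      refine isConj_iff.2 ⟨x, ?_⟩
      rw [e1, ← MulAut.conj_apply, ← this, map_mul, MulAut.mul_apply, e2]
  all_goals rw [e, idx_conj] at h3
  · rw [fb, ib] at h3; omega
  · rw [fc, ic] at h3; omega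
  · rw [fd, id'] at h3; omega

theorem sym_of {n : ℕ} (hn : 4 ≤ n) (L : Fin n → ℕ) (p : ℕ) (i₀ j₀ : Fin n)
    (h1 : ∀ i, q0 (appendR [L i] [L i]) [] = true)
    (h2 : ∀ i j : Fin n, (i : ℕ) + 1 < j → q0 (appendR [L i] [L j]) (appendR [L j] [L i]) = true)
    (h3 : ∀ i j : Fin n, (i : ℕ) + 1 = j → q0 (appendR (appendR [L i] [L j]) [L i])
      (appendR (appendR [L j] [L i]) [L j]) = true)
    (h4 : neK 128 ns 20282409603651670423947251285979 (appendR [L i₀] [L j₀]) p = true)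
    {ws : List (List ℕ)} (h5 : allL ws (inK 20282409603651670423947251285979) = true)
    (h6 : ∀ i, [L i] ∈ ws) (h7 : ∀ u ∈ ws, ∃ i, u = [L i]) :
    ∃ φ : Perm (Fin (n + 1)) →* Spor.HS, Function.Injective φ ∧
      (∀ i : Fin n, φ (swap i.castSucc i.succ) = f0 [L i]) ∧ φ.range = sub equiv ns ws := by
  obtain ⟨φ, a, b, c⟩ := sym_hom hn (fun i => f0 [L i])
    (fun i => by simpa only [ev_appendR, ev_nil] using qs _ _ (h1 i)) (fun i j e => qs.commute (h2 i j e))
    (fun i j e => by simpa only [ev_appendR] using qs _ _ (h3 i j e)) (i := i₀) (j := j₀)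
    (by simpa only [ev_appendR] using mo.ne_one equiv p h4)
  refine ⟨φ, a, b, le_antisymm (c _ fun i => mo.k.ev_mem_sub equiv h5 _ (h6 i))
    ((mo.k.sub_le_iff equiv h5).2 fun u hu => ?_)⟩
  obtain ⟨i, rfl⟩ := h7 u hu
  exact ⟨_, b i⟩

theorem xp_b : XP 5 512 (ψ (fA [8])) := by
  obtain ⟨φ, a, b, c⟩ := sym_of (n := 5) (by norm_num) ![172, 174, 176, 178, 180] 1 0 1
    (by decide +kernel) (by decide +kernel) (by decide +kernel) (by decide +kernel) (ws := us)
    (by decide +kernel) (by decide +kernel) (by decide +kernel)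
  simp only [XP, Cp, fb, ib]
  refine ⟨fun h => absurd (by norm_num) h, fun J hJ => ?_⟩
  obtain rfl := comp_eq (by simp) a (c ▸ le_b) (c ▸ nr_b) 2
    (by rw [Cb.card_sub, Nat.card_perm]; simp [Nat.factorial]) hJ
  haveI := alternatingGroup.isSimpleGroup (α := Fin 6) (by simp)
  refine ⟨by norm_num, (jf_360 (JFx.card_alt 6 rfl)).congr
    ((alternatingGroup _).equivMapOfInjective φ a), ?_⟩
  rintro _ ⟨σ, hσ, rfl⟩ h
  rw [orderOf_injective φ a] at h
  have e : φ (swap 0 1 * swap 2 3) = f0 [172, 176] := by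
    rw [map_mul]; exact (congrArg₂ _ (b 0) (b 2)).trans (ev_append equiv ns [172] [176]).symm
  refine twoC_of (twoC_of twoC_z cj_b) (e ▸ φ.map_isConj (conj_two
    (orderOf_eq_prime (by decide) (by decide)) h ?_))
  rcases supp_alt h hσ (by norm_num) with h4 | h4
  · rw [h4]; decide
  · omega

theorem xp_c : XP 5 512 (ψ (fA [4])) := by
  obtain ⟨φ, a, b, c⟩ := sym_of (n := 7) (by norm_num) ![182, 184, 186, 188, 190, 192, 194] 0 0 1
    (by decide +kernel) (by decide +kernel) (by decide +kernel) (by decide +kernel) (ws := vs)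
    (by decide +kernel) (by decide +kernel) (by decide +kernel)
  simp only [XP, Cp, fc, ic]
  refine ⟨fun h => absurd (by norm_num) h, fun J hJ => ?_⟩
  have h0 : Nat.card (sub equiv ns Cc_k0) = 2 ^ 0 * Nat.card (Perm (Fin (7 + 1))) := by
    rw [Cc.card_sub, Nat.card_perm]; simp [Nat.factorial]
  have h1 : φ.range = sub equiv ns Cc_k0 := eq_of_le_of_card_ge (c ▸ le_c) (by
    rw [h0, ← Nat.card_congr (MonoidHom.ofInjective a).toEquiv]; simp)
  obtain rfl := comp_eq (by simp) a h1.le (h1 ▸ le_normalizer) 0 h0 hJ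
  refine ⟨by norm_num, jf_A8.congr ((alternatingGroup _).equivMapOfInjective φ a), ?_⟩
  rintro _ ⟨σ, hσ, rfl⟩ h
  rw [orderOf_injective φ a] at h
  have e : φ (swap 0 1 * swap 2 3) = f0 [182, 186] := by
    rw [map_mul]; exact (congrArg₂ _ (b 0) (b 2)).trans (ev_append equiv ns [182] [186]).symm
  have e' : φ (swap 4 5 * swap 6 7) = f0 [190, 194] := by
    rw [map_mul]; exact (congrArg₂ _ (b 4) (b 6)).trans (ev_append equiv ns [190] [194]).symm
  rcases supp_alt h hσ (by norm_num) with h4 | h4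
  · exact twoC_of (twoC_of twoC_z cj_c) (e ▸ φ.map_isConj (conj_two
      (orderOf_eq_prime (by decide) (by decide)) h (by rw [h4]; decide)))
  · have e2 : φ (swap 0 1 * swap 2 3 * (swap 4 5 * swap 6 7)) = f0 [182, 186, 190, 194] := by
      rw [map_mul, e, e']; exact (ev_append equiv ns [182, 186] [190, 194]).symm
    exact twoC_of (twoC_of twoC_z cj_c2) (e2 ▸ φ.map_isConj (conj_two
      (orderOf_eq_prime (by decide) (by decide)) h (by rw [h4.1]; decide)))

theorem pow5 {u : List ℕ} (h : orderOf (f0 u) = 5) : f0 u ^ 5 = 1 := h ▸ pow_orderOf_eq_one _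

theorem rank5 : PRankAtLeast 5 2 Spor.HS := by
  have hc := qs.sub_comm mo.k (vs := [[196], [200]]) (by decide +kernel)
  have hm : IsMulCommutative (sub equiv ns [[196], [200]]) := le_centralizer_iff_isMulCommutative.1 hc
  refine ⟨_, hm, fun x hx => ?_, lb_5⟩
  let K : Subgroup Spor.HS :=
    { carrier := {x | x ∈ sub equiv ns [[196], [200]] ∧ x ^ 5 = 1}
      one_mem' := ⟨one_mem _, one_pow _⟩
      mul_mem' := fun {x y} hx hy => ⟨mul_mem hx.1 hy.1, by
        rw [Commute.mul_pow (mem_centralizer_iff.1 (hc hy.1) x hx.1), hx.2, hy.2, mul_one]⟩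
      inv_mem' := fun {x} hx => ⟨inv_mem hx.1, by rw [inv_pow, hx.2, inv_one]⟩ }
  refine ((mo.k.sub_le_iff equiv (H := K) (by decide +kernel)).2 (fun u hu => ?_) hx).2
  refine ⟨mo.k.ev_mem_sub equiv (by decide +kernel) u hu, ?_⟩
  simp only [List.mem_cons, List.not_mem_nil, or_false] at hu
  rcases hu with rfl | rfl
  · exact pow5 ord_y1
  · exact pow5 ord_b5

theorem cen5 : f0 [6] ∈ Rr 5 (centralizer {f0 [6]}) ∧ ∃ g ∈ centralizer ({f0 [6]} : Set Spor.HS),
    centralizer {f0 [6]} ≤ Rr 5 (centralizer {f0 [6]}) ⊔ zpowers g := by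
  rw [cent_z]
  have hm := fun u hu => le_y (mo.k.ev_mem_sub equiv (by decide +kernel) u hu)
  have h1 : f0 [196] ∈ Rr 5 (sub equiv ns Ca_k0) :=
    subset_closure ⟨hm _ (by simp), 1, pow5 ord_y1⟩
  have h2 : f0 [198] ∈ Rr 5 (sub equiv ns Ca_k0) :=
    subset_closure ⟨hm _ (by simp), 1, pow5 ord_y2⟩
  refine ⟨?_, f0 [128], hm _ (by simp), ?_⟩
  · rw [← z_eq, f0, ev_powW]
    exact pow_mem (ev_append equiv ns [196] [198] ▸ mul_mem h1 h2) _
  · rw [← eq_of_le_of_card_ge le_y (by rw [Ca.card_sub]; exact lb_a)]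
    refine (mo.k.sub_le_iff equiv (by decide +kernel)).2 fun u hu => ?_
    rw [eq_of_le_of_card_ge le_y (by rw [Ca.card_sub]; exact lb_a)]
    simp only [List.mem_cons, List.not_mem_nil, or_false] at hu
    rcases hu with rfl | rfl | rfl
    · exact mem_sup_left h1
    · exact mem_sup_left h2
    · exact mem_sup_right (mem_zpowers _)

end HSx

open HSx HSd in
theorem xf_HS : XF Spor.HS := by
  refine ⟨5, 512, Nat.prime_five, by norm_num, rank5, fun U => ?_,
    fun c c' h h' => (conj_z h).symm.trans (conj_z h'), ⟨_, twoC_z, cen5⟩, fun α hα => ?_⟩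
  · exact (JFx.card_syl U (a := 9) (m := 86625) (by rw [card_HS]; norm_num) (by norm_num)).ge
  · obtain ⟨γ, rfl | rfl | rfl | rfl⟩ := cls_aut hα
    · exact (XP.of_noComp (fun _ => ⟨_, ψ_z.symm⟩) fun J => by
        rw [Cp, fa]; exact noComp_of pc_a le_a nr_a 2 ce_a).conj γ
    · exact xp_b.conj γ
    · exact xp_c.conj γ
    · exact (XP.of_noComp (fun h => absurd (by rw [fd, id']; norm_num) h) fun J => by
        rw [Cp, fd]; exact noComp_of pc_d le_d nr_d 4 ce_d).conj γ

end Cfsg.Agent.Q16
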