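import Cfsg.Agent.Q16.XA
import Cfsg.Agent.Q16.JF
import Cfsg.Agent.Comp.LookT
import Cfsg.Agent.Spor.ModelJ2
import Cfsg.Agent.S2066

set_option autoImplicit false
set_option Elab.async false
set_option maxRecDepth 4096

namespace Cfsg.Agent.Q16.XJ2a

open Cfsg.Agent.Comp

noncomputable def ns_2 : Net :=
 (Net.cons (nat_lit 64) (nat_lit 0xb047fd3c66b600f0)
 (Net.cons (nat_lit 32) (nat_lit 0xee70352b000000000e533bf8)
 (Net.cons (nat_lit 16) (nat_lit 0x575b0000cbe10000178c0000dec0)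
 (Net.cons (nat_lit 8) (nat_lit 0x2b0004006300e800d7001e0014005e)
 (Net.cons (nat_lit 4) (nat_lit 0x401060109000907060909060700000f)
 (Net.cons (nat_lit 2) (nat_lit 0x10212220311002230202331000023)
 (Net.cons (nat_lit 1) (nat_lit 0x1040404010440414140114111440441)
 (Net.cons (nat_lit 2) (nat_lit 0x2000002000000200200202220000022)
 (Net.cons (nat_lit 4) (nat_lit 0xa000c06020200060a0a0a0c02000806)
 (Net.cons (nat_lit 8) (nat_lit 0x320006008a006800dc0034001400d4)
 (Net.cons (nat_lit 16) (nat_lit 0xd36e00006ba4000016de00001ac0)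
 (Net.cons (nat_lit 32) (nat_lit 0xfe349426000000000bc33b76)
 (Net.cons (nat_lit 64) (nat_lit 0xb047fd37b61da7de)
 Net.nil)))))))))))))

noncomputable def ns_3 : Net :=
 (Net.cons (nat_lit 64) (nat_lit 0x119f79acd794babf)
 (Net.cons (nat_lit 32) (nat_lit 0x544c81ee00000000b6c8c620)
 (Net.cons (nat_lit 16) (nat_lit 0x8d360000e5a700005258000097a5)
 (Net.cons (nat_lit 8) (nat_lit 0x7000650035002300e000c00090008f)
 (Net.cons (nat_lit 4) (nat_lit 0x3000a040a0b070a00020c010d0402)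
 (Net.cons (nat_lit 2) (nat_lit 0x20001021002302222030100210122003)
 (Net.cons (nat_lit 1) (nat_lit 0x140051011011414440104515004144)
 (Net.cons (nat_lit 2) (nat_lit 0x200000000000022220000000002020)
 (Net.cons (nat_lit 4) (nat_lit 0x2040a0000000c08000604080c040e)
 (Net.cons (nat_lit 8) (nat_lit 0xb8003400240088002000c600100084)
 (Net.cons (nat_lit 16) (nat_lit 0xcdb40000d5000000d078000019a0)
 (Net.cons (nat_lit 32) (nat_lit 0x54ddc1e0000000007ac8c474)
 (Net.cons (nat_lit 64) (nat_lit 0x119f79a095e38590)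
 Net.nil)))))))))))))

noncomputable def ns_4 : Net :=
 (Net.cons (nat_lit 64) (nat_lit 0x67aea535c333ed96)
 (Net.cons (nat_lit 32) (nat_lit 0xfd84053a0000000045be6e9a)
 (Net.cons (nat_lit 16) (nat_lit 0x92800004ac100009d160000e090)
 (Net.cons (nat_lit 8) (nat_lit 0xa8002d008b003f000400ae00800030)
 (Net.cons (nat_lit 4) (nat_lit 0x40804080e0c08060c070909000c0006)
 (Net.cons (nat_lit 2) (nat_lit 0x32000000013013032001312010012012)
 (Net.cons (nat_lit 1) (nat_lit 0x50044010041041041011111440041104)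
 (Net.cons (nat_lit 2) (nat_lit 0x22020000020022020220000002000)
 (Net.cons (nat_lit 4) (nat_lit 0x408040a0c08060208000002000c0806)
 (Net.cons (nat_lit 8) (nat_lit 0xac002400c4001e0008006000800032)
 (Net.cons (nat_lit 16) (nat_lit 0x880c00000e9c0000d5400000e090)
 (Net.cons (nat_lit 32) (nat_lit 0xbf0c01280000000045be6e9a)
 (Net.cons (nat_lit 64) (nat_lit 0x67aea535c33bf5a6)
 Net.nil)))))))))))))

noncomputable def ns_5 : Net :=
 (Net.cons (nat_lit 64) (nat_lit 0xd6005fcdbfb6a018)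
 (Net.cons (nat_lit 32) (nat_lit 0x3a15c3ee00000000f8913ec2)
 (Net.cons (nat_lit 16) (nat_lit 0xc734000001480000452d0000cc48)
 (Net.cons (nat_lit 8) (nat_lit 0x690096001200bd000800900089002c)
 (Net.cons (nat_lit 4) (nat_lit 0x40402090c0008000406080e000e0004)
 (Net.cons (nat_lit 2) (nat_lit 0x30001001010001323002303022320002)
 (Net.cons (nat_lit 1) (nat_lit 0x50044441041001414054415141400014)
 (Net.cons (nat_lit 2) (nat_lit 0x2000002002200000220200200002)
 (Net.cons (nat_lit 4) (nat_lit 0x400020c0c02040004020802020e0000)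
 (Net.cons (nat_lit 8) (nat_lit 0x480088009200ba00b00080002a0004)
 (Net.cons (nat_lit 16) (nat_lit 0x4f340000018a0000ed140000cc40)
 (Net.cons (nat_lit 32) (nat_lit 0x7a15992000000000f02a3eca)
 (Net.cons (nat_lit 64) (nat_lit 0xd6005fcd371e9118)
 Net.nil)))))))))))))

noncomputable def ns_6 : Net :=
 (Net.cons (nat_lit 64) (nat_lit 0x726564804fa9c244)
 (Net.cons (nat_lit 32) (nat_lit 0xc7fbbf19000000004d48d990)
 (Net.cons (nat_lit 16) (nat_lit 0xe18f000008c10000496800008bb8)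
 (Net.cons (nat_lit 8) (nat_lit 0xe400ac0042002600e800d000ba0068)
 (Net.cons (nat_lit 4) (nat_lit 0xd010f06000a0c0c00080f0904010b04)
 (Net.cons (nat_lit 2) (nat_lit 0x30001312100122212120010110210202)
 (Net.cons (nat_lit 1) (nat_lit 0x45104110000404000010140100154050)
 (Net.cons (nat_lit 2) (nat_lit 0x20202200000202000020200200000000)
 (Net.cons (nat_lit 4) (nat_lit 0xc020e0c0008080c08080604040a0c04)
 (Net.cons (nat_lit 8) (nat_lit 0x90003e0042004200200012009200c0)
 (Net.cons (nat_lit 16) (nat_lit 0xd10000004884000049f0000086a4)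
 (Net.cons (nat_lit 32) (nat_lit 0xd7fffb9a00000000cd50d990)
 (Net.cons (nat_lit 64) (nat_lit 0x7265648fa427daa0)
 Net.nil)))))))))))))

noncomputable def ns_7 : Net :=
 (Net.cons (nat_lit 64) (nat_lit 0x3e8881481409a694)
 (Net.cons (nat_lit 32) (nat_lit 0x2f160c1700000000f67f32e0)
 (Net.cons (nat_lit 16) (nat_lit 0xb50a00008f04000007450000be34)
 (Net.cons (nat_lit 8) (nat_lit 0x860035004500fc004c004300d500b8)
 (Net.cons (nat_lit 4) (nat_lit 0x8010e0f0c0809040007080a020900)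
 (Net.cons (nat_lit 2) (nat_lit 0x1220201022100001000313022022200)
 (Net.cons (nat_lit 1) (nat_lit 0x5140150110040144000410000541104)
 (Net.cons (nat_lit 2) (nat_lit 0x200200000000202000200000020200)
 (Net.cons (nat_lit 4) (nat_lit 0x8080408020a00060800060008)
 (Net.cons (nat_lit 8) (nat_lit 0x800280004007e001c002000d400b8)
 (Net.cons (nat_lit 16) (nat_lit 0xb01400005f6c000035380000b734)
 (Net.cons (nat_lit 32) (nat_lit 0x351e0c5400000000777e7260)
 (Net.cons (nat_lit 64) (nat_lit 0x3e888141dc61af34)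
 Net.nil)))))))))))))

noncomputable def ns_8 : Net :=
 (Net.cons (nat_lit 64) (nat_lit 0x13000000002c43b0)
 (Net.cons (nat_lit 32) (nat_lit 0x5f00000000000000ff000010)
 (Net.cons (nat_lit 16) (nat_lit 0xc000000830c0000ffff00007300)
 (Net.cons (nat_lit 8) (nat_lit 0xc001f00bc00ff00000050003c)
 (Net.cons (nat_lit 4) (nat_lit 0x1000c00080c020e050a0c00)
 (Net.cons (nat_lit 2) (nat_lit 0x10000003232030333020322031013020)
 (Net.cons (nat_lit 1) (nat_lit 0x145050044014101414405004)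
 (Net.cons (nat_lit 2) (nat_lit 0x202222200000)
 (Net.cons (nat_lit 4) (nat_lit 0xc00080c020e08080c00)
 (Net.cons (nat_lit 8) (nat_lit 0xc002c00fc00000000002000b0)
 (Net.cons (nat_lit 16) (nat_lit 0xc00000030400000000000003f8c)
 (Net.cons (nat_lit 32) (nat_lit 0x5f00000000000000f7000000)
 (Net.cons (nat_lit 64) (nat_lit 0x130000000043238c)
 Net.nil)))))))))))))

noncomputable def ns_9 : Net :=
 (Net.cons (nat_lit 64) 4032
 (Net.cons (nat_lit 32) (nat_lit 0xffff0000)
 (Net.cons (nat_lit 8) (nat_lit 0xc00ff00ff00ff00a0)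
 (Net.cons (nat_lit 4) (nat_lit 0x9000c0000000000000e00)
 (Net.cons (nat_lit 2) (nat_lit 0x3103300000200020200120)
 (Net.cons (nat_lit 1) (nat_lit 0x4150011010101010105040)
 (Net.cons (nat_lit 2) (nat_lit 0x2000002020002000000020)
 (Net.cons (nat_lit 4) (nat_lit 0x6000c0000000000000e00)
 (Net.cons (nat_lit 8) (nat_lit 0xc0000000000000020)
 (Net.cons (nat_lit 64) 4032
 Net.nil))))))))))

noncomputable def ns_10 : Net :=
 (Net.cons (nat_lit 64) (nat_lit 0x7172c9d6aecb59d0)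
 (Net.cons (nat_lit 32) (nat_lit 0xf638435c000000005a1ac098)
 (Net.cons (nat_lit 16) (nat_lit 0x862a0000c0d600001cac0000b500)
 (Net.cons (nat_lit 8) (nat_lit 0x20019001c001a007c0054002c0020)
 (Net.cons (nat_lit 4) (nat_lit 0x90a0d02070a0a0c08040207020c0200)
 (Net.cons (nat_lit 2) (nat_lit 0x12202123102232012033023002212300)
 (Net.cons (nat_lit 1) (nat_lit 0x11101504411144401414145410440500)
 (Net.cons (nat_lit 2) (nat_lit 0x2002002002002200222000000000000)
 (Net.cons (nat_lit 4) (nat_lit 0xa0a00040208080c0004020e020c0000)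
 (Net.cons (nat_lit 8) (nat_lit 0x100054006c001a00fc00c000080000)
 (Net.cons (nat_lit 16) (nat_lit 0x85200000e97000000a3400009020)
 (Net.cons (nat_lit 32) (nat_lit 0xd64a82dc00000000de1ee298)
 (Net.cons (nat_lit 64) (nat_lit 0x7172c9d6bec38988)
 Net.nil)))))))))))))

noncomputable def ns_11 : Net :=
 (Net.cons (nat_lit 64) (nat_lit 0x1a73407200c10220)
 (Net.cons (nat_lit 32) (nat_lit 0xe260800000000000c99c0708)
 (Net.cons (nat_lit 16) (nat_lit 0x3400006cb800002e10000099c0)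
 (Net.cons (nat_lit 8) (nat_lit 0x9a004000c8002a00800084008800f0)
 (Net.cons (nat_lit 4) (nat_lit 0x407000800040c0d00000c0108040c00)
 (Net.cons (nat_lit 2) (nat_lit 0x2330030330230000000020212002220)
 (Net.cons (nat_lit 1) (nat_lit 0x14144051551051444100510401014110)
 (Net.cons (nat_lit 2) (nat_lit 0x2000000000000000000020202002220)
 (Net.cons (nat_lit 4) (nat_lit 0x408000800000c0000000c0008000c00)
 (Net.cons (nat_lit 8) (nat_lit 0x9a004000c8002a00800084008000b0)
 (Net.cons (nat_lit 16) (nat_lit 0x3400006cb800002e1000009840)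
 (Net.cons (nat_lit 32) (nat_lit 0xe260800000000000c99c0700)
 (Net.cons (nat_lit 64) (nat_lit 0x1a73407200c10220)
 Net.nil)))))))))))))

noncomputable def ns_12 : Net :=
 (Net.cons (nat_lit 64) (nat_lit 0xeef5445065022820)
 (Net.cons (nat_lit 32) (nat_lit 0x8c14a4d00000000ddb807a8)
 (Net.cons (nat_lit 16) (nat_lit 0x60720000e0300000299400000120)
 (Net.cons (nat_lit 8) (nat_lit 0xd4004800370078008a00a200620080)
 (Net.cons (nat_lit 4) (nat_lit 0x600000a020708050c04080103080808)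
 (Net.cons (nat_lit 2) (nat_lit 0x20021021331331320022020201020)
 (Net.cons (nat_lit 1) (nat_lit 0x14040411501554144440141141011110)
 (Net.cons (nat_lit 2) (nat_lit 0x20020020000000222020202020002220)
 (Net.cons (nat_lit 4) (nat_lit 0x200000a000800040c04000002080808)
 (Net.cons (nat_lit 8) (nat_lit 0x540024006400b8002200aa00420080)
 (Net.cons (nat_lit 16) (nat_lit 0x62620000b1f8000034bc00000020)
 (Net.cons (nat_lit 32) (nat_lit 0x88104e4000000000ccb80600)
 (Net.cons (nat_lit 64) (nat_lit 0xeef5445065402860)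
 Net.nil)))))))))))))

noncomputable def ns_13 : Net :=
 (Net.cons (nat_lit 64) (nat_lit 0xaa650204cf025000)
 (Net.cons (nat_lit 32) (nat_lit 0x8a6c800000000000c0308888)
 (Net.cons (nat_lit 16) (nat_lit 0xa80000009fe30000a49000008240)
 (Net.cons (nat_lit 8) (nat_lit 0x8000280039009100b20062004400b0)
 (Net.cons (nat_lit 4) (nat_lit 0x802060c080c0c080b0909040b00)
 (Net.cons (nat_lit 2) (nat_lit 0x220200002032201020000002022210)
 (Net.cons (nat_lit 1) (nat_lit 0x10005101050400510110440441100)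
 (Net.cons (nat_lit 2) (nat_lit 0x20000002000200020000000022200)
 (Net.cons (nat_lit 4) (nat_lit 0x802020808040c08000808040000)
 (Net.cons (nat_lit 8) (nat_lit 0x8000280018009000920022004400b0)
 (Net.cons (nat_lit 16) (nat_lit 0xa80000009ee00000a49000008240)
 (Net.cons (nat_lit 32) (nat_lit 0x8a2c800000000000c0308880)
 (Net.cons (nat_lit 64) (nat_lit 0xaa650204cf025000)
 Net.nil)))))))))))))

noncomputable def ns_14 : Net :=
 (Net.cons (nat_lit 64) (nat_lit 0x451f5550110a00c0)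
 (Net.cons (nat_lit 32) (nat_lit 0xec23812600000000c8688800)
 (Net.cons (nat_lit 16) (nat_lit 0x43200003d960000b08000005810)
 (Net.cons (nat_lit 8) (nat_lit 0x8001e003700d20020002200500030)
 (Net.cons (nat_lit 4) (nat_lit 0xc000c01090b090c04080a02090a0a00)
 (Net.cons (nat_lit 2) (nat_lit 0x21002020031200200200222022022220)
 (Net.cons (nat_lit 1) (nat_lit 0x40151540441404110440100011100010)
 (Net.cons (nat_lit 2) (nat_lit 0x20002020020002200200200022000020)
 (Net.cons (nat_lit 4) (nat_lit 0x4000c00080c080804080800000a0000)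
 (Net.cons (nat_lit 8) (nat_lit 0x8001a002000d20000008000100030)
 (Net.cons (nat_lit 16) (nat_lit 0x432000039140000b08000005810)
 (Net.cons (nat_lit 32) (nat_lit 0xec23812600000000c8688800)
 (Net.cons (nat_lit 64) (nat_lit 0x451f5550110a0080)
 Net.nil)))))))))))))

noncomputable def ns_15 : Net :=
 (Net.cons (nat_lit 64) (nat_lit 0x88a41c1859c31800)
 (Net.cons (nat_lit 32) (nat_lit 0xa60c1c000000000019063288)
 (Net.cons (nat_lit 16) (nat_lit 0x2000000018e00000b3ca00002942)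
 (Net.cons (nat_lit 8) (nat_lit 0xa4001400e800ae006e00040001004c)
 (Net.cons (nat_lit 4) (nat_lit 0x208000202040800050600080d090209)
 (Net.cons (nat_lit 2) (nat_lit 0x2200310220222012021120202)
 (Net.cons (nat_lit 1) (nat_lit 0x4041411114505044011100110010100)
 (Net.cons (nat_lit 2) (nat_lit 0x2200000020022000020020200)
 (Net.cons (nat_lit 4) (nat_lit 0x8000002020408000400000804000008)
 (Net.cons (nat_lit 8) (nat_lit 0x28001400e800a6006e000400d80008)
 (Net.cons (nat_lit 16) (nat_lit 0x2000000018a00000b38a00002942)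
 (Net.cons (nat_lit 32) (nat_lit 0x26081c000000000019063288)
 (Net.cons (nat_lit 64) (nat_lit 0x88a41c1859c31800)
 Net.nil)))))))))))))

noncomputable def ns_16 : Net :=
 (Net.cons (nat_lit 64) (nat_lit 0x604a306b4e50e80c)
 (Net.cons (nat_lit 32) (nat_lit 0xfee0ae7700000000518d4bde)
 (Net.cons (nat_lit 16) (nat_lit 0x61a000041db0000da6f0000786c)
 (Net.cons (nat_lit 8) (nat_lit 0xfe00fa002300210085001b000f0078)
 (Net.cons (nat_lit 4) (nat_lit 0x4080201040800080c0405070407090e)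
 (Net.cons (nat_lit 2) (nat_lit 0x20202221012030330212111021321100)
 (Net.cons (nat_lit 1) (nat_lit 0x14504011014440040401400144400140)
 (Net.cons (nat_lit 2) (nat_lit 0x2002022000020020000000002200220)
 (Net.cons (nat_lit 4) (nat_lit 0x406000204000008000000040a06080c)
 (Net.cons (nat_lit 8) (nat_lit 0xec00f200620040000000860028004c)
 (Net.cons (nat_lit 16) (nat_lit 0x2780000419600009c6a0000f44c)
 (Net.cons (nat_lit 32) (nat_lit 0xdea08e78000000004d884e58)
 (Net.cons (nat_lit 64) (nat_lit 0x604a306885e0dc70)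
 Net.nil)))))))))))))

noncomputable def ns_17 : Net :=
 (Net.cons (nat_lit 64) (nat_lit 0x8edbfd6a10213e9c)
 (Net.cons (nat_lit 32) (nat_lit 0xbc80458d000000006504244c)
 (Net.cons (nat_lit 16) (nat_lit 0xecb50000d53e0000030400004122)
 (Net.cons (nat_lit 8) (nat_lit 0xe6000100de00af0014002d00790028)
 (Net.cons (nat_lit 4) (nat_lit 0x2040106080b06050604000a030f0c02)
 (Net.cons (nat_lit 2) (nat_lit 0x200120211303100210021222310100)
 (Net.cons (nat_lit 1) (nat_lit 0x50410414104101410400010550110514)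
 (Net.cons (nat_lit 2) (nat_lit 0x220000202000220200020000000000)
 (Net.cons (nat_lit 4) (nat_lit 0x408060c06020a0004000802080e02)
 (Net.cons (nat_lit 8) (nat_lit 0xa2009800d000c200100028002000b8)
 (Net.cons (nat_lit 16) (nat_lit 0x4034000017780000070000001a38)
 (Net.cons (nat_lit 32) (nat_lit 0x3a58c9c8000000004420264c)
 (Net.cons (nat_lit 64) (nat_lit 0x8edbfd6d402550ec)
 Net.nil)))))))))))))

noncomputable def ns_18 : Net :=
 (Net.cons (nat_lit 64) (nat_lit 0x48c81a2030c20380)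
 (Net.cons (nat_lit 32) (nat_lit 0x4e8040500000000036349480)
 (Net.cons (nat_lit 16) (nat_lit 0x12840000a80c000086080000e810)
 (Net.cons (nat_lit 8) (nat_lit 0x800200002000a002a0092008200c0)
 (Net.cons (nat_lit 4) (nat_lit 0x4000d080c04080e0105010c0e040c)
 (Net.cons (nat_lit 2) (nat_lit 0x12002223300130200200110003202030)
 (Net.cons (nat_lit 1) (nat_lit 0x4004015514000045100004010150100)
 (Net.cons (nat_lit 2) (nat_lit 0x2002020000000000200000000200000)
 (Net.cons (nat_lit 4) (nat_lit 0x408040c000e0000000c0e000c)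
 (Net.cons (nat_lit 8) (nat_lit 0x20000200a0000a0090008200c0)
 (Net.cons (nat_lit 16) (nat_lit 0x12840000a880000086080000e010)
 (Net.cons (nat_lit 32) (nat_lit 0x4e8040500000000036309480)
 (Net.cons (nat_lit 64) (nat_lit 0x48c81a2030c20380)
 Net.nil)))))))))))))

noncomputable def ns_19 : Net :=
 (Net.cons (nat_lit 64) (nat_lit 0xd2ddc9487c320044)
 (Net.cons (nat_lit 32) (nat_lit 0xce22d38a000000000b723a9e)
 (Net.cons (nat_lit 16) (nat_lit 0x8a0a00005a7b00000304000095e2)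
 (Net.cons (nat_lit 8) (nat_lit 0x9a001800ef00180000003f00890092)
 (Net.cons (nat_lit 4) (nat_lit 0xa05000f080c0c050206020b00080800)
 (Net.cons (nat_lit 2) (nat_lit 0x110000210323110010002230200220)
 (Net.cons (nat_lit 1) (nat_lit 0x10514014441114000010010510411100)
 (Net.cons (nat_lit 2) (nat_lit 0x20000020020222000000000020220000)
 (Net.cons (nat_lit 4) (nat_lit 0xa0000020404020000000200000c0800)
 (Net.cons (nat_lit 8) (nat_lit 0x940050000e004c0020003e00840090)
 (Net.cons (nat_lit 16) (nat_lit 0xca0800005b2600000524000084e4)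
 (Net.cons (nat_lit 32) (nat_lit 0xeba53c4000000000b723a92)
 (Net.cons (nat_lit 64) (nat_lit 0xd2ddc94d746000e0)
 Net.nil)))))))))))))

noncomputable def ns_20 : Net :=
 (Net.cons (nat_lit 64) (nat_lit 0xb63b361d6b66bdb4)
 (Net.cons (nat_lit 32) (nat_lit 0x88c4073c0000000086bd541c)
 (Net.cons (nat_lit 16) (nat_lit 0xa4640000d1ab00008b4100008ba4)
 (Net.cons (nat_lit 8) (nat_lit 0x3000e4008200cc00500013002e00c4)
 (Net.cons (nat_lit 4) (nat_lit 0xe09030b0c00020d090c080a0f020a00)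
 (Net.cons (nat_lit 2) (nat_lit 0x10002020100002112021121030020100)
 (Net.cons (nat_lit 1) (nat_lit 0x40114111140005111044400544004500)
 (Net.cons (nat_lit 2) (nat_lit 0x20222022000000022020000020000000)
 (Net.cons (nat_lit 4) (nat_lit 0xc0000020c00040000080c080a000a00)
 (Net.cons (nat_lit 8) (nat_lit 0x1800c0001000ea005c00ca00ce00c4)
 (Net.cons (nat_lit 16) (nat_lit 0x8454000095a80000c35800008aa0)
 (Net.cons (nat_lit 32) (nat_lit 0x2aff21340000000086b9543c)
 (Net.cons (nat_lit 64) (nat_lit 0xb63b361c2d37530c)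
 Net.nil)))))))))))))

noncomputable def ns_21 : Net :=
 (Net.cons (nat_lit 64) (nat_lit 0x3174c6a2bc230620)
 (Net.cons (nat_lit 32) (nat_lit 0xa0a4943c00000000a0364f20)
 (Net.cons (nat_lit 16) (nat_lit 0xf5300000785800002edb00002580)
 (Net.cons (nat_lit 8) (nat_lit 0x740038006f00fd00d20056007b00c8)
 (Net.cons (nat_lit 4) (nat_lit 0x8040104080004060008010b04090900)
 (Net.cons (nat_lit 2) (nat_lit 0x30100210202223200220023303220300)
 (Net.cons (nat_lit 1) (nat_lit 0x44401151404150441441040504410100)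
 (Net.cons (nat_lit 2) (nat_lit 0x20002200002000020222000002020200)
 (Net.cons (nat_lit 4) (nat_lit 0xc0000040c000608000a000804080c00)
 (Net.cons (nat_lit 8) (nat_lit 0x2000aa0042004e0096004800b00040)
 (Net.cons (nat_lit 16) (nat_lit 0xf53000001250000042d80000a440)
 (Net.cons (nat_lit 32) (nat_lit 0x818494b4000000002ab64e28)
 (Net.cons (nat_lit 64) (nat_lit 0x3174c6a262184ee0)
 Net.nil)))))))))))))

noncomputable def ns_22 : Net :=
 (Net.cons (nat_lit 64) (nat_lit 0xb04bd80a4200)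
 (Net.cons (nat_lit 32) (nat_lit 0x7004100000000000628c5c20)
 (Net.cons (nat_lit 16) (nat_lit 0x30400000ad400000b884000059d8)
 (Net.cons (nat_lit 8) (nat_lit 0x9000be00710014000e004b002a)
 (Net.cons (nat_lit 4) (nat_lit 0x40009010000040c0908040e0a0502)
 (Net.cons (nat_lit 2) (nat_lit 0x10000000222301130200232000023132)
 (Net.cons (nat_lit 1) (nat_lit 0x4000041044440054101011450)
 (Net.cons (nat_lit 2) (nat_lit 0x22020200002002002000)
 (Net.cons (nat_lit 4) (nat_lit 0x800000e040c0808040a0a0802)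
 (Net.cons (nat_lit 8) (nat_lit 0x90001400320014000e00e0002a)
 (Net.cons (nat_lit 16) (nat_lit 0x10400000ad400000b804000059d8)
 (Net.cons (nat_lit 32) (nat_lit 0x7004100000000000628c1c20)
 (Net.cons (nat_lit 64) (nat_lit 0xb04bd80a4200)
 Net.nil)))))))))))))

noncomputable def ns_23 : Net :=
 (Net.cons (nat_lit 64) (nat_lit 0x922561043f0e22d0)
 (Net.cons (nat_lit 32) (nat_lit 0xee5197370000000076416aeb)
 (Net.cons (nat_lit 16) (nat_lit 0x931000073e600000be10000fe82)
 (Net.cons (nat_lit 8) (nat_lit 0x12009000e800a60050004d00ee00bf)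
 (Net.cons (nat_lit 4) (nat_lit 0x3020a00000405000c0e0e0505020806)
 (Net.cons (nat_lit 2) (nat_lit 0x3310221020332023201123330000203)
 (Net.cons (nat_lit 1) (nat_lit 0x4414404014401010404441004141045)
 (Net.cons (nat_lit 2) (nat_lit 0x2202200022202020202022000202000)
 (Net.cons (nat_lit 4) (nat_lit 0x600080208000e000a0602080c0a000a)
 (Net.cons (nat_lit 8) (nat_lit 0x42008c002800ac0060009600e800d2)
 (Net.cons (nat_lit 16) (nat_lit 0x79000000736a000039200000f74c)
 (Net.cons (nat_lit 32) (nat_lit 0xfc71b638000000001e09fe88)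
 (Net.cons (nat_lit 64) (nat_lit 0x922561035c230570)
 Net.nil)))))))))))))

noncomputable def ns_24 : Net :=
 (Net.cons (nat_lit 64) (nat_lit 0x504042f71a0020)
 (Net.cons (nat_lit 32) (nat_lit 0x21303000000000ea50a860)
 (Net.cons (nat_lit 16) (nat_lit 0x780000c5920000be9100006418)
 (Net.cons (nat_lit 8) (nat_lit 0x1000a4000c000c000c005a0028)
 (Net.cons (nat_lit 4) (nat_lit 0xc0005020e06090d05040b04060800)
 (Net.cons (nat_lit 2) (nat_lit 0x212031012221020221323010323120)
 (Net.cons (nat_lit 1) (nat_lit 0x4041400040004004501001540004)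
 (Net.cons (nat_lit 2) (nat_lit 0x2020200000000000002000020000)
 (Net.cons (nat_lit 4) (nat_lit 0xc0002060002080c04040804000800)
 (Net.cons (nat_lit 8) (nat_lit 0x1000240084000c000c00520028)
 (Net.cons (nat_lit 16) (nat_lit 0x68000006140000b2c000006418)
 (Net.cons (nat_lit 32) (nat_lit 0x21303000000000ea508860)
 (Net.cons (nat_lit 64) (nat_lit 0x504042f71a0020)
 Net.nil)))))))))))))

noncomputable def ns_25 : Net :=
 (Net.cons (nat_lit 64) (nat_lit 0x4e28500b489d5e3a)
 (Net.cons (nat_lit 32) (nat_lit 0x98c5607400000000e172fa54)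
 (Net.cons (nat_lit 16) (nat_lit 0x70fc0000a80000001f640000b7d2)
 (Net.cons (nat_lit 8) (nat_lit 0xda0050003200a700fe00a500ac0002)
 (Net.cons (nat_lit 4) (nat_lit 0x409000c0c00050e070e0d0a000e0c0a)
 (Net.cons (nat_lit 2) (nat_lit 0x10200010100200203113132202030032)
 (Net.cons (nat_lit 1) (nat_lit 0x410011050044404154110101405100)
 (Net.cons (nat_lit 2) (nat_lit 0x22000002002002020200200200)
 (Net.cons (nat_lit 4) (nat_lit 0x400080e00000c0200080800040400)
 (Net.cons (nat_lit 8) (nat_lit 0xfa0010003a00a000fc00b400280018)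
 (Net.cons (nat_lit 16) (nat_lit 0x70d80000ec0000007e5000009910)
 (Net.cons (nat_lit 32) (nat_lit 0xd0c520720000000060a75db6)
 (Net.cons (nat_lit 64) (nat_lit 0x4e285009bc4dba38)
 Net.nil)))))))))))))

noncomputable def ns_26 : Net :=
 (Net.cons (nat_lit 64) (nat_lit 0xfdddb5ad9af0066c)
 (Net.cons (nat_lit 32) (nat_lit 0xfd945f8300000000910001c4)
 (Net.cons (nat_lit 16) (nat_lit 0x76080000717d0000d0a60000de04)
 (Net.cons (nat_lit 8) (nat_lit 0x9500e8006c00940000008800bc0058)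
 (Net.cons (nat_lit 4) (nat_lit 0x6040f0a0b08040e040801020c0b0e08)
 (Net.cons (nat_lit 2) (nat_lit 0x10011023200321120300001012031220)
 (Net.cons (nat_lit 1) (nat_lit 0x14004141141140050404014154115400)
 (Net.cons (nat_lit 2) (nat_lit 0x22000000002020000202000000020200)
 (Net.cons (nat_lit 4) (nat_lit 0x40e00060a000804080000060a0808)
 (Net.cons (nat_lit 8) (nat_lit 0x100044007a00900000008000ba001c)
 (Net.cons (nat_lit 16) (nat_lit 0xc28c0000f4220000d0a600009404)
 (Net.cons (nat_lit 32) (nat_lit 0x99906f0400000000910001c4)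
 (Net.cons (nat_lit 64) (nat_lit 0xfdddb5a598b88274)
 Net.nil)))))))))))))

noncomputable def ns_27 : Net :=
 (Net.cons (nat_lit 64) (nat_lit 0xf6a37493ce5aef8e)
 (Net.cons (nat_lit 32) (nat_lit 0x3bf1221d000000005fab69b2)
 (Net.cons (nat_lit 16) (nat_lit 0xdd500000e15a00001fb60000206c)
 (Net.cons (nat_lit 8) (nat_lit 0x80007c003c007000aa008c00a8004a)
 (Net.cons (nat_lit 4) (nat_lit 0x8020e0f090a000d04000a0f080c0700)
 (Net.cons (nat_lit 2) (nat_lit 0x10001112231300302310203320302200)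
 (Net.cons (nat_lit 1) (nat_lit 0x4011401010504450105114500141400)
 (Net.cons (nat_lit 2) (nat_lit 0x2002000000000000200020000200000)
 (Net.cons (nat_lit 4) (nat_lit 0xe000e02000a00040e04080008040a00)
 (Net.cons (nat_lit 8) (nat_lit 0x8200f800a8007800e2001c00a80042)
 (Net.cons (nat_lit 16) (nat_lit 0xbbd2000071f200005d4600002068)
 (Net.cons (nat_lit 32) (nat_lit 0x8f5056100000000057b361b4)
 (Net.cons (nat_lit 64) (nat_lit 0xf6a374983836a13a)
 Net.nil)))))))))))))

noncomputable def ns_28 : Net :=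
 (Net.cons (nat_lit 64) (nat_lit 0x1048238a57de09b8)
 (Net.cons (nat_lit 32) (nat_lit 0xa3cef13c000000005ca8e03c)
 (Net.cons (nat_lit 16) (nat_lit 0x22f000005a30000017b600000698)
 (Net.cons (nat_lit 8) (nat_lit 0xa200f5000a00050078002200630034)
 (Net.cons (nat_lit 4) (nat_lit 0x904080100040d04040d0d0e0c0b0204)
 (Net.cons (nat_lit 2) (nat_lit 0x120110000100123012120221233110)
 (Net.cons (nat_lit 1) (nat_lit 0x11400541040140045014004504105100)
 (Net.cons (nat_lit 2) (nat_lit 0x2000002000020020022002002200200)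
 (Net.cons (nat_lit 4) (nat_lit 0x80e0802000408020c080c0006060400)
 (Net.cons (nat_lit 8) (nat_lit 0x1000340002006000780062008000a4)
 (Net.cons (nat_lit 16) (nat_lit 0x207800005a300000b78000008cc8)
 (Net.cons (nat_lit 32) (nat_lit 0xa3cef13400000000b4b96038)
 (Net.cons (nat_lit 64) (nat_lit 0x1048238077969928)
 Net.nil)))))))))))))

noncomputable def ns_29 : Net :=
 (Net.cons (nat_lit 64) (nat_lit 0x7372dbd6bac399c8)
 (Net.cons (nat_lit 32) (nat_lit 0x98d24b2c00000000521ee298)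
 (Net.cons (nat_lit 16) (nat_lit 0xdb50000052c80000a63500002428)
 (Net.cons (nat_lit 8) (nat_lit 0x2a00e2000c002c00fc0050000c0060)
 (Net.cons (nat_lit 4) (nat_lit 0xb0c080a0c0c040e00050206040c0408)
 (Net.cons (nat_lit 2) (nat_lit 0x2220013223033310201002300030220)
 (Net.cons (nat_lit 1) (nat_lit 0x11141111144114501445104140410100)
 (Net.cons (nat_lit 2) (nat_lit 0x202002022220002020202220220200)
 (Net.cons (nat_lit 4) (nat_lit 0x80e080a0a0c0c0c08080206040c0008)
 (Net.cons (nat_lit 8) (nat_lit 0xd800f800380024007c00d400080040)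
 (Net.cons (nat_lit 16) (nat_lit 0xc2c2000051c8000064ac00002528)
 (Net.cons (nat_lit 32) (nat_lit 0x8b92d12c000000005a1ec698)
 (Net.cons (nat_lit 64) (nat_lit 0x7372dbd6aacb4990)
 Net.nil)))))))))))))

noncomputable def ns_30 : Net :=
 (Net.cons (nat_lit 64) (nat_lit 0xb63b361c2d37530c)
 (Net.cons (nat_lit 32) (nat_lit 0x2aff213400000000c689253c)
 (Net.cons (nat_lit 16) (nat_lit 0x84540000d729000040f300000ba4)
 (Net.cons (nat_lit 8) (nat_lit 0x1800c500d200ea00390069005a00ac)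
 (Net.cons (nat_lit 4) (nat_lit 0xc0a0709040c04040808080a050a0908)
 (Net.cons (nat_lit 2) (nat_lit 0x10220222300101302002030201302300)
 (Net.cons (nat_lit 1) (nat_lit 0x10111411400405441500010501044140)
 (Net.cons (nat_lit 2) (nat_lit 0x20000202200200202000020000002200)
 (Net.cons (nat_lit 4) (nat_lit 0xe000400040c020c0a08040a040c0c08)
 (Net.cons (nat_lit 8) (nat_lit 0x3000c000c0004c00b40020007a002c)
 (Net.cons (nat_lit 16) (nat_lit 0xa464000051280000487600001b24)
 (Net.cons (nat_lit 32) (nat_lit 0x88c4073c0000000086c9241c)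
 (Net.cons (nat_lit 64) (nat_lit 0xb63b361d6b66bdb4)
 Net.nil)))))))))))))

noncomputable def ns_31 : Net :=
 (Net.cons (nat_lit 64) (nat_lit 0xeef5445065402860)
 (Net.cons (nat_lit 32) (nat_lit 0x67e6b03f00000000ecb00220)
 (Net.cons (nat_lit 16) (nat_lit 0xfb4a00007362000004ba00000420)
 (Net.cons (nat_lit 8) (nat_lit 0xbc0031008b00e4000a00aa006a0080)
 (Net.cons (nat_lit 4) (nat_lit 0x20d020002000a0c08060b0d000a08)
 (Net.cons (nat_lit 2) (nat_lit 0x30021121032020230320320302001220)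
 (Net.cons (nat_lit 1) (nat_lit 0x50541440051414141100101554014110)
 (Net.cons (nat_lit 2) (nat_lit 0x22220000020220000000002002020)
 (Net.cons (nat_lit 4) (nat_lit 0x80200020006000a0c08060a0c000008)
 (Net.cons (nat_lit 8) (nat_lit 0xfc0034000a008800a20082006a0080)
 (Net.cons (nat_lit 16) (nat_lit 0xfb480000717200002d3000000520)
 (Net.cons (nat_lit 32) (nat_lit 0xe737b43200000000edb003a8)
 (Net.cons (nat_lit 64) (nat_lit 0xeef5445065022820)
 Net.nil)))))))))))))

noncomputable def ns_32 : Net :=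
 (Net.cons (nat_lit 64) (nat_lit 0x8ccf0114001b5040)
 (Net.cons (nat_lit 32) (nat_lit 0xc86422220000000070b4c0a4)
 (Net.cons (nat_lit 16) (nat_lit 0x250c000012800000308800007068)
 (Net.cons (nat_lit 8) (nat_lit 0xe10030001c00c5001800040050004a)
 (Net.cons (nat_lit 4) (nat_lit 0xa0a02000809080c0a0408000000000c)
 (Net.cons (nat_lit 2) (nat_lit 0x220200000212102030020100020221)
 (Net.cons (nat_lit 1) (nat_lit 0x41411400004001010100144000010140)
 (Net.cons (nat_lit 2) (nat_lit 0x2200200000000020000020000020220)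
 (Net.cons (nat_lit 4) (nat_lit 0xa0a020000080c080a04000000000004)
 (Net.cons (nat_lit 8) (nat_lit 0x400030001800120018000400000048)
 (Net.cons (nat_lit 16) (nat_lit 0x2500000012800000308800005068)
 (Net.cons (nat_lit 32) (nat_lit 0xc02422220000000070b4c084)
 (Net.cons (nat_lit 64) (nat_lit 0x8ccf0114000b5040)
 Net.nil)))))))))))))

noncomputable def ns_33 : Net :=
 (Net.cons (nat_lit 64) (nat_lit 0x19a440141a4571ca)
 (Net.cons (nat_lit 32) (nat_lit 0xb9b0478200000000b873d2e4)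
 (Net.cons (nat_lit 16) (nat_lit 0x401000005231000016c0000023de)
 (Net.cons (nat_lit 8) (nat_lit 0x14000300bd003a0012003200250040)
 (Net.cons (nat_lit 4) (nat_lit 0xd00000206020007000d040f08080e01)
 (Net.cons (nat_lit 2) (nat_lit 0x11000100010222133222210001101221)
 (Net.cons (nat_lit 1) (nat_lit 0x44000014411140014014044104111414)
 (Net.cons (nat_lit 2) (nat_lit 0x20000020020200000002002002222220)
 (Net.cons (nat_lit 4) (nat_lit 0xa060200000806060e08000c00)
 (Net.cons (nat_lit 8) (nat_lit 0x94000000a0003000380032002400ca)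
 (Net.cons (nat_lit 16) (nat_lit 0x408400005a300000daaa0000a148)
 (Net.cons (nat_lit 32) (nat_lit 0xa9b04780000000009c284ac8)
 (Net.cons (nat_lit 64) (nat_lit 0x19a4401632443348)
 Net.nil)))))))))))))

noncomputable def ns_34 : Net :=
 (Net.cons (nat_lit 64) (nat_lit 0xd18d423b991708e9)
 (Net.cons (nat_lit 32) (nat_lit 0x1298801100000000aa7b95c4)
 (Net.cons (nat_lit 16) (nat_lit 0x91890000e02400009e6900001cd0)
 (Net.cons (nat_lit 8) (nat_lit 0xc00097000400de00b200e60038001e)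
 (Net.cons (nat_lit 4) (nat_lit 0x5000c0400070e090606050e0e05)
 (Net.cons (nat_lit 2) (nat_lit 0x311200300123133020030030103001)
 (Net.cons (nat_lit 1) (nat_lit 0x140410500404454000004140141050)
 (Net.cons (nat_lit 2) (nat_lit 0x200200000200200000002020220000)
 (Net.cons (nat_lit 4) (nat_lit 0xc04000c080c000e000006040e0606)
 (Net.cons (nat_lit 8) (nat_lit 0xc000140060004200b200600028000c)
 (Net.cons (nat_lit 16) (nat_lit 0x93980000808000003e60000025a4)
 (Net.cons (nat_lit 32) (nat_lit 0x21c820200000000843930c2)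
 (Net.cons (nat_lit 64) (nat_lit 0xd18d423d3b406a52)
 Net.nil)))))))))))))

noncomputable def ns_35 : Net :=
 (Net.cons (nat_lit 64) (nat_lit 0xa175058eefe817fa)
 (Net.cons (nat_lit 32) (nat_lit 0x8097b06000000009f6f95f4)
 (Net.cons (nat_lit 16) (nat_lit 0x2ba900004184000000250000180e)
 (Net.cons (nat_lit 8) (nat_lit 0xe5003800a2006a0045007f00b8001a)
 (Net.cons (nat_lit 4) (nat_lit 0x8000c050f010e0005040300020e0000)
 (Net.cons (nat_lit 2) (nat_lit 0x2222132122002112200213310303002)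
 (Net.cons (nat_lit 1) (nat_lit 0x44110041004144401444401040404001)
 (Net.cons (nat_lit 2) (nat_lit 0x20020000002002202002020000002)
 (Net.cons (nat_lit 4) (nat_lit 0x40008040c0004000c0806080a0c0a00)
 (Net.cons (nat_lit 8) (nat_lit 0xec00180082006a008c000000b80000)
 (Net.cons (nat_lit 16) (nat_lit 0x23a4000041e200009e8000005806)
 (Net.cons (nat_lit 32) (nat_lit 0x8097b0200000000d56d55e8)
 (Net.cons (nat_lit 64) (nat_lit 0xa175058aedfc1ffc)
 Net.nil)))))))))))))

noncomputable def ns_36 : Net :=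
 (Net.cons (nat_lit 64) (nat_lit 0xcd86a596590521f0)
 (Net.cons (nat_lit 32) (nat_lit 0x111c238600000000694a84fb)
 (Net.cons (nat_lit 16) (nat_lit 0x22120000c3ce000048be00001474)
 (Net.cons (nat_lit 8) (nat_lit 0x38008400000096009b009600d0004e)
 (Net.cons (nat_lit 4) (nat_lit 0x40a080f02040a0d0c0b080b000f0705)
 (Net.cons (nat_lit 2) (nat_lit 0x23220312010232102332302120301102)
 (Net.cons (nat_lit 1) (nat_lit 0x14140151054100041404104140111401)
 (Net.cons (nat_lit 2) (nat_lit 0x22020202002200002002202200200200)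
 (Net.cons (nat_lit 4) (nat_lit 0xc0008060a0a040c060e0800000e0002)
 (Net.cons (nat_lit 8) (nat_lit 0xac0084000400d400ea00c400d0000c)
 (Net.cons (nat_lit 16) (nat_lit 0xa71000002688000058fe00001674)
 (Net.cons (nat_lit 32) (nat_lit 0x591c8680000000005b029c98)
 (Net.cons (nat_lit 64) (nat_lit 0xcd86a59c5b6a04b0)
 Net.nil)))))))))))))

noncomputable def ns_37 : Net :=
 (Net.cons (nat_lit 64) (nat_lit 0x80021163a044002)
 (Net.cons (nat_lit 32) (nat_lit 0x28c200800000000e7910108)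
 (Net.cons (nat_lit 16) (nat_lit 0x2b80000088000000052c00000d78)
 (Net.cons (nat_lit 8) (nat_lit 0x28001c005400f8005600d2005a0050)
 (Net.cons (nat_lit 4) (nat_lit 0x40202090004060001000c00090807)
 (Net.cons (nat_lit 2) (nat_lit 0x2200022202100230013022032200011)
 (Net.cons (nat_lit 1) (nat_lit 0x1401401004000450114411550115100)
 (Net.cons (nat_lit 2) (nat_lit 0x2200002002000200000020000020000)
 (Net.cons (nat_lit 4) (nat_lit 0x40202080000000006000c00020800)
 (Net.cons (nat_lit 8) (nat_lit 0x28001c0054006800560012005a0050)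
 (Net.cons (nat_lit 16) (nat_lit 0x2b80000088000000150000000978)
 (Net.cons (nat_lit 32) (nat_lit 0x28c200800000000e7910108)
 (Net.cons (nat_lit 64) (nat_lit 0x80021163a044002)
 Net.nil)))))))))))))

noncomputable def ns_38 : Net :=
 (Net.cons (nat_lit 64) (nat_lit 0x47ba731b8f6b1a)
 (Net.cons (nat_lit 32) (nat_lit 0xda0488d3000000001f795067)
 (Net.cons (nat_lit 16) (nat_lit 0x58f7000015a600004d6100005ca4)
 (Net.cons (nat_lit 8) (nat_lit 0xfa0074004f00f000a9008f005000d8)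
 (Net.cons (nat_lit 4) (nat_lit 0xa0008070b050f000100040604000e03)
 (Net.cons (nat_lit 2) (nat_lit 0x32230201011012213100300112001032)
 (Net.cons (nat_lit 1) (nat_lit 0x40114404100041444440140101041140)
 (Net.cons (nat_lit 2) (nat_lit 0x20220202200022020200220000020220)
 (Net.cons (nat_lit 4) (nat_lit 0xa000c040e040c060800000206040c02)
 (Net.cons (nat_lit 8) (nat_lit 0x78003e005a009400480086005000c8)
 (Net.cons (nat_lit 16) (nat_lit 0x50f6000010f000000d6000005aa4)
 (Net.cons (nat_lit 32) (nat_lit 0xda00a2900000000045511068)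
 (Net.cons (nat_lit 64) (nat_lit 0x47ba730d444402)
 Net.nil)))))))))))))

noncomputable def ns_39 : Net :=
 (Net.cons (nat_lit 64) (nat_lit 0x2012e1fd8aee651)
 (Net.cons (nat_lit 32) (nat_lit 0xd0cf0e99000000001cf27225)
 (Net.cons (nat_lit 16) (nat_lit 0x888600007f56000089900000ee22)
 (Net.cons (nat_lit 8) (nat_lit 0x8600a400410002004c00ec00ed00a0)
 (Net.cons (nat_lit 4) (nat_lit 0x4000a0b050809080e0c0200010b02)
 (Net.cons (nat_lit 2) (nat_lit 0x32010221101121203020101001032112)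
 (Net.cons (nat_lit 1) (nat_lit 0x14050411411100101444411110411010)
 (Net.cons (nat_lit 2) (nat_lit 0x22000220200000000020002020020000)
 (Net.cons (nat_lit 4) (nat_lit 0x400020800080a040c060800040c0a)
 (Net.cons (nat_lit 8) (nat_lit 0xcc00a00014002200ac00a400a80080)
 (Net.cons (nat_lit 16) (nat_lit 0x8800000079760000e83000007712)
 (Net.cons (nat_lit 32) (nat_lit 0xd0ce26800000000001387306)
 (Net.cons (nat_lit 64) (nat_lit 0x2012e1212e8a752)
 Net.nil)))))))))))))

noncomputable def ns_40 : Net :=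
 (Net.cons (nat_lit 64) (nat_lit 0xb48961fdbf222a8)
 (Net.cons (nat_lit 32) (nat_lit 0xaf9e1e6500000000c5f81126)
 (Net.cons (nat_lit 16) (nat_lit 0xa1c00000cb1f0000a81000003e14)
 (Net.cons (nat_lit 8) (nat_lit 0xc2003300640025003500c800f40022)
 (Net.cons (nat_lit 4) (nat_lit 0x400020f0e0a0302020f04050c000801)
 (Net.cons (nat_lit 2) (nat_lit 0x2200010231032010311000002002000)
 (Net.cons (nat_lit 1) (nat_lit 0x4140014404041010111141050404050)
 (Net.cons (nat_lit 2) (nat_lit 0x200022202022000022200000002000)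
 (Net.cons (nat_lit 4) (nat_lit 0x400000e0c0a0202020004020e000000)
 (Net.cons (nat_lit 8) (nat_lit 0xc400ba0066002c001c004800f00030)
 (Net.cons (nat_lit 16) (nat_lit 0xa5c4000099160000a91000007e14)
 (Net.cons (nat_lit 32) (nat_lit 0xae961c7400000000c5f91124)
 (Net.cons (nat_lit 64) (nat_lit 0xb489619dbda2e88)
 Net.nil)))))))))))))

noncomputable def ns_41 : Net :=
 (Net.cons (nat_lit 64) (nat_lit 0x1383af885b9deaa)
 (Net.cons (nat_lit 32) (nat_lit 0xdb1bb185000000008d9bac8d)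
 (Net.cons (nat_lit 16) (nat_lit 0x33fc00002f5400004c1b00002880)
 (Net.cons (nat_lit 8) (nat_lit 0xdd002900800091009a00240002005b)
 (Net.cons (nat_lit 4) (nat_lit 0xa05030b000803000800080e00000b0b)
 (Net.cons (nat_lit 2) (nat_lit 0x3220000223000120011013232012020)
 (Net.cons (nat_lit 1) (nat_lit 0x41141110045041040140041114001441)
 (Net.cons (nat_lit 2) (nat_lit 0x202020000000000200000222002022)
 (Net.cons (nat_lit 4) (nat_lit 0xc0e000a080802000808040c04040c02)
 (Net.cons (nat_lit 8) (nat_lit 0x9c002800a400e4001a002000420090)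
 (Net.cons (nat_lit 16) (nat_lit 0x20c400000ba00000c59800006884)
 (Net.cons (nat_lit 32) (nat_lit 0xdb3bb1500000000021da6d88)
 (Net.cons (nat_lit 64) (nat_lit 0x1383afd1991b914)
 Net.nil)))))))))))))

noncomputable def ns_42 : Net :=
 (Net.cons (nat_lit 64) (nat_lit 0x1aff040200b80880)
 (Net.cons (nat_lit 32) (nat_lit 0xda2a140200000000838b8440)
 (Net.cons (nat_lit 16) (nat_lit 0x104400002b600000230c00002118)
 (Net.cons (nat_lit 8) (nat_lit 0xb0000000f400180083003400a40004)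
 (Net.cons (nat_lit 4) (nat_lit 0x80104080a030e080000080000040c05)
 (Net.cons (nat_lit 2) (nat_lit 0x30021000030001222103201101201022)
 (Net.cons (nat_lit 1) (nat_lit 0x41450450040104110000140504)
 (Net.cons (nat_lit 2) (nat_lit 0x20002200000200002)
 (Net.cons (nat_lit 4) (nat_lit 0x80004080a000e080000080000040c04)
 (Net.cons (nat_lit 8) (nat_lit 0x30000000f400180084001400840004)
 (Net.cons (nat_lit 16) (nat_lit 0x104000002b600000230400002118)
 (Net.cons (nat_lit 32) (nat_lit 0xd20a140200000000838b8440)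
 (Net.cons (nat_lit 64) (nat_lit 0x1aff040200b80880)
 Net.nil)))))))))))))

noncomputable def ns_43 : Net :=
 (Net.cons (nat_lit 64) (nat_lit 0x1a569d71097b2e06)
 (Net.cons (nat_lit 32) (nat_lit 0x16b48013000000003890bb6d)
 (Net.cons (nat_lit 16) (nat_lit 0x14300000b0a60000647000002025)
 (Net.cons (nat_lit 8) (nat_lit 0xe2007f0059006b00a10081004c0036)
 (Net.cons (nat_lit 4) (nat_lit 0xa06010103020b0008000301060c0202)
 (Net.cons (nat_lit 2) (nat_lit 0x10101200321031013022132302021003)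
 (Net.cons (nat_lit 1) (nat_lit 0x14101504104450014041411441041001)
 (Net.cons (nat_lit 2) (nat_lit 0x22000000202200002022222222000000)
 (Net.cons (nat_lit 4) (nat_lit 0x206040002000a060000040808080002)
 (Net.cons (nat_lit 8) (nat_lit 0xe0006600a2003a0008001c00880010)
 (Net.cons (nat_lit 16) (nat_lit 0x410000038f0000055d800002222)
 (Net.cons (nat_lit 32) (nat_lit 0x1cf69d5800000000f819db64)
 (Net.cons (nat_lit 64) (nat_lit 0x1a569d78a1cc0450)
 Net.nil)))))))))))))

noncomputable def ns_44 : Net :=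
 (Net.cons (nat_lit 64) (nat_lit 0xd870cbd27187770a)
 (Net.cons (nat_lit 32) (nat_lit 0xef1174080000000012023165)
 (Net.cons (nat_lit 16) (nat_lit 0xd514000080200000248400007932)
 (Net.cons (nat_lit 8) (nat_lit 0x64004b009800e5002f0022003c00e2)
 (Net.cons (nat_lit 4) (nat_lit 0xa0003000c020c000102000004030a04)
 (Net.cons (nat_lit 2) (nat_lit 0x30013102201000020203000100122022)
 (Net.cons (nat_lit 1) (nat_lit 0x44004541141041400504014014450111)
 (Net.cons (nat_lit 2) (nat_lit 0x20002000200020000002002002000000)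
 (Net.cons (nat_lit 4) (nat_lit 0x4000c020c080000000006060800)
 (Net.cons (nat_lit 8) (nat_lit 0x6400820098006e00280002004600e0)
 (Net.cons (nat_lit 16) (nat_lit 0x604400008824000020880000bb32)
 (Net.cons (nat_lit 32) (nat_lit 0x77413484000000001501316c)
 (Net.cons (nat_lit 64) (nat_lit 0xd870cbdb70c55504)
 Net.nil)))))))))))))

noncomputable def ns_45 : Net :=
 (Net.cons (nat_lit 64) (nat_lit 0x66427f245cc98683)
 (Net.cons (nat_lit 32) (nat_lit 0xe1d951d700000000e46abe1e)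
 (Net.cons (nat_lit 16) (nat_lit 0x9351000036480000121700001ad4)
 (Net.cons (nat_lit 8) (nat_lit 0xda006e0020007800de00bc00e1003e)
 (Net.cons (nat_lit 4) (nat_lit 0x6010a000c0e060201080c070e000a0b)
 (Net.cons (nat_lit 2) (nat_lit 0x11000310120003123112103302203102)
 (Net.cons (nat_lit 1) (nat_lit 0x4000414444004111444001405105011)
 (Net.cons (nat_lit 2) (nat_lit 0x2000202222002020020002000200022)
 (Net.cons (nat_lit 4) (nat_lit 0xc000200080c02000e0a040c0e080002)
 (Net.cons (nat_lit 8) (nat_lit 0xda00860004003c0036002000e00034)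
 (Net.cons (nat_lit 16) (nat_lit 0xb59000007a6c0000021a00001a74)
 (Net.cons (nat_lit 32) (nat_lit 0xc59b60de000000007c5a3ec8)
 (Net.cons (nat_lit 64) (nat_lit 0x66427f23f0894cc0)
 Net.nil)))))))))))))

noncomputable def ns_46 : Net :=
 (Net.cons (nat_lit 64) (nat_lit 0x1ed10011c90b0900)
 (Net.cons (nat_lit 32) (nat_lit 0x522000d200000000022a8240)
 (Net.cons (nat_lit 16) (nat_lit 0xcf000007daa0000186000004960)
 (Net.cons (nat_lit 8) (nat_lit 0x42004c0040009e0000008e00c00089)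
 (Net.cons (nat_lit 4) (nat_lit 0x50800030205040000020208000008)
 (Net.cons (nat_lit 2) (nat_lit 0x10020003001302120222020022232222)
 (Net.cons (nat_lit 1) (nat_lit 0x44010150540011040410101054440)
 (Net.cons (nat_lit 2) (nat_lit 0x20000000000020020020002002220)
 (Net.cons (nat_lit 4) (nat_lit 0x40800000204040000000208000008)
 (Net.cons (nat_lit 8) (nat_lit 0x42004c0040009e0000008a00800080)
 (Net.cons (nat_lit 16) (nat_lit 0xc7000007daa0000186000004960)
 (Net.cons (nat_lit 32) (nat_lit 0x522000d200000000022a8240)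
 (Net.cons (nat_lit 64) (nat_lit 0x1ed10011c9010900)
 Net.nil)))))))))))))

noncomputable def ns_47 : Net :=
 (Net.cons (nat_lit 64) (nat_lit 0xf2054001cf203200)
 (Net.cons (nat_lit 32) (nat_lit 0xa81560600000000001a300a0)
 (Net.cons (nat_lit 16) (nat_lit 0x4a200000f46c0000172c0000a720)
 (Net.cons (nat_lit 8) (nat_lit 0x50006a008400d0001400a800a8009c)
 (Net.cons (nat_lit 4) (nat_lit 0x4040208000402020004000e040b09)
 (Net.cons (nat_lit 2) (nat_lit 0x210220130122010103220202200031)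
 (Net.cons (nat_lit 1) (nat_lit 0x400445050000401015415010441514)
 (Net.cons (nat_lit 2) (nat_lit 0x200220000000000000220000200020)
 (Net.cons (nat_lit 4) (nat_lit 0x4040208000000020004000a040804)
 (Net.cons (nat_lit 8) (nat_lit 0x400028008400c0001400a800a8009c)
 (Net.cons (nat_lit 16) (nat_lit 0x4a200000f4640000172c0000a720)
 (Net.cons (nat_lit 32) (nat_lit 0xa81560600000000001a300a0)
 (Net.cons (nat_lit 64) (nat_lit 0xf2054001cf203200)
 Net.nil)))))))))))))

noncomputable def ns_48 : Net :=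
 (Net.cons (nat_lit 64) (nat_lit 0x800d5ec5e9be00e)
 (Net.cons (nat_lit 32) (nat_lit 0x43275ca300000000e1930c15)
 (Net.cons (nat_lit 16) (nat_lit 0x4dc900008a00000077c500004b11)
 (Net.cons (nat_lit 8) (nat_lit 0x6700ef00400048003600c0003300e5)
 (Net.cons (nat_lit 4) (nat_lit 0x604020c0e00080c04000e0a08030701)
 (Net.cons (nat_lit 2) (nat_lit 0x21030303020020033000121033301300)
 (Net.cons (nat_lit 1) (nat_lit 0x41450401100044114005054041150100)
 (Net.cons (nat_lit 2) (nat_lit 0x22000202000000022000002020000000)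
 (Net.cons (nat_lit 4) (nat_lit 0x40000040a0000040402040a00020000)
 (Net.cons (nat_lit 8) (nat_lit 0x2000ee004000180036008a00900044)
 (Net.cons (nat_lit 16) (nat_lit 0x44ee00008a00000071d00000622c)
 (Net.cons (nat_lit 32) (nat_lit 0x432708ee00000000c3372604)
 (Net.cons (nat_lit 64) (nat_lit 0x800d5e81cbb8000)
 Net.nil)))))))))))))

noncomputable def ns_49 : Net :=
 (Net.cons (nat_lit 64) (nat_lit 0xd2180c159be8f1d7)
 (Net.cons (nat_lit 32) (nat_lit 0x995b464600000000a73c85a2)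
 (Net.cons (nat_lit 16) (nat_lit 0xdc15000001160000a81700008c5f)
 (Net.cons (nat_lit 8) (nat_lit 0x1d004200b20028008c0010001400af)
 (Net.cons (nat_lit 4) (nat_lit 0x400020306080a05020206090a0e0808)
 (Net.cons (nat_lit 2) (nat_lit 0x12032010202022122100001123030023)
 (Net.cons (nat_lit 1) (nat_lit 0x4015010410414110401141410040404)
 (Net.cons (nat_lit 2) (nat_lit 0x200220020200222020020202)
 (Net.cons (nat_lit 4) (nat_lit 0x4000202000002040002000e0a060c0a)
 (Net.cons (nat_lit 8) (nat_lit 0x56005000a2001400ac001400a400a8)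
 (Net.cons (nat_lit 16) (nat_lit 0xd4540000b10e0000aab40000ddd8)
 (Net.cons (nat_lit 32) (nat_lit 0xd95b4a50000000008e3de54c)
 (Net.cons (nat_lit 64) (nat_lit 0xd2180c1512d9f594)
 Net.nil)))))))))))))

noncomputable def ns_50 : Net :=
 (Net.cons (nat_lit 64) (nat_lit 0x810440ded83b164a)
 (Net.cons (nat_lit 32) (nat_lit 0x88205047000000006892cfa5)
 (Net.cons (nat_lit 16) (nat_lit 0x92000001d120000572b00003bee)
 (Net.cons (nat_lit 8) (nat_lit 0xc50007005e00b30000005b00c2)
 (Net.cons (nat_lit 4) (nat_lit 0x901080100060c030a00010e0803)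
 (Net.cons (nat_lit 2) (nat_lit 0x1120022322212300020212100120)
 (Net.cons (nat_lit 1) (nat_lit 0x4041411045104110100110401405)
 (Net.cons (nat_lit 2) (nat_lit 0x20222020000200000000202200)
 (Net.cons (nat_lit 4) (nat_lit 0x40206040002020c0c0600)
 (Net.cons (nat_lit 8) (nat_lit 0x84000c00de009200800072005e)
 (Net.cons (nat_lit 16) (nat_lit 0x924000098500000250a000098a4)
 (Net.cons (nat_lit 32) (nat_lit 0x8920101c000000007608e580)
 (Net.cons (nat_lit 64) (nat_lit 0x810440deefd0e5d4)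
 Net.nil)))))))))))))

noncomputable def ns_51 : Net :=
 (Net.cons (nat_lit 64) (nat_lit 0x88a40a878192d240)
 (Net.cons (nat_lit 32) (nat_lit 0xda3804800000000042431160)
 (Net.cons (nat_lit 16) (nat_lit 0x1408000081240000506000009874)
 (Net.cons (nat_lit 8) (nat_lit 0x54008a008600cb0002002400b10016)
 (Net.cons (nat_lit 4) (nat_lit 0x800000800010a04000c0d0b070902)
 (Net.cons (nat_lit 2) (nat_lit 0x22202200030132320120023102222202)
 (Net.cons (nat_lit 1) (nat_lit 0x14441005050041111041010001441410)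
 (Net.cons (nat_lit 2) (nat_lit 0x22202000000002020020020002222200)
 (Net.cons (nat_lit 4) (nat_lit 0x80000080002000400080800000002)
 (Net.cons (nat_lit 8) (nat_lit 0x54008a008600300002002400200096)
 (Net.cons (nat_lit 16) (nat_lit 0x14080000812400005060000011e4)
 (Net.cons (nat_lit 32) (nat_lit 0xd23804800000000042431160)
 (Net.cons (nat_lit 64) (nat_lit 0x88a40a878192d240)
 Net.nil)))))))))))))

noncomputable def ns_52 : Net :=
 (Net.cons (nat_lit 64) (nat_lit 0xf89dd3ec50e5d054)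
 (Net.cons (nat_lit 32) (nat_lit 0xa0d4014c00000000be463a72)
 (Net.cons (nat_lit 16) (nat_lit 0x3a0c000059b500008052000066f0)
 (Net.cons (nat_lit 8) (nat_lit 0xda004e00bc00c4006400a0006200a3)
 (Net.cons (nat_lit 4) (nat_lit 0x80403000a00000305000a0c00010600)
 (Net.cons (nat_lit 2) (nat_lit 0x20110122230030030200020101302013)
 (Net.cons (nat_lit 1) (nat_lit 0x10415541141010040410140101404504)
 (Net.cons (nat_lit 2) (nat_lit 0x20000002200020000000220000200002)
 (Net.cons (nat_lit 4) (nat_lit 0x80000000000080000000a0200000000)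
 (Net.cons (nat_lit 8) (nat_lit 0x5a004e0088002200700084006200a0)
 (Net.cons (nat_lit 16) (nat_lit 0xbac0000048b400008012000063f2)
 (Net.cons (nat_lit 32) (nat_lit 0x7059832a00000000bc463a76)
 (Net.cons (nat_lit 64) (nat_lit 0xf89dd3ec54e5d870)
 Net.nil)))))))))))))

noncomputable def ns_53 : Net :=
 (Net.cons (nat_lit 64) (nat_lit 0x3f3b230b72316d0d)
 (Net.cons (nat_lit 32) (nat_lit 0x1cb074a100000000e5388835)
 (Net.cons (nat_lit 16) (nat_lit 0x11140000220d00009cde000098fd)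
 (Net.cons (nat_lit 8) (nat_lit 0x2d00970005003a00f400f8002e00fd)
 (Net.cons (nat_lit 4) (nat_lit 0xc09040e0c0304020206000c020c0d)
 (Net.cons (nat_lit 2) (nat_lit 0x201220303202011112320132320123)
 (Net.cons (nat_lit 1) (nat_lit 0x15411041154411040140100054410140)
 (Net.cons (nat_lit 2) (nat_lit 0x220020000202020200200000220200)
 (Net.cons (nat_lit 4) (nat_lit 0x408040408020202000e000a020c08)
 (Net.cons (nat_lit 8) (nat_lit 0xa40020003000200038003c0038)
 (Net.cons (nat_lit 16) (nat_lit 0x1696000002400000dc8e0000d8bc)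
 (Net.cons (nat_lit 32) (nat_lit 0x26b877ac0000000025bc4034)
 (Net.cons (nat_lit 64) (nat_lit 0x3f3b230be5102664)
 Net.nil)))))))))))))

noncomputable def ns_54 : Net :=
 (Net.cons (nat_lit 64) (nat_lit 0x62f9c0e54bf9f54e)
 (Net.cons (nat_lit 32) (nat_lit 0x3823140a0000000062f51b0b)
 (Net.cons (nat_lit 16) (nat_lit 0x50a8000047ec00000ed10000c504)
 (Net.cons (nat_lit 8) (nat_lit 0x9a005e009500d100000009004c0005)
 (Net.cons (nat_lit 4) (nat_lit 0xe080001050803060102030300040606)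
 (Net.cons (nat_lit 2) (nat_lit 0x20300201300020233101012103023212)
 (Net.cons (nat_lit 1) (nat_lit 0x4104410010045054110110401045100)
 (Net.cons (nat_lit 2) (nat_lit 0x200000000000002200000002000200)
 (Net.cons (nat_lit 4) (nat_lit 0xc080400060004040602000e08040400)
 (Net.cons (nat_lit 8) (nat_lit 0xc8009e003400d80034000e004c0002)
 (Net.cons (nat_lit 16) (nat_lit 0x50a80000a798000022d00000dd02)
 (Net.cons (nat_lit 32) (nat_lit 0x3aba54a600000000e7f7261c)
 (Net.cons (nat_lit 64) (nat_lit 0x62f9c0ed44eccc3c)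
 Net.nil)))))))))))))

noncomputable def ns_55 : Net :=
 (Net.cons (nat_lit 64) (nat_lit 0xf968ef628054ab41)
 (Net.cons (nat_lit 32) (nat_lit 0x4c2f050b00000000ea44780d)
 (Net.cons (nat_lit 16) (nat_lit 0x4c4d000022c00000c8de000011d8)
 (Net.cons (nat_lit 8) (nat_lit 0xe700ad005200c5001a005800fe0003)
 (Net.cons (nat_lit 4) (nat_lit 0x100020a09040407000c000802070002)
 (Net.cons (nat_lit 2) (nat_lit 0x31222223320002111000001312302321)
 (Net.cons (nat_lit 1) (nat_lit 0x41414041111454141041504404401411)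
 (Net.cons (nat_lit 2) (nat_lit 0x22022000022202200002000200202220)
 (Net.cons (nat_lit 4) (nat_lit 0x20c0408080c0e0a0404000c0c06000a)
 (Net.cons (nat_lit 8) (nat_lit 0xe200ce00c200640014000800fc0084)
 (Net.cons (nat_lit 16) (nat_lit 0x48460000b8400000e84e000007cc)
 (Net.cons (nat_lit 32) (nat_lit 0xd2f832800000000ee467808)
 (Net.cons (nat_lit 64) (nat_lit 0xf968ef657f9df250)
 Net.nil)))))))))))))

noncomputable def ns_56 : Net :=
 (Net.cons (nat_lit 64) (nat_lit 0x8a982043d86e4620)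
 (Net.cons (nat_lit 32) (nat_lit 0x6899230000000000288f61c2)
 (Net.cons (nat_lit 16) (nat_lit 0x68000000bc34000006a0000048b1)
 (Net.cons (nat_lit 8) (nat_lit 0xa2002a006a00cc006900af00d400e5)
 (Net.cons (nat_lit 4) (nat_lit 0x1040007000003080e080c07050303)
 (Net.cons (nat_lit 2) (nat_lit 0x200323110210000202313102320121)
 (Net.cons (nat_lit 1) (nat_lit 0x110540411004405444411044040054)
 (Net.cons (nat_lit 2) (nat_lit 0x20020220000000220000020020000)
 (Net.cons (nat_lit 4) (nat_lit 0xa04000c000c0808000c080804000e)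
 (Net.cons (nat_lit 8) (nat_lit 0xa2002a006400000020005200d400e0)
 (Net.cons (nat_lit 16) (nat_lit 0x680000002870000006a000005cb0)
 (Net.cons (nat_lit 32) (nat_lit 0x6819230000000000088b60c4)
 (Net.cons (nat_lit 64) (nat_lit 0x8a982043d86e4620)
 Net.nil)))))))))))))

noncomputable def ns_57 : Net :=
 (Net.cons (nat_lit 64) (nat_lit 0x97110f3596c080)
 (Net.cons (nat_lit 32) (nat_lit 0xd80301400000000038c40498)
 (Net.cons (nat_lit 16) (nat_lit 0x110100003c88000028e800007468)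
 (Net.cons (nat_lit 8) (nat_lit 0xd000100036008400e80080008200be)
 (Net.cons (nat_lit 4) (nat_lit 0x90500090a08040a0208040e0d0a0700)
 (Net.cons (nat_lit 2) (nat_lit 0x22020002221301221000202322021122)
 (Net.cons (nat_lit 1) (nat_lit 0x11440044140540010104404004110044)
 (Net.cons (nat_lit 2) (nat_lit 0x22020002220000020000202002020022)
 (Net.cons (nat_lit 4) (nat_lit 0x40008080a040a0208040e0c0a0000)
 (Net.cons (nat_lit 8) (nat_lit 0xd000100010008400e0008000820036)
 (Net.cons (nat_lit 16) (nat_lit 0x10000003c880000286000007460)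
 (Net.cons (nat_lit 32) (nat_lit 0xd80301400000000038cc0c90)
 (Net.cons (nat_lit 64) (nat_lit 0x9711093596c080)
 Net.nil)))))))))))))

noncomputable def ns_58 : Net :=
 (Net.cons (nat_lit 64) (nat_lit 0x229a542c29e1602a)
 (Net.cons (nat_lit 32) (nat_lit 0x784a21010000000026f90bad)
 (Net.cons (nat_lit 16) (nat_lit 0x4d5c0000cc1d00009b550000110b)
 (Net.cons (nat_lit 8) (nat_lit 0x22006800cc00d600920060000000d9)
 (Net.cons (nat_lit 4) (nat_lit 0x30c00070e0b0405010a050f00020409)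
 (Net.cons (nat_lit 2) (nat_lit 0x1222003001010020102030001210301)
 (Net.cons (nat_lit 1) (nat_lit 0x10404011401000411400114100440404)
 (Net.cons (nat_lit 2) (nat_lit 0x202000200000020000002200220202)
 (Net.cons (nat_lit 4) (nat_lit 0x20400040c0600040c000c0400020004)
 (Net.cons (nat_lit 8) (nat_lit 0x20006000c400c4007200400040009c)
 (Net.cons (nat_lit 16) (nat_lit 0xd5c0000c80400009a3000004d48)
 (Net.cons (nat_lit 32) (nat_lit 0x5a40310c00000000769803e4)
 (Net.cons (nat_lit 64) (nat_lit 0x229a54253ffd852a)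
 Net.nil)))))))))))))

noncomputable def ns_59 : Net :=
 (Net.cons (nat_lit 64) (nat_lit 0xcb560d6823b626ce)
 (Net.cons (nat_lit 32) (nat_lit 0xcc07f4cc0000000034186f24)
 (Net.cons (nat_lit 16) (nat_lit 0xa1770000381a0000243800008508)
 (Net.cons (nat_lit 8) (nat_lit 0xaa0099004800530020007500540062)
 (Net.cons (nat_lit 4) (nat_lit 0x60409040c040708000100070e0d0d00)
 (Net.cons (nat_lit 2) (nat_lit 0x1212012002023220020003120230320)
 (Net.cons (nat_lit 1) (nat_lit 0x1041444044444140010101440050141)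
 (Net.cons (nat_lit 2) (nat_lit 0x22000020222220000200020000200)
 (Net.cons (nat_lit 4) (nat_lit 0x6060800040c000800080800040c0c0c)
 (Net.cons (nat_lit 8) (nat_lit 0x8800c800800072000000d000dc0066)
 (Net.cons (nat_lit 16) (nat_lit 0x6c340000301a000020800000150a)
 (Net.cons (nat_lit 32) (nat_lit 0x455f5800000000030104d20)
 (Net.cons (nat_lit 64) (nat_lit 0xcb560d683317a686)
 Net.nil)))))))))))))

noncomputable def ns_60 : Net :=
 (Net.cons (nat_lit 64) (nat_lit 0xe4d3c42d1a25f078)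
 (Net.cons (nat_lit 32) (nat_lit 0x8c2fc2840000000031a72b04)
 (Net.cons (nat_lit 16) (nat_lit 0xa825000091c8000009c100009bf4)
 (Net.cons (nat_lit 8) (nat_lit 0xe2002a00630016006a00bc00e000e5)
 (Net.cons (nat_lit 4) (nat_lit 0xc050e0c0c0a0804010a0d0a0f000b00)
 (Net.cons (nat_lit 2) (nat_lit 0x22312220022022103221100011302330)
 (Net.cons (nat_lit 1) (nat_lit 0x40100441040141404100411015101401)
 (Net.cons (nat_lit 2) (nat_lit 0x20200020000000202200002000200200)
 (Net.cons (nat_lit 4) (nat_lit 0x808080608080a000200040808000802)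
 (Net.cons (nat_lit 8) (nat_lit 0xa60028002200f2004200ac003000c0)
 (Net.cons (nat_lit 16) (nat_lit 0x2c880000f0ca00003146000085d4)
 (Net.cons (nat_lit 32) (nat_lit 0x2c2ec2aa000000002aa72894)
 (Net.cons (nat_lit 64) (nat_lit 0xe4d3c42e1aa1f318)
 Net.nil)))))))))))))

noncomputable def ns_61 : Net :=
 (Net.cons (nat_lit 64) (nat_lit 0xb010c322bb6ab387)
 (Net.cons (nat_lit 32) (nat_lit 0xf634f5d1000000003a530885)
 (Net.cons (nat_lit 16) (nat_lit 0x66f40000bac2000008ad0000fc69)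
 (Net.cons (nat_lit 8) (nat_lit 0x5000660011007900cc00c600c60050)
 (Net.cons (nat_lit 4) (nat_lit 0x804070308000808090302030b06050a)
 (Net.cons (nat_lit 2) (nat_lit 0x10101023220202322201200020013322)
 (Net.cons (nat_lit 1) (nat_lit 0x4505041100141014114440154001545)
 (Net.cons (nat_lit 2) (nat_lit 0x22200022020200220002002020)
 (Net.cons (nat_lit 4) (nat_lit 0xc0004020800000e0806080206000000)
 (Net.cons (nat_lit 8) (nat_lit 0x200064001a0030009000ca00aa0098)
 (Net.cons (nat_lit 16) (nat_lit 0x70d40000b2c0000014ae0000bc42)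
 (Net.cons (nat_lit 32) (nat_lit 0xe634b5d6000000007f971016)
 (Net.cons (nat_lit 64) (nat_lit 0xb010c329eee610d8)
 Net.nil)))))))))))))

noncomputable def ns_62 : Net :=
 (Net.cons (nat_lit 64) (nat_lit 0x80a0d9eae082710)
 (Net.cons (nat_lit 32) (nat_lit 0x54f41280000000008400040c)
 (Net.cons (nat_lit 16) (nat_lit 0x45800000a8410000b21000006810)
 (Net.cons (nat_lit 8) (nat_lit 0x60009400c0006800c6001400280042)
 (Net.cons (nat_lit 4) (nat_lit 0x6080e08000802040200060002050808)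
 (Net.cons (nat_lit 2) (nat_lit 0x10220021220000202020020330221221)
 (Net.cons (nat_lit 1) (nat_lit 0x5141010400005441141540004400110)
 (Net.cons (nat_lit 2) (nat_lit 0x220020200000202020020000200220)
 (Net.cons (nat_lit 4) (nat_lit 0x6080208000002040200060002040808)
 (Net.cons (nat_lit 8) (nat_lit 0x60009400c0006800c2001400280040)
 (Net.cons (nat_lit 16) (nat_lit 0x45800000a8400000b21000006810)
 (Net.cons (nat_lit 32) (nat_lit 0x54f41200000000008400040c)
 (Net.cons (nat_lit 64) (nat_lit 0x80a0d9eae082710)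
 Net.nil)))))))))))))

noncomputable def ns_63 : Net :=
 (Net.cons (nat_lit 64) (nat_lit 0xc4c299053a980000)
 (Net.cons (nat_lit 32) (nat_lit 0x844a11080000000051168780)
 (Net.cons (nat_lit 16) (nat_lit 0xc8020000be900000a20a000078a0)
 (Net.cons (nat_lit 8) (nat_lit 0x8004000c8004700a8005200d0004c)
 (Net.cons (nat_lit 4) (nat_lit 0x8000108000004080200070a0e080202)
 (Net.cons (nat_lit 2) (nat_lit 0x30101020112021021200)
 (Net.cons (nat_lit 1) (nat_lit 0x4400041100515450015004510410400)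
 (Net.cons (nat_lit 2) (nat_lit 0x20000020002020020200)
 (Net.cons (nat_lit 4) (nat_lit 0x8000008000000000000000a0c080200)
 (Net.cons (nat_lit 8) (nat_lit 0x400008009800a8005200d00044)
 (Net.cons (nat_lit 16) (nat_lit 0xc8020000be900000a20200007820)
 (Net.cons (nat_lit 32) (nat_lit 0x844a11080000000051168780)
 (Net.cons (nat_lit 64) (nat_lit 0xc4c299053a980000)
 Net.nil)))))))))))))

noncomputable def ns_64 : Net :=
 (Net.cons (nat_lit 64) (nat_lit 0x64e7a04542d1e888)
 (Net.cons (nat_lit 32) (nat_lit 0x54c425100000000006521350)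
 (Net.cons (nat_lit 16) (nat_lit 0xc4a20000ba65000089120000d0bf)
 (Net.cons (nat_lit 8) (nat_lit 0xf0007800be00e0004e00b600ba0092)
 (Net.cons (nat_lit 4) (nat_lit 0x40d02080a000008000205040704050b)
 (Net.cons (nat_lit 2) (nat_lit 0x221320020222021200200301003003)
 (Net.cons (nat_lit 1) (nat_lit 0x400545414040440114014014410411)
 (Net.cons (nat_lit 2) (nat_lit 0x200020020020020000000022020002)
 (Net.cons (nat_lit 4) (nat_lit 0xc020808000008000200040c0c000a)
 (Net.cons (nat_lit 8) (nat_lit 0xf0007800aa0060004e00bc009a00ae)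
 (Net.cons (nat_lit 16) (nat_lit 0xc4a2000090640000881800003b12)
 (Net.cons (nat_lit 32) (nat_lit 0x54c42510000000000f4a0150)
 (Net.cons (nat_lit 64) (nat_lit 0x64e7a04542d1e888)
 Net.nil)))))))))))))

noncomputable def ns_65 : Net :=
 (Net.cons (nat_lit 64) (nat_lit 0xc75f226e3ecf137a)
 (Net.cons (nat_lit 32) (nat_lit 0x29650a150000000081b2a446)
 (Net.cons (nat_lit 16) (nat_lit 0x2e27000042730000f9a0000002ef)
 (Net.cons (nat_lit 8) (nat_lit 0x3b0060005000d5008a004400ea0050)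
 (Net.cons (nat_lit 4) (nat_lit 0x8020c0f02080c0c0908030d0000090d)
 (Net.cons (nat_lit 2) (nat_lit 0x30011103211020102000220201)
 (Net.cons (nat_lit 1) (nat_lit 0x51044040405414101110044114410150)
 (Net.cons (nat_lit 2) (nat_lit 0x22000200000200220022220220000)
 (Net.cons (nat_lit 4) (nat_lit 0x80c06000c0808000a0e02040800)
 (Net.cons (nat_lit 8) (nat_lit 0x780042001000c4000a00e800c20084)
 (Net.cons (nat_lit 16) (nat_lit 0x6140000c5f40000c1a200004c66)
 (Net.cons (nat_lit 32) (nat_lit 0xed7a0a1a00000000a192b0c8)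
 (Net.cons (nat_lit 64) (nat_lit 0xc75f2264880a4c94)
 Net.nil)))))))))))))

noncomputable def ns_66 : Net :=
 (Net.cons (nat_lit 64) (nat_lit 0xf65571008b31d84c)
 (Net.cons (nat_lit 32) (nat_lit 0xdaef7abd00000000027cece3)
 (Net.cons (nat_lit 16) (nat_lit 0x5aa60000c00c00000fda00003d37)
 (Net.cons (nat_lit 8) (nat_lit 0xac0008008b00a6000c0054005f00c6)
 (Net.cons (nat_lit 4) (nat_lit 0x20d09000f00050e000c0e0208080606)
 (Net.cons (nat_lit 2) (nat_lit 0x30221001122201010010012000102102)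
 (Net.cons (nat_lit 1) (nat_lit 0x54111005441401010454104101041040)
 (Net.cons (nat_lit 2) (nat_lit 0x2002000022200020002200002000000)
 (Net.cons (nat_lit 4) (nat_lit 0xa0a0a00040a0000080000000604)
 (Net.cons (nat_lit 8) (nat_lit 0xa4000000ce00e2000000bc0042006c)
 (Net.cons (nat_lit 16) (nat_lit 0x481c0000044c000005160000acb4)
 (Net.cons (nat_lit 32) (nat_lit 0x8cab4bba0000000002fc6080)
 (Net.cons (nat_lit 64) (nat_lit 0xf65571051e2d2286)
 Net.nil)))))))))))))

noncomputable def ns_67 : Net :=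
 (Net.cons (nat_lit 64) (nat_lit 0xc542ff13bac6673d)
 (Net.cons (nat_lit 32) (nat_lit 0xad89a2e80000000005920388)
 (Net.cons (nat_lit 16) (nat_lit 0x32cb0000ed0000000cb30000ea7c)
 (Net.cons (nat_lit 8) (nat_lit 0x830018007200930087007800580004)
 (Net.cons (nat_lit 4) (nat_lit 0x10c0b0a0606000605000f00040b0004)
 (Net.cons (nat_lit 2) (nat_lit 0x30030301133200301000210020013032)
 (Net.cons (nat_lit 1) (nat_lit 0x11014405544401104000000514054014)
 (Net.cons (nat_lit 2) (nat_lit 0x20000200002200000000000000000022)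
 (Net.cons (nat_lit 4) (nat_lit 0xa0c02080600000e04000c000c06060e)
 (Net.cons (nat_lit 8) (nat_lit 0x20050001200840084007e0080005c)
 (Net.cons (nat_lit 16) (nat_lit 0xf24a0000ba1200000e3c00001200)
 (Net.cons (nat_lit 32) (nat_lit 0xe98935ec000000003f3e0360)
 (Net.cons (nat_lit 64) (nat_lit 0xc542ff1623fbd4c0)
 Net.nil)))))))))))))

noncomputable def ns_68 : Net :=
 (Net.cons (nat_lit 64) (nat_lit 0x204082c07b644300)
 (Net.cons (nat_lit 32) (nat_lit 0x338828000000000047527030)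
 (Net.cons (nat_lit 16) (nat_lit 0x8280000004000000702a0000e698)
 (Net.cons (nat_lit 8) (nat_lit 0xc000680030000300c400380042000e)
 (Net.cons (nat_lit 4) (nat_lit 0x8040208060400030d0608000d0c08)
 (Net.cons (nat_lit 2) (nat_lit 0x10000200300100000022102020311210)
 (Net.cons (nat_lit 1) (nat_lit 0x1000405000000044040011115144414)
 (Net.cons (nat_lit 2) (nat_lit 0x200000000000020002020202022)
 (Net.cons (nat_lit 4) (nat_lit 0x40208040000000c06080000080c)
 (Net.cons (nat_lit 8) (nat_lit 0xc000680030000000c40038004200f0)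
 (Net.cons (nat_lit 16) (nat_lit 0x820000000400000030220000e698)
 (Net.cons (nat_lit 32) (nat_lit 0x338828000000000047527030)
 (Net.cons (nat_lit 64) (nat_lit 0x204082c07b644300)
 Net.nil)))))))))))))

noncomputable def ns_69 : Net :=
 (Net.cons (nat_lit 64) (nat_lit 0x19a022372d7e1916)
 (Net.cons (nat_lit 32) (nat_lit 0x7cfdb91200000000e03f58cc)
 (Net.cons (nat_lit 16) (nat_lit 0x646600008c26000004030000c1c7)
 (Net.cons (nat_lit 8) (nat_lit 0x2b008100900070000c008500080020)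
 (Net.cons (nat_lit 4) (nat_lit 0x507080802040c0002080600030a0b)
 (Net.cons (nat_lit 2) (nat_lit 0x121120020200230000012100013013)
 (Net.cons (nat_lit 1) (nat_lit 0x1111044001414040400404410405110)
 (Net.cons (nat_lit 2) (nat_lit 0x2020020000220020200002000200000)
 (Net.cons (nat_lit 4) (nat_lit 0x204020008000e0400000802020a0608)
 (Net.cons (nat_lit 8) (nat_lit 0x200a0009400d8002c0000000c0020)
 (Net.cons (nat_lit 16) (nat_lit 0x6c6600008c26000084420000c114)
 (Net.cons (nat_lit 32) (nat_lit 0x7c7db93400000000e43c188c)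
 (Net.cons (nat_lit 64) (nat_lit 0x19a022370c5e1916)
 Net.nil)))))))))))))

noncomputable def ns_70 : Net :=
 (Net.cons (nat_lit 64) (nat_lit 0xa02c5a2eebd8e287)
 (Net.cons (nat_lit 32) (nat_lit 0x4842aff400000000ded56d75)
 (Net.cons (nat_lit 16) (nat_lit 0xa150000086ba000090da00002384)
 (Net.cons (nat_lit 8) (nat_lit 0x42006a002b0020000200e800010031)
 (Net.cons (nat_lit 4) (nat_lit 0xa04000200040a0d00040603020c0802)
 (Net.cons (nat_lit 2) (nat_lit 0x20301021002010120200320330030010)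
 (Net.cons (nat_lit 1) (nat_lit 0x1441400014004410040140444110401)
 (Net.cons (nat_lit 2) (nat_lit 0x2200000022002020000220020020000)
 (Net.cons (nat_lit 4) (nat_lit 0x804080800040a040000020600000800)
 (Net.cons (nat_lit 8) (nat_lit 0x200a0002800b000080028000800a0)
 (Net.cons (nat_lit 16) (nat_lit 0x69700000869a0000141e00002654)
 (Net.cons (nat_lit 32) (nat_lit 0x686af5de00000000df846cb0)
 (Net.cons (nat_lit 64) (nat_lit 0xa02c5a2e4eb9e224)
 Net.nil)))))))))))))

noncomputable def ns_71 : Net :=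
 (Net.cons (nat_lit 64) (nat_lit 0x8c4150ae2d3066f0)
 (Net.cons (nat_lit 32) (nat_lit 0x622684490000000000fc7f9d)
 (Net.cons (nat_lit 16) (nat_lit 0xb60b0000de390000b46600002f6c)
 (Net.cons (nat_lit 8) (nat_lit 0x60008400a0003b007600db004900bc)
 (Net.cons (nat_lit 4) (nat_lit 0xc000e040b08090009040809080b0d0a)
 (Net.cons (nat_lit 2) (nat_lit 0x20221220003030300322113303003)
 (Net.cons (nat_lit 1) (nat_lit 0x14050401514004110154410115011104)
 (Net.cons (nat_lit 2) (nat_lit 0x20000000020000020202200000002000)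
 (Net.cons (nat_lit 4) (nat_lit 0xc040802000800000802080e08080e00)
 (Net.cons (nat_lit 8) (nat_lit 0x20000000e800b2006400f0001e00bc)
 (Net.cons (nat_lit 16) (nat_lit 0x726a0000c7380000c4e600000c50)
 (Net.cons (nat_lit 32) (nat_lit 0x6626d4e80000000022467180)
 (Net.cons (nat_lit 64) (nat_lit 0x8c4150a1a8f533da)
 Net.nil)))))))))))))

noncomputable def ns_72 : Net :=
 (Net.cons (nat_lit 64) (nat_lit 0x183487ade000466d)
 (Net.cons (nat_lit 32) (nat_lit 0x32be8c500000000097705823)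
 (Net.cons (nat_lit 16) (nat_lit 0x26780000614c0000b51300003cd1)
 (Net.cons (nat_lit 8) (nat_lit 0x50008a00a900e0006800f600aa00ec)
 (Net.cons (nat_lit 4) (nat_lit 0x408020f0c05030c0c0e01020105000e)
 (Net.cons (nat_lit 2) (nat_lit 0x2220202203213000203223010020303)
 (Net.cons (nat_lit 1) (nat_lit 0x4040140405104041415411504454445)
 (Net.cons (nat_lit 2) (nat_lit 0x2020200000202022200202000200000)
 (Net.cons (nat_lit 4) (nat_lit 0x4000804080400080c0e0202080c0c0e)
 (Net.cons (nat_lit 8) (nat_lit 0x440008008800600048008600f8006c)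
 (Net.cons (nat_lit 16) (nat_lit 0x2e640000f44c0000c578000091d4)
 (Net.cons (nat_lit 32) (nat_lit 0x3a9a0d50000000001731282a)
 (Net.cons (nat_lit 64) (nat_lit 0x183487acd9e5c564)
 Net.nil)))))))))))))

noncomputable def ns_73 : Net :=
 (Net.cons (nat_lit 64) (nat_lit 0x19a022370c7e1916)
 (Net.cons (nat_lit 32) (nat_lit 0x6ffdbd1200000000606ce04c)
 (Net.cons (nat_lit 16) (nat_lit 0xda98000088260000845300004985)
 (Net.cons (nat_lit 8) (nat_lit 0x3e00f5002600d8002c00c800840028)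
 (Net.cons (nat_lit 4) (nat_lit 0x4080d02000e04000604060a020605)
 (Net.cons (nat_lit 2) (nat_lit 0x330233030020210201332000212012)
 (Net.cons (nat_lit 1) (nat_lit 0x4451014040014010400415050404100)
 (Net.cons (nat_lit 2) (nat_lit 0x200002020000000000020000202000)
 (Net.cons (nat_lit 4) (nat_lit 0x80208080000040c0004080e0802020c)
 (Net.cons (nat_lit 8) (nat_lit 0x1e00c000260070000c00d400000028)
 (Net.cons (nat_lit 16) (nat_lit 0xd29800008826000084520000c9c0)
 (Net.cons (nat_lit 32) (nat_lit 0x6f7dbd3400000000606ca04c)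
 (Net.cons (nat_lit 64) (nat_lit 0x19a022370d7e1916)
 Net.nil)))))))))))))

noncomputable def ns_74 : Net :=
 (Net.cons (nat_lit 64) (nat_lit 0x8d75d70887082325)
 (Net.cons (nat_lit 32) (nat_lit 0xfc52250e000000004c7ae48a)
 (Net.cons (nat_lit 16) (nat_lit 0x7d4b0000d46000004456000091bf)
 (Net.cons (nat_lit 8) (nat_lit 0x600036002200cc00e80094006900a2)
 (Net.cons (nat_lit 4) (nat_lit 0x2040107000a010c08000200010a0a)
 (Net.cons (nat_lit 2) (nat_lit 0x322011101220212102302132000)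
 (Net.cons (nat_lit 1) (nat_lit 0x10040044050140154044504101141005)
 (Net.cons (nat_lit 2) (nat_lit 0x20020022000020002022000200020000)
 (Net.cons (nat_lit 4) (nat_lit 0x4080006000a00040a000000060a00)
 (Net.cons (nat_lit 8) (nat_lit 0x740036007200c600c00074004a0020)
 (Net.cons (nat_lit 16) (nat_lit 0x584a0000d050000004140000b1b0)
 (Net.cons (nat_lit 32) (nat_lit 0x78222000000000000efae48c)
 (Net.cons (nat_lit 64) (nat_lit 0x8d75d70807282914)
 Net.nil)))))))))))))

noncomputable def ns_75 : Net :=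
 (Net.cons (nat_lit 64) (nat_lit 0x4170127041828080)
 (Net.cons (nat_lit 32) (nat_lit 0x6964a0400000000052744150)
 (Net.cons (nat_lit 16) (nat_lit 0x8a04000048a00000263000005c0c)
 (Net.cons (nat_lit 8) (nat_lit 0x20003000590004008400e0000e00a8)
 (Net.cons (nat_lit 4) (nat_lit 0x8090008050e000c040301000c00)
 (Net.cons (nat_lit 2) (nat_lit 0x2000000000011013200000003002)
 (Net.cons (nat_lit 1) (nat_lit 0x41101040040000000405455144055100)
 (Net.cons (nat_lit 2) (nat_lit 0x2000000000000000200000000000)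
 (Net.cons (nat_lit 4) (nat_lit 0x80800000004000c040000000c00)
 (Net.cons (nat_lit 8) (nat_lit 0x20001000080004008400e000020028)
 (Net.cons (nat_lit 16) (nat_lit 0x8a00000048a00000263000005c0c)
 (Net.cons (nat_lit 32) (nat_lit 0x6964a0400000000052744150)
 (Net.cons (nat_lit 64) (nat_lit 0x4170127041808080)
 Net.nil)))))))))))))

noncomputable def ns_76 : Net :=
 (Net.cons (nat_lit 64) (nat_lit 0x54e8280e94c08344)
 (Net.cons (nat_lit 32) (nat_lit 0xdb1a1080000000038455144)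
 (Net.cons (nat_lit 16) (nat_lit 0x9888000002b0000014180000d52a)
 (Net.cons (nat_lit 8) (nat_lit 0xd900040058009000060090008c004a)
 (Net.cons (nat_lit 4) (nat_lit 0x504080202000c0e0809000406080e00)
 (Net.cons (nat_lit 2) (nat_lit 0x11212122003002200102000002200303)
 (Net.cons (nat_lit 1) (nat_lit 0x1001545004111044400054144050)
 (Net.cons (nat_lit 2) (nat_lit 0x2002000002200002000002200000)
 (Net.cons (nat_lit 4) (nat_lit 0x408020200040a0008000006080e00)
 (Net.cons (nat_lit 8) (nat_lit 0x90000400580090000600800008004a)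
 (Net.cons (nat_lit 16) (nat_lit 0x9888000002b0000014180000d528)
 (Net.cons (nat_lit 32) (nat_lit 0xdb181080000000038455044)
 (Net.cons (nat_lit 64) (nat_lit 0x54e8280e94c08300)
 Net.nil)))))))))))))

noncomputable def ns_77 : Net :=
 (Net.cons (nat_lit 64) (nat_lit 0xe4b417d040ec3902)
 (Net.cons (nat_lit 32) (nat_lit 0x12ac0e4c000000002633e938)
 (Net.cons (nat_lit 16) (nat_lit 0x4cc40000ed7600003c680000fb46)
 (Net.cons (nat_lit 8) (nat_lit 0x38004b00b40080002300380058002f)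
 (Net.cons (nat_lit 4) (nat_lit 0xa0c0206000a04020000040e02020d0c)
 (Net.cons (nat_lit 2) (nat_lit 0x200010302000310200120000100101)
 (Net.cons (nat_lit 1) (nat_lit 0x10141410504450150110111000401441)
 (Net.cons (nat_lit 2) (nat_lit 0x200020002200200200222000202202)
 (Net.cons (nat_lit 4) (nat_lit 0xc020200080a0e00020008000e0404)
 (Net.cons (nat_lit 8) (nat_lit 0x88004800d000940020003800d000e0)
 (Net.cons (nat_lit 16) (nat_lit 0x4ed400002cf200003c780000694a)
 (Net.cons (nat_lit 32) (nat_lit 0x122c1e54000000002c31a938)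
 (Net.cons (nat_lit 64) (nat_lit 0xe4b417d27efd1912)
 Net.nil)))))))))))))

noncomputable def ns_78 : Net :=
 (Net.cons (nat_lit 64) (nat_lit 0x800a0848a2808200)
 (Net.cons (nat_lit 32) (nat_lit 0xa09c84000000000ae18f400)
 (Net.cons (nat_lit 16) (nat_lit 0x4840000095640000f4680000c860)
 (Net.cons (nat_lit 8) (nat_lit 0x8a0008009c0058006800ba00a20020)
 (Net.cons (nat_lit 4) (nat_lit 0x80008000000000a040c0a0404080e08)
 (Net.cons (nat_lit 2) (nat_lit 0x20002222232012200122010002022)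
 (Net.cons (nat_lit 1) (nat_lit 0x40410000014450004054040004141041)
 (Net.cons (nat_lit 2) (nat_lit 0x20000022200002000020000002022)
 (Net.cons (nat_lit 4) (nat_lit 0x8000000000000000400020004080808)
 (Net.cons (nat_lit 8) (nat_lit 0x880008008c005800e800b800200020)
 (Net.cons (nat_lit 16) (nat_lit 0x4840000095640000e0480000c860)
 (Net.cons (nat_lit 32) (nat_lit 0xa09c84000000000ae9c7400)
 (Net.cons (nat_lit 64) (nat_lit 0x800a0848a2808200)
 Net.nil)))))))))))))

noncomputable def ns_79 : Net :=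
 (Net.cons (nat_lit 64) (nat_lit 0x69eeb7d565f0b506)
 (Net.cons (nat_lit 32) (nat_lit 0x1bc28b0d000000006e5dc442)
 (Net.cons (nat_lit 16) (nat_lit 0xf8ac0000758c0000202a0000a983)
 (Net.cons (nat_lit 8) (nat_lit 0x600d600710057005a002000250047)
 (Net.cons (nat_lit 4) (nat_lit 0xd0801070a0d05040c0a000608070904)
 (Net.cons (nat_lit 2) (nat_lit 0x10021202213133220233000220100302)
 (Net.cons (nat_lit 1) (nat_lit 0x50404005115404410414440110100404)
 (Net.cons (nat_lit 2) (nat_lit 0x200202020002000000200002)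
 (Net.cons (nat_lit 4) (nat_lit 0xc0802060202040a000a000208060804)
 (Net.cons (nat_lit 8) (nat_lit 0x8400c000e000d600440068000600d6)
 (Net.cons (nat_lit 16) (nat_lit 0xf120000050c20000e8620000b900)
 (Net.cons (nat_lit 32) (nat_lit 0x3a68bd98000000007a5d8c40)
 (Net.cons (nat_lit 64) (nat_lit 0x69eeb7de25a06ec6)
 Net.nil)))))))))))))

noncomputable def ns_80 : Net :=
 (Net.cons (nat_lit 64) (nat_lit 0x8bb820dad0fef2b2)
 (Net.cons (nat_lit 32) (nat_lit 0xc19a018c0000000065e2b4a5)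
 (Net.cons (nat_lit 16) (nat_lit 0xeb7a00000689000069ca0000df71)
 (Net.cons (nat_lit 8) (nat_lit 0xc2003d0075003400d30023008a0082)
 (Net.cons (nat_lit 4) (nat_lit 0x6000d000a0c0e040608080a0b030a05)
 (Net.cons (nat_lit 2) (nat_lit 0x21000202133010322231002331232021)
 (Net.cons (nat_lit 1) (nat_lit 0x1001401514050144150144050115010)
 (Net.cons (nat_lit 2) (nat_lit 0x2020000202000002000020020)
 (Net.cons (nat_lit 4) (nat_lit 0x4000a000e0c02060e080a0c0a040e00)
 (Net.cons (nat_lit 8) (nat_lit 0xc200b6004000c800f200a600ea0094)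
 (Net.cons (nat_lit 16) (nat_lit 0xea6a00008ec400003ccc0000cd76)
 (Net.cons (nat_lit 32) (nat_lit 0xc032014c0000000001e6fda6)
 (Net.cons (nat_lit 64) (nat_lit 0x8bb820d56a4278b6)
 Net.nil)))))))))))))

noncomputable def ns_81 : Net :=
 (Net.cons (nat_lit 64) (nat_lit 0xeb1bd9052f5c09c5)
 (Net.cons (nat_lit 32) (nat_lit 0x8f1c86f800000000ea63540a)
 (Net.cons (nat_lit 16) (nat_lit 0x332d000089aa0000643a00001bb8)
 (Net.cons (nat_lit 8) (nat_lit 0xc6001600ea003f009e006600a00041)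
 (Net.cons (nat_lit 4) (nat_lit 0xf0f0f040d0102010c0000080a080106)
 (Net.cons (nat_lit 2) (nat_lit 0x10312203230003201203020201001030)
 (Net.cons (nat_lit 1) (nat_lit 0x40541440144141104410140504401011)
 (Net.cons (nat_lit 2) (nat_lit 0x20022000222022200200020000000020)
 (Net.cons (nat_lit 4) (nat_lit 0xe0a02080c0200000000000800080404)
 (Net.cons (nat_lit 8) (nat_lit 0xce001c00a0009e0004000000a800d4)
 (Net.cons (nat_lit 16) (nat_lit 0xbb3c000028a00000009c00001ad8)
 (Net.cons (nat_lit 32) (nat_lit 0x8416def400000000eea354ae)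
 (Net.cons (nat_lit 64) (nat_lit 0xeb1bd908e3d42540)
 Net.nil)))))))))))))

noncomputable def ns_82 : Net :=
 (Net.cons (nat_lit 64) (nat_lit 0x3824a82636981000)
 (Net.cons (nat_lit 32) (nat_lit 0x3c64102800000000ed2c5484)
 (Net.cons (nat_lit 16) (nat_lit 0xb8000000ca54000040840000b646)
 (Net.cons (nat_lit 8) (nat_lit 0xf0000800c8001200b4008a008100d8)
 (Net.cons (nat_lit 4) (nat_lit 0x408000006000a02080a08040c000408)
 (Net.cons (nat_lit 2) (nat_lit 0x20000002203222210200201000220000)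
 (Net.cons (nat_lit 1) (nat_lit 0x44141000140110005000140014140041)
 (Net.cons (nat_lit 2) (nat_lit 0x20000000200220000000200000220000)
 (Net.cons (nat_lit 4) (nat_lit 0x40800000400080008000c0408000008)
 (Net.cons (nat_lit 8) (nat_lit 0xf0000800c800b000b0008800800048)
 (Net.cons (nat_lit 16) (nat_lit 0x88000000ca54000040840000b446)
 (Net.cons (nat_lit 32) (nat_lit 0x3c64102000000000adac5084)
 (Net.cons (nat_lit 64) (nat_lit 0x3824a82636981000)
 Net.nil)))))))))))))

noncomputable def ns_83 : Net :=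
 (Net.cons (nat_lit 64) (nat_lit 0x118101050081004)
 (Net.cons (nat_lit 32) (nat_lit 0x7189210000000008bc42180)
 (Net.cons (nat_lit 16) (nat_lit 0x96000000752300002b8b00007684)
 (Net.cons (nat_lit 8) (nat_lit 0x80000c00c40088004e000500760084)
 (Net.cons (nat_lit 4) (nat_lit 0x20000000100000800000000000c0804)
 (Net.cons (nat_lit 2) (nat_lit 0x200201200022200020200022303002)
 (Net.cons (nat_lit 1) (nat_lit 0x10100000001011004545414114550104)
 (Net.cons (nat_lit 2) (nat_lit 0x200000000022000020200022000002)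
 (Net.cons (nat_lit 4) (nat_lit 0x20000000000000800000000000c0804)
 (Net.cons (nat_lit 8) (nat_lit 0x80000c008000880040000000760000)
 (Net.cons (nat_lit 16) (nat_lit 0x9600000075200000288800007684)
 (Net.cons (nat_lit 32) (nat_lit 0x71092000000000081c42080)
 (Net.cons (nat_lit 64) (nat_lit 0x118101050081004)
 Net.nil)))))))))))))

noncomputable def ns_84 : Net :=
 (Net.cons (nat_lit 64) (nat_lit 0x2131008b06f09080)
 (Net.cons (nat_lit 32) (nat_lit 0x31a2c000000000000d188002)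
 (Net.cons (nat_lit 16) (nat_lit 0xb00000007a300000000200008ba6)
 (Net.cons (nat_lit 8) (nat_lit 0x200070005c00e000140080008900c4)
 (Net.cons (nat_lit 4) (nat_lit 0xf0400000d0800080b07060e04)
 (Net.cons (nat_lit 2) (nat_lit 0x20200000030100311120003132010001)
 (Net.cons (nat_lit 1) (nat_lit 0x110055000040000010401411045450)
 (Net.cons (nat_lit 2) (nat_lit 0x200000000000000020002022000000)
 (Net.cons (nat_lit 4) (nat_lit 0x40000080000080408000204)
 (Net.cons (nat_lit 8) (nat_lit 0x200070004c00e00014008000c40040)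
 (Net.cons (nat_lit 16) (nat_lit 0xb000000072100000000000008ba4)
 (Net.cons (nat_lit 32) (nat_lit 0x31a2c000000000000d1a8020)
 (Net.cons (nat_lit 64) (nat_lit 0x2131008b06f09080)
 Net.nil)))))))))))))

noncomputable def ns_85 : Net :=
 (Net.cons (nat_lit 64) (nat_lit 0xd4d9d50006082100)
 (Net.cons (nat_lit 32) (nat_lit 0xca449400000000000a0265b2)
 (Net.cons (nat_lit 16) (nat_lit 0x40a0000582800004d280000041c)
 (Net.cons (nat_lit 8) (nat_lit 0x5e0004005a00c30026008200e50070)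
 (Net.cons (nat_lit 4) (nat_lit 0x60808000f0e0c0e020802010b0e0a02)
 (Net.cons (nat_lit 2) (nat_lit 0x30231202112002322122203121203023)
 (Net.cons (nat_lit 1) (nat_lit 0x54100101001510004004014155055405)
 (Net.cons (nat_lit 2) (nat_lit 0x200202002000002002002000000000)
 (Net.cons (nat_lit 4) (nat_lit 0x6080800000e080402080206040e0a02)
 (Net.cons (nat_lit 8) (nat_lit 0x5e0000005a00400026008200140060)
 (Net.cons (nat_lit 16) (nat_lit 0x40a000058280000452800001c0c)
 (Net.cons (nat_lit 32) (nat_lit 0x8a449400000000000a026510)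
 (Net.cons (nat_lit 64) (nat_lit 0xd4d9d50006082100)
 Net.nil)))))))))))))

noncomputable def ns_86 : Net :=
 (Net.cons (nat_lit 64) (nat_lit 0xd01b8c343f9960fc)
 (Net.cons (nat_lit 32) (nat_lit 0xb81c52640000000066eb0b8c)
 (Net.cons (nat_lit 16) (nat_lit 0xd64b00002a0c00007a8600004544)
 (Net.cons (nat_lit 8) (nat_lit 0x3800d0004100be001e00a2006000b6)
 (Net.cons (nat_lit 4) (nat_lit 0x603080a00000b0002080c0a06040400)
 (Net.cons (nat_lit 2) (nat_lit 0x10032002222322012101032221001001)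
 (Net.cons (nat_lit 1) (nat_lit 0x40011041114111014450040410404010)
 (Net.cons (nat_lit 2) (nat_lit 0x20002000022220002000000220002020)
 (Net.cons (nat_lit 4) (nat_lit 0x60608080800000000000c0808000608)
 (Net.cons (nat_lit 8) (nat_lit 0x7800c00058003c001c00a000240006)
 (Net.cons (nat_lit 16) (nat_lit 0x4e5800002a960000328c00006140)
 (Net.cons (nat_lit 32) (nat_lit 0xb81f567200000000664f0ac0)
 (Net.cons (nat_lit 64) (nat_lit 0xd01b8c348f9d70fc)
 Net.nil)))))))))))))

noncomputable def ns_87 : Net :=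
 (Net.cons (nat_lit 64) (nat_lit 0xc33caa399fe6bb95)
 (Net.cons (nat_lit 32) (nat_lit 0x98c533ab00000000140a808a)
 (Net.cons (nat_lit 16) (nat_lit 0x40290000cc4000004c8000001e17)
 (Net.cons (nat_lit 8) (nat_lit 0x4600e8000c00640094004b00540010)
 (Net.cons (nat_lit 4) (nat_lit 0xc0102090000020d0009000800030408)
 (Net.cons (nat_lit 2) (nat_lit 0x2220233013200112021320110101012)
 (Net.cons (nat_lit 1) (nat_lit 0x41111111414000404011140054511044)
 (Net.cons (nat_lit 2) (nat_lit 0x2200222202000200020200000000002)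
 (Net.cons (nat_lit 4) (nat_lit 0x8080200000000080008000000040602)
 (Net.cons (nat_lit 8) (nat_lit 0x460048000400620094004200920040)
 (Net.cons (nat_lit 16) (nat_lit 0x50080000ac4000004c8a000000d6)
 (Net.cons (nat_lit 32) (nat_lit 0x58c5b3aa00000000288ac008)
 (Net.cons (nat_lit 64) (nat_lit 0xc33caa39dfe7ba94)
 Net.nil)))))))))))))

noncomputable def ns_88 : Net :=
 (Net.cons (nat_lit 64) (nat_lit 0xa51f079ddf10f944)
 (Net.cons (nat_lit 32) (nat_lit 0x1aec78ce000000005e46c412)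
 (Net.cons (nat_lit 16) (nat_lit 0xa65000005340000425400004abe)
 (Net.cons (nat_lit 8) (nat_lit 0xc200b90085000500e800d400f000f2)
 (Net.cons (nat_lit 4) (nat_lit 0xd000202000c080a000c0c07000d0102)
 (Net.cons (nat_lit 2) (nat_lit 0x33231003003002203022002102201002)
 (Net.cons (nat_lit 1) (nat_lit 0x45114104001101101014400400055010)
 (Net.cons (nat_lit 2) (nat_lit 0x20220000000200000022200000000000)
 (Net.cons (nat_lit 4) (nat_lit 0x8080806000e080a040c0c0e000a0002)
 (Net.cons (nat_lit 8) (nat_lit 0xd400aa00a4000200a8009200d80082)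
 (Net.cons (nat_lit 16) (nat_lit 0x34b0000080200000121400005096)
 (Net.cons (nat_lit 32) (nat_lit 0xbeff7c46000000005cc68452)
 (Net.cons (nat_lit 64) (nat_lit 0xa51f079f7d595028)
 Net.nil)))))))))))))

noncomputable def ns_89 : Net :=
 (Net.cons (nat_lit 64) (nat_lit 0x5bb994426338f40a)
 (Net.cons (nat_lit 32) (nat_lit 0xec0874e700000000f8f189b5)
 (Net.cons (nat_lit 16) (nat_lit 0x11860000c351000078d00000e426)
 (Net.cons (nat_lit 8) (nat_lit 0xbc00910078005300de007900660090)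
 (Net.cons (nat_lit 4) (nat_lit 0xe00000f0b050700040e010f020a000c)
 (Net.cons (nat_lit 2) (nat_lit 0x20020103320002123002122300222101)
 (Net.cons (nat_lit 1) (nat_lit 0x154001514111041005001400041441)
 (Net.cons (nat_lit 2) (nat_lit 0x202000000202000000002000020000)
 (Net.cons (nat_lit 4) (nat_lit 0x800060004020006020002000c0008)
 (Net.cons (nat_lit 8) (nat_lit 0x88005000fa001000fa00d800640006)
 (Net.cons (nat_lit 16) (nat_lit 0x618e0000c300000070e60000c220)
 (Net.cons (nat_lit 32) (nat_lit 0xa4b1f0aa00000000fcf7a328)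
 (Net.cons (nat_lit 64) (nat_lit 0x5bb99441675ead94)
 Net.nil)))))))))))))

noncomputable def ns_90 : Net :=
 (Net.cons (nat_lit 64) (nat_lit 0xd0421013308c510)
 (Net.cons (nat_lit 32) (nat_lit 0x8446300000000000f0ad4c64)
 (Net.cons (nat_lit 16) (nat_lit 0x9842000025c0000050f80000e1b2)
 (Net.cons (nat_lit 8) (nat_lit 0x4800480060000000dc00400000)
 (Net.cons (nat_lit 4) (nat_lit 0x10008000500000d00030006020a0a01)
 (Net.cons (nat_lit 2) (nat_lit 0x200112023200000200130102000)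
 (Net.cons (nat_lit 1) (nat_lit 0x4104004405004044105051011040)
 (Net.cons (nat_lit 2) (nat_lit 0x200002000000000200000002000)
 (Net.cons (nat_lit 4) (nat_lit 0x800000000080000000602020800)
 (Net.cons (nat_lit 8) (nat_lit 0x4800480060000000d400400000)
 (Net.cons (nat_lit 16) (nat_lit 0x984000002540000050f80000e1b0)
 (Net.cons (nat_lit 32) (nat_lit 0x8446100000000000f08d4c60)
 (Net.cons (nat_lit 64) (nat_lit 0xd0421013308c510)
 Net.nil)))))))))))))

noncomputable def ns_91 : Net :=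
 (Net.cons (nat_lit 64) (nat_lit 0xd01b8c348f9d70fc)
 (Net.cons (nat_lit 32) (nat_lit 0x991b0e3600000000664f0ac0)
 (Net.cons (nat_lit 16) (nat_lit 0x953200002296000059420000faac)
 (Net.cons (nat_lit 8) (nat_lit 0x8c009600a0002600dd000c00300025)
 (Net.cons (nat_lit 4) (nat_lit 0x809000300080b0a0a010000040c0a02)
 (Net.cons (nat_lit 2) (nat_lit 0x210100200232032313230020302101)
 (Net.cons (nat_lit 1) (nat_lit 0x40110410401141140114414000101050)
 (Net.cons (nat_lit 2) (nat_lit 0x220020202202220002220000202000)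
 (Net.cons (nat_lit 4) (nat_lit 0x80a0002000004080202020800040004)
 (Net.cons (nat_lit 8) (nat_lit 0x8c008600b000c200d8000e00300020)
 (Net.cons (nat_lit 16) (nat_lit 0x95300000220c000011480000dea8)
 (Net.cons (nat_lit 32) (nat_lit 0x99180a200000000066eb0b8c)
 (Net.cons (nat_lit 64) (nat_lit 0xd01b8c343f9960fc)
 Net.nil)))))))))))))

noncomputable def ns_92 : Net :=
 (Net.cons (nat_lit 64) (nat_lit 0x801ae2450356a8d)
 (Net.cons (nat_lit 32) (nat_lit 0x4a342ece000000009fabd35f)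
 (Net.cons (nat_lit 16) (nat_lit 0x2c270000209b000051850000d868)
 (Net.cons (nat_lit 8) (nat_lit 0x24008200280044007700160090006c)
 (Net.cons (nat_lit 4) (nat_lit 0x200000e04020b080b0101030a000d05)
 (Net.cons (nat_lit 2) (nat_lit 0x20000023100022010121011003123102)
 (Net.cons (nat_lit 1) (nat_lit 0x40110005400111401551401041041454)
 (Net.cons (nat_lit 2) (nat_lit 0x20000000000220202002000000022002)
 (Net.cons (nat_lit 4) (nat_lit 0x40000060c0208000002000204020c00)
 (Net.cons (nat_lit 8) (nat_lit 0x22000200380068005e00c400ec0088)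
 (Net.cons (nat_lit 16) (nat_lit 0x2402000028980000501000008dc4)
 (Net.cons (nat_lit 32) (nat_lit 0x4234acec00000000d9b7d296)
 (Net.cons (nat_lit 64) (nat_lit 0x801ae21bec98418)
 Net.nil)))))))))))))

noncomputable def ns_93 : Net :=
 (Net.cons (nat_lit 64) (nat_lit 0xe1ab92f9911b11b1)
 (Net.cons (nat_lit 32) (nat_lit 0xc11d57b500000000efba2216)
 (Net.cons (nat_lit 16) (nat_lit 0x62880000f2220000419c00002a90)
 (Net.cons (nat_lit 8) (nat_lit 0x55007c00ab00b200a6006100000079)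
 (Net.cons (nat_lit 4) (nat_lit 0x10e0e0307000a050500000d04040b01)
 (Net.cons (nat_lit 2) (nat_lit 0x21031112020222211120011220010303)
 (Net.cons (nat_lit 1) (nat_lit 0x11014544404150151414044540401101)
 (Net.cons (nat_lit 2) (nat_lit 0x20000022002200200200020020002000)
 (Net.cons (nat_lit 4) (nat_lit 0x402000c0802040608000204040800)
 (Net.cons (nat_lit 8) (nat_lit 0x5600ec00a000080098006a00000020)
 (Net.cons (nat_lit 16) (nat_lit 0x62b6000072600000278200003290)
 (Net.cons (nat_lit 32) (nat_lit 0x2094d72e00000000f5be6a18)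
 (Net.cons (nat_lit 64) (nat_lit 0xe1ab92f030315798)
 Net.nil)))))))))))))

noncomputable def ns_94 : Net :=
 (Net.cons (nat_lit 64) (nat_lit 0x38259636908e6736)
 (Net.cons (nat_lit 32) (nat_lit 0xc0015b6000000000f3735459)
 (Net.cons (nat_lit 16) (nat_lit 0x7d3700000b110000211e0000e4fe)
 (Net.cons (nat_lit 8) (nat_lit 0x9b0040005a008400160069000a009f)
 (Net.cons (nat_lit 4) (nat_lit 0x40e080e0c0909060009080e0e000f08)
 (Net.cons (nat_lit 2) (nat_lit 0x1101203020021322032102101221002)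
 (Net.cons (nat_lit 1) (nat_lit 0x1414044541111501150401504044405)
 (Net.cons (nat_lit 2) (nat_lit 0x20002020200002000000000002000)
 (Net.cons (nat_lit 4) (nat_lit 0x406000e0808000c00020c0e04000200)
 (Net.cons (nat_lit 8) (nat_lit 0x8e0068004e003a00620020000000d0)
 (Net.cons (nat_lit 16) (nat_lit 0x6d3200000b200000158400002e72)
 (Net.cons (nat_lit 32) (nat_lit 0xf0204d600000000030297d1c)
 (Net.cons (nat_lit 64) (nat_lit 0x382596305ba0809a)
 Net.nil)))))))))))))

noncomputable def ns_95 : Net :=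
 (Net.cons (nat_lit 64) (nat_lit 0x113e1e78016000)
 (Net.cons (nat_lit 32) (nat_lit 0x482900a0000000082661304)
 (Net.cons (nat_lit 16) (nat_lit 0xa00600001f2800005228000082b8)
 (Net.cons (nat_lit 8) (nat_lit 0x84001e0044001800d6006800310048)
 (Net.cons (nat_lit 4) (nat_lit 0x1000800000e00000c040603)
 (Net.cons (nat_lit 2) (nat_lit 0x20200001200220202330000020100211)
 (Net.cons (nat_lit 1) (nat_lit 0x110000401110154054110010004514)
 (Net.cons (nat_lit 2) (nat_lit 0x200000200220202000020020002022)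
 (Net.cons (nat_lit 4) (nat_lit 0x800000e00000804080c)
 (Net.cons (nat_lit 8) (nat_lit 0x8000040040001800d6002800100048)
 (Net.cons (nat_lit 16) (nat_lit 0xa00600001d2800005228000082b8)
 (Net.cons (nat_lit 32) (nat_lit 0x482900a00000000806e1204)
 (Net.cons (nat_lit 64) (nat_lit 0x113e1e78016000)
 Net.nil)))))))))))))

noncomputable def ns_96 : Net :=
 (Net.cons (nat_lit 64) (nat_lit 0xa8002a5c496c2880)
 (Net.cons (nat_lit 32) (nat_lit 0xc90a11000000007e445030)
 (Net.cons (nat_lit 16) (nat_lit 0x8a44000032a0000010280000d450)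
 (Net.cons (nat_lit 8) (nat_lit 0x8000d000c2003c0064009200800014)
 (Net.cons (nat_lit 4) (nat_lit 0x808080a0007040a0c010c0c040e08)
 (Net.cons (nat_lit 2) (nat_lit 0x22013000230031203220023002030323)
 (Net.cons (nat_lit 1) (nat_lit 0x405000105041400400440000001005)
 (Net.cons (nat_lit 2) (nat_lit 0x200020200200020000000000)
 (Net.cons (nat_lit 4) (nat_lit 0x808000a0000040a08000c08040e08)
 (Net.cons (nat_lit 8) (nat_lit 0x8000d000c000340064009200800014)
 (Net.cons (nat_lit 16) (nat_lit 0x8a44000032a0000010280000c450)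
 (Net.cons (nat_lit 32) (nat_lit 0xc90a10000000007e445030)
 (Net.cons (nat_lit 64) (nat_lit 0xa8002a5c496c2880)
 Net.nil)))))))))))))

noncomputable def ns_97 : Net :=
 (Net.cons (nat_lit 64) (nat_lit 0x20a2012162d9813f)
 (Net.cons (nat_lit 32) (nat_lit 0x20c8230c00000000aee10d4b)
 (Net.cons (nat_lit 16) (nat_lit 0x3020000553300004e2900001c0d)
 (Net.cons (nat_lit 8) (nat_lit 0xaa000000d40064000e002a001500f8)
 (Net.cons (nat_lit 4) (nat_lit 0x20200080b080c0900040b0a080a0409)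
 (Net.cons (nat_lit 2) (nat_lit 0x200020023130012201002212011222)
 (Net.cons (nat_lit 1) (nat_lit 0x1400001144500444101411444101414)
 (Net.cons (nat_lit 2) (nat_lit 0x2200000222000000200002200202200)
 (Net.cons (nat_lit 4) (nat_lit 0xa0000080a0e0c0004000a0c040a0402)
 (Net.cons (nat_lit 8) (nat_lit 0xaa0000005000e00082006c000c0054)
 (Net.cons (nat_lit 16) (nat_lit 0x2302000095b000003c2c00008e12)
 (Net.cons (nat_lit 32) (nat_lit 0xc8230c00000000e2f00510)
 (Net.cons (nat_lit 64) (nat_lit 0x20a20129569b953c)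
 Net.nil)))))))))))))

noncomputable def ns_98 : Net :=
 (Net.cons (nat_lit 64) (nat_lit 0x51605083f280300)
 (Net.cons (nat_lit 32) (nat_lit 0x27f0280000000000228f9280)
 (Net.cons (nat_lit 16) (nat_lit 0x18000004000000090520000d5e1)
 (Net.cons (nat_lit 8) (nat_lit 0x400a8000400030004003800620095)
 (Net.cons (nat_lit 4) (nat_lit 0x4060402000000000e08000508010f02)
 (Net.cons (nat_lit 2) (nat_lit 0x20000200020300000230002200202030)
 (Net.cons (nat_lit 1) (nat_lit 0x41004105010001055051404040511151)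
 (Net.cons (nat_lit 2) (nat_lit 0x20000200020000000000002020020200)
 (Net.cons (nat_lit 4) (nat_lit 0x4000402000000000e08000400080a0a)
 (Net.cons (nat_lit 8) (nat_lit 0x400a80004000000040038008a00ac)
 (Net.cons (nat_lit 16) (nat_lit 0x180000000000000905200005358)
 (Net.cons (nat_lit 32) (nat_lit 0x27e0280000000000228f9280)
 (Net.cons (nat_lit 64) (nat_lit 0x51605083f280300)
 Net.nil)))))))))))))

noncomputable def ns_99 : Net :=
 (Net.cons (nat_lit 64) (nat_lit 0xd9181465b9bbf086)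
 (Net.cons (nat_lit 32) (nat_lit 0xd73f5029000000009954b9ef)
 (Net.cons (nat_lit 16) (nat_lit 0xc4a000049080000f3790000899c)
 (Net.cons (nat_lit 8) (nat_lit 0x24005e00b800c1003000aa00090024)
 (Net.cons (nat_lit 4) (nat_lit 0x40200050808060b0f080203040a040a)
 (Net.cons (nat_lit 2) (nat_lit 0x20230221022010330033202023200001)
 (Net.cons (nat_lit 1) (nat_lit 0x41410044011004141041111401150004)
 (Net.cons (nat_lit 2) (nat_lit 0x20220020020002002002000200000002)
 (Net.cons (nat_lit 4) (nat_lit 0x200040800020a0802000404080008)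
 (Net.cons (nat_lit 8) (nat_lit 0x60005a00a8006c009c000800200020)
 (Net.cons (nat_lit 16) (nat_lit 0x86e000069180000608c00008b90)
 (Net.cons (nat_lit 32) (nat_lit 0x9e3f502a00000000995479f8)
 (Net.cons (nat_lit 64) (nat_lit 0xd9181464da917014)
 Net.nil)))))))))))))

noncomputable def ns_100 : Net :=
 (Net.cons (nat_lit 64) (nat_lit 0xb397ec1daf60ceee)
 (Net.cons (nat_lit 32) (nat_lit 0x4b1dab8d000000006b0b7214)
 (Net.cons (nat_lit 16) (nat_lit 0x4e160000e87700001da30000408c)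
 (Net.cons (nat_lit 8) (nat_lit 0x6f001900f300840060006c00d8008a)
 (Net.cons (nat_lit 4) (nat_lit 0xd0c080804060004010e0605000c0000)
 (Net.cons (nat_lit 2) (nat_lit 0x10123000023300120023010110200221)
 (Net.cons (nat_lit 1) (nat_lit 0x41115005451400510101010400404104)
 (Net.cons (nat_lit 2) (nat_lit 0x200000000200000002000200000000)
 (Net.cons (nat_lit 4) (nat_lit 0xc0000080200000a00040600040c0000)
 (Net.cons (nat_lit 8) (nat_lit 0xf60018002000940060004c00500088)
 (Net.cons (nat_lit 16) (nat_lit 0x71c0000584000001da000004888)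
 (Net.cons (nat_lit 32) (nat_lit 0x5b9c6384000000006b0b7210)
 (Net.cons (nat_lit 64) (nat_lit 0xb397ec1de12a8eee)
 Net.nil)))))))))))))

noncomputable def ns_101 : Net :=
 (Net.cons (nat_lit 64) (nat_lit 0x346ba733f444b02)
 (Net.cons (nat_lit 32) (nat_lit 0x153f5d6f0000000072aa6f96)
 (Net.cons (nat_lit 16) (nat_lit 0xfd37000073aa0000cb0500004428)
 (Net.cons (nat_lit 8) (nat_lit 0x84001f007a00900094001800d10070)
 (Net.cons (nat_lit 4) (nat_lit 0x3060103040202020f070e0008000005)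
 (Net.cons (nat_lit 2) (nat_lit 0x1130310202030210332120020102103)
 (Net.cons (nat_lit 1) (nat_lit 0x11410001041411401140140104004045)
 (Net.cons (nat_lit 2) (nat_lit 0x2220000002002202220000200002000)
 (Net.cons (nat_lit 4) (nat_lit 0x2000404000206020408000400000c)
 (Net.cons (nat_lit 8) (nat_lit 0xc0001a00f800d00088001800f80070)
 (Net.cons (nat_lit 16) (nat_lit 0xec7a000051ac0000c70400005140)
 (Net.cons (nat_lit 32) (nat_lit 0x157b77340000000072a22f9a)
 (Net.cons (nat_lit 64) (nat_lit 0x346ba732b0f410a)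
 Net.nil)))))))))))))

noncomputable def ns_102 : Net :=
 (Net.cons (nat_lit 64) (nat_lit 0x845e4a0e1d346326)
 (Net.cons (nat_lit 32) (nat_lit 0xe8ec4a05000000001ee09604)
 (Net.cons (nat_lit 16) (nat_lit 0x2cc40000ce2800001da1000034d3)
 (Net.cons (nat_lit 8) (nat_lit 0x60004800dc009500a3007900ab0080)
 (Net.cons (nat_lit 4) (nat_lit 0x8040004080700040804070301070009)
 (Net.cons (nat_lit 2) (nat_lit 0x20102202100301020003130010213021)
 (Net.cons (nat_lit 1) (nat_lit 0x4005401001411404440541405010)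
 (Net.cons (nat_lit 2) (nat_lit 0x2000002000020002200000000000)
 (Net.cons (nat_lit 4) (nat_lit 0x800040c0c040204080608020e020802)
 (Net.cons (nat_lit 8) (nat_lit 0x60000a008c00840082005c00340080)
 (Net.cons (nat_lit 16) (nat_lit 0x2cc800004f20000038c000007ce8)
 (Net.cons (nat_lit 32) (nat_lit 0xece2000e0000000004c12230)
 (Net.cons (nat_lit 64) (nat_lit 0x845e4a0f545e8b08)
 Net.nil)))))))))))))

noncomputable def ns_103 : Net :=
 (Net.cons (nat_lit 64) (nat_lit 0x9abebe47ca2f3bca)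
 (Net.cons (nat_lit 32) (nat_lit 0x9fe216f10000000040743db3)
 (Net.cons (nat_lit 16) (nat_lit 0x34900000c5a800005cf8000014c8)
 (Net.cons (nat_lit 8) (nat_lit 0x6c008600a1006a00310004000800d3)
 (Net.cons (nat_lit 4) (nat_lit 0x200060a070b0c0a0900000200060806)
 (Net.cons (nat_lit 2) (nat_lit 0x11221032100102012000211202210101)
 (Net.cons (nat_lit 1) (nat_lit 0x41045041141414045014401441040114)
 (Net.cons (nat_lit 2) (nat_lit 0x22020020000022020020200200000200)
 (Net.cons (nat_lit 4) (nat_lit 0x408060c020804060c0804000206080e)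
 (Net.cons (nat_lit 8) (nat_lit 0x5a008400a000800038000000c80052)
 (Net.cons (nat_lit 16) (nat_lit 0x20600000b5a000005cfc00009448)
 (Net.cons (nat_lit 32) (nat_lit 0x1dd89ab40000000005757c82)
 (Net.cons (nat_lit 64) (nat_lit 0x9abebe474c70370c)
 Net.nil)))))))))))))

noncomputable def ns_104 : Net :=
 (Net.cons (nat_lit 64) (nat_lit 0xef39b7b945d4cfee)
 (Net.cons (nat_lit 32) (nat_lit 0xe702202500000000e97dddba)
 (Net.cons (nat_lit 16) (nat_lit 0xd6ac00005fa90000294900007044)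
 (Net.cons (nat_lit 8) (nat_lit 0xa007500030019001f000e00200048)
 (Net.cons (nat_lit 4) (nat_lit 0x20c00040c020b020303040c00000a00)
 (Net.cons (nat_lit 2) (nat_lit 0x2020021010121122122213002203003)
 (Net.cons (nat_lit 1) (nat_lit 0x14511044445104014410401404401004)
 (Net.cons (nat_lit 2) (nat_lit 0x22020000000002020000002000000)
 (Net.cons (nat_lit 4) (nat_lit 0x20c00020808040606020a0404040a00)
 (Net.cons (nat_lit 8) (nat_lit 0xb0005400ea00f6004e000600600048)
 (Net.cons (nat_lit 16) (nat_lit 0x7186000000640000f99800007046)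
 (Net.cons (nat_lit 32) (nat_lit 0xc533113c00000000e9fb9df8)
 (Net.cons (nat_lit 64) (nat_lit 0xef39b7bb4c302b1e)
 Net.nil)))))))))))))

noncomputable def ns_105 : Net :=
 (Net.cons (nat_lit 64) (nat_lit 0x22847dea694f397c)
 (Net.cons (nat_lit 32) (nat_lit 0x89801de800000000b4064964)
 (Net.cons (nat_lit 16) (nat_lit 0x2a040000763c0000087c00001666)
 (Net.cons (nat_lit 8) (nat_lit 0x680010001d007e0026001900bc)
 (Net.cons (nat_lit 4) (nat_lit 0x80408040f0f0503060c080504080f)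
 (Net.cons (nat_lit 2) (nat_lit 0x2002102001203131203030033302010)
 (Net.cons (nat_lit 1) (nat_lit 0x1044444005111150401044014101004)
 (Net.cons (nat_lit 2) (nat_lit 0x2002020000002000000000020202002)
 (Net.cons (nat_lit 4) (nat_lit 0x806080004000000020a080804080c)
 (Net.cons (nat_lit 8) (nat_lit 0x80000800100040005200660088009c)
 (Net.cons (nat_lit 16) (nat_lit 0x304000076bc0000887c000014e4)
 (Net.cons (nat_lit 32) (nat_lit 0xab8040e800000000b46ec966)
 (Net.cons (nat_lit 64) (nat_lit 0x22847dea6b47fc6c)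
 Net.nil)))))))))))))

noncomputable def ns_106 : Net :=
 (Net.cons (nat_lit 64) (nat_lit 0xff00003bff03ff)
 (Net.cons (nat_lit 32) (nat_lit 0x5a7466780000000000000000)
 (Net.cons (nat_lit 16) (nat_lit 0x4ef600000c7800000000000042fb)
 (Net.cons (nat_lit 8) (nat_lit 0x220092000c002e000000000007009b)
 (Net.cons (nat_lit 4) (nat_lit 0x4050a0008080e0009000b030d010500)
 (Net.cons (nat_lit 2) (nat_lit 0x123222230030010200300123323232)
 (Net.cons (nat_lit 1) (nat_lit 0x10045040010011401400411101544145)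
 (Net.cons (nat_lit 2) (nat_lit 0x20020020000000002002020020)
 (Net.cons (nat_lit 4) (nat_lit 0x40204000004000800080006080e00)
 (Net.cons (nat_lit 8) (nat_lit 0x360090008400ba00000000000a0054)
 (Net.cons (nat_lit 16) (nat_lit 0xee600000cf4000000000000fb0a)
 (Net.cons (nat_lit 32) (nat_lit 0x5ae466780000000000000000)
 (Net.cons (nat_lit 64) (nat_lit 0xff000000ffff42)
 Net.nil)))))))))))))

noncomputable def ns_107 : Net :=
 (Net.cons (nat_lit 64) (nat_lit 0x53e08302d7e23cd6)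
 (Net.cons (nat_lit 32) (nat_lit 0x13091bab000000009c498df3)
 (Net.cons (nat_lit 16) (nat_lit 0x990f00001bcc0000e4cd00008cd8)
 (Net.cons (nat_lit 8) (nat_lit 0x220081000c001d0032006d00ce0064)
 (Net.cons (nat_lit 4) (nat_lit 0x10a030800000d040403000006030a06)
 (Net.cons (nat_lit 2) (nat_lit 0x10012020210202130232100300010223)
 (Net.cons (nat_lit 1) (nat_lit 0x51401000440400014414100004110441)
 (Net.cons (nat_lit 2) (nat_lit 0x2200000200200020220200002000200)
 (Net.cons (nat_lit 4) (nat_lit 0x2020806000800000608000804000c)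
 (Net.cons (nat_lit 8) (nat_lit 0xa80080002800d8007e0068008c0042)
 (Net.cons (nat_lit 16) (nat_lit 0x98a6000019c8000070880000c07c)
 (Net.cons (nat_lit 32) (nat_lit 0x50c919a000000000984ae9d8)
 (Net.cons (nat_lit 64) (nat_lit 0x53e08304ffc53cd8)
 Net.nil)))))))))))))

noncomputable def ns_108 : Net :=
 (Net.cons (nat_lit 64) (nat_lit 0x68b3d5fe595368c8)
 (Net.cons (nat_lit 32) (nat_lit 0x42293d710000000035000221)
 (Net.cons (nat_lit 16) (nat_lit 0xf4d0000da9200003d2e0000514b)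
 (Net.cons (nat_lit 8) (nat_lit 0xb0008200b30098002c003700fe007b)
 (Net.cons (nat_lit 4) (nat_lit 0x4060e0200060804000200070c050209)
 (Net.cons (nat_lit 2) (nat_lit 0x2232222103320220020012233132100)
 (Net.cons (nat_lit 1) (nat_lit 0x51441400101414050440004141004041)
 (Net.cons (nat_lit 2) (nat_lit 0x2200200200220000220002200000020)
 (Net.cons (nat_lit 4) (nat_lit 0xc0206000206040a0000000408000208)
 (Net.cons (nat_lit 8) (nat_lit 0xbc000000d0004000040032006a007a)
 (Net.cons (nat_lit 16) (nat_lit 0x674e00000e9400003f2a000045c0)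
 (Net.cons (nat_lit 32) (nat_lit 0x6aa9286600000000264c022e)
 (Net.cons (nat_lit 64) (nat_lit 0x68b3d5febfdd4520)
 Net.nil)))))))))))))

noncomputable def ns_109 : Net :=
 (Net.cons (nat_lit 64) (nat_lit 0x7d22f72052865a54)
 (Net.cons (nat_lit 32) (nat_lit 0x9a86c2c900000000a5a24f19)
 (Net.cons (nat_lit 16) (nat_lit 0x13c600001028000009da0000e0d7)
 (Net.cons (nat_lit 8) (nat_lit 0x3a000f0039002c002c00d200000058)
 (Net.cons (nat_lit 4) (nat_lit 0xc00080e0c0003060a0a0d020a010805)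
 (Net.cons (nat_lit 2) (nat_lit 0x23300122301031300310132120101023)
 (Net.cons (nat_lit 1) (nat_lit 0x40541040101015400414054400044001)
 (Net.cons (nat_lit 2) (nat_lit 0x20022020200020200020002000000002)
 (Net.cons (nat_lit 4) (nat_lit 0xa000a0c0c0200040204080208040004)
 (Net.cons (nat_lit 8) (nat_lit 0xb8002c0068001a0084009000020008)
 (Net.cons (nat_lit 16) (nat_lit 0x55640000452000000dc200006096)
 (Net.cons (nat_lit 32) (nat_lit 0xc6a4a5c40000000025ba4f02)
 (Net.cons (nat_lit 64) (nat_lit 0x7d22f7207bd56e56)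
 Net.nil)))))))))))))

noncomputable def ns_110 : Net :=
 (Net.cons (nat_lit 64) (nat_lit 0x5ca1009badfd1700)
 (Net.cons (nat_lit 32) (nat_lit 0x945169cb00000000f873946f)
 (Net.cons (nat_lit 16) (nat_lit 0x21c300003caf0000ef0800009106)
 (Net.cons (nat_lit 8) (nat_lit 0x6800c000ad00340061001200e6008c)
 (Net.cons (nat_lit 4) (nat_lit 0xf0700090e00080e030d0a0702020200)
 (Net.cons (nat_lit 2) (nat_lit 0x1020030300100302122001201220331)
 (Net.cons (nat_lit 1) (nat_lit 0x4154010040110411504000050100154)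
 (Net.cons (nat_lit 2) (nat_lit 0x2200020000020000002000000200202)
 (Net.cons (nat_lit 4) (nat_lit 0xe0c000804000804080c0004060a0000)
 (Net.cons (nat_lit 8) (nat_lit 0x8800c000ae00000042001800f200ca)
 (Net.cons (nat_lit 16) (nat_lit 0x2952000028840000ad200000b20e)
 (Net.cons (nat_lit 32) (nat_lit 0x9c5069d800000000da619628)
 (Net.cons (nat_lit 64) (nat_lit 0x5ca10091ef400304)
 Net.nil)))))))))))))

noncomputable def ns_111 : Net :=
 (Net.cons (nat_lit 64) (nat_lit 0x5630fc7942cad403)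
 (Net.cons (nat_lit 32) (nat_lit 0xde414289000000004b495f7c)
 (Net.cons (nat_lit 16) (nat_lit 0x20b8000023000000ca6900003945)
 (Net.cons (nat_lit 8) (nat_lit 0xa800dc00d00009000c004700350003)
 (Net.cons (nat_lit 4) (nat_lit 0x5060c0c0008000200040e02020308)
 (Net.cons (nat_lit 2) (nat_lit 0x22201012121003132122303023000201)
 (Net.cons (nat_lit 1) (nat_lit 0x14041044011040014441110414010141)
 (Net.cons (nat_lit 2) (nat_lit 0x2000002020020002000200022020000)
 (Net.cons (nat_lit 4) (nat_lit 0x20c06060c02060006000406020a0008)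
 (Net.cons (nat_lit 8) (nat_lit 0x8000c800f00014002c004000140000)
 (Net.cons (nat_lit 16) (nat_lit 0xfce8000027020000c26800001840)
 (Net.cons (nat_lit 32) (nat_lit 0x9c4122820000000042405c7c)
 (Net.cons (nat_lit 64) (nat_lit 0x5630fc7d10ebae1a)
 Net.nil)))))))))))))

noncomputable def ns_112 : Net :=
 (Net.cons (nat_lit 64) (nat_lit 0x7d9231b8f11fa98)
 (Net.cons (nat_lit 32) (nat_lit 0x2df42c2600000000b2000ffc)
 (Net.cons (nat_lit 16) (nat_lit 0x29cd0000928400009edc0000682d)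
 (Net.cons (nat_lit 8) (nat_lit 0x22008d005100d10006000700b60004)
 (Net.cons (nat_lit 4) (nat_lit 0x207080b0c040d0f0e0203020b0a0202)
 (Net.cons (nat_lit 2) (nat_lit 0x1122222031001000232030032231201)
 (Net.cons (nat_lit 1) (nat_lit 0x1010114010404144414510050140400)
 (Net.cons (nat_lit 2) (nat_lit 0x20222020000202220020000200200)
 (Net.cons (nat_lit 4) (nat_lit 0x204020c0c000c06080606000e020600)
 (Net.cons (nat_lit 8) (nat_lit 0x220082001400800050000600020004)
 (Net.cons (nat_lit 16) (nat_lit 0x5ec000041d40000d6da00000828)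
 (Net.cons (nat_lit 32) (nat_lit 0x2fe50e340000000092205f5c)
 (Net.cons (nat_lit 64) (nat_lit 0x7d92317eea0a6ca)
 Net.nil)))))))))))))

noncomputable def ns_113 : Net :=
 (Net.cons (nat_lit 64) (nat_lit 0x78ba01df40ab0122)
 (Net.cons (nat_lit 32) (nat_lit 0x87f1248600000000d8d7df37)
 (Net.cons (nat_lit 16) (nat_lit 0x2a030000f0360000eea60000cd87)
 (Net.cons (nat_lit 8) (nat_lit 0xc1000d00400078003300000028008a)
 (Net.cons (nat_lit 4) (nat_lit 0x50c000008060f0f0a050d0a0800030c)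
 (Net.cons (nat_lit 2) (nat_lit 0x1030223201222013132010022200002)
 (Net.cons (nat_lit 1) (nat_lit 0x10510101014141144401444010101)
 (Net.cons (nat_lit 2) (nat_lit 0x20202002222022000020020200)
 (Net.cons (nat_lit 4) (nat_lit 0xe000808080e040800000200080208)
 (Net.cons (nat_lit 8) (nat_lit 0xe0000600d80062006000160088008a)
 (Net.cons (nat_lit 16) (nat_lit 0x2f080000e03c0000a1b400006b8a)
 (Net.cons (nat_lit 32) (nat_lit 0xa7e924cc00000000dad7433c)
 (Net.cons (nat_lit 64) (nat_lit 0x78ba01dff99078a8)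
 Net.nil)))))))))))))

noncomputable def ns_114 : Net :=
 (Net.cons (nat_lit 64) (nat_lit 0x5ef905fd5100e808)
 (Net.cons (nat_lit 32) (nat_lit 0xd01b3020000000003a2909b1)
 (Net.cons (nat_lit 16) (nat_lit 0xda48000009bc000059380000e056)
 (Net.cons (nat_lit 8) (nat_lit 0x540037001500830051002b00400074)
 (Net.cons (nat_lit 4) (nat_lit 0x10f09040704000b0d09080a00040e)
 (Net.cons (nat_lit 2) (nat_lit 0x10211230233202222020022202001213)
 (Net.cons (nat_lit 1) (nat_lit 0x105055401404510101100405000454)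
 (Net.cons (nat_lit 2) (nat_lit 0x202202020000000000000202)
 (Net.cons (nat_lit 4) (nat_lit 0x20408020a040c000800000e00000e)
 (Net.cons (nat_lit 8) (nat_lit 0x540044002000000040008800440062)
 (Net.cons (nat_lit 16) (nat_lit 0xdeda000004e80000f8380000e456)
 (Net.cons (nat_lit 32) (nat_lit 0x8c7231c4000000001a29cbb4)
 (Net.cons (nat_lit 64) (nat_lit 0x5ef905f140204818)
 Net.nil)))))))))))))

noncomputable def ns : List Net := [Spor.ModelJ2.ns_0, Spor.ModelJ2.ns_1, ns_2, ns_3, ns_4, ns_5, ns_6, ns_7, ns_8, ns_9, ns_10, ns_11, ns_12, ns_13, ns_14, ns_15, ns_16, ns_17, ns_18, ns_19, ns_20, ns_21, ns_22, ns_23, ns_24, ns_25, ns_26, ns_27, ns_28, ns_29, ns_30, ns_31, ns_32, ns_33, ns_34, ns_35, ns_36, ns_37, ns_38, ns_39, ns_40, ns_41, ns_42, ns_43, ns_44, ns_45, ns_46, ns_47, ns_48, ns_49, ns_50, ns_51, ns_52, ns_53, ns_54, ns_55, ns_56, ns_57, ns_58, ns_59, ns_60, ns_61, ns_62, ns_63, ns_64, ns_65, ns_66, ns_67, ns_68, ns_69, ns_70, ns_71, ns_72,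 ns_73, ns_74, ns_75, ns_76, ns_77, ns_78, ns_79, ns_80, ns_81, ns_82, ns_83, ns_84, ns_85, ns_86, ns_87, ns_88, ns_89, ns_90, ns_91, ns_92, ns_93, ns_94, ns_95, ns_96, ns_97, ns_98, ns_99, ns_100, ns_101, ns_102, ns_103, ns_104, ns_105, ns_106, ns_107, ns_108, ns_109, ns_110, ns_111, ns_112, ns_113, ns_114]

theorem ctx : Ctx 128 7 ns := ctx_of (by decide +kernel)

theorem lctx : LCtx 128 7 8 127 trN7 ns := lctx_of ctx trOK7 (by decide +kernel)

noncomputable def E : List ℕ → ℕ → ℕ := pfW0 128 7 8 127 trN7 ns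

theorem hE : Evl 128 ns E := evl_pfW0 lctx

open Cfsg.Agent.Spor Cfsg.Agent.Comp.IC

theorem geq : gen ModelJ2.ns ModelJ2.G_ss0 = gen ns [[0], [2]] :=
  gen_eq_of_take (ns := ModelJ2.ns) (ns' := ns) (k := 2) rfl (ws := ModelJ2.G_ss0) (by decide +kernel)

theorem hn : Nat.card (gen ns [[0], [2]]) = 604800 :=
  geq ▸ ModelJ2.G_card

noncomputable def equiv : Cfsg.Spor.J2 ≃* ↥(gen ns [[0], [2]]) :=
  ModelJ2.equiv.trans (MulEquiv.subgroupCongr geq)

theorem kn_0 : Known ns (gen ns [[0], [2]]) 3 :=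
  known_gen (by decide +kernel)

noncomputable def S_S7 : List SD :=
  []

noncomputable def S_d6 : SD :=
  ⟨4, 1, [28], lab 1 1 0, 1⟩

noncomputable def S_S6 : List SD :=
  S_d6 :: S_S7

noncomputable def S_d5 : SD :=
  ⟨3, 1, [22, 26, 28], lab 3 7 0, 1⟩

noncomputable def S_S5 : List SD :=
  S_d5 :: S_S6

noncomputable def S_d4 : SD :=
  ⟨10, 1, [24, 22, 26, 28], lab 3 7 0, 1⟩

noncomputable def S_S4 : List SD :=
  S_d4 :: S_S5

noncomputable def S_d3 : SD :=
  ⟨15, 1, [18, 20, 24, 22, 26, 28], lab 4 15 (nat_lit 0x200000000000000000000000000000000000000000000000000000000000000000000000000000000000000000000), 1⟩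

noncomputable def S_S3 : List SD :=
  S_d3 :: S_S4

noncomputable def S_d2 : SD :=
  ⟨2, 1, [14, 16, 18, 20, 24, 22, 26, 28], lab 4 15 (nat_lit 0x600000000000000000000000000000000000000000000000070000000010000200000), 2⟩

noncomputable def S_S2 : List SD :=
  S_d2 :: S_S3

noncomputable def S_d1 : SD :=
  ⟨1, 2, [8, 10, 12, 14, 16, 18, 20, 24, 22, 26, 28], lab 5 31 (nat_lit 0xe078060380e000000000000000000000049a3000000000520400000064080000020648000000029800000004a8000024001c00000807080000c4129800), 3⟩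

noncomputable def S_S1 : List SD :=
  S_d1 :: S_S2

noncomputable def S_d0 : SD :=
  ⟨0, 2, [0, 2, 4, 6, 8, 10, 12, 14, 16, 18, 20, 24, 22, 26, 28], lab 5 31 (nat_lit 0xa90e7442a54b8ee231d151594d63183f2f6a3af4780a7b591a71b4522ce01554d4520649978145b18b0742e252959e520a95ac80aa9064c3d844175470d80), 3⟩

noncomputable def S_S0 : List SD :=
  S_d0 :: S_S1

theorem kn_1 : Known ns (gen ns [[0], [2]]) 32767 :=
  kn_0.steps ctx (es := [(2, [2, 0]),
 (3, [0, 3, 1, 2, 0, 0]),
 (4, [1, 4, 2, 6, 3, 6, 0, 3, 7, 7, 3]),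
 (5, [7, 4, 0, 6]),
 (6, [10, 8, 10]),
 (7, [11, 13, 9, 10, 12, 10, 8]),
 (8, [8, 12, 12, 12, 12, 10, 12, 8, 13, 9, 12]),
 (9, [17, 14, 14, 14, 14, 17]),
 (10, [15, 16, 14, 16, 16]),
 (11, [21, 18, 20]),
 (12, [19, 20, 20]),
 (13, [23, 25, 23, 24, 22, 25, 23, 25]),
 (14, [22, 22, 22, 26])]) (by decide +kernel)

theorem S_ex : Exact 128 ns S_S0 ∧ gen ns (sTop S_S0) = gen ns [[0], [2]] ∧ gen ns [[0], [2]] = gen ns [[0], [2]] :=
  exact_of_known ctx hn (le_rfl) kn_1 (by decide +kernel)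

noncomputable def X_C5 : List Lvl :=
  []

noncomputable def X_ss4 : List (List ℕ) :=
  [[42], [44]]

noncomputable def X_D4 : ℕ :=
  nat_lit 0x42000108000800100

noncomputable def X_l4 : Lvl :=
  ⟨8, [[42], [44]],
  tabA [(23, 2048), (44, 2049), (61, 2050), (39, 5890), (66, 11266)], 2⟩

noncomputable def X_C4 : List Lvl :=
  X_l4 :: X_C5

noncomputable def X_ss3 : List (List ℕ) :=
  [[28], [40]]

noncomputable def X_D3 : ℕ :=
  nat_lit 0x80800000018

noncomputable def X_l3 : Lvl :=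
  ⟨4, [[28], [40], [42], [44]],
  tabA [(43, 1024), (35, 1027), (3, 11010)], 2⟩

noncomputable def X_C3 : List Lvl :=
  X_l3 :: X_C4

noncomputable def X_ss2 : List (List ℕ) :=
  [[36], [38]]

noncomputable def X_D2 : ℕ :=
  nat_lit 0x802000010081008082008043c

noncomputable def X_l2 : Lvl :=
  ⟨2, [[36], [38], [28], [40], [42], [44]],
  tabC 15 32767 [nat_lit 0x140c0000000000000000000000020000000000000000000000000000000068060000000000000000000000000014000000000000000000001a010000000000000000000000000000000000880e00000000000000000000000000000008080000000000000005012b04560c00000000000,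
 nat_lit 0x680800000000000000000000000000000000022020000000000000000000000000000000000000000000000000000000000000000000000000000203000000000000000], 3⟩

noncomputable def X_C2 : List Lvl :=
  X_l2 :: X_C3

noncomputable def X_ss1 : List (List ℕ) :=
  [[32], [34]]

noncomputable def X_D1 : ℕ :=
  nat_lit 0xaaa0000701c1c2c1c2c2c2c7e

noncomputable def X_l1 : Lvl :=
  ⟨1, [[32], [36], [38], [28], [40], [42], [44]],
  tabC 15 32767 [nat_lit 0x15053a04d0000000000000000000001d052a105410000000000000000a83000006138c0400000000000000000015093a098c00000000000000000080000078137404000000000000000e800000760318100000000000000015808000ba12ec24000000000008c0418123080202d0080000000,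
 nat_lit 0x3a14000158000002a14000018080008c160001d85800000000000000000000000000000000000000000000000000000000000000000005402e846302000000000000000], 4⟩

noncomputable def X_C1 : List Lvl :=
  X_l1 :: X_C2

noncomputable def X_ss0 : List (List ℕ) :=
  [[0], [2], [30]]

noncomputable def X_D0 : ℕ :=
  nat_lit 0xfffffffffffffffffffffffff

noncomputable def X_l0 : Lvl :=
  ⟨0, [[0], [32], [36], [38], [28], [40], [42], [44]],
  tabC 15 32767 [nat_lit 0x9c052c230050d043a08d00a9030f04a6096c01100000004076c20783a300ac091401505ab00680ee81d605d207b80d483a70212023a0d8c0820055063c073819a035603c20d182e383410a581b442e301d1072400e8296802107c600d821d033b001a0c081a0822c0aa2011822c852b085614d010e818000,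
 nat_lit 0x6810b00dd002c08b604b0115040d007404200c10151026c181802905b603a40608029014108a4147401701360d8800d82ab05560d3400d00e3038207a408b038a800f02], 5⟩

noncomputable def X_C0 : List Lvl :=
  X_l0 :: X_C1

theorem X_ver5 : Ver ns X_C5 1 :=
  ver_nil _

theorem X_le4 : gen ns X_l4.ws ≤ gen ns X_ss4 :=
  gen_le_step ctx (tgt := [])
  (es := []) (le_refl (gen _ [])) (by decide +kernel)

theorem X_lv4 : chkLvl 128 ns X_l4 X_C5 X_D4 2 = true :=
  by decide +kernel

theorem X_pt4_0 : AllIn (PtOK 128 ns X_l4 X_C5 X_ss4 X_D4) 0 128 :=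
  ptOK_of_chkPts ctx X_ver5 (a := 0) (n := 2) (by decide +kernel)

theorem X_st4 : IsStab 128 (gen ns X_l4.ws) (cgrp ns X_C5) X_l4.b X_D4 :=
  isStab_plain ctx X_le4 X_lv4 (by norm_num) X_pt4_0

theorem X_ver4 : Ver ns X_C4 6 :=
  X_ver5.cons ctx X_st4 (by decide +kernel)

theorem X_le3 : gen ns X_l3.ws ≤ gen ns X_ss3 :=
  gen_le_step ctx (tgt := [[42], [44]])
  (es := [([42], [1, 2]), ([44], [4, 2, 5])]) X_le4 (by decide +kernel)

theorem X_lv3 : chkLvl 128 ns X_l3 X_C4 X_D3 1 = true :=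
  by decide +kernel

theorem X_pt3_0 : AllIn (PtOK 128 ns X_l3 X_C4 X_ss3 X_D3) 0 128 :=
  ptOK_of_chkPts ctx X_ver4 (a := 0) (n := 2) (by decide +kernel)

theorem X_st3 : IsStab 128 (gen ns X_l3.ws) (cgrp ns X_C4) X_l3.b X_D3 :=
  isStab_plain ctx X_le3 X_lv3 (by norm_num) X_pt3_0

theorem X_ver3 : Ver ns X_C3 24 :=
  X_ver4.cons ctx X_st3 (by decide +kernel)

theorem X_le2 : gen ns X_l2.ws ≤ gen ns X_ss2 :=
  gen_le_step ctx (tgt := [[28], [40]])
  (es := [([28], [1, 3, 0, 3, 3, 0, 2, 0]), ([40], [5, 5, 2, 4, 3, 4, 4, 4])]) X_le3 (by decide +kernel)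

theorem X_lv2 : chkLvl 128 ns X_l2 X_C3 X_D2 1 = true :=
  by decide +kernel

theorem X_pt2_0 : AllIn (PtOK 128 ns X_l2 X_C3 X_ss2 X_D2) 0 128 :=
  ptOK_of_chkPts ctx X_ver3 (a := 0) (n := 2) (by decide +kernel)

theorem X_st2 : IsStab 128 (gen ns X_l2.ws) (cgrp ns X_C3) X_l2.b X_D2 :=
  isStab_plain ctx X_le2 X_lv2 (by norm_num) X_pt2_0

theorem X_ver2 : Ver ns X_C2 336 :=
  X_ver3.cons ctx X_st2 (by decide +kernel)

theorem X_le1 : gen ns X_l1.ws ≤ gen ns X_ss1 :=
  gen_le_step ctx (tgt := [[36], [38]])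
  (es := [([36], [0, 2, 0, 2, 0]), ([38], [5, 5, 2, 2, 4, 4, 3, 5, 2, 4])]) X_le2 (by decide +kernel)

theorem X_lv1 : chkLvl 128 ns X_l1 X_C2 X_D1 2 = true :=
  by decide +kernel

noncomputable def X_K1_1_B : List (ℕ × ℕ × List (List ℕ)) :=
  [(2, 4, [[28, 36, 28], [44, 42]]),
 (3, 1, [[44, 42]])]

noncomputable def X_K1_1_D : ℕ :=
  nat_lit 0x2a8000060140c24140c242840

theorem X_K1_1 : IsStab 128 (cgrp ns X_C2) (gen ns (lbTop X_K1_1_B)) 21 X_K1_1_D :=
  isStab_lb ctx X_ver2.card (r := 2) (mem_of_wordsIn (by decide +kernel)) (by decide +kernel)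

noncomputable def X_subs1 : List SubO :=
  [⟨[2, 5, 0], 2, nat_lit 0x802000010081008082008043c, [[28], [40]]⟩,
 ⟨[0, 0], 21, nat_lit 0x2a8000060140c24140c242840, lbTop X_K1_1_B⟩]

noncomputable def X_ts1 : List DGen :=
  [⟨[32], [[41, 39, 40, 28, 43], [40, 38, 28, 42]], 3, [⟨0, [], 1, [2, 0]⟩,
 ⟨1, [2, 0], 2, []⟩,
 ⟨1, [6, 3, 0], 0, []⟩,
 ⟨2, [7], 2, [3]⟩,
 ⟨1, [], 1, [4, 3]⟩,
 ⟨2, [0], 1, [6, 3, 0]⟩,
 ⟨2, [6], 1, []⟩,
 ⟨1, [2], 2, [2, 2]⟩]⟩]

theorem X_dw1 : ∀ u ∈ dcWords X_l1 X_C2 X_subs1 X_ts1, wp ns u ∈ cgrp ns X_C2 :=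
  mem_of_siftAll ctx X_ver2.nested (by decide +kernel)

theorem X_st1 : IsStab 128 (gen ns X_l1.ws) (cgrp ns X_C2) X_l1.b X_D1 :=
  isStab_dc ctx (subs := X_subs1) (ts := X_ts1) (n := 3) X_lv1 (by decide +kernel)
    (List.forall_mem_cons.2 ⟨fun k hk h => X_le3 (X_st2.stab k hk h),
    List.forall_mem_cons.2 ⟨X_K1_1.stab,
    fun _ h => absurd h List.not_mem_nil⟩⟩)
    X_dw1

theorem X_ver1 : Ver ns X_C1 12096 :=
  X_ver2.cons ctx X_st1 (by decide +kernel)

theorem X_le0 : gen ns X_l0.ws ≤ gen ns X_ss0 :=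
  gen_le_step ctx (tgt := [[32], [34]])
  (es := [([32], [2, 1, 5, 2, 4, 2, 2, 5, 0, 3, 0, 2]), ([34], [5, 3, 5, 2, 4, 3])]) X_le1 (by decide +kernel)

theorem X_lv0 : chkLvl 128 ns X_l0 X_C1 X_D0 2 = true :=
  by decide +kernel

noncomputable def X_K0_1_B : List (ℕ × ℕ × List (List ℕ)) :=
  [(1, 4, [[36, 32, 40, 38, 42], [38, 36, 42], [41, 43]]),
 (2, 1, [[38, 36, 42], [41, 43]]),
 (3, 3, [[41, 43]])]

noncomputable def X_K0_1_D : ℕ :=
  nat_lit 0x555ffff8fe3e3d3e3d3d3d380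

theorem X_K0_1 : IsStab 128 (cgrp ns X_C1) (gen ns (lbTop X_K0_1_B)) 82 X_K0_1_D :=
  isStab_lb ctx X_ver1.card (r := 2) (mem_of_wordsIn (by decide +kernel)) (by decide +kernel)

noncomputable def X_subs0 : List SubO :=
  [⟨[3, 6, 0], 1, nat_lit 0xaaa0000701c1c2c1c2c2c2c7e, [[36], [38]]⟩,
 ⟨[0, 4, 0], 82, nat_lit 0x555ffff8fe3e3d3e3d3d3d380, lbTop X_K0_1_B⟩]

noncomputable def X_ts0 : List DGen :=
  [⟨[0], [[36, 33, 40, 39, 36, 43], [41, 32, 32, 39, 41, 43]], 7, [⟨0, [], 1, [5, 0]⟩,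
 ⟨1, [5, 0], 0, []⟩,
 ⟨1, [], 1, [9, 2, 0]⟩,
 ⟨1, [1], 2, [1]⟩,
 ⟨2, [1], 1, [1]⟩,
 ⟨2, [11, 1], 2, [8]⟩]⟩]

theorem X_dw0 : ∀ u ∈ dcWords X_l0 X_C1 X_subs0 X_ts0, wp ns u ∈ cgrp ns X_C1 :=
  mem_of_siftAll ctx X_ver1.nested (by decide +kernel)

theorem X_st0 : IsStab 128 (gen ns X_l0.ws) (cgrp ns X_C1) X_l0.b X_D0 :=
  isStab_dc ctx (subs := X_subs0) (ts := X_ts0) (n := 3) X_lv0 (by decide +kernel)
    (List.forall_mem_cons.2 ⟨fun k hk h => X_le2 (X_st1.stab k hk h),
    List.forall_mem_cons.2 ⟨X_K0_1.stab,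
    fun _ h => absurd h List.not_mem_nil⟩⟩)
    X_dw0

theorem X_ver0 : Ver ns X_C0 1209600 :=
  X_ver1.cons ctx X_st0 (by decide +kernel)

theorem X_ss_mem : ∀ u ∈ X_ss0, wp ns u ∈ cgrp ns X_C0 :=
  mem_of_siftAll ctx X_ver0.nested (by decide +kernel)

theorem X_eq : gen ns X_ss0 = cgrp ns X_C0 :=
  le_antisymm (gen_le_iff.2 X_ss_mem) X_le0

theorem X_card : Nat.card (gen ns X_ss0) = 1209600 :=
  by rw [X_eq]; exact X_ver0.card

theorem hX : Nat.card (gen ns [[0], [2], [30]]) = 1209600 :=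
  X_card

theorem kx_0 : Known ns (gen ns [[0], [2], [30]]) 32771 :=
  known_gen (by decide +kernel)

noncomputable def SX_S7 : List SD :=
  []

noncomputable def SX_d6 : SD :=
  ⟨4, 1, [28], lab 1 1 0, 1⟩

noncomputable def SX_S6 : List SD :=
  SX_d6 :: SX_S7

noncomputable def SX_d5 : SD :=
  ⟨3, 1, [26, 22, 28], lab 3 7 0, 1⟩

noncomputable def SX_S5 : List SD :=
  SX_d5 :: SX_S6

noncomputable def SX_d4 : SD :=
  ⟨10, 1, [62, 26, 22, 28], lab 3 7 0, 1⟩

noncomputable def SX_S4 : List SD :=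
  SX_d4 :: SX_S5

noncomputable def SX_d3 : SD :=
  ⟨15, 1, [58, 60, 62, 26, 22, 28], lab 4 15 (nat_lit 0x100000000000000000000000000000000000000000000000000000000000000000000000000000000000000000000), 1⟩

noncomputable def SX_S3 : List SD :=
  SX_d3 :: SX_S4

noncomputable def SX_d2 : SD :=
  ⟨2, 1, [52, 54, 56, 58, 60, 62, 26, 22, 28], lab 5 31 (nat_lit 0x2800000000000800000000000000000000000008000000000028000000000000000000100000000018000000400000000000080000000000000000e218000), 2⟩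

noncomputable def SX_S2 : List SD :=
  SX_d2 :: SX_S3

noncomputable def SX_d1 : SD :=
  ⟨1, 2, [8, 48, 50, 52, 54, 56, 58, 60, 62, 26, 22, 28], lab 5 31 (nat_lit 0x818038280580800000000000000000000001981000000000e2a40000001b3000000202c800000000b8000000029800001e02a400000808840002c0460000), 3⟩

noncomputable def SX_S1 : List SD :=
  SX_d1 :: SX_S2

noncomputable def SX_d0 : SD :=
  ⟨0, 1, [0, 2, 30, 46, 8, 48, 50, 52, 54, 56, 58, 60, 62, 26, 22, 28], lab 5 31 (nat_lit 0x97110445c634008151ee00c046b0e617b0f9db0a609483455a81a5939e4012844349464d5e23908eb400cbf2b964c64535864b2d4a786092883235a470da0), 3⟩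

noncomputable def SX_S0 : List SD :=
  SX_d0 :: SX_S1

theorem kx_1 : Known ns (gen ns [[0], [2], [30]]) 4286638099 :=
  kx_0.steps ctx (es := [(23, [2, 0, 3, 1, 1, 1]),
 (4, [2, 47]),
 (24, [1, 31, 2, 46, 2, 2, 30, 3, 46, 30]),
 (25, [48, 9, 48]),
 (26, [8, 51, 48, 9, 51, 8, 8, 50, 49, 9]),
 (27, [51, 8, 49, 49, 9, 50, 48, 9, 50, 8]),
 (28, [55, 55, 52]),
 (29, [53, 54, 52, 57, 55, 55, 55, 56, 52]),
 (30, [55, 56, 55, 56, 53, 54, 53, 54]),
 (31, [58, 60, 60, 58, 61, 61, 61]),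
 (11, [59, 61, 59, 61, 59, 61]),
 (13, [22, 22, 22, 22, 63, 63]),
 (14, [27, 27, 27, 22, 27, 23, 23, 27])]) (by decide +kernel)

theorem SX_ex : Exact 128 ns SX_S0 ∧ gen ns (sTop SX_S0) = gen ns [[0], [2], [30]] ∧ gen ns [[0], [2], [30]] = gen ns [[0], [2], [30]] :=
  exact_of_known ctx hX (le_rfl) kx_1 (by decide +kernel)

noncomputable def ZG_S5 : List SD :=
  []

noncomputable def ZG_d4 : SD :=
  ⟨0, 1, [64], lab 1 1 0, 1⟩

noncomputable def ZG_S4 : List SD :=
  ZG_d4 :: ZG_S5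

noncomputable def ZG_d3 : SD :=
  ⟨10, 4, [66, 64], lab 2 3 (nat_lit 0x80000000000800000000004050000000000000022000000000), 5⟩

noncomputable def ZG_S3 : List SD :=
  ZG_d3 :: ZG_S4

noncomputable def ZG_d2 : SD :=
  ⟨22, 3, [68, 66, 64], lab 3 7 (nat_lit 0x1020000000000000100000000000000000001018000011400000000000000008000), 4⟩

noncomputable def ZG_S2 : List SD :=
  ZG_d2 :: ZG_S3

noncomputable def ZG_d1 : SD :=
  ⟨30, 3, [70, 68, 66, 64], lab 3 7 (nat_lit 0x40010030300101000800330580020c0000000018100110001203280080005100003081000), 5⟩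

noncomputable def ZG_S1 : List SD :=
  ZG_d1 :: ZG_S2

noncomputable def ZG_d0 : SD :=
  ⟨24, 3, [72, 70, 68, 66, 64], lab 4 15 (nat_lit 0x2041605163035048800645654412481620245386545128551423253620187747443041075140212213375853311005406313), 4⟩

noncomputable def ZG_S0 : List SD :=
  ZG_d0 :: ZG_S1

theorem kx_2 : Known ns (gen ns [[0], [2], [30]]) 137430624275 :=
  kx_1.steps ctx (es := [(32, [55, 2, 0, 60, 8, 54, 52, 26]),
 (33, [3, 46, 53, 8, 58, 62, 28]),
 (34, [47, 0, 50, 52, 8, 54, 26, 28]),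
 (35, [54, 0, 55, 8, 57, 62]),
 (36, [56, 2, 9, 52, 54, 59, 62, 26, 28])]) (by decide +kernel)

theorem ZG_ex : Exact 128 ns ZG_S0 ∧ gen ns (sTop ZG_S0) = gen ns [[0], [2], [30]] ∧ gen ns [[0], [2], [30]] = gen ns [[0], [2], [30]] :=
  exact_of_known ctx hX (le_rfl) kx_2 (by decide +kernel)

noncomputable def Z_as : List (List ℕ) :=
  [[0], [2]]

noncomputable def Z_p : List (List ℕ × List ℕ) :=
  derAs (dg Z_as) [[0], [2]]

noncomputable def Z_s : List (ℕ × ℕ) :=
  derSs 128 7 ns (dg Z_as) [[0], [2]]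

noncomputable def Z_k0 : List (List ℕ) :=
  []

noncomputable def Z_k1 : List (List ℕ) :=
  []

noncomputable def Z_k2 : List (List ℕ) :=
  []

noncomputable def Z_k3 : List (List ℕ) :=
  []

noncomputable def Z_k4 : List (List ℕ) :=
  []

noncomputable def Z_k5 : List (List ℕ) :=
  []

theorem Z_cm : commB 128 7 ns (dg Z_as) Z_k0 = true :=
  by decide +kernel

theorem Z_g0 : Good 128 ns Z_p Z_s (gen ns (sTop ZG_S0)) Z_k0 :=
  good_der ctx kx_2 (ZG_ex.2.1.trans ZG_ex.2.2.symm) _ _ ((and'_eq_true _ _).2 ⟨by decide +kernel, Z_cm⟩)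

theorem Z_g1 : Good 128 ns Z_p Z_s (gen ns (sTop ZG_S1)) Z_k1 :=
  Z_g0.tail ctx ZG_ex.1 (by decide +kernel)

theorem Z_g2 : Good 128 ns Z_p Z_s (gen ns (sTop ZG_S2)) Z_k2 :=
  Z_g1.tail ctx ZG_ex.1.tail (by decide +kernel)

theorem Z_g3 : Good 128 ns Z_p Z_s (gen ns (sTop ZG_S3)) Z_k3 :=
  Z_g2.tail ctx ZG_ex.1.tail.tail (by decide +kernel)

theorem Z_g4 : Good 128 ns Z_p Z_s (gen ns (sTop ZG_S4)) Z_k4 :=
  Z_g3.tail ctx ZG_ex.1.tail.tail.tail (by decide +kernel)

theorem Z_l5 : LevX 128 ns Z_p Z_s (gen ns (sTop ZG_S5)) Z_k5 1 :=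
  levX_nil _ _ _ _

theorem Z_l4 : LevX 128 ns Z_p Z_s (gen ns (sTop ZG_S4)) Z_k4 1 :=
  Z_l5.step ctx ZG_ex.1.tail.tail.tail.tail Z_g4 (br_zero _ _ _ _ _ _ _) [(0, 52, 1)] 0 0 (by decide +kernel)

theorem Z_l3 : LevX 128 ns Z_p Z_s (gen ns (sTop ZG_S3)) Z_k3 1 :=
  Z_l4.step ctx ZG_ex.1.tail.tail.tail Z_g3 (br_zero _ _ _ _ _ _ _) [(0, 1, 3), (1, 21, 2)] 0 0 (by decide +kernel)

theorem Z_l2 : LevX 128 ns Z_p Z_s (gen ns (sTop ZG_S2)) Z_k2 1 :=
  Z_l3.step ctx ZG_ex.1.tail.tail Z_g2 (br_zero _ _ _ _ _ _ _) [(1, 30, 0)] 0 0 (by decide +kernel)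

theorem Z_l1 : LevX 128 ns Z_p Z_s (gen ns (sTop ZG_S1)) Z_k1 1 :=
  Z_l2.step ctx ZG_ex.1.tail Z_g1 (br_zero _ _ _ _ _ _ _) [(0, 24, 0)] 0 0 (by decide +kernel)

theorem Z_c0_56 : Br 128 ns Z_p Z_s (gen ns (sTop ZG_S0)) ZG_d0.p (Nat.shiftLeft 1 56) (InCs ns ZG_S0 []) :=
  br_of_cnt ctx ZG_ex.1 [73, 69, 69, 72] (.pair 0 3 4 3 0) (by decide +kernel) _

theorem Z_c0_58 : Br 128 ns Z_p Z_s (gen ns (sTop ZG_S0)) ZG_d0.p (Nat.shiftLeft 1 58) (InCs ns ZG_S0 []) :=
  br_of_cnt ctx ZG_ex.1 [68, 70, 72, 72] (.pair 0 3 4 3 0) (by decide +kernel) _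

theorem Z_c0_92 : Br 128 ns Z_p Z_s (gen ns (sTop ZG_S0)) ZG_d0.p (Nat.shiftLeft 1 92) (InCs ns ZG_S0 []) :=
  br_of_cnt ctx ZG_ex.1 [73, 66, 73] (.pair 0 3 4 3 0) (by decide +kernel) _

theorem Z_l0 : LevX 128 ns Z_p Z_s (gen ns (sTop ZG_S0)) Z_k0 1 :=
  Z_l1.step ctx ZG_ex.1 Z_g0 ((((br_zero _ _ _ _ _ _ _).lor Z_c0_56).lor Z_c0_58).lor Z_c0_92) [] 0 0 (by decide +kernel)

theorem Z : CentEq ns (gen ns [[0], [2], [30]]) Z_as Z_k0 1 :=
  centEq_of ctx ZG_ex.2.1 Z_l0 Z_g0 Z_cm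

noncomputable def C0G_S4 : List SD :=
  []

noncomputable def C0G_d3 : SD :=
  ⟨0, 3, [76], lab 1 1 (nat_lit 0x8000000000000), 2⟩

noncomputable def C0G_S3 : List SD :=
  C0G_d3 :: C0G_S4

noncomputable def C0G_d2 : SD :=
  ⟨69, 5, [78, 76], lab 2 3 (nat_lit 0x10010c1801230014103440040088301e8008b080a00000002), 5⟩

noncomputable def C0G_S2 : List SD :=
  C0G_d2 :: C0G_S3

noncomputable def C0G_d1 : SD :=
  ⟨15, 4, [80, 78, 76], lab 3 7 (nat_lit 0x800410010000000000000a000006180000200006c0000480000341000103000041000119b08), 5⟩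

noncomputable def C0G_S1 : List SD :=
  C0G_d1 :: C0G_S2

noncomputable def C0G_d0 : SD :=
  ⟨7, 3, [82, 80, 78, 76], lab 3 7 (nat_lit 0x8dbc024c8b0cf230b1d836dd9620851f2924ac0783a0682764784f59018b072c877310034c), 5⟩

noncomputable def C0G_S0 : List SD :=
  C0G_d0 :: C0G_S1

theorem kn_2 : Known ns (gen ns [[0], [2]]) 70231305256959 :=
  kn_1.steps ctx (es := [(37, [22, 5, 0, 8, 11, 20, 14, 20, 22]),
 (38, [26, 2, 14, 8, 20, 14, 20, 24]),
 (39, [7, 16, 2, 8, 14, 20, 22]),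
 (40, [0, 16, 8, 24, 22, 28]),
 (41, [25, 2, 11, 14, 20, 24, 28]),
 (42, [17, 4, 16, 8, 16, 22]),
 (43, [17, 0, 21, 8, 20, 14, 20, 24, 22]),
 (44, [15, 4, 11, 14, 24, 22]),
 (45, [4, 14, 10, 8, 21, 14, 18, 24, 28])]) (by decide +kernel)

theorem C0G_ex : Exact 128 ns C0G_S0 ∧ gen ns (sTop C0G_S0) = gen ns [[0], [2]] ∧ gen ns [[0], [2]] = gen ns [[0], [2]] :=
  exact_of_known ctx hn (le_rfl) kn_2 (by decide +kernel)

noncomputable def C0_as : List (List ℕ) :=
  [[74]]

noncomputable def C0_p : List (List ℕ × List ℕ) :=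
  derAs (dg C0_as) [[0]]

noncomputable def C0_s : List (ℕ × ℕ) :=
  derSs 128 7 ns (dg C0_as) [[0]]

noncomputable def C0_k0 : List (List ℕ) :=
  [[90], [86], [88], [84], [76]]

noncomputable def C0_k1 : List (List ℕ) :=
  [[86], [88], [84], [76]]

noncomputable def C0_k2 : List (List ℕ) :=
  [[84], [76]]

noncomputable def C0_k3 : List (List ℕ) :=
  [[76]]

noncomputable def C0_k4 : List (List ℕ) :=
  []

theorem C0_cm : commB 128 7 ns (dg C0_as) C0_k0 = true :=
  by decide +kernel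

theorem C0_g0 : Good 128 ns C0_p C0_s (gen ns (sTop C0G_S0)) C0_k0 :=
  good_der ctx kn_2 (C0G_ex.2.1.trans C0G_ex.2.2.symm) _ _ ((and'_eq_true _ _).2 ⟨by decide +kernel, C0_cm⟩)

theorem C0_g1 : Good 128 ns C0_p C0_s (gen ns (sTop C0G_S1)) C0_k1 :=
  C0_g0.tail ctx C0G_ex.1 (by decide +kernel)

theorem C0_g2 : Good 128 ns C0_p C0_s (gen ns (sTop C0G_S2)) C0_k2 :=
  C0_g1.tail ctx C0G_ex.1.tail (by decide +kernel)

theorem C0_g3 : Good 128 ns C0_p C0_s (gen ns (sTop C0G_S3)) C0_k3 :=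
  C0_g2.tail ctx C0G_ex.1.tail.tail (by decide +kernel)

theorem C0_l4 : LevX 128 ns C0_p C0_s (gen ns (sTop C0G_S4)) C0_k4 1 :=
  levX_nil _ _ _ _

theorem C0_l3 : LevX 128 ns C0_p C0_s (gen ns (sTop C0G_S3)) C0_k3 4 :=
  C0_l4.step ctx C0G_ex.1.tail.tail.tail C0_g3 (br_zero _ _ _ _ _ _ _) [] 3 3 (by decide +kernel)

theorem C0_l2 : LevX 128 ns C0_p C0_s (gen ns (sTop C0G_S2)) C0_k2 8 :=
  C0_l3.step ctx C0G_ex.1.tail.tail C0_g2 (br_zero _ _ _ _ _ _ _) [] 1 1 (by decide +kernel)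

theorem C0_l1 : LevX 128 ns C0_p C0_s (gen ns (sTop C0G_S1)) C0_k1 96 :=
  C0_l2.step ctx C0G_ex.1.tail C0_g1 (br_zero _ _ _ _ _ _ _) [] 2 2 (by decide +kernel)

theorem C0_l0 : LevX 128 ns C0_p C0_s (gen ns (sTop C0G_S0)) C0_k0 1920 :=
  C0_l1.step ctx C0G_ex.1 C0_g0 (br_zero _ _ _ _ _ _ _) [] 2 2 (by decide +kernel)

theorem C0 : CentEq ns (gen ns [[0], [2]]) C0_as C0_k0 1920 :=
  centEq_of ctx C0G_ex.2.1 C0_l0 C0_g0 C0_cm

noncomputable def A0_C2 : List Lvl :=
  []

noncomputable def A0_ss1 : List (List ℕ) :=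
  [[102]]

noncomputable def A0_D1 : ℕ :=
  262146

noncomputable def A0_l1 : Lvl :=
  ⟨1, [[102]],
  tabA [(18, 256)], 1⟩

noncomputable def A0_C1 : List Lvl :=
  A0_l1 :: A0_C2

noncomputable def A0_ss0 : List (List ℕ) :=
  [[92], [94], [96], [98], [100]]

noncomputable def A0_D0 : ℕ :=
  nat_lit 0x453140001418020100002401

noncomputable def A0_l0 : Lvl :=
  ⟨0, [[92], [94], [96], [98], [100], [102]],
  tabC 15 32767 [nat_lit 0x5a00000000180000000000000000000004b0040000000000000000000000000000000002c0380000000000000000000000000000058060000000000000000000000000000000000000000000000000000000000000000000000280000000001c0000000000000000000000000000000000000,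
 nat_lit 0x24000000000000008000000000000000004580a000000000005a0a0000d0100000000000000000000000000000000000000000000000000000], 2⟩

noncomputable def A0_C0 : List Lvl :=
  A0_l0 :: A0_C1

theorem A0_ver2 : Ver ns A0_C2 1 :=
  ver_nil _

theorem A0_le1 : gen ns A0_l1.ws ≤ gen ns A0_ss1 :=
  gen_le_step ctx (tgt := [])
  (es := []) (le_refl (gen _ [])) (by decide +kernel)

theorem A0_lv1 : chkLvl 128 ns A0_l1 A0_C2 A0_D1 1 = true :=
  by decide +kernel

theorem A0_pt1_0 : AllIn (PtOK 128 ns A0_l1 A0_C2 A0_ss1 A0_D1) 0 128 :=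
  ptOK_of_chkPts ctx A0_ver2 (a := 0) (n := 2) (by decide +kernel)

theorem A0_st1 : IsStab 128 (gen ns A0_l1.ws) (cgrp ns A0_C2) A0_l1.b A0_D1 :=
  isStab_plain ctx A0_le1 A0_lv1 (by norm_num) A0_pt1_0

theorem A0_ver1 : Ver ns A0_C1 2 :=
  A0_ver2.cons ctx A0_st1 (by decide +kernel)

theorem A0_le0 : gen ns A0_l0.ws ≤ gen ns A0_ss0 :=
  gen_le_step ctx (tgt := [[102]])
  (es := [([102], [1, 6, 3, 4])]) A0_le1 (by decide +kernel)

theorem A0_lv0 : chkLvl 128 ns A0_l0 A0_C1 A0_D0 1 = true :=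
  by decide +kernel

theorem A0_pt0_0 : AllIn (PtOK 128 ns A0_l0 A0_C1 A0_ss0 A0_D0) 0 128 :=
  ptOK_of_chkPts ctx A0_ver1 (a := 0) (n := 2) (by decide +kernel)

theorem A0_st0 : IsStab 128 (gen ns A0_l0.ws) (cgrp ns A0_C1) A0_l0.b A0_D0 :=
  isStab_plain ctx A0_le0 A0_lv0 (by norm_num) A0_pt0_0

theorem A0_ver0 : Ver ns A0_C0 32 :=
  A0_ver1.cons ctx A0_st0 (by decide +kernel)

theorem A0_eq : gen ns A0_ss0 = cgrp ns A0_C0 :=
  le_antisymm (gen_le_of_subsetL _ (by decide +kernel)) A0_le0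

theorem A0_card : Nat.card (gen ns A0_ss0) = 32 :=
  by rw [A0_eq]; exact A0_ver0.card

theorem A0_n : ∀ u ∈ cjW C0_k0 A0_ss0, wp ns u ∈ cgrp ns A0_C0 :=
  mem_of_siftAll ctx A0_ver0.nested (by decide +kernel)

noncomputable def D0G_S4 : List SD :=
  []

noncomputable def D0G_d3 : SD :=
  ⟨0, 3, [104], lab 1 1 (nat_lit 0x2000000), 2⟩

noncomputable def D0G_S3 : List SD :=
  D0G_d3 :: D0G_S4

noncomputable def D0G_d2 : SD :=
  ⟨1, 6, [106, 104], lab 2 3 (nat_lit 0xc04000000000c00008004000600090002000000003002170), 4⟩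

noncomputable def D0G_S2 : List SD :=
  D0G_d2 :: D0G_S3

noncomputable def D0G_d1 : SD :=
  ⟨79, 4, [108, 106, 104], lab 3 7 (nat_lit 0x8410110021c2490a0a000448000052d9000262000692005b64018062010163028961000005), 5⟩

noncomputable def D0G_S1 : List SD :=
  D0G_d1 :: D0G_S2

noncomputable def D0G_d0 : SD :=
  ⟨7, 3, [110, 108, 106, 104], lab 3 7 (nat_lit 0xbde0c5c64a78165c87cb44ba068ce8d7a96e26e5aeda385334b36625893ad4250aeb1a5206), 4⟩

noncomputable def D0G_S0 : List SD :=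
  D0G_d0 :: D0G_S1

theorem kn_3 : Known ns (gen ns [[0], [2]]) 69805656785321983 :=
  kn_2.steps ctx (es := [(46, [14, 5, 0, 11, 9, 20, 14, 18, 24, 28]),
 (47, [14, 5, 26, 9, 16, 18, 24]),
 (48, [0, 26, 9, 15, 18, 24, 22]),
 (49, [6, 15, 9, 15, 20, 22]),
 (50, [14, 4, 9, 12, 8, 22]),
 (52, [0, 18, 2, 13, 11, 15, 18, 22]),
 (53, [22, 5, 0, 10, 9, 24, 28]),
 (54, [14, 5, 0, 21, 8, 14, 14, 20, 22, 28]),
 (55, [26, 7, 26, 10, 18, 24, 28])]) (by decide +kernel)

theorem D0G_ex : Exact 128 ns D0G_S0 ∧ gen ns (sTop D0G_S0) = gen ns [[0], [2]] ∧ gen ns [[0], [2]] = gen ns [[0], [2]] :=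
  exact_of_known ctx hn (le_rfl) kn_3 (by decide +kernel)

noncomputable def D0_as : List (List ℕ) :=
  [[92], [94], [96], [98], [100]]

noncomputable def D0_p : List (List ℕ × List ℕ) :=
  derAs (dg D0_as) [[0], [2], [4], [6], [8]]

noncomputable def D0_s : List (ℕ × ℕ) :=
  derSs 128 7 ns (dg D0_as) [[0], [2], [4], [6], [8]]

noncomputable def D0_k0 : List (List ℕ) :=
  [[74]]

noncomputable def D0_k1 : List (List ℕ) :=
  [[74]]

noncomputable def D0_k2 : List (List ℕ) :=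
  [[74]]

noncomputable def D0_k3 : List (List ℕ) :=
  []

noncomputable def D0_k4 : List (List ℕ) :=
  []

theorem D0_cm : commB 128 7 ns (dg D0_as) D0_k0 = true :=
  by decide +kernel

theorem D0_g0 : Good 128 ns D0_p D0_s (gen ns (sTop D0G_S0)) D0_k0 :=
  good_der ctx kn_3 (D0G_ex.2.1.trans D0G_ex.2.2.symm) _ _ ((and'_eq_true _ _).2 ⟨by decide +kernel, D0_cm⟩)

theorem D0_g1 : Good 128 ns D0_p D0_s (gen ns (sTop D0G_S1)) D0_k1 :=
  D0_g0.tail ctx D0G_ex.1 (by decide +kernel)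

theorem D0_g2 : Good 128 ns D0_p D0_s (gen ns (sTop D0G_S2)) D0_k2 :=
  D0_g1.tail ctx D0G_ex.1.tail (by decide +kernel)

theorem D0_g3 : Good 128 ns D0_p D0_s (gen ns (sTop D0G_S3)) D0_k3 :=
  D0_g2.tail ctx D0G_ex.1.tail.tail (by decide +kernel)

theorem D0_l4 : LevX 128 ns D0_p D0_s (gen ns (sTop D0G_S4)) D0_k4 1 :=
  levX_nil _ _ _ _

theorem D0_l3 : LevX 128 ns D0_p D0_s (gen ns (sTop D0G_S3)) D0_k3 1 :=
  D0_l4.step ctx D0G_ex.1.tail.tail.tail D0_g3 (br_zero _ _ _ _ _ _ _) [(0, 88, 3)] 0 0 (by decide +kernel)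

noncomputable def D0_B2_cs : List (List ℕ) :=
  []

noncomputable def D0_B2_pl : List Pl :=
  [⟨.lst 0, []⟩, ⟨.free, []⟩]

noncomputable def D0_B2_M0 : ℕ :=
  8

theorem D0_B2_b0 : Br 128 ns D0_p D0_s (gen ns (sTop D0G_S2)) D0G_d2.p D0_B2_M0 (InCs ns D0G_S2 D0_B2_cs) :=
  br_of_brB ctx hE D0G_ex.1.tail.tail (pl := D0_B2_pl) (bs := [79, 7]) (tps := [90]) (by decide +kernel)

theorem D0_l2 : LevX 128 ns D0_p D0_s (gen ns (sTop D0G_S2)) D0_k2 2 :=
  D0_l3.step ctx D0G_ex.1.tail.tail D0_g2 ((br_zero _ _ _ _ _ _ _).lor D0_B2_b0) [] 1 1 (by decide +kernel)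

theorem D0_l1 : LevX 128 ns D0_p D0_s (gen ns (sTop D0G_S1)) D0_k1 2 :=
  D0_l2.step ctx D0G_ex.1.tail D0_g1 (br_zero _ _ _ _ _ _ _) [] 0 0 (by decide +kernel)

noncomputable def D0_B0_cs : List (List ℕ) :=
  []

noncomputable def D0_B0_pl : List Pl :=
  [⟨.lst 0, []⟩, ⟨.forced 0 4, []⟩, ⟨.free, []⟩, ⟨.free, []⟩]

noncomputable def D0_B0_M0 : ℕ :=
  nat_lit 0x80000000000000000000

theorem D0_B0_b0 : Br 128 ns D0_p D0_s (gen ns (sTop D0G_S0)) D0G_d0.p D0_B0_M0 (InCs ns D0G_S0 D0_B0_cs) :=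
  br_of_brB ctx hE D0G_ex.1 (pl := D0_B0_pl) (bs := []) (tps := [83]) (by decide +kernel)

theorem D0_l0 : LevX 128 ns D0_p D0_s (gen ns (sTop D0G_S0)) D0_k0 2 :=
  D0_l1.step ctx D0G_ex.1 D0_g0 ((br_zero _ _ _ _ _ _ _).lor D0_B0_b0) [] 0 0 (by decide +kernel)

theorem D0 : CentEq ns (gen ns [[0], [2]]) D0_as D0_k0 2 :=
  centEq_of ctx D0G_ex.2.1 D0_l0 D0_g0 D0_cm

noncomputable def C1G_S4 : List SD :=
  []

noncomputable def C1G_d3 : SD :=
  ⟨18, 4, [114, 116], lab 2 3 (nat_lit 0xc0000022230cc02000c080c008000000000000000088000000), 6⟩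

noncomputable def C1G_S3 : List SD :=
  C1G_d3 :: C1G_S4

noncomputable def C1G_d2 : SD :=
  ⟨5, 2, [118, 114, 116], lab 3 7 (nat_lit 0x4000000000000000000000000000005000000008000008000000000080000000000000000), 3⟩

noncomputable def C1G_S2 : List SD :=
  C1G_d2 :: C1G_S3

noncomputable def C1G_d1 : SD :=
  ⟨24, 3, [120, 118, 114, 116], lab 3 7 (nat_lit 0xc08200c10000000000300016001c10000380048180380040300000001100000060083c01a6), 4⟩

noncomputable def C1G_S1 : List SD :=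
  C1G_d1 :: C1G_S2

noncomputable def C1G_d0 : SD :=
  ⟨4, 3, [122, 120, 118, 114, 116], lab 4 15 (nat_lit 0x8504454809424859206331801821101311206355599512826412618930145500531040424983085108969306082988301958), 4⟩

noncomputable def C1G_S0 : List SD :=
  C1G_d0 :: C1G_S1

theorem kn_4 : Known ns (gen ns [[0], [2]]) 73784724357585600511 :=
  kn_3.steps ctx (es := [(56, [28, 4, 13, 9, 14, 14, 18, 22, 28]),
 (57, [26, 9, 15, 24, 22, 28]),
 (58, [4, 17, 0, 8, 14, 14, 18, 24, 22, 28]),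
 (59, [11, 25, 4, 17, 8, 24, 22]),
 (60, [12, 14, 0, 9, 12, 20, 14, 18, 22]),
 (61, [2, 21, 2, 14, 10, 8, 14, 20, 28]),
 (62, [4, 17, 0, 8, 18, 24, 22, 28]),
 (63, [26, 9, 16, 24, 22]),
 (64, [5, 22, 4, 11, 8, 14, 18, 24]),
 (65, [4, 21, 2, 14, 8, 24, 22, 28])]) (by decide +kernel)

theorem C1G_ex : Exact 128 ns C1G_S0 ∧ gen ns (sTop C1G_S0) = gen ns [[0], [2]] ∧ gen ns [[0], [2]] = gen ns [[0], [2]] :=
  exact_of_known ctx hn (le_rfl) kn_4 (by decide +kernel)

noncomputable def C1_as : List (List ℕ) :=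
  [[112]]

noncomputable def C1_p : List (List ℕ × List ℕ) :=
  derAs (dg C1_as) [[0]]

noncomputable def C1_s : List (ℕ × ℕ) :=
  derSs 128 7 ns (dg C1_as) [[0]]

noncomputable def C1_k0 : List (List ℕ) :=
  [[128], [130], [124], [126]]

noncomputable def C1_k1 : List (List ℕ) :=
  [[124], [126]]

noncomputable def C1_k2 : List (List ℕ) :=
  [[124], [126]]

noncomputable def C1_k3 : List (List ℕ) :=
  [[124], [126]]

noncomputable def C1_k4 : List (List ℕ) :=
  []

theorem C1_cm : commB 128 7 ns (dg C1_as) C1_k0 = true :=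
  by decide +kernel

theorem C1_g0 : Good 128 ns C1_p C1_s (gen ns (sTop C1G_S0)) C1_k0 :=
  good_der ctx kn_4 (C1G_ex.2.1.trans C1G_ex.2.2.symm) _ _ ((and'_eq_true _ _).2 ⟨by decide +kernel, C1_cm⟩)

theorem C1_g1 : Good 128 ns C1_p C1_s (gen ns (sTop C1G_S1)) C1_k1 :=
  C1_g0.tail ctx C1G_ex.1 (by decide +kernel)

theorem C1_g2 : Good 128 ns C1_p C1_s (gen ns (sTop C1G_S2)) C1_k2 :=
  C1_g1.tail ctx C1G_ex.1.tail (by decide +kernel)

theorem C1_g3 : Good 128 ns C1_p C1_s (gen ns (sTop C1G_S3)) C1_k3 :=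
  C1_g2.tail ctx C1G_ex.1.tail.tail (by decide +kernel)

theorem C1_l4 : LevX 128 ns C1_p C1_s (gen ns (sTop C1G_S4)) C1_k4 1 :=
  levX_nil _ _ _ _

theorem C1_l3 : LevX 128 ns C1_p C1_s (gen ns (sTop C1G_S3)) C1_k3 6 :=
  C1_l4.step ctx C1G_ex.1.tail.tail.tail C1_g3 (br_zero _ _ _ _ _ _ _) [(0, 79, 3)] 2 2 (by decide +kernel)

theorem C1_c2_45 : Br 128 ns C1_p C1_s (gen ns (sTop C1G_S2)) C1G_d2.p (Nat.shiftLeft 1 45) (InCs ns C1G_S2 []) :=
  br_of_cnt ctx C1G_ex.1.tail.tail [119] (.pair 6 2 22 2 0) (by decide +kernel) _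

noncomputable def C1_B2_cs : List (List ℕ) :=
  []

noncomputable def C1_B2_pl : List Pl :=
  [⟨.lst 0, []⟩, ⟨.free, []⟩]

noncomputable def C1_B2_M0 : ℕ :=
  nat_lit 0x4000000

theorem C1_B2_b0 : Br 128 ns C1_p C1_s (gen ns (sTop C1G_S2)) C1G_d2.p C1_B2_M0 (InCs ns C1G_S2 C1_B2_cs) :=
  br_of_brB ctx hE C1G_ex.1.tail.tail (pl := C1_B2_pl) (bs := [24, 4]) (tps := [65, 45]) (by decide +kernel)

theorem C1_l2 : LevX 128 ns C1_p C1_s (gen ns (sTop C1G_S2)) C1_k2 6 :=
  C1_l3.step ctx C1G_ex.1.tail.tail C1_g2 (((br_zero _ _ _ _ _ _ _).lor C1_c2_45).lor C1_B2_b0) [] 1 0 (by decide +kernel)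

theorem C1_l1 : LevX 128 ns C1_p C1_s (gen ns (sTop C1G_S1)) C1_k1 6 :=
  C1_l2.step ctx C1G_ex.1.tail C1_g1 (br_zero _ _ _ _ _ _ _) [(0, 4, 0)] 0 0 (by decide +kernel)

theorem C1_c0_67 : Br 128 ns C1_p C1_s (gen ns (sTop C1G_S0)) C1G_d0.p (Nat.shiftLeft 1 67) (InCs ns C1G_S0 []) :=
  br_of_cnt ctx C1G_ex.1 [123] (.pair 0 3 3 3 0) (by decide +kernel) _

theorem C1_l0 : LevX 128 ns C1_p C1_s (gen ns (sTop C1G_S0)) C1_k0 240 :=
  C1_l1.step ctx C1G_ex.1 C1_g0 ((br_zero _ _ _ _ _ _ _).lor C1_c0_67) [] 3 3 (by decide +kernel)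

theorem C1 : CentEq ns (gen ns [[0], [2]]) C1_as C1_k0 240 :=
  centEq_of ctx C1G_ex.2.1 C1_l0 C1_g0 C1_cm

noncomputable def A1_C2 : List Lvl :=
  []

noncomputable def A1_ss1 : List (List ℕ) :=
  [[136], [126]]

noncomputable def A1_D1 : ℕ :=
  nat_lit 0x400000008200002

noncomputable def A1_l1 : Lvl :=
  ⟨1, [[136], [126]],
  tabA [(58, 256), (21, 258), (27, 14850)], 2⟩

noncomputable def A1_C1 : List Lvl :=
  A1_l1 :: A1_C2

noncomputable def A1_ss0 : List (List ℕ) :=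
  [[132], [134]]

noncomputable def A1_D0 : ℕ :=
  nat_lit 0x4000508210102204002400181

noncomputable def A1_l0 : Lvl :=
  ⟨0, [[132], [134], [136], [126]],
  tabC 15 32767 [nat_lit 0x31040000000000000000000000000080000000000200000000000000000000000000c4040000000000000000000000000000000000000000000000018000000140100000000000000000000000000000000000000000000000005000a00600000000000000000000000000,
 nat_lit 0xc4080000000000000000000000000000000000000000000000000000000114000000000000000000000000100600000000000000000028010000000000000000002], 3⟩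

noncomputable def A1_C0 : List Lvl :=
  A1_l0 :: A1_C1

theorem A1_ver2 : Ver ns A1_C2 1 :=
  ver_nil _

theorem A1_le1 : gen ns A1_l1.ws ≤ gen ns A1_ss1 :=
  gen_le_step ctx (tgt := [])
  (es := []) (le_refl (gen _ [])) (by decide +kernel)

theorem A1_lv1 : chkLvl 128 ns A1_l1 A1_C2 A1_D1 1 = true :=
  by decide +kernel

theorem A1_pt1_0 : AllIn (PtOK 128 ns A1_l1 A1_C2 A1_ss1 A1_D1) 0 128 :=
  ptOK_of_chkPts ctx A1_ver2 (a := 0) (n := 2) (by decide +kernel)

theorem A1_st1 : IsStab 128 (gen ns A1_l1.ws) (cgrp ns A1_C2) A1_l1.b A1_D1 :=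
  isStab_plain ctx A1_le1 A1_lv1 (by norm_num) A1_pt1_0

theorem A1_ver1 : Ver ns A1_C1 4 :=
  A1_ver2.cons ctx A1_st1 (by decide +kernel)

theorem A1_le0 : gen ns A1_l0.ws ≤ gen ns A1_ss0 :=
  gen_le_step ctx (tgt := [[136], [126]])
  (es := [([136], [0, 3, 0, 2, 1, 2, 0, 2]), ([126], [3, 5, 5, 5, 3, 5, 2])]) A1_le1 (by decide +kernel)

theorem A1_lv0 : chkLvl 128 ns A1_l0 A1_C1 A1_D0 2 = true :=
  by decide +kernel

theorem A1_pt0_0 : AllIn (PtOK 128 ns A1_l0 A1_C1 A1_ss0 A1_D0) 0 128 :=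
  ptOK_of_chkPts ctx A1_ver1 (a := 0) (n := 2) (by decide +kernel)

theorem A1_st0 : IsStab 128 (gen ns A1_l0.ws) (cgrp ns A1_C1) A1_l0.b A1_D0 :=
  isStab_plain ctx A1_le0 A1_lv0 (by norm_num) A1_pt0_0

theorem A1_ver0 : Ver ns A1_C0 60 :=
  A1_ver1.cons ctx A1_st0 (by decide +kernel)

theorem A1_eq : gen ns A1_ss0 = cgrp ns A1_C0 :=
  le_antisymm (gen_le_of_subsetL _ (by decide +kernel)) A1_le0

theorem A1_card : Nat.card (gen ns A1_ss0) = 60 :=
  by rw [A1_eq]; exact A1_ver0.card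

theorem A1_n : ∀ u ∈ cjW C1_k0 A1_ss0, wp ns u ∈ cgrp ns A1_C0 :=
  mem_of_siftAll ctx A1_ver0.nested (by decide +kernel)

noncomputable def D1G_S4 : List SD :=
  []

noncomputable def D1G_d3 : SD :=
  ⟨0, 2, [138], lab 1 1 (nat_lit 0x100000000000000000), 1⟩

noncomputable def D1G_S3 : List SD :=
  D1G_d3 :: D1G_S4

noncomputable def D1G_d2 : SD :=
  ⟨51, 6, [140, 138], lab 2 3 (nat_lit 0x100d08c1dc00808000002010101000c000c04c000000), 6⟩

noncomputable def D1G_S2 : List SD :=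
  D1G_d2 :: D1G_S3

noncomputable def D1G_d1 : SD :=
  ⟨92, 4, [142, 140, 138], lab 3 7 (nat_lit 0x28040008b090102620c30980498002404c1608141484ac00810e0420000a28708800000000), 4⟩

noncomputable def D1G_S1 : List SD :=
  D1G_d1 :: D1G_S2

noncomputable def D1G_d0 : SD :=
  ⟨4, 3, [144, 142, 140, 138], lab 3 7 (nat_lit 0xe992006d9beaf96ddb3b97793263c03c335a700095d1d3282be10ce3087c8c88b6437138698), 5⟩

noncomputable def D1G_S0 : List SD :=
  D1G_d0 :: D1G_S1

theorem kn_5 : Known ns (gen ns [[0], [2]]) 37483781705840556277759 :=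
  kn_4.steps ctx (es := [(66, [20, 4, 14, 13, 14, 14, 20]),
 (67, [7, 17, 0, 15, 9, 15, 20, 28]),
 (69, [21, 3, 14, 13, 21, 14, 18, 24, 22]),
 (70, [21, 2, 11, 9, 14, 14, 20, 24, 28]),
 (71, [14, 5, 15, 12, 14, 14, 20, 24]),
 (72, [21, 5, 12, 14, 14, 18]),
 (73, [20, 7, 15, 11, 15, 18, 24, 28]),
 (74, [16, 2, 9, 12, 15, 24])]) (by decide +kernel)

theorem D1G_ex : Exact 128 ns D1G_S0 ∧ gen ns (sTop D1G_S0) = gen ns [[0], [2]] ∧ gen ns [[0], [2]] = gen ns [[0], [2]] :=
  exact_of_known ctx hn (le_rfl) kn_5 (by decide +kernel)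

noncomputable def D1_as : List (List ℕ) :=
  [[132], [134]]

noncomputable def D1_p : List (List ℕ × List ℕ) :=
  derAs (dg D1_as) [[0], [2]]

noncomputable def D1_s : List (ℕ × ℕ) :=
  derSs 128 7 ns (dg D1_as) [[0], [2]]

noncomputable def D1_k0 : List (List ℕ) :=
  [[148], [146]]

noncomputable def D1_k1 : List (List ℕ) :=
  [[146]]

noncomputable def D1_k2 : List (List ℕ) :=
  [[146]]

noncomputable def D1_k3 : List (List ℕ) :=
  [[146]]

noncomputable def D1_k4 : List (List ℕ) :=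
  []

theorem D1_cm : commB 128 7 ns (dg D1_as) D1_k0 = true :=
  by decide +kernel

theorem D1_g0 : Good 128 ns D1_p D1_s (gen ns (sTop D1G_S0)) D1_k0 :=
  good_der ctx kn_5 (D1G_ex.2.1.trans D1G_ex.2.2.symm) _ _ ((and'_eq_true _ _).2 ⟨by decide +kernel, D1_cm⟩)

theorem D1_g1 : Good 128 ns D1_p D1_s (gen ns (sTop D1G_S1)) D1_k1 :=
  D1_g0.tail ctx D1G_ex.1 (by decide +kernel)

theorem D1_g2 : Good 128 ns D1_p D1_s (gen ns (sTop D1G_S2)) D1_k2 :=
  D1_g1.tail ctx D1G_ex.1.tail (by decide +kernel)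

theorem D1_g3 : Good 128 ns D1_p D1_s (gen ns (sTop D1G_S3)) D1_k3 :=
  D1_g2.tail ctx D1G_ex.1.tail.tail (by decide +kernel)

theorem D1_l4 : LevX 128 ns D1_p D1_s (gen ns (sTop D1G_S4)) D1_k4 1 :=
  levX_nil _ _ _ _

theorem D1_l3 : LevX 128 ns D1_p D1_s (gen ns (sTop D1G_S3)) D1_k3 3 :=
  D1_l4.step ctx D1G_ex.1.tail.tail.tail D1_g3 (br_zero _ _ _ _ _ _ _) [] 2 2 (by decide +kernel)

theorem D1_l2 : LevX 128 ns D1_p D1_s (gen ns (sTop D1G_S2)) D1_k2 3 :=
  D1_l3.step ctx D1G_ex.1.tail.tail D1_g2 (br_zero _ _ _ _ _ _ _) [(0, 42, 6), (1, 92, 0)] 0 0 (by decide +kernel)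

theorem D1_l1 : LevX 128 ns D1_p D1_s (gen ns (sTop D1G_S1)) D1_k1 3 :=
  D1_l2.step ctx D1G_ex.1.tail D1_g1 (br_zero _ _ _ _ _ _ _) [(0, 4, 0)] 0 0 (by decide +kernel)

noncomputable def D1_B0_cs : List (List ℕ) :=
  []

noncomputable def D1_B0_pl : List Pl :=
  [⟨.lst 0, []⟩, ⟨.free, []⟩, ⟨.free, []⟩, ⟨.free, []⟩]

noncomputable def D1_B0_M0 : ℕ :=
  nat_lit 0x408e0000

theorem D1_B0_b0 : Br 128 ns D1_p D1_s (gen ns (sTop D1G_S0)) D1G_d0.p D1_B0_M0 (InCs ns D1G_S0 D1_B0_cs) :=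
  br_of_brB ctx hE D1G_ex.1 (pl := D1_B0_pl) (bs := []) (tps := [86, 72]) (by decide +kernel)

noncomputable def D1_B0_M1 : ℕ :=
  nat_lit 0x208048400000000

theorem D1_B0_b1 : Br 128 ns D1_p D1_s (gen ns (sTop D1G_S0)) D1G_d0.p D1_B0_M1 (InCs ns D1G_S0 D1_B0_cs) :=
  br_of_brB ctx hE D1G_ex.1 (pl := D1_B0_pl) (bs := []) (tps := [86, 72]) (by decide +kernel)

noncomputable def D1_B0_M2 : ℕ :=
  nat_lit 0x501010000000000000000000

theorem D1_B0_b2 : Br 128 ns D1_p D1_s (gen ns (sTop D1G_S0)) D1G_d0.p D1_B0_M2 (InCs ns D1G_S0 D1_B0_cs) :=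
  br_of_brB ctx hE D1G_ex.1 (pl := D1_B0_pl) (bs := []) (tps := [86, 72]) (by decide +kernel)

theorem D1_l0 : LevX 128 ns D1_p D1_s (gen ns (sTop D1G_S0)) D1_k0 12 :=
  D1_l1.step ctx D1G_ex.1 D1_g0 ((br_zero _ _ _ _ _ _ _).lor ((D1_B0_b0.lor D1_B0_b1).lor D1_B0_b2)) [] 3 2 (by decide +kernel)

theorem D1 : CentEq ns (gen ns [[0], [2]]) D1_as D1_k0 12 :=
  centEq_of ctx D1G_ex.2.1 D1_l0 D1_g0 D1_cm

theorem A1_s : ∀ u ∈ ltrs [136, 150], wp ns u ∈ cgrp ns A1_C0 :=
  mem_of_siftAll ctx A1_ver0.nested (by decide +kernel)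

noncomputable def C2G_S4 : List SD :=
  []

noncomputable def C2G_d3 : SD :=
  ⟨37, 2, [154, 156], lab 2 3 (nat_lit 0xa000100000000000000000000000020000080000000), 3⟩

noncomputable def C2G_S3 : List SD :=
  C2G_d3 :: C2G_S4

noncomputable def C2G_d2 : SD :=
  ⟨32, 3, [158, 154, 156], lab 3 7 (nat_lit 0x6000800000000000010800004000000002200020016000000004000000000c8000000040), 4⟩

noncomputable def C2G_S2 : List SD :=
  C2G_d2 :: C2G_S3

noncomputable def C2G_d1 : SD :=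
  ⟨5, 4, [160, 158, 154, 156], lab 3 7 (nat_lit 0x3a180c0000000000004040080000a000c00100021044000821408200066080c800404008b), 3⟩

noncomputable def C2G_S1 : List SD :=
  C2G_d1 :: C2G_S2

noncomputable def C2G_d0 : SD :=
  ⟨3, 3, [162, 160, 158, 154, 156], lab 4 15 (nat_lit 0x8050011183018364234553577841054461665728721305205712416026704021640410178826150602042043436103270627), 4⟩

noncomputable def C2G_S0 : List SD :=
  C2G_d0 :: C2G_S1

theorem kn_6 : Known ns (gen ns [[0], [2]]) 77295694589358415605170175 :=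
  kn_5.steps ctx (es := [(68, [9, 12, 8, 20, 14]),
 (75, [17, 8, 24, 28]),
 (77, [26, 4, 8, 10, 14, 14, 28]),
 (78, [8, 12, 4, 11, 14, 14, 20]),
 (79, [14, 5, 0, 11, 15, 20, 24]),
 (80, [11, 4, 14, 10, 8, 14, 18, 24, 22, 28]),
 (81, [7, 25, 2, 8, 12, 21, 14, 20, 22]),
 (82, [0, 16, 2, 14, 8, 16, 18, 24, 22, 28]),
 (83, [11, 20, 22, 28]),
 (84, [4, 21, 2, 15, 11, 8, 16, 20, 22, 28]),
 (85, [10, 4, 8, 12, 16, 20, 22, 28])]) (by decide +kernel)

theorem C2G_ex : Exact 128 ns C2G_S0 ∧ gen ns (sTop C2G_S0) = gen ns [[0], [2]] ∧ gen ns [[0], [2]] = gen ns [[0], [2]] :=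
  exact_of_known ctx hn (le_rfl) kn_6 (by decide +kernel)

noncomputable def C2_as : List (List ℕ) :=
  [[152]]

noncomputable def C2_p : List (List ℕ × List ℕ) :=
  derAs (dg C2_as) [[0]]

noncomputable def C2_s : List (ℕ × ℕ) :=
  derSs 128 7 ns (dg C2_as) [[0]]

noncomputable def C2_k0 : List (List ℕ) :=
  [[170], [168], [166], [164]]

noncomputable def C2_k1 : List (List ℕ) :=
  [[168], [166], [164]]

noncomputable def C2_k2 : List (List ℕ) :=
  [[166], [164]]

noncomputable def C2_k3 : List (List ℕ) :=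
  [[164]]

noncomputable def C2_k4 : List (List ℕ) :=
  []

theorem C2_cm : commB 128 7 ns (dg C2_as) C2_k0 = true :=
  by decide +kernel

theorem C2_g0 : Good 128 ns C2_p C2_s (gen ns (sTop C2G_S0)) C2_k0 :=
  good_der ctx kn_6 (C2G_ex.2.1.trans C2G_ex.2.2.symm) _ _ ((and'_eq_true _ _).2 ⟨by decide +kernel, C2_cm⟩)

theorem C2_g1 : Good 128 ns C2_p C2_s (gen ns (sTop C2G_S1)) C2_k1 :=
  C2_g0.tail ctx C2G_ex.1 (by decide +kernel)

theorem C2_g2 : Good 128 ns C2_p C2_s (gen ns (sTop C2G_S2)) C2_k2 :=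
  C2_g1.tail ctx C2G_ex.1.tail (by decide +kernel)

theorem C2_g3 : Good 128 ns C2_p C2_s (gen ns (sTop C2G_S3)) C2_k3 :=
  C2_g2.tail ctx C2G_ex.1.tail.tail (by decide +kernel)

theorem C2_l4 : LevX 128 ns C2_p C2_s (gen ns (sTop C2G_S4)) C2_k4 1 :=
  levX_nil _ _ _ _

theorem C2_l3 : LevX 128 ns C2_p C2_s (gen ns (sTop C2G_S3)) C2_k3 2 :=
  C2_l4.step ctx C2G_ex.1.tail.tail.tail C2_g3 (br_zero _ _ _ _ _ _ _) [] 1 1 (by decide +kernel)

theorem C2_l2 : LevX 128 ns C2_p C2_s (gen ns (sTop C2G_S2)) C2_k2 6 :=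
  C2_l3.step ctx C2G_ex.1.tail.tail C2_g2 (br_zero _ _ _ _ _ _ _) [] 1 1 (by decide +kernel)

theorem C2_l1 : LevX 128 ns C2_p C2_s (gen ns (sTop C2G_S1)) C2_k1 24 :=
  C2_l2.step ctx C2G_ex.1.tail C2_g1 (br_zero _ _ _ _ _ _ _) [] 1 1 (by decide +kernel)

theorem C2_l0 : LevX 128 ns C2_p C2_s (gen ns (sTop C2G_S0)) C2_k0 336 :=
  C2_l1.step ctx C2G_ex.1 C2_g0 (br_zero _ _ _ _ _ _ _) [] 3 3 (by decide +kernel)

theorem C2 : CentEq ns (gen ns [[0], [2]]) C2_as C2_k0 336 :=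
  centEq_of ctx C2G_ex.2.1 C2_l0 C2_g0 C2_cm

noncomputable def A2_C2 : List Lvl :=
  []

noncomputable def A2_ss1 : List (List ℕ) :=
  [[176]]

noncomputable def A2_D1 : ℕ :=
  nat_lit 0x8020000000000000000000042

noncomputable def A2_l1 : Lvl :=
  ⟨1, [[176]],
  tabA [(89, 256), (99, 257), (6, 22784)], 2⟩

noncomputable def A2_C1 : List Lvl :=
  A2_l1 :: A2_C2

noncomputable def A2_ss0 : List (List ℕ) :=
  [[172], [174]]

noncomputable def A2_D0 : ℕ :=
  nat_lit 0xc02c8729cad006898b8575e43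

noncomputable def A2_l0 : Lvl :=
  ⟨0, [[172], [174], [178], [176]],
  tabC 15 32767 [nat_lit 0x20020002b018000920800000000a050000000000000000000000000000000000e8167018000140c000000000005c0600000003a079c0400000000000200800021809400200000000000000000124140000a020000281c00200020001580800043002204000488000000000280c000000000000001d010000,
 nat_lit 0x20e04140000000000000000000000000000000830000860e00140000000200c000000000000000e800802900700000001d018000860800000003a060007581c0000000], 3⟩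

noncomputable def A2_C0 : List Lvl :=
  A2_l0 :: A2_C1

theorem A2_ver2 : Ver ns A2_C2 1 :=
  ver_nil _

theorem A2_le1 : gen ns A2_l1.ws ≤ gen ns A2_ss1 :=
  gen_le_step ctx (tgt := [])
  (es := []) (le_refl (gen _ [])) (by decide +kernel)

theorem A2_lv1 : chkLvl 128 ns A2_l1 A2_C2 A2_D1 3 = true :=
  by decide +kernel

theorem A2_pt1_0 : AllIn (PtOK 128 ns A2_l1 A2_C2 A2_ss1 A2_D1) 0 128 :=
  ptOK_of_chkPts ctx A2_ver2 (a := 0) (n := 2) (by decide +kernel)

theorem A2_st1 : IsStab 128 (gen ns A2_l1.ws) (cgrp ns A2_C2) A2_l1.b A2_D1 :=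
  isStab_plain ctx A2_le1 A2_lv1 (by norm_num) A2_pt1_0

theorem A2_ver1 : Ver ns A2_C1 4 :=
  A2_ver2.cons ctx A2_st1 (by decide +kernel)

theorem A2_le0 : gen ns A2_l0.ws ≤ gen ns A2_ss0 :=
  gen_le_step ctx (tgt := [[176], [178]])
  (es := [([176], [1, 3, 0, 3, 1, 2, 2, 0, 3, 1]), ([178], [3, 5, 2, 5])]) A2_le1 (by decide +kernel)

theorem A2_lv0 : chkLvl 128 ns A2_l0 A2_C1 A2_D0 2 = true :=
  by decide +kernel

theorem A2_pt0_0 : AllIn (PtOK 128 ns A2_l0 A2_C1 A2_ss0 A2_D0) 0 128 :=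
  ptOK_of_chkPts ctx A2_ver1 (a := 0) (n := 2) (by decide +kernel)

theorem A2_st0 : IsStab 128 (gen ns A2_l0.ws) (cgrp ns A2_C1) A2_l0.b A2_D0 :=
  isStab_plain ctx A2_le0 A2_lv0 (by norm_num) A2_pt0_0

theorem A2_ver0 : Ver ns A2_C0 168 :=
  A2_ver1.cons ctx A2_st0 (by decide +kernel)

theorem A2_eq : gen ns A2_ss0 = cgrp ns A2_C0 :=
  le_antisymm (gen_le_of_subsetL _ (by decide +kernel)) A2_le0

theorem A2_card : Nat.card (gen ns A2_ss0) = 168 :=
  by rw [A2_eq]; exact A2_ver0.card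

theorem A2_n : ∀ u ∈ cjW C2_k0 A2_ss0, wp ns u ∈ cgrp ns A2_C0 :=
  mem_of_siftAll ctx A2_ver0.nested (by decide +kernel)

noncomputable def D2G_S5 : List SD :=
  []

noncomputable def D2G_d4 : SD :=
  ⟨0, 1, [180], lab 1 1 0, 1⟩

noncomputable def D2G_S4 : List SD :=
  D2G_d4 :: D2G_S5

noncomputable def D2G_d3 : SD :=
  ⟨3, 2, [182, 180], lab 2 3 (nat_lit 0x4000000000000000000), 2⟩

noncomputable def D2G_S3 : List SD :=
  D2G_d3 :: D2G_S4

noncomputable def D2G_d2 : SD :=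
  ⟨26, 3, [184, 182, 180], lab 3 7 (nat_lit 0x200324000800100020000000000000000010000000400006010001a000000000000004040), 4⟩

noncomputable def D2G_S2 : List SD :=
  D2G_d2 :: D2G_S3

noncomputable def D2G_d1 : SD :=
  ⟨88, 3, [186, 184, 182, 180], lab 3 7 (nat_lit 0x10106000430d00100c6010026400200008030001000000228800228000818600), 4⟩

noncomputable def D2G_S1 : List SD :=
  D2G_d1 :: D2G_S2

noncomputable def D2G_d0 : SD :=
  ⟨54, 3, [188, 186, 184, 182, 180], lab 4 15 (nat_lit 0x3728861826614450814411817341860866164553524470003412016703065237407320252145368026764250346482434651), 4⟩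

noncomputable def D2G_S0 : List SD :=
  D2G_d0 :: D2G_S1

theorem kn_7 : Known ns (gen ns [[0], [2]]) 38685550669802155739021606911 :=
  kn_6.steps ctx (es := [(86, [6, 8, 21, 14, 18, 28]),
 (87, [10, 15, 4, 13, 15, 18, 24, 22]),
 (90, [21, 4, 2, 13, 11, 14, 14, 24]),
 (91, [15, 3, 0, 13, 11, 21, 14, 24]),
 (92, [17, 2, 8, 11, 14, 14]),
 (93, [14, 7, 11, 9, 20, 14, 24, 28]),
 (94, [24, 4, 2, 15, 12, 14, 14, 24, 22, 28])]) (by decide +kernel)

theorem D2G_ex : Exact 128 ns D2G_S0 ∧ gen ns (sTop D2G_S0) = gen ns [[0], [2]] ∧ gen ns [[0], [2]] = gen ns [[0], [2]] :=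
  exact_of_known ctx hn (le_rfl) kn_7 (by decide +kernel)

noncomputable def D2_as : List (List ℕ) :=
  [[172], [174]]

noncomputable def D2_p : List (List ℕ × List ℕ) :=
  derAs (dg D2_as) [[0], [2]]

noncomputable def D2_s : List (ℕ × ℕ) :=
  derSs 128 7 ns (dg D2_as) [[0], [2]]

noncomputable def D2_k0 : List (List ℕ) :=
  []

noncomputable def D2_k1 : List (List ℕ) :=
  []

noncomputable def D2_k2 : List (List ℕ) :=
  []

noncomputable def D2_k3 : List (List ℕ) :=
  []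

noncomputable def D2_k4 : List (List ℕ) :=
  []

noncomputable def D2_k5 : List (List ℕ) :=
  []

theorem D2_cm : commB 128 7 ns (dg D2_as) D2_k0 = true :=
  by decide +kernel

theorem D2_g0 : Good 128 ns D2_p D2_s (gen ns (sTop D2G_S0)) D2_k0 :=
  good_der ctx kn_7 (D2G_ex.2.1.trans D2G_ex.2.2.symm) _ _ ((and'_eq_true _ _).2 ⟨by decide +kernel, D2_cm⟩)

theorem D2_g1 : Good 128 ns D2_p D2_s (gen ns (sTop D2G_S1)) D2_k1 :=
  D2_g0.tail ctx D2G_ex.1 (by decide +kernel)

theorem D2_g2 : Good 128 ns D2_p D2_s (gen ns (sTop D2G_S2)) D2_k2 :=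
  D2_g1.tail ctx D2G_ex.1.tail (by decide +kernel)

theorem D2_g3 : Good 128 ns D2_p D2_s (gen ns (sTop D2G_S3)) D2_k3 :=
  D2_g2.tail ctx D2G_ex.1.tail.tail (by decide +kernel)

theorem D2_g4 : Good 128 ns D2_p D2_s (gen ns (sTop D2G_S4)) D2_k4 :=
  D2_g3.tail ctx D2G_ex.1.tail.tail.tail (by decide +kernel)

theorem D2_l5 : LevX 128 ns D2_p D2_s (gen ns (sTop D2G_S5)) D2_k5 1 :=
  levX_nil _ _ _ _

theorem D2_l4 : LevX 128 ns D2_p D2_s (gen ns (sTop D2G_S4)) D2_k4 1 :=
  D2_l5.step ctx D2G_ex.1.tail.tail.tail.tail D2_g4 (br_zero _ _ _ _ _ _ _) [(0, 58, 1)] 0 0 (by decide +kernel)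

theorem D2_l3 : LevX 128 ns D2_p D2_s (gen ns (sTop D2G_S3)) D2_k3 1 :=
  D2_l4.step ctx D2G_ex.1.tail.tail.tail D2_g3 (br_zero _ _ _ _ _ _ _) [(1, 48, 2)] 0 0 (by decide +kernel)

theorem D2_l2 : LevX 128 ns D2_p D2_s (gen ns (sTop D2G_S2)) D2_k2 1 :=
  D2_l3.step ctx D2G_ex.1.tail.tail D2_g2 (br_zero _ _ _ _ _ _ _) [] 0 0 (by decide +kernel)

theorem D2_l1 : LevX 128 ns D2_p D2_s (gen ns (sTop D2G_S1)) D2_k1 1 :=
  D2_l2.step ctx D2G_ex.1.tail D2_g1 (br_zero _ _ _ _ _ _ _) [] 0 0 (by decide +kernel)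

noncomputable def D2_B0_cs : List (List ℕ) :=
  []

noncomputable def D2_B0_pl : List Pl :=
  [⟨.lst 0, []⟩, ⟨.free, []⟩, ⟨.free, []⟩, ⟨.free, []⟩, ⟨.free, []⟩]

noncomputable def D2_B0_M0 : ℕ :=
  nat_lit 0x10000000000000000000000

theorem D2_B0_b0 : Br 128 ns D2_p D2_s (gen ns (sTop D2G_S0)) D2G_d0.p D2_B0_M0 (InCs ns D2G_S0 D2_B0_cs) :=
  br_of_brB ctx hE D2G_ex.1 (pl := D2_B0_pl) (bs := []) (tps := [17]) (by decide +kernel)

theorem D2_l0 : LevX 128 ns D2_p D2_s (gen ns (sTop D2G_S0)) D2_k0 1 :=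
  D2_l1.step ctx D2G_ex.1 D2_g0 ((br_zero _ _ _ _ _ _ _).lor D2_B0_b0) [] 0 0 (by decide +kernel)

theorem D2 : CentEq ns (gen ns [[0], [2]]) D2_as D2_k0 1 :=
  centEq_of ctx D2G_ex.2.1 D2_l0 D2_g0 D2_cm

theorem A2_s : ∀ u ∈ ltrs [194, 192, 190], wp ns u ∈ cgrp ns A2_C0 :=
  mem_of_siftAll ctx A2_ver0.nested (by decide +kernel)

theorem kn_8 : Known ns (gen ns [[0], [2]]) 628753769182614453129307039498239 :=
  kn_7.steps ctx (es := [(97, [18, 4, 2, 15, 9, 21, 14, 20, 24]),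
 (96, [20, 5, 9, 12, 8, 18, 22, 28]),
 (95, [4, 17, 0, 13, 9, 20, 14, 20, 22]),
 (103, [4, 21, 2, 9, 12, 8, 15, 22, 28]),
 (102, [4, 17, 0, 14, 8, 16, 18, 24]),
 (101, [2, 18, 10, 15, 20, 24, 28]),
 (100, [18, 6, 8, 18, 24, 22, 28]),
 (99, [15, 3, 0, 24, 8, 18, 24, 22]),
 (98, [14, 4, 26, 9, 15, 20, 24, 22, 28]),
 (105, [26, 2, 9, 12, 20, 14, 18]),
 (106, [22, 2, 11, 8, 14, 20, 24, 22]),
 (107, [2, 9, 12, 20, 14, 18, 22, 28]),
 (108, [11, 25, 4, 10, 9, 21, 14, 20, 22])]) (by decide +kernel)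

theorem kc_0 : Known ns (gen ns [[216], [210], [212], [214]]) 608472288109550112718417538580480 :=
  known_gen (by decide +kernel)

noncomputable def Y_S5 : List SD :=
  []

noncomputable def Y_d4 : SD :=
  ⟨0, 1, [94], lab 1 1 0, 1⟩

noncomputable def Y_S4 : List SD :=
  Y_d4 :: Y_S5

noncomputable def Y_d3 : SD :=
  ⟨8, 1, [104, 94], lab 2 3 0, 1⟩

noncomputable def Y_S3 : List SD :=
  Y_d3 :: Y_S4

noncomputable def Y_d2 : SD :=
  ⟨1, 2, [222, 224, 104, 94], lab 3 7 512, 2⟩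

noncomputable def Y_S2 : List SD :=
  Y_d2 :: Y_S3

noncomputable def Y_d1 : SD :=
  ⟨19, 2, [218, 220, 222, 224, 104, 94], lab 4 15 (nat_lit 0x100020000000000003000000000000000000000000000000000000000000000000000000000000000000000), 2⟩

noncomputable def Y_S1 : List SD :=
  Y_d1 :: Y_S2

noncomputable def Y_d0 : SD :=
  ⟨7, 2, [216, 210, 212, 214, 218, 220, 222, 224, 104, 94], lab 5 31 (nat_lit 0x801e0001200000000000014801800000026000200000002800000000140000000000000000000000000000000701000180022000020000000000000000000), 2⟩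

noncomputable def Y_S0 : List SD :=
  Y_d0 :: Y_S1

theorem kc_1 : Known ns (gen ns [[216], [210], [212], [214]]) 10344028897862351920857435271593984 :=
  kc_0.steps ctx (es := [(109, [217, 210, 217, 214, 212, 210, 214, 211, 211]),
 (110, [217, 210, 213, 217, 212, 214, 211]),
 (111, [219, 221, 221, 219, 221, 221]),
 (112, [218, 218, 218, 220, 219, 221, 221]),
 (52, [223, 225]),
 (47, [105, 105])]) (by decide +kernel)

theorem Y_ex : Exact 128 ns Y_S0 ∧ gen ns (sTop Y_S0) = gen ns C0_k0 ∧ gen ns [[216], [210], [212], [214]] = gen ns C0_k0 :=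
  exact_of_known ctx C0.card (C0.le_of ctx kn_8 (by decide +kernel)) kc_1 (by decide +kernel)

theorem kn_9 : Known ns (gen ns [[0], [2]]) 31782534920391580224312285014818815 :=
  kn_8.steps ctx (es := [(113, [24, 4, 2, 8, 11, 21, 14, 18, 28]),
 (114, [16, 5, 26, 9, 14, 14, 24, 22])]) (by decide +kernel)

theorem kx_3 : Known ns (gen ns [[0], [2], [30]]) 40247906632804219281303557695507 :=
  kx_2.steps ctx (es := [(37, [50, 30, 0, 55, 9, 59, 52, 58, 26]),
 (56, [28, 2, 0, 9, 57, 8, 59, 52, 59]),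
 (76, [22, 30, 2, 9, 53, 8, 52, 58, 62, 26, 28]),
 (104, [48, 2, 28, 53, 8, 62, 26]),
 (103, [28, 47, 0, 28, 53, 8, 60, 52, 62, 26, 28]),
 (102, [22, 30, 2, 53, 8, 54, 52, 58, 62, 26]),
 (101, [2, 52, 50, 59, 52, 26]),
 (100, [50, 2, 61, 8, 57, 58, 62, 26]),
 (99, [48, 30, 58, 51, 9, 60, 52, 59, 62, 26, 28]),
 (98, [53, 2, 0, 8, 59, 52, 58, 62, 26])]) (by decide +kernel)

theorem mo : Mo 128 7 ns (gen ns [[0], [2]]) 31782534920391580224312285014818815 :=
  ⟨ctx, kn_9, gen_le_supp ctx.ok _⟩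

theorem mx : Mo 128 7 ns (gen ns [[0], [2], [30]]) 40247906632804219281303557695507 :=
  ⟨ctx, kx_3, gen_le_supp ctx.ok _⟩

instance fin : Finite Cfsg.Spor.J2 := mo.finite equiv

instance finX : Finite (gen ns [[0], [2], [30]]) := finite_gen ctx.ok _

noncomputable def U1_top : List ℕ :=
  [136, 150]

noncomputable def U1_ts : List (List ℕ) :=
  [[74]]

theorem U1_nc : Nc (ev equiv ns) U1_top :=
  (wm_of_qs (mo.qs equiv)).nc (hs := [([], [[150]]),
 ([], [])]) (by decide +kernel)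

theorem U1_lb : 2 ^ U1_top.length ≤ Nat.card (sg (ev equiv ns) U1_top) :=
  le_card_sg mo equiv [(1, 1, [[150], [136]])] (by decide +kernel)

noncomputable def U1_c1 : CT :=
  (.two .triv
 (.lf [18, 4, 2, 15, 11, 8, 21, 14, 20, 28] [74]))

noncomputable def U1_c2 : CT :=
  (.two (.lf [0, 18, 2, 25, 8, 16, 18] [74])
 (.lf [22, 10, 4, 8, 10, 20, 14, 28] [74]))

theorem U1_cv1 : Cv (ev equiv ns) U1_ts [150] [] :=
  (U1_nc.ser U1_lb).cv' (wm_of_qs (mo.qs equiv)) U1_c1 0 (p := 136) (by decide +kernel)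

theorem U1_cv2 : Cv (ev equiv ns) U1_ts [150] [136] :=
  (U1_nc.ser U1_lb).cv' (wm_of_qs (mo.qs equiv)) U1_c2 0 (p := 136) (by decide +kernel)

theorem U1_cv : Cv (ev equiv ns) U1_ts U1_top [] :=
  (U1_nc.ser U1_lb).two (wm_of_qs (mo.qs equiv)) 0 (by decide +kernel) U1_cv1 U1_cv2

noncomputable def U2_top : List ℕ :=
  [194, 192, 190]

noncomputable def U2_ts : List (List ℕ) :=
  [[74]]

theorem U2_nc : Nc (ev equiv ns) U2_top :=
  (wm_of_qs (mo.qs equiv)).nc (hs := [([190], [[192, 190], [190]]),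
 ([], [[190]]),
 ([], [])]) (by decide +kernel)

theorem U2_lb : 2 ^ U2_top.length ≤ Nat.card (sg (ev equiv ns) U2_top) :=
  le_card_sg mo equiv [(0, 2, [[194], [194, 192]]),
 (1, 1, [[194, 192]])] (by decide +kernel)

noncomputable def U2_c1 : CT :=
  (.two (.two .triv
 (.lf [26, 4, 15, 11, 20, 14, 20] [74]))
 (.one [194] [] (.lf [22, 4, 2, 14, 10, 8, 15, 18, 24, 28] [74])))

noncomputable def U2_c2 : CT :=
  (.two (.one [192] [] (.no []))
 (.one [192] [] (.lf [25, 2, 10, 18, 24, 28] [74])))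

theorem U2_cv1 : Cv (ev equiv ns) U2_ts [192, 190] [] :=
  (U2_nc.ser U2_lb).cv' (wm_of_qs (mo.qs equiv)) U2_c1 0 (p := 194) (by decide +kernel)

theorem U2_cv2 : Cv (ev equiv ns) U2_ts [192, 190] [194] :=
  (U2_nc.ser U2_lb).cv' (wm_of_qs (mo.qs equiv)) U2_c2 0 (p := 194) (by decide +kernel)

theorem U2_cv : Cv (ev equiv ns) U2_ts U2_top [] :=
  (U2_nc.ser U2_lb).two (wm_of_qs (mo.qs equiv)) 0 (by decide +kernel) U2_cv1 U2_cv2

noncomputable def VX_top : List ℕ :=
  [208, 206, 204, 202, 200, 198, 196, 74]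

noncomputable def VX_ts : List (List ℕ) :=
  [[74], [112], [152]]

theorem VX_nc : Nc (ev (MulEquiv.refl ↥(gen ns [[0], [2], [30]])) ns) VX_top :=
  (wm_of_qs (mx.qs (MulEquiv.refl _))).nc (hs := [([202, 200], [[206, 202], [204, 202, 200, 196, 74], [202, 198, 74], [200, 198], [198, 196], [196, 74], [74]]),
 ([198], [[204, 202, 198, 74], [202, 196], [200, 198, 196], [198], [196, 74], [74]]),
 ([196], [[202, 196, 74], [200, 196], [198, 196, 74], [196], [74]]),
 ([74], [[200, 196, 74], [198, 74], [196], [74]]),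
 ([196], [[198], [196], [74]]),
 ([74], [[196], [74]]),
 ([], [[74]]),
 ([], [])]) (by decide +kernel)

theorem VX_lb : 2 ^ VX_top.length ≤ Nat.card (sg (ev (MulEquiv.refl ↥(gen ns [[0], [2], [30]])) ns) VX_top) :=
  le_card_sg mx (MulEquiv.refl _) [(0, 5, [[204], [206, 200, 196, 74], [208, 206, 204, 196]]),
 (1, 1, [[206, 200, 196, 74], [208, 206, 204, 196]])] (by decide +kernel)

noncomputable def VX_c1 : CT :=
  (.two (.two (.two (.two (.two (.two (.two .triv
 (.lf [] [74]))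
 (.one [206] [] (.lf [30, 3, 9, 57, 8, 59, 26, 28] [74])))
 (.one [204] [74] (.one [202] [] (.no []))))
 (.one [206] [196] (.one [202] [74] (.no []))))
 (.two (.one [208] [74] (.one [200] [74] (.one [198] [] (.no []))))
 (.one [206] [] (.one [200] [74] (.one [198] [] (.lf [30, 61, 8, 54, 53, 62, 28] [112]))))))
 (.one [206] [198, 74] (.one [208, 206] [196] (.two (.one [198] [74] (.no []))
 (.one [198] [74] (.one [200, 198] [] (.lf [2, 9, 53, 8, 55, 52, 58, 62, 26, 28] [112])))))))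
 (.two (.one [204] [198, 196, 74] (.two (.one [200] [196] (.no []))
 (.one [200] [196] (.two (.one [196] [] (.no []))
 (.one [196] [] (.lf [0, 2, 60, 9, 54, 53, 62] [74]))))))
 (.one [204] [198, 196, 74] (.no [74]))))

noncomputable def VX_c2 : CT :=
  (.two (.two (.one [204] [200, 196, 74] (.no [200]))
 (.one [204] [200, 196] (.two (.one [200] [196, 74] (.two (.one [196] [] (.no []))
 (.one [196] [] (.lf [3, 9, 52, 8, 57, 54, 62] [152]))))
 (.one [200] [196, 74] (.no [])))))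
 (.two (.one [206] [198, 196] (.one [204] [196] (.no [196])))
 (.two (.one [204] [] (.one [202] [] (.one [200] [] (.one [198] [] (.lf [54, 46, 0, 63, 8, 53, 26] [152])))))
 (.one [204] [] (.one [202] [74] (.no [74]))))))

theorem VX_cv1 : Cv (ev (MulEquiv.refl ↥(gen ns [[0], [2], [30]])) ns) VX_ts [206, 204, 202, 200, 198, 196, 74] [] :=
  (VX_nc.ser VX_lb).cv' (wm_of_qs (mx.qs (MulEquiv.refl _))) VX_c1 0 (p := 208) (by decide +kernel)

theorem VX_cv2 : Cv (ev (MulEquiv.refl ↥(gen ns [[0], [2], [30]])) ns) VX_ts [206, 204, 202, 200, 198, 196, 74] [208] :=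
  (VX_nc.ser VX_lb).cv' (wm_of_qs (mx.qs (MulEquiv.refl _))) VX_c2 0 (p := 208) (by decide +kernel)

theorem VX_cv : Cv (ev (MulEquiv.refl ↥(gen ns [[0], [2], [30]])) ns) VX_ts VX_top [] :=
  (VX_nc.ser VX_lb).two (wm_of_qs (mx.qs (MulEquiv.refl _))) 0 (by decide +kernel) VX_cv1 VX_cv2

noncomputable def VG_top : List ℕ :=
  [206, 204, 202, 200, 198, 196, 74]

noncomputable def VG_ts : List (List ℕ) :=
  [[74], [112]]

theorem VG_nc : Nc (ev equiv ns) VG_top :=
  (wm_of_qs (mo.qs equiv)).nc (hs := [([198], [[204, 202, 198, 74], [202, 196], [200, 198, 196], [198], [196, 74], [74]]),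
 ([196], [[202, 196, 74], [200, 196], [198, 196, 74], [196], [74]]),
 ([74], [[200, 196, 74], [198, 74], [196], [74]]),
 ([196], [[198], [196], [74]]),
 ([74], [[196], [74]]),
 ([], [[74]]),
 ([], [])]) (by decide +kernel)

theorem VG_lb : 2 ^ VG_top.length ≤ Nat.card (sg (ev equiv ns) VG_top) :=
  le_card_sg mo equiv [(0, 4, [[204, 74], [206, 202, 198, 196, 74], [206, 200, 196, 74]]),
 (1, 1, [[206, 200, 196, 74]])] (by decide +kernel)

noncomputable def VG_c1 : CT :=
  (.two (.two (.two (.two (.two (.two .triv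
 (.lf [] [74]))
 (.one [206] [] (.lf [18, 2, 8, 11, 20, 14, 18, 24, 22, 28] [74])))
 (.one [204] [74] (.one [202] [] (.no []))))
 (.one [206] [196] (.one [202] [74] (.no []))))
 (.two (.two (.one [200] [74] (.one [198] [] (.no [])))
 (.one [200] [74] (.one [198] [] (.no []))))
 (.one [206] [] (.one [200] [74] (.one [198] [] (.lf [18, 6, 11, 9, 20, 14, 18] [112]))))))
 (.one [206] [198, 74] (.two (.two (.one [198] [74] (.no []))
 (.one [198] [74] (.one [200, 198] [] (.lf [12, 14, 0, 15, 11, 8, 20, 14, 20, 24, 22, 28] [112]))))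
 (.two (.one [198] [74] (.no []))
 (.one [198] [74] (.one [202] [] (.lf [2, 18, 10, 15, 20, 24] [112])))))))

noncomputable def VG_c2 : CT :=
  (.two (.one [204] [198, 196, 74] (.two (.one [200] [196] (.no []))
 (.one [200] [196] (.two (.one [196] [] (.no []))
 (.one [196] [] (.lf [6, 5, 0, 16, 8, 16, 24, 22] [74]))))))
 (.one [204] [198, 196, 74] (.no [74])))

theorem VG_cv1 : Cv (ev equiv ns) VG_ts [204, 202, 200, 198, 196, 74] [] :=
  (VG_nc.ser VG_lb).cv' (wm_of_qs (mo.qs equiv)) VG_c1 0 (p := 206) (by decide +kernel)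

theorem VG_cv2 : Cv (ev equiv ns) VG_ts [204, 202, 200, 198, 196, 74] [206] :=
  (VG_nc.ser VG_lb).cv' (wm_of_qs (mo.qs equiv)) VG_c2 0 (p := 206) (by decide +kernel)

theorem VG_cv : Cv (ev equiv ns) VG_ts VG_top [] :=
  (VG_nc.ser VG_lb).two (wm_of_qs (mo.qs equiv)) 0 (by decide +kernel) VG_cv1 VG_cv2

theorem tw : TwoC (ev equiv ns [74]) :=
  twoC_of mo equiv hn C0 0 (by decide +kernel) (by norm_num)

theorem xt0 : XT equiv 3 128 (wp ns [74]) :=
  xt_two mo equiv hn C0 (Or.inl (by decide +kernel)) A0_card (by decide +kernel) (A0_eq ▸ A0_n) D0 12 (by norm_num)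

theorem xt1 : XT equiv 3 128 (wp ns [112]) :=
  xt_comp mo equiv hn C1 (by norm_num) (by decide +kernel) (A1_eq ▸ A1_n) D1 12 (by norm_num)
    (fun J h1 h2 => by
      obtain ⟨h3, h4⟩ := simple_of_card h1 h2 ((card_sub equiv (mo.k.gen_le (by decide +kernel))).trans A1_card) (by norm_num)
      exact jf_60 h4 (by norm_num))
    (twoC_sub mo equiv A1_card U1_nc U1_lb U1_cv (A1_eq ▸ A1_s) (by decide +kernel) (by decide +kernel) tw)

theorem xt2 : XT equiv 3 128 (wp ns [152]) :=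
  xt_comp mo equiv hn C2 (by norm_num) (by decide +kernel) (A2_eq ▸ A2_n) D2 12 (by norm_num)
    (fun J h1 h2 => by
      obtain ⟨h3, h4⟩ := simple_of_card h1 h2 ((card_sub equiv (mo.k.gen_le (by decide +kernel))).trans A2_card) (by norm_num)
      exact jf_168 h4)
    (twoC_sub mo equiv A2_card U2_nc U2_lb U2_cv (A2_eq ▸ A2_s) (by decide +kernel) (by decide +kernel) tw)

theorem hle : gen ns [[0], [2]] ≤ gen ns [[0], [2], [30]] :=
  gen_le_of_subsetL _ (by decide +kernel)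

theorem xfr : XFr 3 (2 ^ 7) Cfsg.Spor.J2 :=
  { prime := by norm_num
    odd := by norm_num
    rank := rank_of mo equiv [[226], [228]] [(0, 2, [[226, 228], [226]])] (by decide +kernel) (by decide +kernel)
    syl := syl_of equiv hn 7 (by norm_num)
    cls := cls_of (Cv.classes (wm_of_qs (mo.qs equiv)) VG_nc VG_lb
      (by rw [Nat.card_congr equiv.toEquiv, hn]; decide +kernel) VG_cv)
      (not_twoC mo.k equiv hn C1 (by decide +kernel) (by norm_num))
    cen := cen_of mo equiv (mo.qs equiv) C0 tw Y_ex.2.2 [214, 211, 212, 214, 211] 6 (by decide +kernel)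
    xp := xp_all (exists_phi equiv hle (le_normalizer_of_card hle (by rw [hX, hn])) le_rfl Z
      S2066.result (by rw [hX, hn])) mx.k (ts := VX_ts) (by decide +kernel)
      (Cv.classes (wm_of_qs (mx.qs (MulEquiv.refl _))) VX_nc VX_lb (by rw [hX]; decide +kernel) VX_cv)
      (List.forall_mem_cons.2 ⟨xt0, List.forall_mem_cons.2 ⟨xt1, List.forall_mem_cons.2 ⟨xt2, fun _ h => absurd h List.not_mem_nil⟩⟩⟩) }

end Cfsg.Agent.Q16.XJ2a
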