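import Mathlib
import Cfsg.Agent.Q16.Defs
import Cfsg.Agent.Q16.JF
import Cfsg.Agent.Q16.XJ2a
import Cfsg.Agent.S2066

/-!
`J₂`, `r = 3`, `n = 128`. Classes: 2A (2-central, `C = 2^{1+4}_-:A₅` perfect), 2B (`C = 2² × A₅`,
involutions of `A₅` in 2A), outer 2C in `J₂:2` (`Fix = PGL₂(7)` of order 336, involutions of `L₃(2)` in
2A). On the 100 points 2A fixes 20 points and 2B none. Use `XP.conj` to reduce `xp` to class representatives of involutions of `MulAut H`,
`XP.of_noComp` with `not_comp_of_isCharP` / `not_cp_of_solvable` for classes without component, and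
`fixed_conj` for inner ones. For a class with `Fix α ⊵ J₀` simple with solvable quotient, every component of
`Fix α` equals `J₀`. Involution classes: Comp/InvCov, K/InvMo, Spor/Mix* (helper6's pipeline).
-/

set_option autoImplicit false

namespace Cfsg.Agent.Q16

open Subgroup Cfsg Cfsg.Agent.PLocal

theorem xf_J2 : XF Spor.J2 :=
  ⟨_, _, XJ2a.xfr⟩

end Cfsg.Agent.Q16
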