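import Cfsg.Agent.Q16.XA
import Cfsg.Agent.Q16.JF
import Cfsg.Agent.Comp.LookT
import Cfsg.Agent.Spor.ModelM12
import Cfsg.Agent.S2061

set_option autoImplicit false
set_option Elab.async false
set_option maxRecDepth 4096

namespace Cfsg.Agent.Q16.XM12a

open Cfsg.Agent.Comp

noncomputable def ns_2 : Net :=
 (Net.cons (nat_lit 16) 21659
 (Net.cons (nat_lit 8) (nat_lit 0xf000a5)
 (Net.cons (nat_lit 4) (nat_lit 0x40d0008)
 (Net.cons (nat_lit 2) (nat_lit 0x10002112)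
 (Net.cons (nat_lit 1) (nat_lit 0x10400110)
 (Net.cons (nat_lit 2) (nat_lit 0x20000000)
 (Net.cons (nat_lit 4) (nat_lit 0x4080202)
 (Net.cons (nat_lit 8) (nat_lit 0xb40086)
 (Net.cons (nat_lit 16) 21578
 Net.nil)))))))))

noncomputable def ns_3 : Net :=
 (Net.cons (nat_lit 16) 19944
 (Net.cons (nat_lit 8) (nat_lit 0xc10080)
 (Net.cons (nat_lit 4) (nat_lit 0xc0e0204)
 (Net.cons (nat_lit 2) (nat_lit 0x320002)
 (Net.cons (nat_lit 1) (nat_lit 0x40141014)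
 (Net.cons (nat_lit 2) (nat_lit 0x220002)
 (Net.cons (nat_lit 4) 786438
 (Net.cons (nat_lit 8) (nat_lit 0xc40000)
 (Net.cons (nat_lit 16) 19900
 Net.nil)))))))))

noncomputable def ns_4 : Net :=
 (Net.cons (nat_lit 16) 20480
 (Net.cons (nat_lit 8) (nat_lit 0x58008a)
 (Net.cons (nat_lit 4) (nat_lit 0x804020c)
 (Net.cons (nat_lit 2) (nat_lit 0x20120230)
 (Net.cons (nat_lit 1) (nat_lit 0x10040100)
 (Net.cons (nat_lit 2) (nat_lit 0x20020200)
 (Net.cons (nat_lit 4) (nat_lit 0x804000c)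
 (Net.cons (nat_lit 8) (nat_lit 0x58000a)
 (Net.cons (nat_lit 16) 20480
 Net.nil)))))))))

noncomputable def ns_5 : Net :=
 (Net.cons (nat_lit 16) 13314
 (Net.cons (nat_lit 8) (nat_lit 0xb8005c)
 (Net.cons (nat_lit 4) (nat_lit 0x8030f0e)
 (Net.cons (nat_lit 2) 69920
 (Net.cons (nat_lit 1) (nat_lit 0x14005004)
 (Net.cons (nat_lit 2) (nat_lit 0x20000000)
 (Net.cons (nat_lit 4) (nat_lit 0x8000a04)
 (Net.cons (nat_lit 8) (nat_lit 0xb800dc)
 (Net.cons (nat_lit 16) 13318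
 Net.nil)))))))))

noncomputable def ns_6 : Net :=
 (Net.cons (nat_lit 16) 52512
 (Net.cons (nat_lit 8) (nat_lit 0xed0024)
 (Net.cons (nat_lit 4) (nat_lit 0x8000008)
 (Net.cons (nat_lit 2) (nat_lit 0x21000230)
 (Net.cons (nat_lit 1) (nat_lit 0x440410)
 (Net.cons (nat_lit 2) 131584
 (Net.cons (nat_lit 4) 524296
 (Net.cons (nat_lit 8) (nat_lit 0x640034)
 (Net.cons (nat_lit 16) 52612
 Net.nil)))))))))

noncomputable def ns_7 : Net :=
 (Net.cons (nat_lit 16) 13076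
 (Net.cons (nat_lit 8) (nat_lit 0x430020)
 (Net.cons (nat_lit 4) (nat_lit 0x3020400)
 (Net.cons (nat_lit 2) (nat_lit 0x10030010)
 (Net.cons (nat_lit 1) (nat_lit 0x104044)
 (Net.cons (nat_lit 2) 8192
 (Net.cons (nat_lit 4) 527360
 (Net.cons (nat_lit 8) (nat_lit 0x700060)
 (Net.cons (nat_lit 16) 13252
 Net.nil)))))))))

noncomputable def ns_8 : Net :=
 (Net.cons (nat_lit 16) 9214
 (Net.cons (nat_lit 8) (nat_lit 0xee0018)
 (Net.cons (nat_lit 4) 68610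
 (Net.cons (nat_lit 2) (nat_lit 0x23001000)
 (Net.cons (nat_lit 1) (nat_lit 0x1110440)
 (Net.cons (nat_lit 2) (nat_lit 0x2000000)
 (Net.cons (nat_lit 4) (nat_lit 0x4000000)
 (Net.cons (nat_lit 8) (nat_lit 0xee00d0)
 (Net.cons (nat_lit 16) 9214
 Net.nil)))))))))

noncomputable def ns_9 : Net :=
 (Net.cons (nat_lit 16) 64672
 (Net.cons (nat_lit 8) (nat_lit 0x360018)
 (Net.cons (nat_lit 4) (nat_lit 0xe0b0900)
 (Net.cons (nat_lit 2) (nat_lit 0x30012020)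
 (Net.cons (nat_lit 1) (nat_lit 0x14011100)
 (Net.cons (nat_lit 2) 8192
 (Net.cons (nat_lit 4) 133120
 (Net.cons (nat_lit 8) (nat_lit 0x520018)
 (Net.cons (nat_lit 16) 64672
 Net.nil)))))))))

noncomputable def ns_10 : Net :=
 (Net.cons (nat_lit 16) 17172
 (Net.cons (nat_lit 8) (nat_lit 0x190030)
 (Net.cons (nat_lit 4) (nat_lit 0xb0c0008)
 (Net.cons (nat_lit 2) 131120
 (Net.cons (nat_lit 1) (nat_lit 0x50041410)
 (Net.cons (nat_lit 2) 8224
 (Net.cons (nat_lit 4) (nat_lit 0xa0c000c)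
 (Net.cons (nat_lit 8) (nat_lit 0x180030)
 (Net.cons (nat_lit 16) 17332
 Net.nil)))))))))

noncomputable def ns_11 : Net :=
 (Net.cons (nat_lit 16) 37112
 (Net.cons (nat_lit 8) (nat_lit 0x600000)
 (Net.cons (nat_lit 4) 851968
 (Net.cons (nat_lit 2) (nat_lit 0x30020000)
 (Net.cons (nat_lit 1) (nat_lit 0x400150)
 (Net.cons (nat_lit 4) 786432
 (Net.cons (nat_lit 8) (nat_lit 0x600000)
 (Net.cons (nat_lit 16) 37112
 Net.nil))))))))

noncomputable def ns_12 : Net :=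
 (Net.cons (nat_lit 16) 29560
 (Net.cons (nat_lit 8) (nat_lit 0x2500c0)
 (Net.cons (nat_lit 4) (nat_lit 0x302040a)
 (Net.cons (nat_lit 2) (nat_lit 0x13300022)
 (Net.cons (nat_lit 1) (nat_lit 0x14014010)
 (Net.cons (nat_lit 2) (nat_lit 0x2000020)
 (Net.cons (nat_lit 4) (nat_lit 0x4020802)
 (Net.cons (nat_lit 8) (nat_lit 0x3400c0)
 (Net.cons (nat_lit 16) 29560
 Net.nil)))))))))

noncomputable def ns_13 : Net :=
 (Net.cons (nat_lit 16) 29688
 (Net.cons (nat_lit 8) (nat_lit 0x5200b0)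
 (Net.cons (nat_lit 4) (nat_lit 0x4050408)
 (Net.cons (nat_lit 2) (nat_lit 0x3313000)
 (Net.cons (nat_lit 1) (nat_lit 0x14014040)
 (Net.cons (nat_lit 2) (nat_lit 0x2000000)
 (Net.cons (nat_lit 4) (nat_lit 0x4000400)
 (Net.cons (nat_lit 8) 184
 (Net.cons (nat_lit 16) 29528
 Net.nil)))))))))

noncomputable def ns_14 : Net :=
 (Net.cons (nat_lit 16) 43264
 (Net.cons (nat_lit 8) (nat_lit 0xf100d0)
 (Net.cons (nat_lit 4) (nat_lit 0x80c0400)
 (Net.cons (nat_lit 2) (nat_lit 0x200200)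
 (Net.cons (nat_lit 1) (nat_lit 0x50404400)
 (Net.cons (nat_lit 2) (nat_lit 0x200200)
 (Net.cons (nat_lit 4) (nat_lit 0x8040400)
 (Net.cons (nat_lit 8) (nat_lit 0xf000c0)
 (Net.cons (nat_lit 16) 43264
 Net.nil)))))))))

noncomputable def ns_15 : Net :=
 (Net.cons (nat_lit 16) 3098
 (Net.cons (nat_lit 8) 393390
 (Net.cons (nat_lit 4) 526351
 (Net.cons (nat_lit 2) (nat_lit 0x2031202)
 (Net.cons (nat_lit 1) (nat_lit 0x114504)
 (Net.cons (nat_lit 2) 131072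
 (Net.cons (nat_lit 4) 265228
 (Net.cons (nat_lit 8) 131150
 (Net.cons (nat_lit 16) 3258
 Net.nil)))))))))

noncomputable def ns_16 : Net :=
 (Net.cons (nat_lit 16) 50953
 (Net.cons (nat_lit 8) 262328
 (Net.cons (nat_lit 4) 131077
 (Net.cons (nat_lit 2) (nat_lit 0x1132000)
 (Net.cons (nat_lit 1) (nat_lit 0x41450010)
 (Net.cons (nat_lit 4) 133120
 (Net.cons (nat_lit 8) (nat_lit 0x8400b8)
 (Net.cons (nat_lit 16) 50988
 Net.nil))))))))

noncomputable def ns_17 : Net :=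
 (Net.cons (nat_lit 16) 50728
 (Net.cons (nat_lit 8) (nat_lit 0x280009)
 (Net.cons (nat_lit 4) (nat_lit 0x6020105)
 (Net.cons (nat_lit 2) (nat_lit 0x22110011)
 (Net.cons (nat_lit 1) (nat_lit 0x40500040)
 (Net.cons (nat_lit 4) 131080
 (Net.cons (nat_lit 8) (nat_lit 0x680010)
 (Net.cons (nat_lit 16) 50880
 Net.nil))))))))

noncomputable def ns_18 : Net :=
 (Net.cons (nat_lit 16) 41000
 (Net.cons (nat_lit 8) (nat_lit 0xa00008)
 (Net.cons (nat_lit 4) 131086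
 (Net.cons (nat_lit 2) 196609
 (Net.cons (nat_lit 1) (nat_lit 0x450410)
 (Net.cons (nat_lit 4) 131078
 (Net.cons (nat_lit 8) (nat_lit 0xa00008)
 (Net.cons (nat_lit 16) 40968
 Net.nil))))))))

noncomputable def ns_19 : Net :=
 (Net.cons (nat_lit 16) 22958
 (Net.cons (nat_lit 8) (nat_lit 0xc10032)
 (Net.cons (nat_lit 4) (nat_lit 0x904020a)
 (Net.cons (nat_lit 2) (nat_lit 0x332002)
 (Net.cons (nat_lit 1) (nat_lit 0x40411004)
 (Net.cons (nat_lit 2) (nat_lit 0x220000)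
 (Net.cons (nat_lit 4) 516
 (Net.cons (nat_lit 8) (nat_lit 0xc000b0)
 (Net.cons (nat_lit 16) 22834
 Net.nil)))))))))

noncomputable def ns_20 : Net :=
 (Net.cons (nat_lit 16) 30718
 (Net.cons (nat_lit 8) (nat_lit 0xa30080)
 (Net.cons (nat_lit 4) (nat_lit 0x1000008)
 (Net.cons (nat_lit 2) (nat_lit 0x20130030)
 (Net.cons (nat_lit 1) (nat_lit 0x40140040)
 (Net.cons (nat_lit 4) (nat_lit 0x4060002)
 (Net.cons (nat_lit 8) (nat_lit 0xa20008)
 (Net.cons (nat_lit 16) 30714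
 Net.nil))))))))

noncomputable def ns_21 : Net :=
 (Net.cons (nat_lit 16) 34544
 (Net.cons (nat_lit 8) (nat_lit 0xaa0048)
 (Net.cons (nat_lit 4) (nat_lit 0x203010a)
 (Net.cons (nat_lit 2) (nat_lit 0x2300222)
 (Net.cons (nat_lit 1) (nat_lit 0x4401110)
 (Net.cons (nat_lit 2) (nat_lit 0x200220)
 (Net.cons (nat_lit 4) 131074
 (Net.cons (nat_lit 8) (nat_lit 0x2a0008)
 (Net.cons (nat_lit 16) 34544
 Net.nil)))))))))

noncomputable def ns_22 : Net :=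
 (Net.cons (nat_lit 16) 35122
 (Net.cons (nat_lit 8) (nat_lit 0x75000a)
 (Net.cons (nat_lit 4) (nat_lit 0x1080e0a)
 (Net.cons (nat_lit 2) (nat_lit 0x1003002)
 (Net.cons (nat_lit 1) (nat_lit 0x40004010)
 (Net.cons (nat_lit 2) (nat_lit 0x20000000)
 (Net.cons (nat_lit 4) (nat_lit 0x800080a)
 (Net.cons (nat_lit 8) (nat_lit 0x740018)
 (Net.cons (nat_lit 16) 35122
 Net.nil)))))))))

noncomputable def ns_23 : Net :=
 (Net.cons (nat_lit 16) 35410
 (Net.cons (nat_lit 8) (nat_lit 0xe4000e)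
 (Net.cons (nat_lit 4) (nat_lit 0xa09010a)
 (Net.cons (nat_lit 2) (nat_lit 0x22001210)
 (Net.cons (nat_lit 1) (nat_lit 0x4001004)
 (Net.cons (nat_lit 2) (nat_lit 0x2000002)
 (Net.cons (nat_lit 4) (nat_lit 0xc00020e)
 (Net.cons (nat_lit 8) (nat_lit 0x6c004e)
 (Net.cons (nat_lit 16) 35486
 Net.nil)))))))))

noncomputable def ns_24 : Net :=
 (Net.cons (nat_lit 16) 18832
 (Net.cons (nat_lit 8) (nat_lit 0x410030)
 (Net.cons (nat_lit 4) (nat_lit 0x8040400)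
 (Net.cons (nat_lit 2) (nat_lit 0x321002)
 (Net.cons (nat_lit 1) (nat_lit 0x40040014)
 (Net.cons (nat_lit 2) 131074
 (Net.cons (nat_lit 4) (nat_lit 0x8040400)
 (Net.cons (nat_lit 8) (nat_lit 0x400030)
 (Net.cons (nat_lit 16) 18832
 Net.nil)))))))))

noncomputable def ns_25 : Net :=
 (Net.cons (nat_lit 16) 38846
 (Net.cons (nat_lit 8) (nat_lit 0x750008)
 (Net.cons (nat_lit 4) (nat_lit 0xa030006)
 (Net.cons (nat_lit 2) (nat_lit 0x11030002)
 (Net.cons (nat_lit 1) (nat_lit 0x14110040)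
 (Net.cons (nat_lit 2) (nat_lit 0x2020000)
 (Net.cons (nat_lit 4) (nat_lit 0x80a0008)
 (Net.cons (nat_lit 8) (nat_lit 0x600000)
 (Net.cons (nat_lit 16) 38770
 Net.nil)))))))))

noncomputable def ns_26 : Net :=
 (Net.cons (nat_lit 16) 40372
 (Net.cons (nat_lit 8) (nat_lit 0xdb0044)
 (Net.cons (nat_lit 4) (nat_lit 0xd000208)
 (Net.cons (nat_lit 2) (nat_lit 0x2202220)
 (Net.cons (nat_lit 1) (nat_lit 0x4104410)
 (Net.cons (nat_lit 2) (nat_lit 0x202200)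
 (Net.cons (nat_lit 4) 524296
 (Net.cons (nat_lit 8) (nat_lit 0x420044)
 (Net.cons (nat_lit 16) 40328
 Net.nil)))))))))

noncomputable def ns_27 : Net :=
 (Net.cons (nat_lit 16) 5932
 (Net.cons (nat_lit 8) 786472
 (Net.cons (nat_lit 4) (nat_lit 0xb080c0a)
 (Net.cons (nat_lit 2) (nat_lit 0x20022012)
 (Net.cons (nat_lit 1) (nat_lit 0x10140404)
 (Net.cons (nat_lit 2) 2
 (Net.cons (nat_lit 4) (nat_lit 0xa0c0406)
 (Net.cons (nat_lit 8) 786472
 (Net.cons (nat_lit 16) 5932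
 Net.nil)))))))))

noncomputable def ns_28 : Net :=
 (Net.cons (nat_lit 16) 20648
 (Net.cons (nat_lit 8) (nat_lit 0x92005c)
 (Net.cons (nat_lit 4) (nat_lit 0x2010e04)
 (Net.cons (nat_lit 2) (nat_lit 0x20210220)
 (Net.cons (nat_lit 1) (nat_lit 0x50441440)
 (Net.cons (nat_lit 2) (nat_lit 0x200220)
 (Net.cons (nat_lit 4) (nat_lit 0x2000404)
 (Net.cons (nat_lit 8) (nat_lit 0x9200d4)
 (Net.cons (nat_lit 16) 20648
 Net.nil)))))))))

noncomputable def ns_29 : Net :=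
 (Net.cons (nat_lit 16) 14328
 (Net.cons (nat_lit 8) (nat_lit 0xc700c0)
 (Net.cons (nat_lit 4) (nat_lit 0x8060800)
 (Net.cons (nat_lit 2) (nat_lit 0x10120030)
 (Net.cons (nat_lit 1) (nat_lit 0x14114040)
 (Net.cons (nat_lit 2) (nat_lit 0x2020020)
 (Net.cons (nat_lit 4) (nat_lit 0x8060000)
 (Net.cons (nat_lit 8) (nat_lit 0xc000c0)
 (Net.cons (nat_lit 16) 14328
 Net.nil)))))))))

noncomputable def ns_30 : Net :=
 (Net.cons (nat_lit 16) 29560
 (Net.cons (nat_lit 8) (nat_lit 0xc300c0)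
 (Net.cons (nat_lit 4) (nat_lit 0x2030402)
 (Net.cons (nat_lit 2) (nat_lit 0x30130022)
 (Net.cons (nat_lit 1) (nat_lit 0x1140410)
 (Net.cons (nat_lit 2) 131104
 (Net.cons (nat_lit 4) (nat_lit 0x204080a)
 (Net.cons (nat_lit 8) (nat_lit 0xd200c0)
 (Net.cons (nat_lit 16) 29560
 Net.nil)))))))))

noncomputable def ns_31 : Net :=
 (Net.cons (nat_lit 16) 47088
 (Net.cons (nat_lit 8) (nat_lit 0x8b0070)
 (Net.cons (nat_lit 4) (nat_lit 0x3030800)
 (Net.cons (nat_lit 2) (nat_lit 0x203000)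
 (Net.cons (nat_lit 1) (nat_lit 0x4401040)
 (Net.cons (nat_lit 2) (nat_lit 0x200000)
 (Net.cons (nat_lit 4) (nat_lit 0x8040800)
 (Net.cons (nat_lit 8) (nat_lit 0x280070)
 (Net.cons (nat_lit 16) 47088
 Net.nil)))))))))

noncomputable def ns_32 : Net :=
 (Net.cons (nat_lit 16) 50378
 (Net.cons (nat_lit 8) (nat_lit 0xea0038)
 (Net.cons (nat_lit 4) (nat_lit 0x601080a)
 (Net.cons (nat_lit 2) (nat_lit 0x20012002)
 (Net.cons (nat_lit 1) (nat_lit 0x44401044)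
 (Net.cons (nat_lit 2) (nat_lit 0x20000002)
 (Net.cons (nat_lit 4) 2056
 (Net.cons (nat_lit 8) (nat_lit 0x6e0018)
 (Net.cons (nat_lit 16) 50300
 Net.nil)))))))))

noncomputable def ns_33 : Net :=
 (Net.cons (nat_lit 16) 50222
 (Net.cons (nat_lit 8) (nat_lit 0x5a0020)
 (Net.cons (nat_lit 4) (nat_lit 0xc000806)
 (Net.cons (nat_lit 2) (nat_lit 0x32012022)
 (Net.cons (nat_lit 1) (nat_lit 0x14400054)
 (Net.cons (nat_lit 2) (nat_lit 0x22200002)
 (Net.cons (nat_lit 4) 264202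
 (Net.cons (nat_lit 8) (nat_lit 0x1e0020)
 (Net.cons (nat_lit 16) 50416
 Net.nil)))))))))

noncomputable def ns_34 : Net :=
 (Net.cons (nat_lit 16) 28766
 (Net.cons (nat_lit 8) (nat_lit 0xb000e0)
 (Net.cons (nat_lit 4) 461832
 (Net.cons (nat_lit 2) (nat_lit 0x110022)
 (Net.cons (nat_lit 1) (nat_lit 0x40054010)
 (Net.cons (nat_lit 2) (nat_lit 0x20002020)
 (Net.cons (nat_lit 4) 2056
 (Net.cons (nat_lit 8) (nat_lit 0xb000e0)
 (Net.cons (nat_lit 16) 28890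
 Net.nil)))))))))

noncomputable def ns_35 : Net :=
 (Net.cons (nat_lit 16) 39240
 (Net.cons (nat_lit 8) 164
 (Net.cons (nat_lit 4) (nat_lit 0x1070c02)
 (Net.cons (nat_lit 2) (nat_lit 0x322010)
 (Net.cons (nat_lit 1) 82948
 (Net.cons (nat_lit 2) 139266
 (Net.cons (nat_lit 4) 265222
 (Net.cons (nat_lit 8) (nat_lit 0x980080)
 (Net.cons (nat_lit 16) 39252
 Net.nil)))))))))

noncomputable def ns_36 : Net :=
 (Net.cons (nat_lit 16) 50336
 (Net.cons (nat_lit 8) (nat_lit 0xaa0046)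
 (Net.cons (nat_lit 4) (nat_lit 0x2000008)
 (Net.cons (nat_lit 2) (nat_lit 0x2311022)
 (Net.cons (nat_lit 1) (nat_lit 0x44100110)
 (Net.cons (nat_lit 2) (nat_lit 0x20200000)
 (Net.cons (nat_lit 4) (nat_lit 0x4000602)
 (Net.cons (nat_lit 8) (nat_lit 0xaa0056)
 (Net.cons (nat_lit 16) 50208
 Net.nil)))))))))

noncomputable def ns_37 : Net :=
 (Net.cons (nat_lit 16) 28349
 (Net.cons (nat_lit 8) (nat_lit 0x580091)
 (Net.cons (nat_lit 4) 393487
 (Net.cons (nat_lit 2) (nat_lit 0x30212013)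
 (Net.cons (nat_lit 1) (nat_lit 0x40401041)
 (Net.cons (nat_lit 2) (nat_lit 0x20002002)
 (Net.cons (nat_lit 4) (nat_lit 0x606000c)
 (Net.cons (nat_lit 8) (nat_lit 0x720080)
 (Net.cons (nat_lit 16) 28252
 Net.nil)))))))))

noncomputable def ns_38 : Net :=
 (Net.cons (nat_lit 16) 17460
 (Net.cons (nat_lit 8) (nat_lit 0x400036)
 (Net.cons (nat_lit 4) (nat_lit 0x40c0800)
 (Net.cons (nat_lit 2) (nat_lit 0x322200)
 (Net.cons (nat_lit 1) 267281
 (Net.cons (nat_lit 2) 139776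
 (Net.cons (nat_lit 4) 788480
 (Net.cons (nat_lit 8) (nat_lit 0x400036)
 (Net.cons (nat_lit 16) 17460
 Net.nil)))))))))

noncomputable def ns_39 : Net :=
 (Net.cons (nat_lit 16) 52256
 (Net.cons (nat_lit 8) (nat_lit 0xd800a2)
 (Net.cons (nat_lit 4) 657923
 (Net.cons (nat_lit 2) (nat_lit 0x10000201)
 (Net.cons (nat_lit 1) (nat_lit 0x4401001)
 (Net.cons (nat_lit 2) (nat_lit 0x200000)
 (Net.cons (nat_lit 4) (nat_lit 0x4080a00)
 (Net.cons (nat_lit 8) (nat_lit 0x1000b0)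
 (Net.cons (nat_lit 16) 52260
 Net.nil)))))))))

noncomputable def ns_40 : Net :=
 (Net.cons (nat_lit 16) 28326
 (Net.cons (nat_lit 8) (nat_lit 0x2e0090)
 (Net.cons (nat_lit 4) (nat_lit 0x400000b)
 (Net.cons (nat_lit 2) (nat_lit 0x20120003)
 (Net.cons (nat_lit 1) (nat_lit 0x44140010)
 (Net.cons (nat_lit 2) (nat_lit 0x20000000)
 (Net.cons (nat_lit 4) (nat_lit 0x400000a)
 (Net.cons (nat_lit 8) (nat_lit 0x400080)
 (Net.cons (nat_lit 16) 28208
 Net.nil)))))))))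

noncomputable def ns_41 : Net :=
 (Net.cons (nat_lit 16) 60459
 (Net.cons (nat_lit 8) (nat_lit 0xb00004)
 (Net.cons (nat_lit 4) (nat_lit 0x6020602)
 (Net.cons (nat_lit 2) (nat_lit 0x32013022)
 (Net.cons (nat_lit 1) (nat_lit 0x14414000)
 (Net.cons (nat_lit 2) (nat_lit 0x22002000)
 (Net.cons (nat_lit 4) (nat_lit 0xe020600)
 (Net.cons (nat_lit 8) (nat_lit 0xb00014)
 (Net.cons (nat_lit 16) 60458
 Net.nil)))))))))

noncomputable def ns_42 : Net :=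
 (Net.cons (nat_lit 16) 37700
 (Net.cons (nat_lit 8) (nat_lit 0x8300a0)
 (Net.cons (nat_lit 4) (nat_lit 0x9080c02)
 (Net.cons (nat_lit 2) (nat_lit 0x2002003)
 (Net.cons (nat_lit 1) (nat_lit 0x114004)
 (Net.cons (nat_lit 2) 8194
 (Net.cons (nat_lit 4) (nat_lit 0x8000000)
 (Net.cons (nat_lit 8) 131296
 (Net.cons (nat_lit 16) 37700
 Net.nil)))))))))

noncomputable def ns_43 : Net :=
 (Net.cons (nat_lit 16) 55909
 (Net.cons (nat_lit 8) (nat_lit 0xda0015)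
 (Net.cons (nat_lit 4) (nat_lit 0x20b0604)
 (Net.cons (nat_lit 2) (nat_lit 0x30231000)
 (Net.cons (nat_lit 1) (nat_lit 0x10400140)
 (Net.cons (nat_lit 2) (nat_lit 0x200020)
 (Net.cons (nat_lit 4) (nat_lit 0x2000600)
 (Net.cons (nat_lit 8) (nat_lit 0x900014)
 (Net.cons (nat_lit 16) 56000
 Net.nil)))))))))

noncomputable def ns_44 : Net :=
 (Net.cons (nat_lit 16) 52356
 (Net.cons (nat_lit 8) 524514
 (Net.cons (nat_lit 4) (nat_lit 0x4000500)
 (Net.cons (nat_lit 2) (nat_lit 0x232102)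
 (Net.cons (nat_lit 1) (nat_lit 0x40100014)
 (Net.cons (nat_lit 2) (nat_lit 0x200000)
 (Net.cons (nat_lit 4) (nat_lit 0x80a0402)
 (Net.cons (nat_lit 8) (nat_lit 0xc800f2)
 (Net.cons (nat_lit 16) 52260
 Net.nil)))))))))

noncomputable def ns_45 : Net :=
 (Net.cons (nat_lit 16) 28336
 (Net.cons (nat_lit 8) (nat_lit 0x3e0080)
 (Net.cons (nat_lit 4) 262149
 (Net.cons (nat_lit 2) (nat_lit 0x30200030)
 (Net.cons (nat_lit 1) (nat_lit 0x44440001)
 (Net.cons (nat_lit 2) (nat_lit 0x22200000)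
 (Net.cons (nat_lit 4) 262148
 (Net.cons (nat_lit 8) (nat_lit 0x500090)
 (Net.cons (nat_lit 16) 28198
 Net.nil)))))))))

noncomputable def ns_46 : Net :=
 (Net.cons (nat_lit 16) 47330
 (Net.cons (nat_lit 8) (nat_lit 0xb00006)
 (Net.cons (nat_lit 4) (nat_lit 0x806000f)
 (Net.cons (nat_lit 2) (nat_lit 0x100212)
 (Net.cons (nat_lit 1) (nat_lit 0x10100410)
 (Net.cons (nat_lit 2) (nat_lit 0x20000200)
 (Net.cons (nat_lit 4) (nat_lit 0x804040e)
 (Net.cons (nat_lit 8) (nat_lit 0x380040)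
 (Net.cons (nat_lit 16) 47330
 Net.nil)))))))))

noncomputable def ns_47 : Net :=
 (Net.cons (nat_lit 16) 34052
 (Net.cons (nat_lit 8) (nat_lit 0xc10020)
 (Net.cons (nat_lit 4) (nat_lit 0x4000606)
 (Net.cons (nat_lit 2) 131616
 (Net.cons (nat_lit 1) 5185
 (Net.cons (nat_lit 2) 544
 (Net.cons (nat_lit 4) 1542
 (Net.cons (nat_lit 8) (nat_lit 0x400020)
 (Net.cons (nat_lit 16) 34052
 Net.nil)))))))))

noncomputable def ns_48 : Net :=
 (Net.cons (nat_lit 16) 23653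
 (Net.cons (nat_lit 8) 262306
 (Net.cons (nat_lit 4) (nat_lit 0x80f0003)
 (Net.cons (nat_lit 2) 204819
 (Net.cons (nat_lit 1) (nat_lit 0x40440004)
 (Net.cons (nat_lit 2) 131074
 (Net.cons (nat_lit 4) (nat_lit 0x8080000)
 (Net.cons (nat_lit 8) (nat_lit 0x1c0020)
 (Net.cons (nat_lit 16) 23728
 Net.nil)))))))))

noncomputable def ns_49 : Net :=
 (Net.cons (nat_lit 16) 19724
 (Net.cons (nat_lit 8) 851970
 (Net.cons (nat_lit 4) 262153
 (Net.cons (nat_lit 2) (nat_lit 0x2320023)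
 (Net.cons (nat_lit 1) (nat_lit 0x1041004)
 (Net.cons (nat_lit 2) (nat_lit 0x2000002)
 (Net.cons (nat_lit 4) 8
 (Net.cons (nat_lit 8) (nat_lit 0x4c0000)
 (Net.cons (nat_lit 16) 19848
 Net.nil)))))))))

noncomputable def ns_50 : Net :=
 (Net.cons (nat_lit 16) 17040
 (Net.cons (nat_lit 8) (nat_lit 0x6400ac)
 (Net.cons (nat_lit 4) 852232
 (Net.cons (nat_lit 2) (nat_lit 0x22022030)
 (Net.cons (nat_lit 1) (nat_lit 0x44040455)
 (Net.cons (nat_lit 2) (nat_lit 0x22020000)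
 (Net.cons (nat_lit 4) 262152
 (Net.cons (nat_lit 8) (nat_lit 0x6400ac)
 (Net.cons (nat_lit 16) 17040
 Net.nil)))))))))

noncomputable def ns_51 : Net :=
 (Net.cons (nat_lit 16) 33928
 (Net.cons (nat_lit 8) (nat_lit 0xc00040)
 (Net.cons (nat_lit 4) (nat_lit 0x400040c)
 (Net.cons (nat_lit 2) (nat_lit 0x220130)
 (Net.cons (nat_lit 1) 69632
 (Net.cons (nat_lit 2) 131072
 (Net.cons (nat_lit 4) 1036
 (Net.cons (nat_lit 8) (nat_lit 0xc00040)
 (Net.cons (nat_lit 16) 33800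
 Net.nil)))))))))

noncomputable def ns_52 : Net :=
 (Net.cons (nat_lit 16) 14296
 (Net.cons (nat_lit 8) (nat_lit 0x5d00c0)
 (Net.cons (nat_lit 4) (nat_lit 0x6090008)
 (Net.cons (nat_lit 2) (nat_lit 0x11000020)
 (Net.cons (nat_lit 1) (nat_lit 0x14044000)
 (Net.cons (nat_lit 2) (nat_lit 0x2020000)
 (Net.cons (nat_lit 4) 526336
 (Net.cons (nat_lit 8) (nat_lit 0x4c00c0)
 (Net.cons (nat_lit 16) 14296
 Net.nil)))))))))

noncomputable def ns_53 : Net :=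
 (Net.cons (nat_lit 16) 54868
 (Net.cons (nat_lit 8) (nat_lit 0x40002c)
 (Net.cons (nat_lit 4) (nat_lit 0xa030208)
 (Net.cons (nat_lit 2) (nat_lit 0x10220330)
 (Net.cons (nat_lit 1) (nat_lit 0x14440150)
 (Net.cons (nat_lit 4) (nat_lit 0xe000200)
 (Net.cons (nat_lit 8) (nat_lit 0x440004)
 (Net.cons (nat_lit 16) 54940
 Net.nil))))))))

noncomputable def ns_54 : Net :=
 (Net.cons (nat_lit 16) 20136
 (Net.cons (nat_lit 8) (nat_lit 0x720066)
 (Net.cons (nat_lit 4) (nat_lit 0x6040a08)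
 (Net.cons (nat_lit 2) 69920
 (Net.cons (nat_lit 1) (nat_lit 0x14011400)
 (Net.cons (nat_lit 2) 131584
 (Net.cons (nat_lit 4) 265736
 (Net.cons (nat_lit 8) (nat_lit 0x3200d6)
 (Net.cons (nat_lit 16) 20164
 Net.nil)))))))))

noncomputable def ns_55 : Net :=
 (Net.cons (nat_lit 16) 34065
 (Net.cons (nat_lit 8) (nat_lit 0xe10004)
 (Net.cons (nat_lit 4) (nat_lit 0xc0e0601)
 (Net.cons (nat_lit 2) (nat_lit 0x20303230)
 (Net.cons (nat_lit 1) (nat_lit 0x44104441)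
 (Net.cons (nat_lit 2) (nat_lit 0x20002220)
 (Net.cons (nat_lit 4) (nat_lit 0x80e0200)
 (Net.cons (nat_lit 8) (nat_lit 0x600074)
 (Net.cons (nat_lit 16) 34182
 Net.nil)))))))))

noncomputable def ns_56 : Net :=
 (Net.cons (nat_lit 16) 15356
 (Net.cons (nat_lit 8) (nat_lit 0x6900c0)
 (Net.cons (nat_lit 4) (nat_lit 0x40c0408)
 (Net.cons (nat_lit 2) (nat_lit 0x1100020)
 (Net.cons (nat_lit 1) (nat_lit 0x4104010)
 (Net.cons (nat_lit 2) (nat_lit 0x2000000)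
 (Net.cons (nat_lit 4) (nat_lit 0x4040000)
 (Net.cons (nat_lit 8) (nat_lit 0x7800c0)
 (Net.cons (nat_lit 16) 15192
 Net.nil)))))))))

noncomputable def ns_57 : Net :=
 (Net.cons (nat_lit 16) 56312
 (Net.cons (nat_lit 8) (nat_lit 0x490098)
 (Net.cons (nat_lit 4) 263168
 (Net.cons (nat_lit 2) (nat_lit 0x323020)
 (Net.cons (nat_lit 1) (nat_lit 0x1041040)
 (Net.cons (nat_lit 2) (nat_lit 0x2022020)
 (Net.cons (nat_lit 4) 789504
 (Net.cons (nat_lit 8) (nat_lit 0xd80098)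
 (Net.cons (nat_lit 16) 56316
 Net.nil)))))))))

noncomputable def ns_58 : Net :=
 (Net.cons (nat_lit 16) 49409
 (Net.cons (nat_lit 8) (nat_lit 0x8400b0)
 (Net.cons (nat_lit 4) 524814
 (Net.cons (nat_lit 2) (nat_lit 0x1220001)
 (Net.cons (nat_lit 1) (nat_lit 0x40101410)
 (Net.cons (nat_lit 2) (nat_lit 0x200020)
 (Net.cons (nat_lit 4) 133640
 (Net.cons (nat_lit 8) (nat_lit 0xc400a0)
 (Net.cons (nat_lit 16) 49572
 Net.nil)))))))))

noncomputable def ns_59 : Net :=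
 (Net.cons (nat_lit 16) 5027
 (Net.cons (nat_lit 8) 393344
 (Net.cons (nat_lit 4) (nat_lit 0x4010401)
 (Net.cons (nat_lit 2) (nat_lit 0x10000023)
 (Net.cons (nat_lit 1) (nat_lit 0x1014010)
 (Net.cons (nat_lit 2) 131104
 (Net.cons (nat_lit 4) (nat_lit 0x4020808)
 (Net.cons (nat_lit 8) (nat_lit 0x140080)
 (Net.cons (nat_lit 16) 4912
 Net.nil)))))))))

noncomputable def ns_60 : Net :=
 (Net.cons (nat_lit 16) 32832
 (Net.cons (nat_lit 8) (nat_lit 0x800012)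
 (Net.cons (nat_lit 4) 918529
 (Net.cons (nat_lit 2) (nat_lit 0x230000)
 (Net.cons (nat_lit 1) 4416
 (Net.cons (nat_lit 4) 262144
 (Net.cons (nat_lit 8) (nat_lit 0x800012)
 (Net.cons (nat_lit 16) 32832
 Net.nil))))))))

noncomputable def ns_61 : Net :=
 (Net.cons (nat_lit 16) 37787
 (Net.cons (nat_lit 8) (nat_lit 0x520080)
 (Net.cons (nat_lit 4) 461832
 (Net.cons (nat_lit 2) (nat_lit 0x120020)
 (Net.cons (nat_lit 1) (nat_lit 0x41114410)
 (Net.cons (nat_lit 2) (nat_lit 0x200000)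
 (Net.cons (nat_lit 4) 786442
 (Net.cons (nat_lit 8) (nat_lit 0x500080)
 (Net.cons (nat_lit 16) 37658
 Net.nil)))))))))

noncomputable def ns_62 : Net :=
 (Net.cons (nat_lit 16) 17799
 (Net.cons (nat_lit 8) (nat_lit 0x710014)
 (Net.cons (nat_lit 4) (nat_lit 0x408080b)
 (Net.cons (nat_lit 2) (nat_lit 0x10000220)
 (Net.cons (nat_lit 1) (nat_lit 0x10010410)
 (Net.cons (nat_lit 2) 131584
 (Net.cons (nat_lit 4) (nat_lit 0x4000002)
 (Net.cons (nat_lit 8) (nat_lit 0x300016)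
 (Net.cons (nat_lit 16) 17836
 Net.nil)))))))))

noncomputable def ns_63 : Net :=
 (Net.cons (nat_lit 16) 5026
 (Net.cons (nat_lit 8) (nat_lit 0x7300a0)
 (Net.cons (nat_lit 4) 396288
 (Net.cons (nat_lit 2) (nat_lit 0x10302003)
 (Net.cons (nat_lit 1) (nat_lit 0x11404001)
 (Net.cons (nat_lit 2) (nat_lit 0x202002)
 (Net.cons (nat_lit 4) 393216
 (Net.cons (nat_lit 8) (nat_lit 0x7200a0)
 (Net.cons (nat_lit 16) 4898
 Net.nil)))))))))

noncomputable def ns_64 : Net :=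
 (Net.cons (nat_lit 16) 16845
 (Net.cons (nat_lit 8) (nat_lit 0x4c0078)
 (Net.cons (nat_lit 4) 133633
 (Net.cons (nat_lit 2) (nat_lit 0x1300201)
 (Net.cons (nat_lit 1) (nat_lit 0x4105001)
 (Net.cons (nat_lit 4) 132608
 (Net.cons (nat_lit 8) (nat_lit 0x4c00f0)
 (Net.cons (nat_lit 16) 16872
 Net.nil))))))))

noncomputable def ns_65 : Net :=
 (Net.cons (nat_lit 16) 58039
 (Net.cons (nat_lit 8) (nat_lit 0xb2001d)
 (Net.cons (nat_lit 4) 526350
 (Net.cons (nat_lit 2) (nat_lit 0x30202100)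
 (Net.cons (nat_lit 1) (nat_lit 0x40441040)
 (Net.cons (nat_lit 2) (nat_lit 0x20022020)
 (Net.cons (nat_lit 4) 264196
 (Net.cons (nat_lit 8) (nat_lit 0xd0000c)
 (Net.cons (nat_lit 16) 57994
 Net.nil)))))))))

noncomputable def ns_66 : Net :=
 (Net.cons (nat_lit 16) 24713
 (Net.cons (nat_lit 8) (nat_lit 0xf000c3)
 (Net.cons (nat_lit 4) 268
 (Net.cons (nat_lit 2) (nat_lit 0x10231032)
 (Net.cons (nat_lit 1) (nat_lit 0x40400440)
 (Net.cons (nat_lit 2) (nat_lit 0x200020)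
 (Net.cons (nat_lit 4) 394246
 (Net.cons (nat_lit 8) (nat_lit 0xb000d6)
 (Net.cons (nat_lit 16) 24640
 Net.nil)))))))))

noncomputable def ns_67 : Net :=
 (Net.cons (nat_lit 16) 34852
 (Net.cons (nat_lit 8) (nat_lit 0x800012)
 (Net.cons (nat_lit 4) (nat_lit 0x8080401)
 (Net.cons (nat_lit 2) 131074
 (Net.cons (nat_lit 1) (nat_lit 0x100100)
 (Net.cons (nat_lit 4) 524288
 (Net.cons (nat_lit 8) (nat_lit 0x800012)
 (Net.cons (nat_lit 16) 34848
 Net.nil))))))))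

noncomputable def ns_68 : Net :=
 (Net.cons (nat_lit 16) 24850
 (Net.cons (nat_lit 8) (nat_lit 0x9800d4)
 (Net.cons (nat_lit 4) 394754
 (Net.cons (nat_lit 2) (nat_lit 0x32003020)
 (Net.cons (nat_lit 1) (nat_lit 0x1010415)
 (Net.cons (nat_lit 2) (nat_lit 0x2000020)
 (Net.cons (nat_lit 4) 132610
 (Net.cons (nat_lit 8) (nat_lit 0x9800d4)
 (Net.cons (nat_lit 16) 24848
 Net.nil)))))))))

noncomputable def ns_69 : Net :=
 (Net.cons (nat_lit 16) 53888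
 (Net.cons (nat_lit 8) (nat_lit 0x3400a0)
 (Net.cons (nat_lit 4) 67596
 (Net.cons (nat_lit 2) (nat_lit 0x32000030)
 (Net.cons (nat_lit 1) (nat_lit 0x4400400)
 (Net.cons (nat_lit 2) (nat_lit 0x2000000)
 (Net.cons (nat_lit 4) 2060
 (Net.cons (nat_lit 8) (nat_lit 0x3400a0)
 (Net.cons (nat_lit 16) 53888
 Net.nil)))))))))

noncomputable def ns_70 : Net :=
 (Net.cons (nat_lit 16) 2256
 (Net.cons (nat_lit 8) (nat_lit 0x200052)
 (Net.cons (nat_lit 4) (nat_lit 0x80d0808)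
 (Net.cons (nat_lit 2) (nat_lit 0x20130020)
 (Net.cons (nat_lit 1) 1040
 (Net.cons (nat_lit 2) 32
 (Net.cons (nat_lit 4) (nat_lit 0x8080808)
 (Net.cons (nat_lit 8) (nat_lit 0x200010)
 (Net.cons (nat_lit 16) 2256
 Net.nil)))))))))

noncomputable def ns_71 : Net :=
 (Net.cons (nat_lit 16) 8346
 (Net.cons (nat_lit 8) (nat_lit 0x200004)
 (Net.cons (nat_lit 4) 788482
 (Net.cons (nat_lit 2) (nat_lit 0x300200)
 (Net.cons (nat_lit 1) (nat_lit 0x550414)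
 (Net.cons (nat_lit 2) 512
 (Net.cons (nat_lit 4) 786434
 (Net.cons (nat_lit 8) (nat_lit 0x200004)
 (Net.cons (nat_lit 16) 8346
 Net.nil)))))))))

noncomputable def ns_72 : Net :=
 (Net.cons (nat_lit 16) 36592
 (Net.cons (nat_lit 8) (nat_lit 0xd600ae)
 (Net.cons (nat_lit 4) 1024
 (Net.cons (nat_lit 2) (nat_lit 0x30011210)
 (Net.cons (nat_lit 1) (nat_lit 0x14014510)
 (Net.cons (nat_lit 2) (nat_lit 0x22002000)
 (Net.cons (nat_lit 4) (nat_lit 0x8000000)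
 (Net.cons (nat_lit 8) (nat_lit 0x5800ce)
 (Net.cons (nat_lit 16) 36460
 Net.nil)))))))))

noncomputable def ns_73 : Net :=
 (Net.cons (nat_lit 16) 12720
 (Net.cons (nat_lit 8) (nat_lit 0x9f0076)
 (Net.cons (nat_lit 4) (nat_lit 0xe000600)
 (Net.cons (nat_lit 2) (nat_lit 0x30303002)
 (Net.cons (nat_lit 1) (nat_lit 0x1404444)
 (Net.cons (nat_lit 2) (nat_lit 0x200202)
 (Net.cons (nat_lit 4) (nat_lit 0x4000000)
 (Net.cons (nat_lit 8) (nat_lit 0xae0070)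
 (Net.cons (nat_lit 16) 12550
 Net.nil)))))))))

noncomputable def ns_74 : Net :=
 (Net.cons (nat_lit 16) 38093
 (Net.cons (nat_lit 8) (nat_lit 0x560042)
 (Net.cons (nat_lit 4) (nat_lit 0x6090a09)
 (Net.cons (nat_lit 2) (nat_lit 0x20200000)
 (Net.cons (nat_lit 1) (nat_lit 0x10144141)
 (Net.cons (nat_lit 2) (nat_lit 0x200020)
 (Net.cons (nat_lit 4) (nat_lit 0x2080a08)
 (Net.cons (nat_lit 8) (nat_lit 0xd6000a)
 (Net.cons (nat_lit 16) 37960
 Net.nil)))))))))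

noncomputable def ns_75 : Net :=
 (Net.cons (nat_lit 16) 28920
 (Net.cons (nat_lit 8) (nat_lit 0x200022)
 (Net.cons (nat_lit 4) 330754
 (Net.cons (nat_lit 2) (nat_lit 0x10132010)
 (Net.cons (nat_lit 1) (nat_lit 0x504010)
 (Net.cons (nat_lit 4) 656386
 (Net.cons (nat_lit 8) (nat_lit 0x7000a0)
 (Net.cons (nat_lit 16) 28910
 Net.nil))))))))

noncomputable def ns_76 : Net :=
 (Net.cons (nat_lit 16) 56337
 (Net.cons (nat_lit 8) (nat_lit 0x4c005a)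
 (Net.cons (nat_lit 4) (nat_lit 0xc0d0b02)
 (Net.cons (nat_lit 2) (nat_lit 0x10023001)
 (Net.cons (nat_lit 1) (nat_lit 0x4540100)
 (Net.cons (nat_lit 2) 131072
 (Net.cons (nat_lit 4) (nat_lit 0xc020a00)
 (Net.cons (nat_lit 8) (nat_lit 0x440078)
 (Net.cons (nat_lit 16) 56450
 Net.nil)))))))))

noncomputable def ns_77 : Net :=
 (Net.cons (nat_lit 16) 29829
 (Net.cons (nat_lit 8) (nat_lit 0x380094)
 (Net.cons (nat_lit 4) (nat_lit 0xa010700)
 (Net.cons (nat_lit 2) (nat_lit 0x32001022)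
 (Net.cons (nat_lit 1) (nat_lit 0x14501001)
 (Net.cons (nat_lit 2) (nat_lit 0x22000002)
 (Net.cons (nat_lit 4) (nat_lit 0xa000600)
 (Net.cons (nat_lit 8) (nat_lit 0x780014)
 (Net.cons (nat_lit 16) 29856
 Net.nil)))))))))

noncomputable def ns_78 : Net :=
 (Net.cons (nat_lit 16) 16549
 (Net.cons (nat_lit 8) 26
 (Net.cons (nat_lit 4) 789510
 (Net.cons (nat_lit 2) 12307
 (Net.cons (nat_lit 1) 266516
 (Net.cons (nat_lit 2) 139264
 (Net.cons (nat_lit 4) 263170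
 (Net.cons (nat_lit 8) (nat_lit 0x400004)
 (Net.cons (nat_lit 16) 16516
 Net.nil)))))))))

noncomputable def ns_79 : Net :=
 (Net.cons (nat_lit 16) 3080
 (Net.cons (nat_lit 8) (nat_lit 0xa00050)
 (Net.cons (nat_lit 4) (nat_lit 0xc020600)
 (Net.cons (nat_lit 2) (nat_lit 0x20020202)
 (Net.cons (nat_lit 1) (nat_lit 0x40111444)
 (Net.cons (nat_lit 2) (nat_lit 0x20020202)
 (Net.cons (nat_lit 4) (nat_lit 0x4020600)
 (Net.cons (nat_lit 8) (nat_lit 0xa00050)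
 (Net.cons (nat_lit 16) 3080
 Net.nil)))))))))

noncomputable def ns_80 : Net :=
 (Net.cons (nat_lit 16) 52904
 (Net.cons (nat_lit 8) (nat_lit 0xc20000)
 (Net.cons (nat_lit 4) 264
 (Net.cons (nat_lit 2) (nat_lit 0x2210020)
 (Net.cons (nat_lit 1) (nat_lit 0x4551000)
 (Net.cons (nat_lit 4) (nat_lit 0x4000008)
 (Net.cons (nat_lit 8) (nat_lit 0xc20010)
 (Net.cons (nat_lit 16) 52776
 Net.nil))))))))

noncomputable def ns_81 : Net :=
 (Net.cons (nat_lit 16) 9612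
 (Net.cons (nat_lit 8) (nat_lit 0x140038)
 (Net.cons (nat_lit 4) 917516
 (Net.cons (nat_lit 2) (nat_lit 0x1220210)
 (Net.cons (nat_lit 1) (nat_lit 0x10405000)
 (Net.cons (nat_lit 4) 516
 (Net.cons (nat_lit 8) (nat_lit 0x340038)
 (Net.cons (nat_lit 16) 9616
 Net.nil))))))))

noncomputable def ns_82 : Net :=
 (Net.cons (nat_lit 16) 39569
 (Net.cons (nat_lit 8) (nat_lit 0x4600ad)
 (Net.cons (nat_lit 4) (nat_lit 0x4090407)
 (Net.cons (nat_lit 2) (nat_lit 0x12200210)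
 (Net.cons (nat_lit 1) (nat_lit 0x4014101)
 (Net.cons (nat_lit 2) 8704
 (Net.cons (nat_lit 4) (nat_lit 0xc080006)
 (Net.cons (nat_lit 8) (nat_lit 0x460088)
 (Net.cons (nat_lit 16) 39472
 Net.nil)))))))))

noncomputable def ns_83 : Net :=
 (Net.cons (nat_lit 16) 35985
 (Net.cons (nat_lit 8) (nat_lit 0x2200be)
 (Net.cons (nat_lit 4) (nat_lit 0x2010b00)
 (Net.cons (nat_lit 2) (nat_lit 0x2200310)
 (Net.cons (nat_lit 1) (nat_lit 0x4104001)
 (Net.cons (nat_lit 2) (nat_lit 0x200000)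
 (Net.cons (nat_lit 4) 525826
 (Net.cons (nat_lit 8) (nat_lit 0xa200ae)
 (Net.cons (nat_lit 16) 36012
 Net.nil)))))))))

noncomputable def ns_84 : Net :=
 (Net.cons (nat_lit 16) 21252
 (Net.cons (nat_lit 8) (nat_lit 0x2b00a4)
 (Net.cons (nat_lit 4) (nat_lit 0x5040c07)
 (Net.cons (nat_lit 2) (nat_lit 0x112010)
 (Net.cons (nat_lit 1) (nat_lit 0x14014010)
 (Net.cons (nat_lit 2) (nat_lit 0x2002020)
 (Net.cons (nat_lit 4) (nat_lit 0x6000400)
 (Net.cons (nat_lit 8) (nat_lit 0x380080)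
 (Net.cons (nat_lit 16) 21252
 Net.nil)))))))))

noncomputable def ns_85 : Net :=
 (Net.cons (nat_lit 16) 39456
 (Net.cons (nat_lit 8) (nat_lit 0x9200a1)
 (Net.cons (nat_lit 4) 787470
 (Net.cons (nat_lit 2) (nat_lit 0x22302032)
 (Net.cons (nat_lit 1) (nat_lit 0x10050054)
 (Net.cons (nat_lit 2) (nat_lit 0x20000002)
 (Net.cons (nat_lit 4) 786440
 (Net.cons (nat_lit 8) (nat_lit 0x9200a0)
 (Net.cons (nat_lit 16) 39456
 Net.nil)))))))))

noncomputable def ns_86 : Net :=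
 (Net.cons (nat_lit 16) 16545
 (Net.cons (nat_lit 8) (nat_lit 0x400000)
 (Net.cons (nat_lit 4) 786442
 (Net.cons (nat_lit 2) 131072
 (Net.cons (nat_lit 1) 263504
 (Net.cons (nat_lit 2) 131072
 (Net.cons (nat_lit 4) 262154
 (Net.cons (nat_lit 8) (nat_lit 0x400000)
 (Net.cons (nat_lit 16) 16512
 Net.nil)))))))))

noncomputable def ns_87 : Net :=
 (Net.cons (nat_lit 16) 49156
 (Net.cons (nat_lit 8) (nat_lit 0xd00000)
 (Net.cons (nat_lit 4) 262154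
 (Net.cons (nat_lit 2) (nat_lit 0x10020000)
 (Net.cons (nat_lit 1) 267344
 (Net.cons (nat_lit 2) 131072
 (Net.cons (nat_lit 4) 262154
 (Net.cons (nat_lit 8) (nat_lit 0x500000)
 (Net.cons (nat_lit 16) 49152
 Net.nil)))))))))

noncomputable def ns_88 : Net :=
 (Net.cons (nat_lit 16) 51340
 (Net.cons (nat_lit 8) (nat_lit 0xd00046)
 (Net.cons (nat_lit 4) (nat_lit 0x8040600)
 (Net.cons (nat_lit 2) (nat_lit 0x20232100)
 (Net.cons (nat_lit 1) (nat_lit 0x10054001)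
 (Net.cons (nat_lit 2) (nat_lit 0x20002000)
 (Net.cons (nat_lit 4) (nat_lit 0x8040600)
 (Net.cons (nat_lit 8) (nat_lit 0xd00046)
 (Net.cons (nat_lit 16) 51212
 Net.nil)))))))))

noncomputable def ns_89 : Net :=
 (Net.cons (nat_lit 16) 35044
 (Net.cons (nat_lit 8) (nat_lit 0x900008)
 (Net.cons (nat_lit 4) (nat_lit 0x80c0000)
 (Net.cons (nat_lit 2) (nat_lit 0x20210222)
 (Net.cons (nat_lit 1) (nat_lit 0x10001104)
 (Net.cons (nat_lit 2) (nat_lit 0x20000202)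
 (Net.cons (nat_lit 4) (nat_lit 0x80c0000)
 (Net.cons (nat_lit 8) (nat_lit 0x100008)
 (Net.cons (nat_lit 16) 35044
 Net.nil)))))))))

noncomputable def ns_90 : Net :=
 (Net.cons (nat_lit 16) 768
 (Net.cons (nat_lit 8) 327860
 (Net.cons (nat_lit 4) 656388
 (Net.cons (nat_lit 2) (nat_lit 0x2023010)
 (Net.cons (nat_lit 1) (nat_lit 0x4504415)
 (Net.cons (nat_lit 2) (nat_lit 0x2002000)
 (Net.cons (nat_lit 4) 656388
 (Net.cons (nat_lit 8) 262144
 (Net.cons (nat_lit 16) 768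
 Net.nil)))))))))

noncomputable def ns_91 : Net :=
 (Net.cons (nat_lit 16) 24708
 (Net.cons (nat_lit 8) (nat_lit 0x680070)
 (Net.cons (nat_lit 4) (nat_lit 0x8060400)
 (Net.cons (nat_lit 2) (nat_lit 0x222102)
 (Net.cons (nat_lit 1) (nat_lit 0x40444004)
 (Net.cons (nat_lit 2) (nat_lit 0x222002)
 (Net.cons (nat_lit 4) (nat_lit 0x8000400)
 (Net.cons (nat_lit 8) (nat_lit 0x680060)
 (Net.cons (nat_lit 16) 24580
 Net.nil)))))))))

noncomputable def ns_92 : Net :=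
 (Net.cons (nat_lit 16) 1354
 (Net.cons (nat_lit 8) (nat_lit 0x5400f8)
 (Net.cons (nat_lit 4) (nat_lit 0x500080b)
 (Net.cons (nat_lit 2) (nat_lit 0x11222001)
 (Net.cons (nat_lit 1) 266304
 (Net.cons (nat_lit 2) 131072
 (Net.cons (nat_lit 4) 2568
 (Net.cons (nat_lit 8) (nat_lit 0x500010)
 (Net.cons (nat_lit 16) 1500
 Net.nil)))))))))

noncomputable def ns_93 : Net :=
 (Net.cons (nat_lit 16) 43402
 (Net.cons (nat_lit 8) (nat_lit 0xa90000)
 (Net.cons (nat_lit 4) (nat_lit 0x80b040c)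
 (Net.cons (nat_lit 2) (nat_lit 0x22121230)
 (Net.cons (nat_lit 1) (nat_lit 0x1550455)
 (Net.cons (nat_lit 2) (nat_lit 0x2000200)
 (Net.cons (nat_lit 4) (nat_lit 0x804040c)
 (Net.cons (nat_lit 8) (nat_lit 0x280000)
 (Net.cons (nat_lit 16) 43402
 Net.nil)))))))))

noncomputable def ns_94 : Net :=
 (Net.cons (nat_lit 16) 1740
 (Net.cons (nat_lit 8) (nat_lit 0x160080)
 (Net.cons (nat_lit 4) (nat_lit 0x6060803)
 (Net.cons (nat_lit 2) (nat_lit 0x10210000)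
 (Net.cons (nat_lit 1) (nat_lit 0x10444010)
 (Net.cons (nat_lit 2) (nat_lit 0x200000)
 (Net.cons (nat_lit 4) (nat_lit 0x6060802)
 (Net.cons (nat_lit 8) (nat_lit 0x100040)
 (Net.cons (nat_lit 16) 1608
 Net.nil)))))))))

noncomputable def ns_95 : Net :=
 (Net.cons (nat_lit 16) 45534
 (Net.cons (nat_lit 8) (nat_lit 0xb90018)
 (Net.cons (nat_lit 4) 134152
 (Net.cons (nat_lit 2) (nat_lit 0x22023000)
 (Net.cons (nat_lit 1) (nat_lit 0x1141040)
 (Net.cons (nat_lit 2) (nat_lit 0x2022020)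
 (Net.cons (nat_lit 4) 134152
 (Net.cons (nat_lit 8) (nat_lit 0x280018)
 (Net.cons (nat_lit 16) 45530
 Net.nil)))))))))

noncomputable def ns_96 : Net :=
 (Net.cons (nat_lit 16) 58286
 (Net.cons (nat_lit 8) (nat_lit 0xcb0010)
 (Net.cons (nat_lit 4) (nat_lit 0x2000005)
 (Net.cons (nat_lit 2) (nat_lit 0x2300012)
 (Net.cons (nat_lit 1) (nat_lit 0x1400000)
 (Net.cons (nat_lit 2) (nat_lit 0x2200000)
 (Net.cons (nat_lit 4) 4
 (Net.cons (nat_lit 8) (nat_lit 0x480018)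
 (Net.cons (nat_lit 16) 58158
 Net.nil)))))))))

noncomputable def ns_97 : Net :=
 (Net.cons (nat_lit 16) 34888
 (Net.cons (nat_lit 8) (nat_lit 0x900036)
 (Net.cons (nat_lit 4) (nat_lit 0x8000404)
 (Net.cons (nat_lit 2) (nat_lit 0x20222020)
 (Net.cons (nat_lit 1) (nat_lit 0x10014045)
 (Net.cons (nat_lit 2) (nat_lit 0x20022020)
 (Net.cons (nat_lit 4) (nat_lit 0x8000404)
 (Net.cons (nat_lit 8) (nat_lit 0x900002)
 (Net.cons (nat_lit 16) 34888
 Net.nil)))))))))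

noncomputable def ns_98 : Net :=
 (Net.cons (nat_lit 16) 41549
 (Net.cons (nat_lit 8) (nat_lit 0x20001c)
 (Net.cons (nat_lit 4) 395271
 (Net.cons (nat_lit 2) (nat_lit 0x20110010)
 (Net.cons (nat_lit 1) (nat_lit 0x104014)
 (Net.cons (nat_lit 4) 2048
 (Net.cons (nat_lit 8) (nat_lit 0xa20004)
 (Net.cons (nat_lit 16) 41610
 Net.nil))))))))

noncomputable def ns_99 : Net :=
 (Net.cons (nat_lit 16) 47330
 (Net.cons (nat_lit 8) (nat_lit 0xb80042)
 (Net.cons (nat_lit 4) (nat_lit 0x8040401)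
 (Net.cons (nat_lit 2) (nat_lit 0x20300223)
 (Net.cons (nat_lit 1) (nat_lit 0x10400404)
 (Net.cons (nat_lit 2) (nat_lit 0x200202)
 (Net.cons (nat_lit 4) (nat_lit 0x8060000)
 (Net.cons (nat_lit 8) (nat_lit 0x300002)
 (Net.cons (nat_lit 16) 47330
 Net.nil)))))))))

noncomputable def ns_100 : Net :=
 (Net.cons (nat_lit 16) 12742
 (Net.cons (nat_lit 8) (nat_lit 0x1400c0)
 (Net.cons (nat_lit 4) (nat_lit 0x20b0807)
 (Net.cons (nat_lit 2) (nat_lit 0x3020012)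
 (Net.cons (nat_lit 1) (nat_lit 0x4104004)
 (Net.cons (nat_lit 2) (nat_lit 0x2000002)
 (Net.cons (nat_lit 4) (nat_lit 0x2020004)
 (Net.cons (nat_lit 8) (nat_lit 0x1400c0)
 (Net.cons (nat_lit 16) 12742
 Net.nil)))))))))

noncomputable def ns_101 : Net :=
 (Net.cons (nat_lit 16) 52260
 (Net.cons (nat_lit 8) (nat_lit 0x3a0011)
 (Net.cons (nat_lit 4) (nat_lit 0x6000103)
 (Net.cons (nat_lit 2) (nat_lit 0x12010000)
 (Net.cons (nat_lit 1) (nat_lit 0x44401010)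
 (Net.cons (nat_lit 2) (nat_lit 0x2000000)
 (Net.cons (nat_lit 4) (nat_lit 0x4080002)
 (Net.cons (nat_lit 8) (nat_lit 0x3a0000)
 (Net.cons (nat_lit 16) 52256
 Net.nil)))))))))

noncomputable def ns : List Net := [Spor.ModelM12.ns_0, Spor.ModelM12.ns_1, ns_2, ns_3, ns_4, ns_5, ns_6, ns_7, ns_8, ns_9, ns_10, ns_11, ns_12, ns_13, ns_14, ns_15, ns_16, ns_17, ns_18, ns_19, ns_20, ns_21, ns_22, ns_23, ns_24, ns_25, ns_26, ns_27, ns_28, ns_29, ns_30, ns_31, ns_32, ns_33, ns_34, ns_35, ns_36, ns_37, ns_38, ns_39, ns_40, ns_41, ns_42, ns_43, ns_44, ns_45, ns_46, ns_47, ns_48, ns_49, ns_50, ns_51, ns_52, ns_53, ns_54, ns_55, ns_56, ns_57, ns_58, ns_59, ns_60, ns_61, ns_62, ns_63, ns_64, ns_65, ns_66, ns_67, ns_68, ns_69, ns_70, ns_71, ns_72, ns_73, ns_74, ns_75, ns_76, ns_77, ns_78, ns_79, ns_80, ns_81, ns_82, ns_83, ns_84, ns_85, ns_86, ns_87, ns_88, ns_89, ns_90, ns_91, ns_92, ns_93, ns_94,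 ns_95, ns_96, ns_97, ns_98, ns_99, ns_100, ns_101]

theorem ctx : Ctx 32 5 ns := ctx_of (by decide +kernel)

theorem lctx : LCtx 32 5 8 31 trN5 ns := lctx_of ctx trOK5 (by decide +kernel)

noncomputable def E : List ℕ → ℕ → ℕ := pfW0 32 5 8 31 trN5 ns

theorem hE : Evl 32 ns E := evl_pfW0 lctx

open Cfsg.Agent.Spor Cfsg.Agent.Comp.IC

theorem geq : gen ModelM12.ns ModelM12.G_ss0 = gen ns [[0], [2]] :=
  gen_eq_of_take (ns := ModelM12.ns) (ns' := ns) (k := 2) rfl (ws := ModelM12.G_ss0) (by decide +kernel)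

theorem hn : Nat.card (gen ns [[0], [2]]) = 95040 :=
  geq ▸ ModelM12.G_card

noncomputable def equiv : Cfsg.Spor.M12 ≃* ↥(gen ns [[0], [2]]) :=
  ModelM12.equiv.trans (MulEquiv.subgroupCongr geq)

theorem kn_0 : Known ns (gen ns [[0], [2]]) 3 :=
  known_gen (by decide +kernel)

noncomputable def S_S6 : List SD :=
  []

noncomputable def S_d5 : SD :=
  ⟨4, 1, [28], lab 1 1 0, 1⟩

noncomputable def S_S5 : List SD :=
  S_d5 :: S_S6

noncomputable def S_d4 : SD :=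
  ⟨5, 1, [24, 26, 28], lab 3 7 (nat_lit 0x400010000000000000), 2⟩

noncomputable def S_S4 : List SD :=
  S_d4 :: S_S5

noncomputable def S_d3 : SD :=
  ⟨3, 1, [18, 20, 22, 24, 26, 28], lab 4 15 (nat_lit 0x4030073000002010000), 2⟩

noncomputable def S_S3 : List SD :=
  S_d3 :: S_S4

noncomputable def S_d2 : SD :=
  ⟨2, 1, [12, 14, 16, 18, 20, 22, 24, 26, 28], lab 5 31 (nat_lit 0x3400000a7000220100a28000), 2⟩

noncomputable def S_S2 : List SD :=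
  S_d2 :: S_S3

noncomputable def S_d1 : SD :=
  ⟨1, 1, [6, 8, 10, 12, 14, 16, 18, 20, 22, 24, 26, 28], lab 5 31 (nat_lit 0x1410000460008f0040000800), 2⟩

noncomputable def S_S1 : List SD :=
  S_d1 :: S_S2

noncomputable def S_d0 : SD :=
  ⟨0, 1, [0, 2, 4, 6, 8, 10, 12, 14, 16, 18, 20, 22, 24, 26, 28], lab 5 31 (nat_lit 0x300600325000620281443cc0), 3⟩

noncomputable def S_S0 : List SD :=
  S_d0 :: S_S1

theorem kn_1 : Known ns (gen ns [[0], [2]]) 32767 :=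
  kn_0.steps ctx (es := [(2, [2, 0]),
 (3, [2, 5, 5, 5, 3, 3, 0, 4, 4, 4, 4]),
 (4, [4, 2, 0, 2, 4, 1, 5]),
 (5, [6, 8, 7, 9]),
 (6, [6, 10, 10, 7, 11, 11, 9, 7, 10]),
 (7, [6, 10, 7, 7, 8, 6, 6]),
 (8, [13, 13, 15, 13]),
 (9, [13, 15]),
 (10, [13, 16, 13, 16]),
 (11, [21, 21]),
 (12, [23, 18, 20, 18, 20, 22, 19, 20, 19]),
 (13, [18, 22, 19, 23, 18, 18, 22, 19, 20]),
 (14, [25, 25, 25, 26, 24, 27, 24, 24])]) (by decide +kernel)

theorem S_ex : Exact 32 ns S_S0 ∧ gen ns (sTop S_S0) = gen ns [[0], [2]] ∧ gen ns [[0], [2]] = gen ns [[0], [2]] :=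
  exact_of_known ctx hn (le_rfl) kn_1 (by decide +kernel)

noncomputable def X_C5 : List Lvl :=
  []

noncomputable def X_ss4 : List (List ℕ) :=
  [[24], [26]]

noncomputable def X_D4 : ℕ :=
  340816

noncomputable def X_l4 : Lvl :=
  ⟨4, [[24], [26]],
  tabA [(9, 1024), (6, 1025), (18, 1026), (13, 1027), (12, 2304), (8, 2306), (16, 2307)], 2⟩

noncomputable def X_C4 : List Lvl :=
  X_l4 :: X_C5

noncomputable def X_ss3 : List (List ℕ) :=
  [[42], [44]]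

noncomputable def X_D3 : ℕ :=
  340824

noncomputable def X_l3 : Lvl :=
  ⟨3, [[42], [44], [24], [26]],
  tabA [(12, 768), (8, 769), (13, 771), (9, 3074), (6, 3076), (18, 3079), (16, 2051), (4, 3334)], 2⟩

noncomputable def X_C3 : List Lvl :=
  X_l3 :: X_C4

noncomputable def X_ss2 : List (List ℕ) :=
  [[38], [40]]

noncomputable def X_D2 : ℕ :=
  340828

noncomputable def X_l2 : Lvl :=
  ⟨2, [[38], [40], [42], [44], [24], [26]],
  tabA [(6, 512), (4, 513), (18, 514), (16, 515), (13, 1536), (9, 1538), (12, 1545), (8, 1547), (3, 4609)], 2⟩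

noncomputable def X_C2 : List Lvl :=
  X_l2 :: X_C3

noncomputable def X_ss1 : List (List ℕ) :=
  [[32], [34]]

noncomputable def X_D1 : ℕ :=
  340829

noncomputable def X_l1 : Lvl :=
  ⟨0, [[32], [34], [38], [40], [42], [44], [24], [26]],
  tabA [(12, 0), (3, 1), (6, 2), (4, 3), (13, 3072), (2, 3074), (8, 3075), (16, 3076), (9, 3082), (18, 3087)], 2⟩

noncomputable def X_C1 : List Lvl :=
  X_l1 :: X_C2

noncomputable def X_ss0 : List (List ℕ) :=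
  [[0], [2], [30]]

noncomputable def X_D0 : ℕ :=
  nat_lit 0xffffff

noncomputable def X_l0 : Lvl :=
  ⟨1, [[0], [2], [30], [36], [32], [34], [38], [40], [42], [44], [24], [26]],
  tabC 13 8191 [nat_lit 0x585c810808b115850402c1720a587584240d216082481641320c581482080a102906c83c00040a], 3⟩

noncomputable def X_C0 : List Lvl :=
  X_l0 :: X_C1

theorem X_ver5 : Ver ns X_C5 1 :=
  ver_nil _

theorem X_le4 : gen ns X_l4.ws ≤ gen ns X_ss4 :=
  gen_le_step ctx (tgt := [])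
  (es := []) (le_refl (gen _ [])) (by decide +kernel)

theorem X_lv4 : chkLvl 32 ns X_l4 X_C5 X_D4 2 = true :=
  by decide +kernel

theorem X_pt4_0 : AllIn (PtOK 32 ns X_l4 X_C5 X_ss4 X_D4) 0 64 :=
  ptOK_of_chkPts ctx X_ver5 (a := 0) (n := 1) (by decide +kernel)

theorem X_st4 : IsStab 32 (gen ns X_l4.ws) (cgrp ns X_C5) X_l4.b X_D4 :=
  isStab_plain ctx X_le4 X_lv4 (by norm_num) X_pt4_0

theorem X_ver4 : Ver ns X_C4 8 :=
  X_ver5.cons ctx X_st4 (by decide +kernel)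

theorem X_le3 : gen ns X_l3.ws ≤ gen ns X_ss3 :=
  gen_le_step ctx (tgt := [[24], [26]])
  (es := [([24], [1, 3, 3, 3]), ([26], [4, 2, 5, 5, 5, 3, 4])]) X_le4 (by decide +kernel)

theorem X_lv3 : chkLvl 32 ns X_l3 X_C4 X_D3 1 = true :=
  by decide +kernel

theorem X_pt3_0 : AllIn (PtOK 32 ns X_l3 X_C4 X_ss3 X_D3) 0 64 :=
  ptOK_of_chkPts ctx X_ver4 (a := 0) (n := 1) (by decide +kernel)

theorem X_st3 : IsStab 32 (gen ns X_l3.ws) (cgrp ns X_C4) X_l3.b X_D3 :=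
  isStab_plain ctx X_le3 X_lv3 (by norm_num) X_pt3_0

theorem X_ver3 : Ver ns X_C3 72 :=
  X_ver4.cons ctx X_st3 (by decide +kernel)

theorem X_le2 : gen ns X_l2.ws ≤ gen ns X_ss2 :=
  gen_le_step ctx (tgt := [[42], [44]])
  (es := [([42], [1, 1, 3, 3, 0, 2]), ([44], [3, 4, 3, 3])]) X_le3 (by decide +kernel)

theorem X_lv2 : chkLvl 32 ns X_l2 X_C3 X_D2 2 = true :=
  by decide +kernel

theorem X_pt2_0 : AllIn (PtOK 32 ns X_l2 X_C3 X_ss2 X_D2) 0 64 :=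
  ptOK_of_chkPts ctx X_ver3 (a := 0) (n := 1) (by decide +kernel)

theorem X_st2 : IsStab 32 (gen ns X_l2.ws) (cgrp ns X_C3) X_l2.b X_D2 :=
  isStab_plain ctx X_le2 X_lv2 (by norm_num) X_pt2_0

theorem X_ver2 : Ver ns X_C2 720 :=
  X_ver3.cons ctx X_st2 (by decide +kernel)

theorem X_le1 : gen ns X_l1.ws ≤ gen ns X_ss1 :=
  gen_le_step ctx (tgt := [[38], [40]])
  (es := [([38], [1, 3, 0, 2]), ([40], [2, 5, 5, 2])]) X_le2 (by decide +kernel)

theorem X_lv1 : chkLvl 32 ns X_l1 X_C2 X_D1 2 = true :=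
  by decide +kernel

theorem X_pt1_0 : AllIn (PtOK 32 ns X_l1 X_C2 X_ss1 X_D1) 0 64 :=
  ptOK_of_chkPts ctx X_ver2 (a := 0) (n := 1) (by decide +kernel)

theorem X_st1 : IsStab 32 (gen ns X_l1.ws) (cgrp ns X_C2) X_l1.b X_D1 :=
  isStab_plain ctx X_le1 X_lv1 (by norm_num) X_pt1_0

theorem X_ver1 : Ver ns X_C1 7920 :=
  X_ver2.cons ctx X_st1 (by decide +kernel)

theorem X_le0 : gen ns X_l0.ws ≤ gen ns X_ss0 :=
  gen_le_step ctx (tgt := [[32], [34], [36]])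
  (es := [([32], [1, 2, 2, 5, 5]), ([34], [5, 7, 4, 7, 3, 4]), ([36], [7, 7, 5, 7])]) X_le1 (by decide +kernel)

theorem X_lv0 : chkLvl 32 ns X_l0 X_C1 X_D0 2 = true :=
  by decide +kernel

theorem X_pt0_0 : AllIn (PtOK 32 ns X_l0 X_C1 X_ss0 X_D0) 0 64 :=
  ptOK_of_chkPts ctx X_ver1 (a := 0) (n := 1) (by decide +kernel)

theorem X_st0 : IsStab 32 (gen ns X_l0.ws) (cgrp ns X_C1) X_l0.b X_D0 :=
  isStab_plain ctx X_le0 X_lv0 (by norm_num) X_pt0_0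

theorem X_ver0 : Ver ns X_C0 190080 :=
  X_ver1.cons ctx X_st0 (by decide +kernel)

theorem X_eq : gen ns X_ss0 = cgrp ns X_C0 :=
  le_antisymm (gen_le_of_subsetL _ (by decide +kernel)) X_le0

theorem X_card : Nat.card (gen ns X_ss0) = 190080 :=
  by rw [X_eq]; exact X_ver0.card

theorem hX : Nat.card (gen ns [[0], [2], [30]]) = 190080 :=
  X_card

theorem kx_0 : Known ns (gen ns [[0], [2], [30]]) 32771 :=
  known_gen (by decide +kernel)

noncomputable def SX_S6 : List SD :=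
  []

noncomputable def SX_d5 : SD :=
  ⟨4, 1, [28], lab 1 1 0, 1⟩

noncomputable def SX_S5 : List SD :=
  SX_d5 :: SX_S6

noncomputable def SX_d4 : SD :=
  ⟨5, 1, [60, 62, 28], lab 3 7 (nat_lit 0x400010000000000000), 2⟩

noncomputable def SX_S4 : List SD :=
  SX_d4 :: SX_S5

noncomputable def SX_d3 : SD :=
  ⟨3, 1, [54, 56, 58, 60, 62, 28], lab 4 15 (nat_lit 0x3050081000402030000), 2⟩

noncomputable def SX_S3 : List SD :=
  SX_d3 :: SX_S4

noncomputable def SX_d2 : SD :=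
  ⟨2, 1, [16, 46, 52, 54, 56, 58, 60, 62, 28], lab 5 31 (nat_lit 0xc0b0008a000800000708000), 2⟩

noncomputable def SX_S2 : List SD :=
  SX_d2 :: SX_S3

noncomputable def SX_d1 : SD :=
  ⟨1, 1, [48, 50, 16, 46, 52, 54, 56, 58, 60, 62, 28], lab 5 31 (nat_lit 0x1c0000106001620080328000), 2⟩

noncomputable def SX_S1 : List SD :=
  SX_d1 :: SX_S2

noncomputable def SX_d0 : SD :=
  ⟨0, 2, [0, 2, 30, 48, 50, 16, 46, 52, 54, 56, 58, 60, 62, 28], lab 5 31 (nat_lit 0x10ca4bdca6252ccc186222c4e52120), 3⟩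

noncomputable def SX_S0 : List SD :=
  SX_d0 :: SX_S1

theorem kx_1 : Known ns (gen ns [[0], [2], [30]]) 4286628099 :=
  kx_0.steps ctx (es := [(23, [3, 31, 1, 31]),
 (24, [2, 2, 0, 3, 3]),
 (25, [49, 47, 49, 47, 49, 47]),
 (8, [49, 46, 46, 46, 50, 46, 50, 48, 48, 51, 51]),
 (26, [17, 17, 46, 16, 46, 16]),
 (27, [17, 17, 46, 53, 47, 53]),
 (28, [46, 17, 52, 17, 46, 17, 47, 47]),
 (29, [55, 55, 57, 55, 57, 55]),
 (30, [54, 56, 58, 55, 56, 55]),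
 (31, [54, 56]),
 (14, [61, 63, 63, 60])]) (by decide +kernel)

theorem SX_ex : Exact 32 ns SX_S0 ∧ gen ns (sTop SX_S0) = gen ns [[0], [2], [30]] ∧ gen ns [[0], [2], [30]] = gen ns [[0], [2], [30]] :=
  exact_of_known ctx hX (le_rfl) kx_1 (by decide +kernel)

noncomputable def ZG_S5 : List SD :=
  []

noncomputable def ZG_d4 : SD :=
  ⟨10, 2, [64, 66], lab 2 3 (nat_lit 0x8000f0008400), 2⟩

noncomputable def ZG_S4 : List SD :=
  ZG_d4 :: ZG_S5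

noncomputable def ZG_d3 : SD :=
  ⟨12, 2, [68, 64, 66], lab 3 7 (nat_lit 0x5020000085218), 2⟩

noncomputable def ZG_S3 : List SD :=
  ZG_d3 :: ZG_S4

noncomputable def ZG_d2 : SD :=
  ⟨8, 2, [70, 68, 64, 66], lab 3 7 (nat_lit 0x40280001016b8), 3⟩

noncomputable def ZG_S2 : List SD :=
  ZG_d2 :: ZG_S3

noncomputable def ZG_d1 : SD :=
  ⟨9, 2, [72, 70, 68, 64, 66], lab 4 15 (nat_lit 0x3060071000200001790), 2⟩

noncomputable def ZG_S1 : List SD :=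
  ZG_d1 :: ZG_S2

noncomputable def ZG_d0 : SD :=
  ⟨0, 2, [74, 72, 70, 68, 64, 66], lab 4 15 (nat_lit 0x5273b04101b06a1180239270), 3⟩

noncomputable def ZG_S0 : List SD :=
  ZG_d0 :: ZG_S1

theorem kx_2 : Known ns (gen ns [[0], [2], [30]]) 274869567747 :=
  kx_1.steps ctx (es := [(32, [48, 17, 58, 62, 28]),
 (33, [51, 52, 60, 28]),
 (34, [50, 48, 17, 62, 54, 62, 60]),
 (35, [59, 17, 58]),
 (36, [52, 48, 17, 58, 60]),
 (37, [30, 3, 47, 48, 47, 55, 62, 60, 28])]) (by decide +kernel)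

theorem ZG_ex : Exact 32 ns ZG_S0 ∧ gen ns (sTop ZG_S0) = gen ns [[0], [2], [30]] ∧ gen ns [[0], [2], [30]] = gen ns [[0], [2], [30]] :=
  exact_of_known ctx hX (le_rfl) kx_2 (by decide +kernel)

noncomputable def Z_as : List (List ℕ) :=
  [[0], [2]]

noncomputable def Z_p : List (List ℕ × List ℕ) :=
  derAs (dg Z_as) [[0], [2]]

noncomputable def Z_s : List (ℕ × ℕ) :=
  derSs 32 5 ns (dg Z_as) [[0], [2]]

noncomputable def Z_k0 : List (List ℕ) :=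
  []

noncomputable def Z_k1 : List (List ℕ) :=
  []

noncomputable def Z_k2 : List (List ℕ) :=
  []

noncomputable def Z_k3 : List (List ℕ) :=
  []

noncomputable def Z_k4 : List (List ℕ) :=
  []

noncomputable def Z_k5 : List (List ℕ) :=
  []

theorem Z_cm : commB 32 5 ns (dg Z_as) Z_k0 = true :=
  by decide +kernel

theorem Z_g0 : Good 32 ns Z_p Z_s (gen ns (sTop ZG_S0)) Z_k0 :=
  good_der ctx kx_2 (ZG_ex.2.1.trans ZG_ex.2.2.symm) _ _ ((and'_eq_true _ _).2 ⟨by decide +kernel, Z_cm⟩)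

theorem Z_g1 : Good 32 ns Z_p Z_s (gen ns (sTop ZG_S1)) Z_k1 :=
  Z_g0.tail ctx ZG_ex.1 (by decide +kernel)

theorem Z_g2 : Good 32 ns Z_p Z_s (gen ns (sTop ZG_S2)) Z_k2 :=
  Z_g1.tail ctx ZG_ex.1.tail (by decide +kernel)

theorem Z_g3 : Good 32 ns Z_p Z_s (gen ns (sTop ZG_S3)) Z_k3 :=
  Z_g2.tail ctx ZG_ex.1.tail.tail (by decide +kernel)

theorem Z_g4 : Good 32 ns Z_p Z_s (gen ns (sTop ZG_S4)) Z_k4 :=
  Z_g3.tail ctx ZG_ex.1.tail.tail.tail (by decide +kernel)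

theorem Z_l5 : LevX 32 ns Z_p Z_s (gen ns (sTop ZG_S5)) Z_k5 1 :=
  levX_nil _ _ _ _

theorem Z_l4 : LevX 32 ns Z_p Z_s (gen ns (sTop ZG_S4)) Z_k4 1 :=
  Z_l5.step ctx ZG_ex.1.tail.tail.tail.tail Z_g4 (br_zero _ _ _ _ _ _ _) [(1, 14, 2)] 0 0 (by decide +kernel)

theorem Z_l3 : LevX 32 ns Z_p Z_s (gen ns (sTop ZG_S3)) Z_k3 1 :=
  Z_l4.step ctx ZG_ex.1.tail.tail.tail Z_g3 (br_zero _ _ _ _ _ _ _) [(0, 9, 0)] 0 0 (by decide +kernel)

theorem Z_l2 : LevX 32 ns Z_p Z_s (gen ns (sTop ZG_S2)) Z_k2 1 :=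
  Z_l3.step ctx ZG_ex.1.tail.tail Z_g2 (br_zero _ _ _ _ _ _ _) [(1, 9, 0)] 0 0 (by decide +kernel)

theorem Z_l1 : LevX 32 ns Z_p Z_s (gen ns (sTop ZG_S1)) Z_k1 1 :=
  Z_l2.step ctx ZG_ex.1.tail Z_g1 (br_zero _ _ _ _ _ _ _) [(1, 0, 0)] 0 0 (by decide +kernel)

noncomputable def Z_B0_cs : List (List ℕ) :=
  []

noncomputable def Z_B0_pl : List Pl :=
  [⟨.lst 0, []⟩, ⟨.free, []⟩, ⟨.forced 1 1, []⟩, ⟨.forced 1 0, []⟩, ⟨.free, []⟩]

noncomputable def Z_B0_M0 : ℕ :=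
  nat_lit 0x4b2500

theorem Z_B0_b0 : Br 32 ns Z_p Z_s (gen ns (sTop ZG_S0)) ZG_d0.p Z_B0_M0 (InCs ns ZG_S0 Z_B0_cs) :=
  br_of_brB ctx hE ZG_ex.1 (pl := Z_B0_pl) (bs := []) (tps := [13, 5]) (by decide +kernel)

theorem Z_l0 : LevX 32 ns Z_p Z_s (gen ns (sTop ZG_S0)) Z_k0 1 :=
  Z_l1.step ctx ZG_ex.1 Z_g0 ((br_zero _ _ _ _ _ _ _).lor Z_B0_b0) [] 0 0 (by decide +kernel)

theorem Z : CentEq ns (gen ns [[0], [2], [30]]) Z_as Z_k0 1 :=
  centEq_of ctx ZG_ex.2.1 Z_l0 Z_g0 Z_cm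

noncomputable def C0G_S5 : List SD :=
  []

noncomputable def C0G_d4 : SD :=
  ⟨0, 2, [78, 80], lab 2 3 (nat_lit 0x200100032c), 2⟩

noncomputable def C0G_S4 : List SD :=
  C0G_d4 :: C0G_S5

noncomputable def C0G_d3 : SD :=
  ⟨16, 2, [82, 78, 80], lab 3 7 (nat_lit 0x3010005129), 2⟩

noncomputable def C0G_S3 : List SD :=
  C0G_d3 :: C0G_S4

noncomputable def C0G_d2 : SD :=
  ⟨8, 2, [84, 82, 78, 80], lab 3 7 (nat_lit 0x1c00280080021f4), 2⟩

noncomputable def C0G_S2 : List SD :=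
  C0G_d2 :: C0G_S3

noncomputable def C0G_d1 : SD :=
  ⟨6, 2, [86, 84, 82, 78, 80], lab 4 15 (nat_lit 0x9030074000200040581), 3⟩

noncomputable def C0G_S1 : List SD :=
  C0G_d1 :: C0G_S2

noncomputable def C0G_d0 : SD :=
  ⟨3, 2, [88, 86, 84, 82, 78, 80], lab 4 15 (nat_lit 0x20012000302030945), 3⟩

noncomputable def C0G_S0 : List SD :=
  C0G_d0 :: C0G_S1

theorem kn_2 : Known ns (gen ns [[0], [2]]) 1125625028968447 :=
  kn_1.steps ctx (es := [(38, [3, 25, 12, 21, 18]),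
 (39, [25, 2, 8, 16, 18, 18, 26, 28]),
 (40, [12, 2, 10, 6, 13, 20, 28]),
 (41, [6, 2, 12, 6, 25, 12, 20]),
 (42, [12, 2, 10, 6, 22, 12, 28]),
 (43, [2, 11, 6, 13, 20, 28]),
 (44, [12, 18, 28]),
 (45, [6, 10, 2, 8, 17, 12, 25, 18, 26, 24]),
 (46, [20, 2, 6, 6, 17, 12, 22, 26, 28]),
 (47, [25, 2, 7, 19, 12, 25, 18]),
 (48, [12, 2, 12, 6, 19, 12, 19, 26]),
 (49, [12, 2, 12, 6, 19, 26, 24])]) (by decide +kernel)

theorem C0G_ex : Exact 32 ns C0G_S0 ∧ gen ns (sTop C0G_S0) = gen ns [[0], [2]] ∧ gen ns [[0], [2]] = gen ns [[0], [2]] :=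
  exact_of_known ctx hn (le_rfl) kn_2 (by decide +kernel)

noncomputable def C0_as : List (List ℕ) :=
  [[76]]

noncomputable def C0_p : List (List ℕ × List ℕ) :=
  derAs (dg C0_as) [[0]]

noncomputable def C0_s : List (ℕ × ℕ) :=
  derSs 32 5 ns (dg C0_as) [[0]]

noncomputable def C0_k0 : List (List ℕ) :=
  [[98], [96], [94], [90], [92]]

noncomputable def C0_k1 : List (List ℕ) :=
  [[96], [94], [90], [92]]

noncomputable def C0_k2 : List (List ℕ) :=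
  [[94], [90], [92]]

noncomputable def C0_k3 : List (List ℕ) :=
  [[90], [92]]

noncomputable def C0_k4 : List (List ℕ) :=
  [[90], [92]]

noncomputable def C0_k5 : List (List ℕ) :=
  []

theorem C0_cm : commB 32 5 ns (dg C0_as) C0_k0 = true :=
  by decide +kernel

theorem C0_g0 : Good 32 ns C0_p C0_s (gen ns (sTop C0G_S0)) C0_k0 :=
  good_der ctx kn_2 (C0G_ex.2.1.trans C0G_ex.2.2.symm) _ _ ((and'_eq_true _ _).2 ⟨by decide +kernel, C0_cm⟩)

theorem C0_g1 : Good 32 ns C0_p C0_s (gen ns (sTop C0G_S1)) C0_k1 :=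
  C0_g0.tail ctx C0G_ex.1 (by decide +kernel)

theorem C0_g2 : Good 32 ns C0_p C0_s (gen ns (sTop C0G_S2)) C0_k2 :=
  C0_g1.tail ctx C0G_ex.1.tail (by decide +kernel)

theorem C0_g3 : Good 32 ns C0_p C0_s (gen ns (sTop C0G_S3)) C0_k3 :=
  C0_g2.tail ctx C0G_ex.1.tail.tail (by decide +kernel)

theorem C0_g4 : Good 32 ns C0_p C0_s (gen ns (sTop C0G_S4)) C0_k4 :=
  C0_g3.tail ctx C0G_ex.1.tail.tail.tail (by decide +kernel)

theorem C0_l5 : LevX 32 ns C0_p C0_s (gen ns (sTop C0G_S5)) C0_k5 1 :=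
  levX_nil _ _ _ _

theorem C0_l4 : LevX 32 ns C0_p C0_s (gen ns (sTop C0G_S4)) C0_k4 8 :=
  C0_l5.step ctx C0G_ex.1.tail.tail.tail.tail C0_g4 (br_zero _ _ _ _ _ _ _) [] 2 2 (by decide +kernel)

theorem C0_l3 : LevX 32 ns C0_p C0_s (gen ns (sTop C0G_S3)) C0_k3 8 :=
  C0_l4.step ctx C0G_ex.1.tail.tail.tail C0_g3 (br_zero _ _ _ _ _ _ _) [] 0 0 (by decide +kernel)

theorem C0_l2 : LevX 32 ns C0_p C0_s (gen ns (sTop C0G_S2)) C0_k2 16 :=
  C0_l3.step ctx C0G_ex.1.tail.tail C0_g2 (br_zero _ _ _ _ _ _ _) [] 1 1 (by decide +kernel)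

theorem C0_l1 : LevX 32 ns C0_p C0_s (gen ns (sTop C0G_S1)) C0_k1 48 :=
  C0_l2.step ctx C0G_ex.1.tail C0_g1 (br_zero _ _ _ _ _ _ _) [] 1 1 (by decide +kernel)

theorem C0_l0 : LevX 32 ns C0_p C0_s (gen ns (sTop C0G_S0)) C0_k0 192 :=
  C0_l1.step ctx C0G_ex.1 C0_g0 (br_zero _ _ _ _ _ _ _) [] 2 2 (by decide +kernel)

theorem C0 : CentEq ns (gen ns [[0], [2]]) C0_as C0_k0 192 :=
  centEq_of ctx C0G_ex.2.1 C0_l0 C0_g0 C0_cm

noncomputable def C1G_S6 : List SD :=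
  []

noncomputable def C1G_d5 : SD :=
  ⟨4, 1, [28], lab 1 1 0, 1⟩

noncomputable def C1G_S5 : List SD :=
  C1G_d5 :: C1G_S6

noncomputable def C1G_d4 : SD :=
  ⟨2, 2, [102, 28], lab 2 3 (nat_lit 0x2002000000), 4⟩

noncomputable def C1G_S4 : List SD :=
  C1G_d4 :: C1G_S5

noncomputable def C1G_d3 : SD :=
  ⟨17, 2, [104, 102, 28], lab 3 7 (nat_lit 0x480000000200200000), 3⟩

noncomputable def C1G_S3 : List SD :=
  C1G_d3 :: C1G_S4

noncomputable def C1G_d2 : SD :=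
  ⟨14, 2, [106, 104, 102, 28], lab 3 7 (nat_lit 0x900000400480218000), 3⟩

noncomputable def C1G_S2 : List SD :=
  C1G_d2 :: C1G_S3

noncomputable def C1G_d1 : SD :=
  ⟨1, 2, [108, 106, 104, 102, 28], lab 4 15 (nat_lit 0x2000021003500016600), 3⟩

noncomputable def C1G_S1 : List SD :=
  C1G_d1 :: C1G_S2

noncomputable def C1G_d0 : SD :=
  ⟨0, 2, [110, 108, 106, 104, 102, 28], lab 4 15 (nat_lit 0x10032000102034200), 3⟩

noncomputable def C1G_S0 : List SD :=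
  C1G_d0 :: C1G_S1

theorem kn_3 : Known ns (gen ns [[0], [2]]) 576460477425549311 :=
  kn_2.steps ctx (es := [(50, [6, 10, 2, 10, 6, 17, 18, 18, 26, 28]),
 (51, [22, 12, 20]),
 (52, [25, 18, 26, 28]),
 (53, [19, 12, 18, 18, 24]),
 (54, [7, 21, 24]),
 (55, [6, 10, 2, 12, 6, 17, 12, 25, 18, 24]),
 (56, [25, 12, 19, 26]),
 (57, [22, 12, 20, 26, 28]),
 (58, [10, 2, 11, 6, 17, 12, 21, 18, 26])]) (by decide +kernel)

theorem C1G_ex : Exact 32 ns C1G_S0 ∧ gen ns (sTop C1G_S0) = gen ns [[0], [2]] ∧ gen ns [[0], [2]] = gen ns [[0], [2]] :=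
  exact_of_known ctx hn (le_rfl) kn_3 (by decide +kernel)

noncomputable def C1_as : List (List ℕ) :=
  [[100]]

noncomputable def C1_p : List (List ℕ × List ℕ) :=
  derAs (dg C1_as) [[0]]

noncomputable def C1_s : List (ℕ × ℕ) :=
  derSs 32 5 ns (dg C1_as) [[0]]

noncomputable def C1_k0 : List (List ℕ) :=
  [[116], [114], [112], [28]]

noncomputable def C1_k1 : List (List ℕ) :=
  [[114], [112], [28]]

noncomputable def C1_k2 : List (List ℕ) :=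
  [[114], [112], [28]]

noncomputable def C1_k3 : List (List ℕ) :=
  [[112], [28]]

noncomputable def C1_k4 : List (List ℕ) :=
  [[112], [28]]

noncomputable def C1_k5 : List (List ℕ) :=
  [[28]]

noncomputable def C1_k6 : List (List ℕ) :=
  []

theorem C1_cm : commB 32 5 ns (dg C1_as) C1_k0 = true :=
  by decide +kernel

theorem C1_g0 : Good 32 ns C1_p C1_s (gen ns (sTop C1G_S0)) C1_k0 :=
  good_der ctx kn_3 (C1G_ex.2.1.trans C1G_ex.2.2.symm) _ _ ((and'_eq_true _ _).2 ⟨by decide +kernel, C1_cm⟩)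

theorem C1_g1 : Good 32 ns C1_p C1_s (gen ns (sTop C1G_S1)) C1_k1 :=
  C1_g0.tail ctx C1G_ex.1 (by decide +kernel)

theorem C1_g2 : Good 32 ns C1_p C1_s (gen ns (sTop C1G_S2)) C1_k2 :=
  C1_g1.tail ctx C1G_ex.1.tail (by decide +kernel)

theorem C1_g3 : Good 32 ns C1_p C1_s (gen ns (sTop C1G_S3)) C1_k3 :=
  C1_g2.tail ctx C1G_ex.1.tail.tail (by decide +kernel)

theorem C1_g4 : Good 32 ns C1_p C1_s (gen ns (sTop C1G_S4)) C1_k4 :=
  C1_g3.tail ctx C1G_ex.1.tail.tail.tail (by decide +kernel)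

theorem C1_g5 : Good 32 ns C1_p C1_s (gen ns (sTop C1G_S5)) C1_k5 :=
  C1_g4.tail ctx C1G_ex.1.tail.tail.tail.tail (by decide +kernel)

theorem C1_l6 : LevX 32 ns C1_p C1_s (gen ns (sTop C1G_S6)) C1_k6 1 :=
  levX_nil _ _ _ _

theorem C1_l5 : LevX 32 ns C1_p C1_s (gen ns (sTop C1G_S5)) C1_k5 2 :=
  C1_l6.step ctx C1G_ex.1.tail.tail.tail.tail.tail C1_g5 (br_zero _ _ _ _ _ _ _) [] 1 1 (by decide +kernel)

theorem C1_l4 : LevX 32 ns C1_p C1_s (gen ns (sTop C1G_S4)) C1_k4 10 :=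
  C1_l5.step ctx C1G_ex.1.tail.tail.tail.tail C1_g4 (br_zero _ _ _ _ _ _ _) [] 2 2 (by decide +kernel)

theorem C1_l3 : LevX 32 ns C1_p C1_s (gen ns (sTop C1G_S3)) C1_k3 10 :=
  C1_l4.step ctx C1G_ex.1.tail.tail.tail C1_g3 (br_zero _ _ _ _ _ _ _) [(0, 14, 0)] 0 0 (by decide +kernel)

noncomputable def C1_B2_cs : List (List ℕ) :=
  []

noncomputable def C1_B2_pl : List Pl :=
  [⟨.lst 0, []⟩, ⟨.forced 0 0, []⟩, ⟨.free, []⟩, ⟨.free, []⟩]

noncomputable def C1_B2_M0 : ℕ :=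
  128

theorem C1_B2_b0 : Br 32 ns C1_p C1_s (gen ns (sTop C1G_S2)) C1G_d2.p C1_B2_M0 (InCs ns C1G_S2 C1_B2_cs) :=
  br_of_brB ctx hE C1G_ex.1.tail.tail (pl := C1_B2_pl) (bs := [1, 0]) (tps := [20, 12]) (by decide +kernel)

theorem C1_l2 : LevX 32 ns C1_p C1_s (gen ns (sTop C1G_S2)) C1_k2 20 :=
  C1_l3.step ctx C1G_ex.1.tail.tail C1_g2 ((br_zero _ _ _ _ _ _ _).lor C1_B2_b0) [] 2 1 (by decide +kernel)

theorem C1_l1 : LevX 32 ns C1_p C1_s (gen ns (sTop C1G_S1)) C1_k1 20 :=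
  C1_l2.step ctx C1G_ex.1.tail C1_g1 (br_zero _ _ _ _ _ _ _) [(0, 0, 0)] 0 0 (by decide +kernel)

theorem C1_l0 : LevX 32 ns C1_p C1_s (gen ns (sTop C1G_S0)) C1_k0 240 :=
  C1_l1.step ctx C1G_ex.1 C1_g0 (br_zero _ _ _ _ _ _ _) [] 3 3 (by decide +kernel)

theorem C1 : CentEq ns (gen ns [[0], [2]]) C1_as C1_k0 240 :=
  centEq_of ctx C1G_ex.2.1 C1_l0 C1_g0 C1_cm

noncomputable def A1_C3 : List Lvl :=
  []

noncomputable def A1_ss2 : List (List ℕ) :=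
  [[28]]

noncomputable def A1_D2 : ℕ :=
  4112

noncomputable def A1_l2 : Lvl :=
  ⟨4, [[28]],
  tabA [(12, 1024)], 1⟩

noncomputable def A1_C2 : List Lvl :=
  A1_l2 :: A1_C3

noncomputable def A1_ss1 : List (List ℕ) :=
  [[113], [28]]

noncomputable def A1_D1 : ℕ :=
  274452

noncomputable def A1_l1 : Lvl :=
  ⟨2, [[113], [28]],
  tabA [(13, 512), (18, 513), (12, 3328), (4, 4609)], 2⟩

noncomputable def A1_C1 : List Lvl :=
  A1_l1 :: A1_C2

noncomputable def A1_ss0 : List (List ℕ) :=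
  [[118], [120]]

noncomputable def A1_D0 : ℕ :=
  274453

noncomputable def A1_l0 : Lvl :=
  ⟨0, [[118], [120], [113], [28]],
  tabA [(2, 0), (12, 1), (4, 512), (13, 516), (18, 517)], 2⟩

noncomputable def A1_C0 : List Lvl :=
  A1_l0 :: A1_C1

theorem A1_ver3 : Ver ns A1_C3 1 :=
  ver_nil _

theorem A1_le2 : gen ns A1_l2.ws ≤ gen ns A1_ss2 :=
  gen_le_step ctx (tgt := [])
  (es := []) (le_refl (gen _ [])) (by decide +kernel)

theorem A1_lv2 : chkLvl 32 ns A1_l2 A1_C3 A1_D2 1 = true :=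
  by decide +kernel

theorem A1_pt2_0 : AllIn (PtOK 32 ns A1_l2 A1_C3 A1_ss2 A1_D2) 0 64 :=
  ptOK_of_chkPts ctx A1_ver3 (a := 0) (n := 1) (by decide +kernel)

theorem A1_st2 : IsStab 32 (gen ns A1_l2.ws) (cgrp ns A1_C3) A1_l2.b A1_D2 :=
  isStab_plain ctx A1_le2 A1_lv2 (by norm_num) A1_pt2_0

theorem A1_ver2 : Ver ns A1_C2 2 :=
  A1_ver3.cons ctx A1_st2 (by decide +kernel)

theorem A1_le1 : gen ns A1_l1.ws ≤ gen ns A1_ss1 :=
  gen_le_step ctx (tgt := [[28]])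
  (es := [([28], [2])]) A1_le2 (by decide +kernel)

theorem A1_lv1 : chkLvl 32 ns A1_l1 A1_C2 A1_D1 2 = true :=
  by decide +kernel

theorem A1_pt1_0 : AllIn (PtOK 32 ns A1_l1 A1_C2 A1_ss1 A1_D1) 0 64 :=
  ptOK_of_chkPts ctx A1_ver2 (a := 0) (n := 1) (by decide +kernel)

theorem A1_st1 : IsStab 32 (gen ns A1_l1.ws) (cgrp ns A1_C2) A1_l1.b A1_D1 :=
  isStab_plain ctx A1_le1 A1_lv1 (by norm_num) A1_pt1_0

theorem A1_ver1 : Ver ns A1_C1 10 :=
  A1_ver2.cons ctx A1_st1 (by decide +kernel)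

theorem A1_le0 : gen ns A1_l0.ws ≤ gen ns A1_ss0 :=
  gen_le_step ctx (tgt := [[113], [28]])
  (es := [([113], [2, 0, 2, 1, 3, 1, 2, 0]), ([28], [3, 3, 3, 5, 3, 4])]) A1_le1 (by decide +kernel)

theorem A1_lv0 : chkLvl 32 ns A1_l0 A1_C1 A1_D0 2 = true :=
  by decide +kernel

theorem A1_pt0_0 : AllIn (PtOK 32 ns A1_l0 A1_C1 A1_ss0 A1_D0) 0 64 :=
  ptOK_of_chkPts ctx A1_ver1 (a := 0) (n := 1) (by decide +kernel)

theorem A1_st0 : IsStab 32 (gen ns A1_l0.ws) (cgrp ns A1_C1) A1_l0.b A1_D0 :=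
  isStab_plain ctx A1_le0 A1_lv0 (by norm_num) A1_pt0_0

theorem A1_ver0 : Ver ns A1_C0 60 :=
  A1_ver1.cons ctx A1_st0 (by decide +kernel)

theorem A1_eq : gen ns A1_ss0 = cgrp ns A1_C0 :=
  le_antisymm (gen_le_of_subsetL _ (by decide +kernel)) A1_le0

theorem A1_card : Nat.card (gen ns A1_ss0) = 60 :=
  by rw [A1_eq]; exact A1_ver0.card

theorem A1_n : ∀ u ∈ cjW C1_k0 A1_ss0, wp ns u ∈ cgrp ns A1_C0 :=
  mem_of_siftAll ctx A1_ver0.nested (by decide +kernel)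

noncomputable def D1G_S5 : List SD :=
  []

noncomputable def D1G_d4 : SD :=
  ⟨0, 2, [122, 124], lab 2 3 (nat_lit 0x10020f0008), 2⟩

noncomputable def D1G_S4 : List SD :=
  D1G_d4 :: D1G_S5

noncomputable def D1G_d3 : SD :=
  ⟨2, 2, [126, 122, 124], lab 3 7 (nat_lit 0xc200402d000208), 3⟩

noncomputable def D1G_S3 : List SD :=
  D1G_d3 :: D1G_S4

noncomputable def D1G_d2 : SD :=
  ⟨4, 2, [128, 126, 122, 124], lab 3 7 (nat_lit 0xc6002004000c6f), 3⟩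

noncomputable def D1G_S2 : List SD :=
  D1G_d2 :: D1G_S3

noncomputable def D1G_d1 : SD :=
  ⟨13, 2, [130, 128, 126, 122, 124], lab 4 15 (nat_lit 0x1020000002100002336), 3⟩

noncomputable def D1G_S1 : List SD :=
  D1G_d1 :: D1G_S2

noncomputable def D1G_d0 : SD :=
  ⟨6, 2, [132, 130, 128, 126, 122, 124], lab 4 15 (nat_lit 0x903003a001000016740), 2⟩

noncomputable def D1G_S0 : List SD :=
  D1G_d0 :: D1G_S1

theorem kn_4 : Known ns (gen ns [[0], [2]]) 147573952314798538751 :=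
  kn_3.steps ctx (es := [(59, [15, 2, 6, 17, 12, 20, 26, 24, 28]),
 (60, [5, 10, 6, 17, 12, 21, 24]),
 (61, [6, 2, 6, 6, 16, 18, 26, 24]),
 (62, [5, 6, 14, 18, 26]),
 (63, [8, 2, 7, 17, 12]),
 (64, [6, 10, 2, 12, 6, 12, 18, 24, 28]),
 (65, [2, 8, 16, 18, 26, 24, 28]),
 (66, [2, 11, 6, 22, 12, 18, 18, 26, 24, 28])]) (by decide +kernel)

theorem D1G_ex : Exact 32 ns D1G_S0 ∧ gen ns (sTop D1G_S0) = gen ns [[0], [2]] ∧ gen ns [[0], [2]] = gen ns [[0], [2]] :=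
  exact_of_known ctx hn (le_rfl) kn_4 (by decide +kernel)

noncomputable def D1_as : List (List ℕ) :=
  [[118], [120]]

noncomputable def D1_p : List (List ℕ × List ℕ) :=
  derAs (dg D1_as) [[0], [2]]

noncomputable def D1_s : List (ℕ × ℕ) :=
  derSs 32 5 ns (dg D1_as) [[0], [2]]

noncomputable def D1_k0 : List (List ℕ) :=
  [[100]]

noncomputable def D1_k1 : List (List ℕ) :=
  []

noncomputable def D1_k2 : List (List ℕ) :=
  []

noncomputable def D1_k3 : List (List ℕ) :=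
  []

noncomputable def D1_k4 : List (List ℕ) :=
  []

noncomputable def D1_k5 : List (List ℕ) :=
  []

theorem D1_cm : commB 32 5 ns (dg D1_as) D1_k0 = true :=
  by decide +kernel

theorem D1_g0 : Good 32 ns D1_p D1_s (gen ns (sTop D1G_S0)) D1_k0 :=
  good_der ctx kn_4 (D1G_ex.2.1.trans D1G_ex.2.2.symm) _ _ ((and'_eq_true _ _).2 ⟨by decide +kernel, D1_cm⟩)

theorem D1_g1 : Good 32 ns D1_p D1_s (gen ns (sTop D1G_S1)) D1_k1 :=
  D1_g0.tail ctx D1G_ex.1 (by decide +kernel)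

theorem D1_g2 : Good 32 ns D1_p D1_s (gen ns (sTop D1G_S2)) D1_k2 :=
  D1_g1.tail ctx D1G_ex.1.tail (by decide +kernel)

theorem D1_g3 : Good 32 ns D1_p D1_s (gen ns (sTop D1G_S3)) D1_k3 :=
  D1_g2.tail ctx D1G_ex.1.tail.tail (by decide +kernel)

theorem D1_g4 : Good 32 ns D1_p D1_s (gen ns (sTop D1G_S4)) D1_k4 :=
  D1_g3.tail ctx D1G_ex.1.tail.tail.tail (by decide +kernel)

theorem D1_l5 : LevX 32 ns D1_p D1_s (gen ns (sTop D1G_S5)) D1_k5 1 :=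
  levX_nil _ _ _ _

theorem D1_l4 : LevX 32 ns D1_p D1_s (gen ns (sTop D1G_S4)) D1_k4 1 :=
  D1_l5.step ctx D1G_ex.1.tail.tail.tail.tail D1_g4 (br_zero _ _ _ _ _ _ _) [(0, 2, 0)] 0 0 (by decide +kernel)

theorem D1_l3 : LevX 32 ns D1_p D1_s (gen ns (sTop D1G_S3)) D1_k3 1 :=
  D1_l4.step ctx D1G_ex.1.tail.tail.tail D1_g3 (br_zero _ _ _ _ _ _ _) [(0, 4, 0)] 0 0 (by decide +kernel)

theorem D1_l2 : LevX 32 ns D1_p D1_s (gen ns (sTop D1G_S2)) D1_k2 1 :=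
  D1_l3.step ctx D1G_ex.1.tail.tail D1_g2 (br_zero _ _ _ _ _ _ _) [(1, 13, 0)] 0 0 (by decide +kernel)

theorem D1_l1 : LevX 32 ns D1_p D1_s (gen ns (sTop D1G_S1)) D1_k1 1 :=
  D1_l2.step ctx D1G_ex.1.tail D1_g1 (br_zero _ _ _ _ _ _ _) [] 0 0 (by decide +kernel)

theorem D1_l0 : LevX 32 ns D1_p D1_s (gen ns (sTop D1G_S0)) D1_k0 2 :=
  D1_l1.step ctx D1G_ex.1 D1_g0 (br_zero _ _ _ _ _ _ _) [] 1 1 (by decide +kernel)

theorem D1 : CentEq ns (gen ns [[0], [2]]) D1_as D1_k0 2 :=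
  centEq_of ctx D1G_ex.2.1 D1_l0 D1_g0 D1_cm

theorem A1_s : ∀ u ∈ ltrs [120, 134], wp ns u ∈ cgrp ns A1_C0 :=
  mem_of_siftAll ctx A1_ver0.nested (by decide +kernel)

noncomputable def C2G_S6 : List SD :=
  []

noncomputable def C2G_d5 : SD :=
  ⟨2, 1, [138], lab 1 1 0, 1⟩

noncomputable def C2G_S5 : List SD :=
  C2G_d5 :: C2G_S6

noncomputable def C2G_d4 : SD :=
  ⟨1, 2, [140, 138], lab 2 3 (nat_lit 0x2000000020), 4⟩

noncomputable def C2G_S4 : List SD :=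
  C2G_d4 :: C2G_S5

noncomputable def C2G_d3 : SD :=
  ⟨19, 2, [142, 140, 138], lab 3 7 (nat_lit 0x820000400000000000), 3⟩

noncomputable def C2G_S3 : List SD :=
  C2G_d3 :: C2G_S4

noncomputable def C2G_d2 : SD :=
  ⟨8, 2, [144, 142, 140, 138], lab 3 7 (nat_lit 0x42034020002188), 3⟩

noncomputable def C2G_S2 : List SD :=
  C2G_d2 :: C2G_S3

noncomputable def C2G_d1 : SD :=
  ⟨5, 2, [146, 144, 142, 140, 138], lab 4 15 (nat_lit 0x318020200600460040000000), 3⟩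

noncomputable def C2G_S1 : List SD :=
  C2G_d1 :: C2G_S2

noncomputable def C2G_d0 : SD :=
  ⟨0, 2, [148, 146, 144, 142, 140, 138], lab 4 15 (nat_lit 0x30500a1000502001680), 2⟩

noncomputable def C2G_S0 : List SD :=
  C2G_d0 :: C2G_S1

theorem kn_5 : Known ns (gen ns [[0], [2]]) 150820579546374416138239 :=
  kn_4.steps ctx (es := [(67, [5, 10, 6, 17, 18, 18]),
 (69, [22, 12, 24]),
 (70, [10, 6, 19, 12, 19, 28]),
 (71, [22, 6, 12, 21, 18]),
 (72, [21, 6, 12, 21, 28]),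
 (73, [22, 6, 14, 22, 26]),
 (74, [3, 6, 16, 25, 18, 26, 24]),
 (75, [11, 6, 19, 12, 21, 18, 26, 24]),
 (76, [15, 2, 10, 6, 16, 20, 26, 28])]) (by decide +kernel)

theorem C2G_ex : Exact 32 ns C2G_S0 ∧ gen ns (sTop C2G_S0) = gen ns [[0], [2]] ∧ gen ns [[0], [2]] = gen ns [[0], [2]] :=
  exact_of_known ctx hn (le_rfl) kn_5 (by decide +kernel)

noncomputable def C2_as : List (List ℕ) :=
  [[136]]

noncomputable def C2_p : List (List ℕ × List ℕ) :=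
  derAs (dg C2_as) [[0]]

noncomputable def C2_s : List (ℕ × ℕ) :=
  derSs 32 5 ns (dg C2_as) [[0]]

noncomputable def C2_k0 : List (List ℕ) :=
  [[152], [150], [138]]

noncomputable def C2_k1 : List (List ℕ) :=
  [[150], [138]]

noncomputable def C2_k2 : List (List ℕ) :=
  [[150], [138]]

noncomputable def C2_k3 : List (List ℕ) :=
  [[150], [138]]

noncomputable def C2_k4 : List (List ℕ) :=
  [[150], [138]]

noncomputable def C2_k5 : List (List ℕ) :=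
  [[138]]

noncomputable def C2_k6 : List (List ℕ) :=
  []

theorem C2_cm : commB 32 5 ns (dg C2_as) C2_k0 = true :=
  by decide +kernel

theorem C2_g0 : Good 32 ns C2_p C2_s (gen ns (sTop C2G_S0)) C2_k0 :=
  good_der ctx kn_5 (C2G_ex.2.1.trans C2G_ex.2.2.symm) _ _ ((and'_eq_true _ _).2 ⟨by decide +kernel, C2_cm⟩)

theorem C2_g1 : Good 32 ns C2_p C2_s (gen ns (sTop C2G_S1)) C2_k1 :=
  C2_g0.tail ctx C2G_ex.1 (by decide +kernel)

theorem C2_g2 : Good 32 ns C2_p C2_s (gen ns (sTop C2G_S2)) C2_k2 :=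
  C2_g1.tail ctx C2G_ex.1.tail (by decide +kernel)

theorem C2_g3 : Good 32 ns C2_p C2_s (gen ns (sTop C2G_S3)) C2_k3 :=
  C2_g2.tail ctx C2G_ex.1.tail.tail (by decide +kernel)

theorem C2_g4 : Good 32 ns C2_p C2_s (gen ns (sTop C2G_S4)) C2_k4 :=
  C2_g3.tail ctx C2G_ex.1.tail.tail.tail (by decide +kernel)

theorem C2_g5 : Good 32 ns C2_p C2_s (gen ns (sTop C2G_S5)) C2_k5 :=
  C2_g4.tail ctx C2G_ex.1.tail.tail.tail.tail (by decide +kernel)

theorem C2_l6 : LevX 32 ns C2_p C2_s (gen ns (sTop C2G_S6)) C2_k6 1 :=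
  levX_nil _ _ _ _

theorem C2_l5 : LevX 32 ns C2_p C2_s (gen ns (sTop C2G_S5)) C2_k5 2 :=
  C2_l6.step ctx C2G_ex.1.tail.tail.tail.tail.tail C2_g5 (br_zero _ _ _ _ _ _ _) [] 1 1 (by decide +kernel)

theorem C2_l4 : LevX 32 ns C2_p C2_s (gen ns (sTop C2G_S4)) C2_k4 10 :=
  C2_l5.step ctx C2G_ex.1.tail.tail.tail.tail C2_g4 (br_zero _ _ _ _ _ _ _) [] 2 2 (by decide +kernel)

theorem C2_l3 : LevX 32 ns C2_p C2_s (gen ns (sTop C2G_S3)) C2_k3 10 :=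
  C2_l4.step ctx C2G_ex.1.tail.tail.tail C2_g3 (br_zero _ _ _ _ _ _ _) [(0, 8, 0)] 0 0 (by decide +kernel)

theorem C2_c2_3 : Br 32 ns C2_p C2_s (gen ns (sTop C2G_S2)) C2G_d2.p (Nat.shiftLeft 1 3) (InCs ns C2G_S2 []) :=
  br_of_cnt ctx C2G_ex.1.tail.tail [144] (.pair 7 1 8 0 0) (by decide +kernel) _

noncomputable def C2_B2_cs : List (List ℕ) :=
  []

noncomputable def C2_B2_pl : List Pl :=
  [⟨.lst 0, []⟩, ⟨.forced 0 0, []⟩, ⟨.free, []⟩, ⟨.free, []⟩]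

noncomputable def C2_B2_M0 : ℕ :=
  2

theorem C2_B2_b0 : Br 32 ns C2_p C2_s (gen ns (sTop C2G_S2)) C2G_d2.p C2_B2_M0 (InCs ns C2G_S2 C2_B2_cs) :=
  br_of_brB ctx hE C2G_ex.1.tail.tail (pl := C2_B2_pl) (bs := [5, 0]) (tps := [15, 9]) (by decide +kernel)

theorem C2_l2 : LevX 32 ns C2_p C2_s (gen ns (sTop C2G_S2)) C2_k2 10 :=
  C2_l3.step ctx C2G_ex.1.tail.tail C2_g2 (((br_zero _ _ _ _ _ _ _).lor C2_c2_3).lor C2_B2_b0) [] 3 0 (by decide +kernel)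

theorem C2_l1 : LevX 32 ns C2_p C2_s (gen ns (sTop C2G_S1)) C2_k1 10 :=
  C2_l2.step ctx C2G_ex.1.tail C2_g1 (br_zero _ _ _ _ _ _ _) [(0, 0, 0)] 0 0 (by decide +kernel)

theorem C2_l0 : LevX 32 ns C2_p C2_s (gen ns (sTop C2G_S0)) C2_k0 120 :=
  C2_l1.step ctx C2G_ex.1 C2_g0 (br_zero _ _ _ _ _ _ _) [] 3 3 (by decide +kernel)

theorem C2 : CentEq ns (gen ns [[0], [2]]) C2_as C2_k0 120 :=
  centEq_of ctx C2G_ex.2.1 C2_l0 C2_g0 C2_cm

noncomputable def A2_C3 : List Lvl :=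
  []

noncomputable def A2_ss2 : List (List ℕ) :=
  [[138]]

noncomputable def A2_D2 : ℕ :=
  20

noncomputable def A2_l2 : Lvl :=
  ⟨2, [[138]],
  tabA [(4, 512)], 1⟩

noncomputable def A2_C2 : List Lvl :=
  A2_l2 :: A2_C3

noncomputable def A2_ss1 : List (List ℕ) :=
  [[158], [151]]

noncomputable def A2_D1 : ℕ :=
  262678

noncomputable def A2_l1 : Lvl :=
  ⟨1, [[158], [151], [138]],
  tabA [(2, 256), (9, 258), (18, 259), (4, 515)], 2⟩

noncomputable def A2_C1 : List Lvl :=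
  A2_l1 :: A2_C2

noncomputable def A2_ss0 : List (List ℕ) :=
  [[154], [156]]

noncomputable def A2_D0 : ℕ :=
  77897

noncomputable def A2_l0 : Lvl :=
  ⟨0, [[154], [156], [158], [151], [138]],
  tabA [(3, 0), (13, 1), (6, 2), (16, 3), (12, 771)], 2⟩

noncomputable def A2_C0 : List Lvl :=
  A2_l0 :: A2_C1

theorem A2_ver3 : Ver ns A2_C3 1 :=
  ver_nil _

theorem A2_le2 : gen ns A2_l2.ws ≤ gen ns A2_ss2 :=
  gen_le_step ctx (tgt := [])
  (es := []) (le_refl (gen _ [])) (by decide +kernel)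

theorem A2_lv2 : chkLvl 32 ns A2_l2 A2_C3 A2_D2 1 = true :=
  by decide +kernel

theorem A2_pt2_0 : AllIn (PtOK 32 ns A2_l2 A2_C3 A2_ss2 A2_D2) 0 64 :=
  ptOK_of_chkPts ctx A2_ver3 (a := 0) (n := 1) (by decide +kernel)

theorem A2_st2 : IsStab 32 (gen ns A2_l2.ws) (cgrp ns A2_C3) A2_l2.b A2_D2 :=
  isStab_plain ctx A2_le2 A2_lv2 (by norm_num) A2_pt2_0

theorem A2_ver2 : Ver ns A2_C2 2 :=
  A2_ver3.cons ctx A2_st2 (by decide +kernel)

theorem A2_le1 : gen ns A2_l1.ws ≤ gen ns A2_ss1 :=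
  gen_le_step ctx (tgt := [[138]])
  (es := [([138], [2, 2, 0, 2, 0, 2, 1])]) A2_le2 (by decide +kernel)

theorem A2_lv1 : chkLvl 32 ns A2_l1 A2_C2 A2_D1 1 = true :=
  by decide +kernel

theorem A2_pt1_0 : AllIn (PtOK 32 ns A2_l1 A2_C2 A2_ss1 A2_D1) 0 64 :=
  ptOK_of_chkPts ctx A2_ver2 (a := 0) (n := 1) (by decide +kernel)

theorem A2_st1 : IsStab 32 (gen ns A2_l1.ws) (cgrp ns A2_C2) A2_l1.b A2_D1 :=
  isStab_plain ctx A2_le1 A2_lv1 (by norm_num) A2_pt1_0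

theorem A2_ver1 : Ver ns A2_C1 10 :=
  A2_ver2.cons ctx A2_st1 (by decide +kernel)

theorem A2_le0 : gen ns A2_l0.ws ≤ gen ns A2_ss0 :=
  gen_le_step ctx (tgt := [[158], [151]])
  (es := [([158], [0, 3, 1, 3, 1, 1, 3, 3, 0]), ([151], [2, 4, 4, 3])]) A2_le1 (by decide +kernel)

theorem A2_lv0 : chkLvl 32 ns A2_l0 A2_C1 A2_D0 1 = true :=
  by decide +kernel

theorem A2_pt0_0 : AllIn (PtOK 32 ns A2_l0 A2_C1 A2_ss0 A2_D0) 0 64 :=
  ptOK_of_chkPts ctx A2_ver1 (a := 0) (n := 1) (by decide +kernel)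

theorem A2_st0 : IsStab 32 (gen ns A2_l0.ws) (cgrp ns A2_C1) A2_l0.b A2_D0 :=
  isStab_plain ctx A2_le0 A2_lv0 (by norm_num) A2_pt0_0

theorem A2_ver0 : Ver ns A2_C0 60 :=
  A2_ver1.cons ctx A2_st0 (by decide +kernel)

theorem A2_eq : gen ns A2_ss0 = cgrp ns A2_C0 :=
  le_antisymm (gen_le_of_subsetL _ (by decide +kernel)) A2_le0

theorem A2_card : Nat.card (gen ns A2_ss0) = 60 :=
  by rw [A2_eq]; exact A2_ver0.card

theorem A2_n : ∀ u ∈ cjW C2_k0 A2_ss0, wp ns u ∈ cgrp ns A2_C0 :=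
  mem_of_siftAll ctx A2_ver0.nested (by decide +kernel)

noncomputable def D2G_S5 : List SD :=
  []

noncomputable def D2G_d4 : SD :=
  ⟨8, 2, [160, 44], lab 2 3 (nat_lit 0x23040800c0), 2⟩

noncomputable def D2G_S4 : List SD :=
  D2G_d4 :: D2G_S5

noncomputable def D2G_d3 : SD :=
  ⟨2, 2, [162, 160, 44], lab 3 7 (nat_lit 0x5018021002a00), 2⟩

noncomputable def D2G_S3 : List SD :=
  D2G_d3 :: D2G_S4

noncomputable def D2G_d2 : SD :=
  ⟨0, 2, [164, 162, 160, 44], lab 3 7 (nat_lit 0x1c600503c001400), 2⟩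

noncomputable def D2G_S2 : List SD :=
  D2G_d2 :: D2G_S3

noncomputable def D2G_d1 : SD :=
  ⟨6, 2, [166, 164, 162, 160, 44], lab 4 15 (nat_lit 0x2010040008000019502), 2⟩

noncomputable def D2G_S1 : List SD :=
  D2G_d1 :: D2G_S2

noncomputable def D2G_d0 : SD :=
  ⟨1, 2, [168, 166, 164, 162, 160, 44], lab 4 15 (nat_lit 0x20009003802016405), 2⟩

noncomputable def D2G_S0 : List SD :=
  D2G_d0 :: D2G_S1

theorem kn_6 : Known ns (gen ns [[0], [2]]) 76766494397623498367336447 :=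
  kn_5.steps ctx (es := [(77, [8, 2, 6, 6, 17, 22, 26]),
 (78, [10, 2, 7, 12, 21, 18, 26, 28]),
 (80, [21, 18, 26, 24, 28]),
 (22, [21, 26, 24]),
 (81, [19, 12, 20, 26, 24, 28]),
 (82, [25, 2, 11, 6, 19, 12]),
 (83, [3, 6, 16, 25, 18, 24]),
 (84, [20, 2, 6, 6, 25, 12, 26]),
 (85, [2, 12, 6, 17, 12, 21, 18, 26, 24])]) (by decide +kernel)

theorem D2G_ex : Exact 32 ns D2G_S0 ∧ gen ns (sTop D2G_S0) = gen ns [[0], [2]] ∧ gen ns [[0], [2]] = gen ns [[0], [2]] :=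
  exact_of_known ctx hn (le_rfl) kn_6 (by decide +kernel)

noncomputable def D2_as : List (List ℕ) :=
  [[154], [156]]

noncomputable def D2_p : List (List ℕ × List ℕ) :=
  derAs (dg D2_as) [[0], [2]]

noncomputable def D2_s : List (ℕ × ℕ) :=
  derSs 32 5 ns (dg D2_as) [[0], [2]]

noncomputable def D2_k0 : List (List ℕ) :=
  [[170]]

noncomputable def D2_k1 : List (List ℕ) :=
  []

noncomputable def D2_k2 : List (List ℕ) :=
  []

noncomputable def D2_k3 : List (List ℕ) :=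
  []

noncomputable def D2_k4 : List (List ℕ) :=
  []

noncomputable def D2_k5 : List (List ℕ) :=
  []

theorem D2_cm : commB 32 5 ns (dg D2_as) D2_k0 = true :=
  by decide +kernel

theorem D2_g0 : Good 32 ns D2_p D2_s (gen ns (sTop D2G_S0)) D2_k0 :=
  good_der ctx kn_6 (D2G_ex.2.1.trans D2G_ex.2.2.symm) _ _ ((and'_eq_true _ _).2 ⟨by decide +kernel, D2_cm⟩)

theorem D2_g1 : Good 32 ns D2_p D2_s (gen ns (sTop D2G_S1)) D2_k1 :=
  D2_g0.tail ctx D2G_ex.1 (by decide +kernel)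

theorem D2_g2 : Good 32 ns D2_p D2_s (gen ns (sTop D2G_S2)) D2_k2 :=
  D2_g1.tail ctx D2G_ex.1.tail (by decide +kernel)

theorem D2_g3 : Good 32 ns D2_p D2_s (gen ns (sTop D2G_S3)) D2_k3 :=
  D2_g2.tail ctx D2G_ex.1.tail.tail (by decide +kernel)

theorem D2_g4 : Good 32 ns D2_p D2_s (gen ns (sTop D2G_S4)) D2_k4 :=
  D2_g3.tail ctx D2G_ex.1.tail.tail.tail (by decide +kernel)

theorem D2_l5 : LevX 32 ns D2_p D2_s (gen ns (sTop D2G_S5)) D2_k5 1 :=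
  levX_nil _ _ _ _

theorem D2_l4 : LevX 32 ns D2_p D2_s (gen ns (sTop D2G_S4)) D2_k4 1 :=
  D2_l5.step ctx D2G_ex.1.tail.tail.tail.tail D2_g4 (br_zero _ _ _ _ _ _ _) [(0, 4, 2), (1, 1, 0)] 0 0 (by decide +kernel)

theorem D2_l3 : LevX 32 ns D2_p D2_s (gen ns (sTop D2G_S3)) D2_k3 1 :=
  D2_l4.step ctx D2G_ex.1.tail.tail.tail D2_g3 (br_zero _ _ _ _ _ _ _) [(0, 8, 2)] 0 0 (by decide +kernel)

theorem D2_l2 : LevX 32 ns D2_p D2_s (gen ns (sTop D2G_S2)) D2_k2 1 :=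
  D2_l3.step ctx D2G_ex.1.tail.tail D2_g2 (br_zero _ _ _ _ _ _ _) [(1, 6, 0)] 0 0 (by decide +kernel)

theorem D2_l1 : LevX 32 ns D2_p D2_s (gen ns (sTop D2G_S1)) D2_k1 1 :=
  D2_l2.step ctx D2G_ex.1.tail D2_g1 (br_zero _ _ _ _ _ _ _) [] 0 0 (by decide +kernel)

theorem D2_l0 : LevX 32 ns D2_p D2_s (gen ns (sTop D2G_S0)) D2_k0 2 :=
  D2_l1.step ctx D2G_ex.1 D2_g0 (br_zero _ _ _ _ _ _ _) [] 1 1 (by decide +kernel)

theorem D2 : CentEq ns (gen ns [[0], [2]]) D2_as D2_k0 2 :=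
  centEq_of ctx D2G_ex.2.1 D2_l0 D2_g0 D2_cm

theorem A2_s : ∀ u ∈ ltrs [174, 172], wp ns u ∈ cgrp ns A2_C0 :=
  mem_of_siftAll ctx A2_ver0.nested (by decide +kernel)

theorem kn_7 : Known ns (gen ns [[0], [2]]) 307008524984716595406168948735 :=
  kn_6.steps ctx (es := [(87, [6, 17, 20, 26, 24, 28]),
 (86, [6, 2, 11, 6, 19, 12, 25, 18, 28]),
 (92, [15, 2, 25, 12, 22, 26, 24]),
 (91, [11, 6, 16, 25, 18, 24]),
 (90, [6, 10, 2, 10, 6, 14, 25, 18, 24, 28]),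
 (89, [11, 6, 17, 12, 25, 18, 26, 24]),
 (88, [3, 17, 21, 28]),
 (94, [20, 2, 10, 6, 25, 12, 22, 24]),
 (95, [12, 6, 12, 18, 26, 24, 28]),
 (96, [5, 7, 14, 21]),
 (97, [3, 6, 25, 12, 21, 18, 28])]) (by decide +kernel)

theorem kc_0 : Known ns (gen ns [[194], [188], [190], [192]]) 297105609428491265975789813760 :=
  known_gen (by decide +kernel)

noncomputable def Y_S5 : List SD :=
  []

noncomputable def Y_d4 : SD :=
  ⟨0, 1, [76], lab 1 1 0, 1⟩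

noncomputable def Y_S4 : List SD :=
  Y_d4 :: Y_S5

noncomputable def Y_d3 : SD :=
  ⟨7, 1, [78, 198, 76], lab 3 7 (nat_lit 0x400000400000000000), 2⟩

noncomputable def Y_S3 : List SD :=
  Y_d3 :: Y_S4

noncomputable def Y_d2 : SD :=
  ⟨8, 1, [92, 94, 78, 198, 76], lab 4 15 (nat_lit 0x20000000000000000), 1⟩

noncomputable def Y_S2 : List SD :=
  Y_d2 :: Y_S3

noncomputable def Y_d1 : SD :=
  ⟨6, 1, [196, 92, 94, 78, 198, 76], lab 4 15 (nat_lit 0x400000000), 2⟩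

noncomputable def Y_S1 : List SD :=
  Y_d1 :: Y_S2

noncomputable def Y_d0 : SD :=
  ⟨3, 1, [194, 188, 190, 192, 196, 92, 94, 78, 198, 76], lab 5 31 (nat_lit 0x500c0000000), 1⟩

noncomputable def Y_S0 : List SD :=
  Y_d0 :: Y_S1

theorem kc_1 : Known ns (gen ns [[194], [188], [190], [192]]) 1247843559599663529029183471616 :=
  kc_0.steps ctx (es := [(98, [195, 188]),
 (47, [190, 194, 194, 194, 193]),
 (46, [196, 196]),
 (39, [94, 92, 94, 93]),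
 (99, [92, 92, 92]),
 (38, [79, 199, 79, 198, 198, 78, 199, 79])]) (by decide +kernel)

theorem Y_ex : Exact 32 ns Y_S0 ∧ gen ns (sTop Y_S0) = gen ns C0_k0 ∧ gen ns [[194], [188], [190], [192]] = gen ns C0_k0 :=
  exact_of_known ctx C0.card (C0.le_of ctx kn_7 (by decide +kernel)) kc_1 (by decide +kernel)

theorem kn_8 : Known ns (gen ns [[0], [2]]) 4109960325669404799896278564863 :=
  kn_7.steps ctx (es := [(100, [20, 2, 21, 6, 21, 18, 26, 24]),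
 (101, [5, 10, 6, 17])]) (by decide +kernel)

theorem kx_3 : Known ns (gen ns [[0], [2], [30]]) 19497555913893770958668349699 :=
  kx_2.steps ctx (es := [(38, [3, 47, 60, 28]),
 (50, [51, 2, 55, 50, 59, 62, 28]),
 (68, [2, 30, 48, 55, 16, 56, 54, 62]),
 (93, [31, 2, 55, 50, 55, 16, 54]),
 (92, [50, 2, 17, 48, 59, 28]),
 (91, [47, 48, 17, 57, 54, 62, 28]),
 (90, [51, 2, 55, 50, 47, 59, 60]),
 (89, [47, 48, 16, 57, 54, 60]),
 (88, [3, 17, 55])]) (by decide +kernel)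

theorem mo : Mo 32 5 ns (gen ns [[0], [2]]) 4109960325669404799896278564863 :=
  ⟨ctx, kn_8, gen_le_supp ctx.ok _⟩

theorem mx : Mo 32 5 ns (gen ns [[0], [2], [30]]) 19497555913893770958668349699 :=
  ⟨ctx, kx_3, gen_le_supp ctx.ok _⟩

instance fin : Finite Cfsg.Spor.M12 := mo.finite equiv

instance finX : Finite (gen ns [[0], [2], [30]]) := finite_gen ctx.ok _

noncomputable def U1_top : List ℕ :=
  [120, 134]

noncomputable def U1_ts : List (List ℕ) :=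
  [[76]]

theorem U1_nc : Nc (ev equiv ns) U1_top :=
  (wm_of_qs (mo.qs equiv)).nc (hs := [([], [[134]]),
 ([], [])]) (by decide +kernel)

theorem U1_lb : 2 ^ U1_top.length ≤ Nat.card (sg (ev equiv ns) U1_top) :=
  le_card_sg mo equiv [(0, 1, [[134], [120, 134]]),
 (2, 1, [[120, 134]])] (by decide +kernel)

noncomputable def U1_c1 : CT :=
  (.two .triv
 (.lf [2, 10, 6, 16, 22, 24] [76]))

noncomputable def U1_c2 : CT :=
  (.two (.lf [10, 2, 6, 6, 19, 12, 18, 18] [76])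
 (.lf [6, 2, 6, 17, 25, 18, 26] [76]))

theorem U1_cv1 : Cv (ev equiv ns) U1_ts [134] [] :=
  (U1_nc.ser U1_lb).cv' (wm_of_qs (mo.qs equiv)) U1_c1 0 (p := 120) (by decide +kernel)

theorem U1_cv2 : Cv (ev equiv ns) U1_ts [134] [120] :=
  (U1_nc.ser U1_lb).cv' (wm_of_qs (mo.qs equiv)) U1_c2 0 (p := 120) (by decide +kernel)

theorem U1_cv : Cv (ev equiv ns) U1_ts U1_top [] :=
  (U1_nc.ser U1_lb).two (wm_of_qs (mo.qs equiv)) 0 (by decide +kernel) U1_cv1 U1_cv2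

noncomputable def U2_top : List ℕ :=
  [174, 172]

noncomputable def U2_ts : List (List ℕ) :=
  [[76]]

theorem U2_nc : Nc (ev equiv ns) U2_top :=
  (wm_of_qs (mo.qs equiv)).nc (hs := [([], [[172]]),
 ([], [])]) (by decide +kernel)

theorem U2_lb : 2 ^ U2_top.length ≤ Nat.card (sg (ev equiv ns) U2_top) :=
  le_card_sg mo equiv [(1, 1, [[172], [174, 172]]),
 (0, 1, [[174, 172]])] (by decide +kernel)

noncomputable def U2_c1 : CT :=
  (.two .triv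
 (.lf [2, 16, 18, 28] [76]))

noncomputable def U2_c2 : CT :=
  (.two (.lf [20, 2, 8, 6, 16, 21] [76])
 (.lf [12, 2, 8, 18, 24, 28] [76]))

theorem U2_cv1 : Cv (ev equiv ns) U2_ts [172] [] :=
  (U2_nc.ser U2_lb).cv' (wm_of_qs (mo.qs equiv)) U2_c1 0 (p := 174) (by decide +kernel)

theorem U2_cv2 : Cv (ev equiv ns) U2_ts [172] [174] :=
  (U2_nc.ser U2_lb).cv' (wm_of_qs (mo.qs equiv)) U2_c2 0 (p := 174) (by decide +kernel)

theorem U2_cv : Cv (ev equiv ns) U2_ts U2_top [] :=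
  (U2_nc.ser U2_lb).two (wm_of_qs (mo.qs equiv)) 0 (by decide +kernel) U2_cv1 U2_cv2

noncomputable def VX_top : List ℕ :=
  [186, 184, 182, 180, 178, 176, 76]

noncomputable def VX_ts : List (List ℕ) :=
  [[76], [100], [136]]

theorem VX_nc : Nc (ev (MulEquiv.refl ↥(gen ns [[0], [2], [30]])) ns) VX_top :=
  (wm_of_qs (mx.qs (MulEquiv.refl _))).nc (hs := [([], [[184, 180, 176], [182, 76], [180], [178, 176, 76], [176], [76]]),
 ([180, 178, 176, 76], [[182, 180, 178, 176, 76], [180, 176, 76], [178, 176], [176, 76], [76]]),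
 ([], [[180, 176], [178, 176, 76], [176], [76]]),
 ([], [[178, 76], [176], [76]]),
 ([], [[176], [76]]),
 ([], [[76]]),
 ([], [])]) (by decide +kernel)

theorem VX_lb : 2 ^ VX_top.length ≤ Nat.card (sg (ev (MulEquiv.refl ↥(gen ns [[0], [2], [30]])) ns) VX_top) :=
  le_card_sg mx (MulEquiv.refl _) [(0, 2, [[186, 184, 180], [184, 182, 176], [182], [182, 178]]),
 (1, 1, [[182], [182, 178]]),
 (2, 3, [[182, 178]])] (by decide +kernel)

noncomputable def VX_c1 : CT :=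
  (.two (.two (.two (.two (.two (.two .triv
 (.lf [] [76]))
 (.one [184] [] (.lf [48, 2, 50, 48, 52, 62, 54] [76])))
 (.one [182] [76] (.one [180] [] (.lf [62, 30, 17, 48, 16, 59, 62, 28] [76]))))
 (.two (.one [182] [] (.one [178] [] (.lf [31, 3, 48, 50, 16, 56, 54, 28] [100])))
 (.one [186] [76] (.one [178] [] (.no [])))))
 (.one [184] [178, 176, 76] (.two (.one [178] [76] (.one [186] [] (.lf [46, 2, 47, 48, 58, 16, 54, 60] [76])))
 (.one [178] [76] (.no [76])))))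
 (.two (.one [182] [178, 176, 76] (.no [178, 176, 76]))
 (.one [182] [178, 176] (.one [186, 182] [] (.two (.one [176] [] (.no []))
 (.one [176] [] (.lf [48, 30, 46, 50, 17, 55] [100])))))))

noncomputable def VX_c2 : CT :=
  (.two (.two (.one [184] [] (.two (.one [178] [76] (.one [182] [] (.lf [16, 2, 50, 57, 54, 60, 28] [136])))
 (.one [178] [76] (.no [76]))))
 (.two (.one [184] [76] (.one [180] [] (.one [182] [] (.no []))))
 (.one [184] [176, 76] (.one [180] [] (.no [76])))))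
 (.two (.one [182] [178, 176] (.one [184, 182] [] (.no [176, 76])))
 (.one [182] [178, 176, 76] (.no []))))

theorem VX_cv1 : Cv (ev (MulEquiv.refl ↥(gen ns [[0], [2], [30]])) ns) VX_ts [184, 182, 180, 178, 176, 76] [] :=
  (VX_nc.ser VX_lb).cv' (wm_of_qs (mx.qs (MulEquiv.refl _))) VX_c1 0 (p := 186) (by decide +kernel)

theorem VX_cv2 : Cv (ev (MulEquiv.refl ↥(gen ns [[0], [2], [30]])) ns) VX_ts [184, 182, 180, 178, 176, 76] [186] :=
  (VX_nc.ser VX_lb).cv' (wm_of_qs (mx.qs (MulEquiv.refl _))) VX_c2 0 (p := 186) (by decide +kernel)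

theorem VX_cv : Cv (ev (MulEquiv.refl ↥(gen ns [[0], [2], [30]])) ns) VX_ts VX_top [] :=
  (VX_nc.ser VX_lb).two (wm_of_qs (mx.qs (MulEquiv.refl _))) 0 (by decide +kernel) VX_cv1 VX_cv2

noncomputable def VG_top : List ℕ :=
  [184, 182, 180, 178, 176, 76]

noncomputable def VG_ts : List (List ℕ) :=
  [[76], [100]]

theorem VG_nc : Nc (ev equiv ns) VG_top :=
  (wm_of_qs (mo.qs equiv)).nc (hs := [([180, 178, 176, 76], [[182, 180, 178, 176, 76], [180, 176, 76], [178, 176], [176, 76], [76]]),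
 ([], [[180, 176], [178, 176, 76], [176], [76]]),
 ([], [[178, 76], [176], [76]]),
 ([], [[176], [76]]),
 ([], [[76]]),
 ([], [])]) (by decide +kernel)

theorem VG_lb : 2 ^ VG_top.length ≤ Nat.card (sg (ev equiv ns) VG_top) :=
  le_card_sg mo equiv [(0, 3, [[184, 176], [182], [182, 178]]),
 (1, 1, [[182], [182, 178]]),
 (2, 3, [[182, 178]])] (by decide +kernel)

noncomputable def VG_c1 : CT :=
  (.two (.two (.two (.two (.two .triv
 (.lf [] [76]))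
 (.one [184] [] (.lf [10, 2, 10, 6, 25, 12, 21, 26, 24] [76])))
 (.one [182] [76] (.one [180] [] (.lf [25, 2, 7, 22, 12, 22, 24, 28] [76]))))
 (.two (.one [182] [] (.one [178] [] (.lf [10, 2, 12, 6, 19, 12, 19, 26, 24] [100])))
 (.two (.one [178] [] (.no []))
 (.one [178] [] (.no [])))))
 (.one [184] [178, 176, 76] (.two (.one [178] [76] (.one [180, 178] [] (.lf [5, 17, 18, 24] [76])))
 (.one [178] [76] (.no [76])))))

noncomputable def VG_c2 : CT :=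
  (.two (.one [182] [178, 176, 76] (.no [178, 176, 76]))
 (.one [182] [178, 176] (.two (.two (.one [176] [] (.no []))
 (.one [176] [] (.lf [20, 2, 10, 6, 25, 12, 21] [100])))
 (.two (.one [176] [] (.no []))
 (.one [176] [] (.lf [6, 19, 12, 19, 26, 28] [100]))))))

theorem VG_cv1 : Cv (ev equiv ns) VG_ts [182, 180, 178, 176, 76] [] :=
  (VG_nc.ser VG_lb).cv' (wm_of_qs (mo.qs equiv)) VG_c1 0 (p := 184) (by decide +kernel)

theorem VG_cv2 : Cv (ev equiv ns) VG_ts [182, 180, 178, 176, 76] [184] :=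
  (VG_nc.ser VG_lb).cv' (wm_of_qs (mo.qs equiv)) VG_c2 0 (p := 184) (by decide +kernel)

theorem VG_cv : Cv (ev equiv ns) VG_ts VG_top [] :=
  (VG_nc.ser VG_lb).two (wm_of_qs (mo.qs equiv)) 0 (by decide +kernel) VG_cv1 VG_cv2

theorem tw : TwoC (ev equiv ns [76]) :=
  twoC_of mo equiv hn C0 0 (by decide +kernel) (by norm_num)

theorem xt0 : XT equiv 3 64 (wp ns [76]) :=
  xt_solv mo equiv hn C0 (Or.inl (by decide +kernel)) 3 10 (by norm_num)

theorem xt1 : XT equiv 3 64 (wp ns [100]) :=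
  xt_comp mo equiv hn C1 (by norm_num) (by decide +kernel) (A1_eq ▸ A1_n) D1 12 (by norm_num)
    (fun J h1 h2 => by
      obtain ⟨h3, h4⟩ := simple_of_card h1 h2 ((card_sub equiv (mo.k.gen_le (by decide +kernel))).trans A1_card) (by norm_num)
      exact jf_60 h4 (by norm_num))
    (twoC_sub mo equiv A1_card U1_nc U1_lb U1_cv (A1_eq ▸ A1_s) (by decide +kernel) (by decide +kernel) tw)

theorem xt2 : XT equiv 3 64 (wp ns [136]) :=
  xt_comp mo equiv hn C2 (by norm_num) (by decide +kernel) (A2_eq ▸ A2_n) D2 12 (by norm_num)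
    (fun J h1 h2 => by
      obtain ⟨h3, h4⟩ := simple_of_card h1 h2 ((card_sub equiv (mo.k.gen_le (by decide +kernel))).trans A2_card) (by norm_num)
      exact jf_60 h4 (by norm_num))
    (twoC_sub mo equiv A2_card U2_nc U2_lb U2_cv (A2_eq ▸ A2_s) (by decide +kernel) (by decide +kernel) tw)

theorem hle : gen ns [[0], [2]] ≤ gen ns [[0], [2], [30]] :=
  gen_le_of_subsetL _ (by decide +kernel)

theorem xfr : XFr 3 (2 ^ 6) Cfsg.Spor.M12 :=
  { prime := by norm_num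
    odd := by norm_num
    rank := rank_of mo equiv [[200], [202]] [(0, 2, [[202], [200, 202]])] (by decide +kernel) (by decide +kernel)
    syl := syl_of equiv hn 6 (by norm_num)
    cls := cls_of (Cv.classes (wm_of_qs (mo.qs equiv)) VG_nc VG_lb
      (by rw [Nat.card_congr equiv.toEquiv, hn]; decide +kernel) VG_cv)
      (not_twoC mo.k equiv hn C1 (by decide +kernel) (by norm_num))
    cen := cen_of mo equiv (mo.qs equiv) C0 tw Y_ex.2.2 [193, 189, 191, 193, 190, 189, 193] 3 (by decide +kernel)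
    xp := xp_all (exists_phi equiv hle (le_normalizer_of_card hle (by rw [hX, hn])) le_rfl Z
      S2061.result (by rw [hX, hn])) mx.k (ts := VX_ts) (by decide +kernel)
      (Cv.classes (wm_of_qs (mx.qs (MulEquiv.refl _))) VX_nc VX_lb (by rw [hX]; decide +kernel) VX_cv)
      (List.forall_mem_cons.2 ⟨xt0, List.forall_mem_cons.2 ⟨xt1, List.forall_mem_cons.2 ⟨xt2, fun _ h => absurd h List.not_mem_nil⟩⟩⟩) }

end Cfsg.Agent.Q16.XM12a
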