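import Mathlib
import Cfsg.Agent.Q16.Defs
import Cfsg.Agent.K.InvMo2
import Cfsg.Agent.Comp.InvClass
import Cfsg.Agent.S0496

/-!
The facts `XFr` from certificates in a permutation model `G` of `H` and a model `X ≥ G` of its
automorphism group.
-/

set_option autoImplicit false
set_option linter.style.haveILetI false

namespace Cfsg.Agent.Q16

open Subgroup Cfsg Cfsg.Agent.PLocal Cfsg.Agent.Comp Cfsg.Agent.Comp.IC

variable {H : Type*} [Group H] {G X : Subgroup (Equiv.Perm ℕ)} {N w K : ℕ} {ns : List Net}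

/-- The automorphism `α` is induced by the permutation `s`. -/
def Ind (e : H ≃* G) (α : MulAut H) (s : Equiv.Perm ℕ) : Prop :=
  ∀ x, pm e (α x) = s * pm e x * s⁻¹

/-- `XP` for the automorphisms induced by `s`. -/
def XT (e : H ≃* G) (r n : ℕ) (s : Equiv.Perm ℕ) : Prop := ∀ α, Ind e α s → XP r n α

theorem le_normalizer_of_card [Finite X] (hle : G ≤ X) (h : Nat.card X = 2 * Nat.card G) :
    X ≤ normalizer (G : Set (Equiv.Perm ℕ)) := by
  refine (normal_subgroupOf_iff_le_normalizer hle).1 (normal_of_index_eq_two ?_)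
  have h1 := (G.subgroupOf X).index_mul_card
  rw [Nat.card_congr (subgroupOfEquivOfLe hle).toEquiv, h] at h1
  haveI := Finite.of_injective _ (inclusion_injective hle)
  exact Nat.eq_of_mul_eq_mul_right Nat.card_pos h1

theorem exists_phi (e : H ≃* G) [Finite X] (hle : G ≤ X)
    (hn : X ≤ normalizer (G : Set (Equiv.Perm ℕ))) {gws : List (List ℕ)} (hG : gen ns gws ≤ G)
    (hc : CentEq ns X gws [] 1) {m : ℕ} (ho : Nat.card (Out H) = m)
    (hX : Nat.card X = m * Nat.card G) : ∃ φ : X ≃* MulAut H, ∀ a, Ind e (φ a) a := by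
  haveI := Finite.of_injective _ (inclusion_injective hle)
  haveI := Finite.of_equiv _ e.symm.toEquiv
  let ψ : X →* MulAut H := (MulAut.congr e.symm).toMonoidHom.comp
    (G.normalizerMonoidHom.comp (inclusion hn))
  have h1 : ∀ a, Ind e (ψ a) a := fun a x => by
    simp [ψ, pm_apply, MulAut.congr]
  have h2 : Function.Injective ψ := (injective_iff_map_eq_one _).2 fun a ha => by
    have := (hc.iff a).2 ⟨a.2, fun u hu => ?_⟩
    · rw [gen_nil, mem_bot] at this
      exact Subtype.ext this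
    · have h3 := h1 a (e.symm ⟨_, hG (wp_mem_gen ns hu)⟩)
      rw [ha, MulAut.one_apply, pm_apply, MulEquiv.apply_symm_apply] at h3
      exact (mul_inv_eq_iff_eq_mul.1 h3.symm)
  refine ⟨MulEquiv.ofBijective ψ ((Nat.bijective_iff_injective_and_card _).2 ⟨h2, le_antisymm
    (Nat.card_le_card_of_injective _ h2) ?_⟩), h1⟩
  rw [card_eq_card_quotient_mul_card_subgroup (Inn H), hX, ← Nat.card_congr e.toEquiv, ← ho]
  exact Nat.mul_le_mul_left _ (Nat.card_le_card_of_surjective _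
    (MulAut.conj : H →* MulAut H).rangeRestrict_surjective)

theorem xp_all [Finite H] {e : H ≃* G} {r n : ℕ} (hφ : ∃ φ : X ≃* MulAut H, ∀ a, Ind e (φ a) a)
    (hK : Known ns X K) {ts : List (List ℕ)} (hts : allL ts (inK K) = true)
    (hcl : ∀ x : X, orderOf x = 2 → ∃ t ∈ ts.map (ev (MulEquiv.refl X) ns), IsConj t x)
    (h : ∀ t ∈ ts, XT e r n (wp ns t)) (α : MulAut H) (hα : orderOf α = 2) : XP r n α := by
  obtain ⟨φ, hφ⟩ := hφ
  obtain ⟨a, rfl⟩ := φ.surjective α
  obtain ⟨_, h1, h2⟩ := hcl a (by rwa [φ.orderOf_eq] at hα)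
  obtain ⟨t, ht, rfl⟩ := List.mem_map.1 h1
  obtain ⟨g, rfl⟩ := isConj_iff.1 h2
  rw [map_mul, map_mul, map_inv]
  refine (h t ht _ ?_).conj _
  rw [← hK.pm_ev (MulEquiv.refl X) ((allL_iff _ _).1 hts t ht)]
  exact hφ _

theorem Ind.fixed {e : H ≃* G} {α : MulAut H} {t : List ℕ} {kws : List (List ℕ)} {n : ℕ}
    (h : Ind e α (wp ns t)) (hC : CentEq ns G [t] kws n) : fixedSubgroup α = sub e ns kws := by
  ext x
  rw [mem_fixed, mem_sub, hC.iff, ← (pm_inj e).eq_iff, h x, mul_inv_eq_iff_eq_mul]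
  simp [pm_mem, eq_comm]

theorem index_sub (e : H ≃* G) {as kws : List (List ℕ)} {n g : ℕ} (hG : Nat.card G = g)
    (hC : CentEq ns G as kws n) : (sub e ns kws).index * n = g := by
  rw [← hC.card_sub e, index_mul_card, Nat.card_congr e.toEquiv, hG]

theorem dvd_index_sub (e : H ≃* G) {as kws : List (List ℕ)} {n g a : ℕ} (hG : Nat.card G = g)
    (hC : CentEq ns G as kws n) (h : 0 < n ∧ a * n ∣ g) : a ∣ (sub e ns kws).index :=
  Nat.dvd_of_mul_dvd_mul_right h.1 (index_sub e hG hC ▸ h.2)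

theorem xt_of (hK : Known ns G K) (e : H ≃* G) {t : List ℕ} {kws : List (List ℕ)} {r n c g : ℕ}
    (hG : Nat.card G = g) (hC : CentEq ns G [t] kws c) (h1 : inK K t = true ∨ 0 < c ∧ 2 * c ∣ g)
    (h2 : ∀ J, IsComponentOf J (sub e ns kws) → (0 < c ∧ 4 * c ∣ g) ∧ JF r n J ∧
      ∀ j ∈ J, orderOf j = 2 → TwoC j) : XT e r n (wp ns t) := fun α hα => by
  rw [XP]
  simp only [Cp]
  rw [hα.fixed hC]
  refine ⟨fun h => h1.elim (fun h1 => ⟨ev e ns t, MulEquiv.ext fun x => pm_inj e ?_⟩)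
    fun h1 => absurd (dvd_index_sub e hG hC h1) h,
    fun J hJ => ⟨dvd_index_sub e hG hC (h2 J hJ).1, (h2 J hJ).2⟩⟩
  rw [hα x, MulAut.conj_apply, map_mul, map_mul, map_inv, hK.pm_ev e h1]

theorem solvable_of_dvd {C : Type*} [Group C] [Finite C] {r k : ℕ}
    (h : r.Prime ∧ Nat.card C ∣ (2 * r) ^ k) : Group.IsSolvable C :=
  K.solvable_of_primes h.1 fun _ hq h1 =>
    ((Nat.Prime.dvd_mul hq).1 (hq.dvd_of_dvd_pow (h1.trans h.2))).imp
      (Nat.prime_dvd_prime_iff_eq hq Nat.prime_two).1 (Nat.prime_dvd_prime_iff_eq hq h.1).1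

/-- The conjugates of the words `vs` by the words `ws`. -/
noncomputable def cjW (ws vs : List (List ℕ)) : List (List ℕ) :=
  List.rec (motive := fun _ => List (List ℕ)) []
    (fun u _ ih => appendR (mapR (fun v => appendR u (appendR v (invW u))) vs) ih) ws

theorem mem_cjW {ws vs : List (List ℕ)} {u v : List ℕ} (hu : u ∈ ws) (hv : v ∈ vs) :
    appendR u (appendR v (invW u)) ∈ cjW ws vs := by
  induction ws with
  | nil => simp at hu
  | cons a ws ih =>
    change _ ∈ appendR (mapR _ vs) (cjW ws vs)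
    rw [appendR_eq (mapR _ vs), List.mem_append, mapR_eq]
    rcases List.mem_cons.1 hu with rfl | hu
    · exact Or.inl (List.mem_map_of_mem hv)
    · exact Or.inr (ih hu)

theorem le_normalizer_of_cjW (c : Ctx N w ns) {ws vs : List (List ℕ)}
    (h : ∀ u ∈ cjW ws vs, wp ns u ∈ gen ns vs) :
    gen ns ws ≤ normalizer (gen ns vs : Set (Equiv.Perm ℕ)) := by
  haveI := finite_gen c.ok vs
  refine gen_le_iff.2 fun u hu => mem_normalizer_fintype fun x hx => ?_
  change x ∈ (gen ns vs).comap (MulAut.conj (wp ns u)).toMonoidHom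
  refine (gen_le_iff.2 fun v hv => ?_ : gen ns vs ≤ _) hx
  have := h _ (mem_cjW hu hv)
  rwa [appendR_eq, appendR_eq, wp_append, wp_append, wp_invW, ← mul_assoc] at this

/-- A component lies in a normal subgroup with solvable centraliser. -/
theorem comp_le (m : Mo N w ns G K) (e : H ≃* G) {kws aws dws : List (List ℕ)} {d r k : ℕ}
    (hle : gen ns aws ≤ gen ns kws) (hn : ∀ u ∈ cjW kws aws, wp ns u ∈ gen ns aws)
    (hD : CentEq ns G aws dws d) (ha : allL aws (inK K) = true) (hd : r.Prime ∧ d ∣ (2 * r) ^ k)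
    {J : Subgroup H} (hJ : IsComponentOf J (sub e ns kws)) : J ≤ sub e ns aws := by
  haveI := m.finite e
  refine (comp_subgroupOf_le_or_commute_of_normalizes hJ.1 (sub_mono e hle) hJ.2 (hJ.1.trans
    ((comap_mono (le_normalizer_of_cjW m.c hn)).trans (le_normalizer_comap _)))).resolve_right
    fun h => qsS_not_le_solvable ((comp_subgroupOf_iff hJ.1).1 hJ.2).2 (H := sub e ns dws)
      (solvable_of_dvd (by rwa [hD.card_sub e])) ?_
  rw [← hD.cent_sub m.k e ha]
  exact commutator_eq_bot_iff_le_centralizer.1 h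

theorem xt_solv (m : Mo N w ns G K) (e : H ≃* G) {t : List ℕ} {kws : List (List ℕ)}
    {r n c g : ℕ} (hG : Nat.card G = g) (hC : CentEq ns G [t] kws c)
    (h1 : inK K t = true ∨ 0 < c ∧ 2 * c ∣ g) (s k : ℕ) (hd : s.Prime ∧ c ∣ (2 * s) ^ k) :
    XT e r n (wp ns t) :=
  haveI := m.finite e
  xt_of m.k e hG hC h1 fun _ hJ => absurd hJ.1 (qsS_not_le_solvable
    ((comp_subgroupOf_iff hJ.1).1 hJ.2).2 (solvable_of_dvd (by rwa [hC.card_sub e])))

theorem xt_two (m : Mo N w ns G K) (e : H ≃* G) {t : List ℕ} {kws aws dws : List (List ℕ)}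
    {r n c g a d : ℕ} (hG : Nat.card G = g) (hC : CentEq ns G [t] kws c)
    (h1 : inK K t = true ∨ 0 < c ∧ 2 * c ∣ g) (hA : Nat.card (gen ns aws) = a)
    (hb : and' (allL aws (inK K)) (commB N w ns (dg [t]) aws) = true)
    (hn : ∀ u ∈ cjW kws aws, wp ns u ∈ gen ns aws) (hD : CentEq ns G aws dws d) (k : ℕ)
    (hd : a ∣ 6 ^ k ∧ d ∣ 6 ^ k) : XT e r n (wp ns t) :=
  haveI := m.finite e
  have hle := hC.le_of m.c m.k hb
  xt_of m.k e hG hC h1 fun _ hJ => absurd (comp_le m e hle hn hD ((and'_eq_true _ _).1 hb).1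
    ⟨Nat.prime_three, hd.2⟩ hJ) (qsS_not_le_solvable ((comp_subgroupOf_iff hJ.1).1 hJ.2).2
      (solvable_of_dvd (r := 3) (k := k) ⟨Nat.prime_three, by
        rw [card_sub e (hle.trans hC.le), hA]; exact hd.1⟩))

theorem xt_comp (m : Mo N w ns G K) (e : H ≃* G) {t : List ℕ} {kws aws dws : List (List ℕ)}
    {r n c g d : ℕ} (hG : Nat.card G = g) (hC : CentEq ns G [t] kws c) (h1 : 0 < c ∧ 4 * c ∣ g)
    (hb : and' (allL aws (inK K)) (commB N w ns (dg [t]) aws) = true)
    (hn : ∀ u ∈ cjW kws aws, wp ns u ∈ gen ns aws) (hD : CentEq ns G aws dws d) (k : ℕ)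
    (hd : d ∣ 6 ^ k) (hJ : ∀ J, J ≤ sub e ns aws → IsComponent (J.subgroupOf (sub e ns aws)) → JF r n J)
    (hI : ∀ j ∈ sub e ns aws, orderOf j = 2 → TwoC j) : XT e r n (wp ns t) :=
  have hle := hC.le_of m.c m.k hb
  xt_of m.k e hG hC (Or.inr ⟨h1.1, (Nat.mul_dvd_mul_right (by norm_num) _).trans h1.2⟩)
    fun J h => have h2 := comp_le m e hle hn hD ((and'_eq_true _ _).1 hb).1 ⟨Nat.prime_three, hd⟩ h
      ⟨h1, hJ J h2 (comp_subgroupOf_of_le h2 (sub_mono e hle) h.2), fun j hj => hI j (h2 hj)⟩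

/-- A quasisimple subgroup of a group of order `60` or `168`. -/
theorem simple_of_card [Finite H] {J A : Subgroup H} (hle : J ≤ A) (hJ : IsComponent (J.subgroupOf A))
    {a : ℕ} (hA : Nat.card A = a) (ha : a = 60 ∨ a = 168) : IsSimpleGroup J ∧ Nat.card J = a := by
  have h := ((comp_subgroupOf_iff hle).1 hJ).2
  haveI := h.2
  have h1 : ¬ IsMulCommutative (J ⧸ center J) := qs_not_comm
    (qs_of_surjective h _ (QuotientGroup.mk'_surjective _) inferInstance)
  have h2 := card_eq_card_quotient_mul_card_subgroup (center J)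
  have h3 : Nat.card J ∣ a := hA ▸ card_dvd_of_le hle
  have h4 : Nat.card (J ⧸ center J) ∣ a := (Dvd.intro _ h2.symm).trans h3
  have h5 := Nat.le_of_dvd (by omega) h3
  have h6 := Nat.le_of_dvd (by omega) h4
  have h7 : Nat.card (J ⧸ center J) = a := by
    have := S0496.result h1 (by omega)
    generalize Nat.card (J ⧸ center J) = b at h4 h6 this
    rcases ha with rfl | rfl <;> rcases this with rfl | rfl | rfl | rfl | rfl | rfl <;>
      first | rfl | omega
  have h8 : 0 < Nat.card (center J) := Nat.card_pos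
  have h9 : Nat.card (center J) = 1 := by
    rw [h7] at h2
    rcases ha with rfl | rfl <;> omega
  rw [h7, h9, mul_one] at h2
  exact ⟨(QuotientGroup.quotientBot.symm.trans (QuotientGroup.quotientMulEquivOfEq
    (card_eq_one.1 h9).symm)).isSimpleGroup, h2⟩

theorem eq_of_simple {J A : Subgroup H} (hle : J ≤ A) (hJ : IsComponent (J.subgroupOf A))
    (hA : IsSimpleGroup A) : J = A :=
  le_antisymm hle (subgroupOf_eq_top.1 ((IsSubnormal.eq_bot_or_top_of_isSimpleGroup hA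
    hJ.1).resolve_left (comp_ne_bot hJ)))

/-- The classes of involutions of a subgroup with Sylow subgroup `sg f top`. -/
theorem classes_in [Finite H] {f : List ℕ → H} {q : List ℕ → List ℕ → Bool} {top : List ℕ}
    {ts : List (List ℕ)} (h : WM f q) (hn : Nc f top) (hc : 2 ^ top.length ≤ Nat.card (sg f top))
    {B : Subgroup H} (hle : sg f top ≤ B) (hB : ¬ 2 ^ (top.length + 1) ∣ Nat.card B)
    (hv : Cv f ts top []) {x : H} (hx : x ∈ B) (h2 : orderOf x = 2) :
    ∃ t ∈ ts, IsConj (f t) x := by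
  obtain ⟨g, -, hg⟩ := (Fus.sylIn_two_of_ge hle hn.isPGroup hc hB).exists_conj (B := zpowers x)
    (IsPGroup.of_card (n := 1) (by rw [Nat.card_zpowers, h2]; rfl)) (zpowers_le.2 hx)
  have h4 := hv _ (hg x (mem_zpowers x))
  rw [h.nil, one_mul, conj_mul, conj_eq_one_iff, conj_eq_one_iff, ← pow_two, ← h2] at h4
  rcases h4 (pow_orderOf_eq_one x) with h5 | ⟨t, ht, h5⟩
  · rw [h5, orderOf_one] at h2; omega
  · exact ⟨t, ht, h5.trans (isConj_iff.2 ⟨g, rfl⟩).symm⟩

theorem TwoC.of_isConj {c c' : H} (h : TwoC c) (h' : IsConj c c') : TwoC c' := by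
  obtain ⟨g, rfl⟩ := isConj_iff.1 h'
  exact h.conj g

theorem twoC_sub (m : Mo N w ns G K) (e : H ≃* G) {aws : List (List ℕ)} {a : ℕ} {top T : List ℕ}
    (hA : Nat.card (gen ns aws) = a) (hn : Nc (ev e ns) top)
    (hc : 2 ^ top.length ≤ Nat.card (sg (ev e ns) top)) (hv : Cv (ev e ns) [T] top [])
    (hs : ∀ u ∈ ltrs top, wp ns u ∈ gen ns aws)
    (hb : and' (allL aws (inK K)) (inK K top) = true) (ha : ¬ 2 ^ (top.length + 1) ∣ a)
    (hT : TwoC (ev e ns T)) : ∀ j ∈ sub e ns aws, orderOf j = 2 → TwoC j := fun j hj h2 => by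
  haveI := m.finite e
  rw [and'_eq_true] at hb
  obtain ⟨t, ht, h⟩ := classes_in (wm_of_qs (m.qs e)) hn hc (sg_le.2 fun s hs' => by
    have h3 : [s] ∈ ltrs top := by simpa [ltrs, mapR_eq] using hs'
    rw [mem_sub, m.k.pm_ev e ((allL_iff _ _).1 (inK_ltrs hb.2) _ h3)]
    exact hs _ h3) (by rwa [card_sub e (m.k.gen_le hb.1), hA]) hv hj h2
  rw [List.mem_singleton.1 ht] at h
  exact hT.of_isConj h

theorem twoC_of (m : Mo N w ns G K) (e : H ≃* G) {T : List ℕ} {kws : List (List ℕ)} {c g : ℕ}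
    (hG : Nat.card G = g) (hC : CentEq ns G [T] kws c) (p : ℕ)
    (h : and' (eqKn N w ns K (powW T 2) []) (neK N ns K T p) = true) (hc : ¬ 2 * c ∣ g) :
    TwoC (ev e ns T) := by
  refine ⟨m.orderOf e 2 p h, fun h2 => hc ?_⟩
  simp only [neK, and'_eq_true] at h
  rw [hC.cent_one m.k e h.2.1] at h2
  rw [← index_sub e hG hC]
  exact Nat.mul_dvd_mul_right h2 _

theorem not_twoC (hK : Known ns G K) (e : H ≃* G) {T : List ℕ} {kws : List (List ℕ)} {c g : ℕ}
    (hG : Nat.card G = g) (hC : CentEq ns G [T] kws c) (h : inK K T = true)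
    (hc : 0 < c ∧ 2 * c ∣ g) : ¬ TwoC (ev e ns T) := fun h2 =>
  h2.2 (hC.cent_one hK e h ▸ dvd_index_sub e hG hC hc)

theorem cls_of {T T' : H} (h : ∀ x : H, orderOf x = 2 → ∃ t ∈ [T, T'], IsConj t x) (h' : ¬ TwoC T')
    (c c' : H) (hc : TwoC c) (hc' : TwoC c') : IsConj c c' := by
  have k : ∀ c : H, TwoC c → IsConj T c := fun c hc => by
    obtain ⟨t, ht, h1⟩ := h c hc.1
    simp only [List.mem_cons, List.not_mem_nil, or_false] at ht
    rcases ht with rfl | rfl
    · exact h1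
    · exact absurd (hc.of_isConj h1.symm) h'
  exact (k c hc).symm.trans (k c' hc')

theorem cen_of (m : Mo N w ns G K) (e : H ≃* G) {q : List ℕ → List ℕ → Bool} (hq : QS e ns q)
    {T g : List ℕ} {kws ys : List (List ℕ)} {c r : ℕ} (hC : CentEq ns G [T] kws c)
    (hT : TwoC (ev e ns T)) (hg : gen ns (g :: ys) = gen ns kws) (u : List ℕ) (k : ℕ)
    (hb : and' (and' (inK K T) (allL (g :: ys) (inK K))) (and' (allL ys fun y => q (powW y r) [])
      (and' (and' (inK K u) (wordIn ys u)) (q (powW u k) T))) = true) :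
    ∃ c : H, TwoC c ∧ c ∈ Rr r (centralizer {c}) ∧
      ∃ g ∈ centralizer ({c} : Set H), centralizer {c} ≤ Rr r (centralizer {c}) ⊔ zpowers g := by
  rw [and'_eq_true, and'_eq_true, and'_eq_true, and'_eq_true] at hb
  obtain ⟨⟨h1, h2⟩, h3, h4, h5⟩ := hb
  have h6 : centralizer {ev e ns T} = sub e ns (g :: ys) := by rw [hC.cent_one m.k e h1, sub, ← hg]; rfl
  have h7 := m.k.ev_mem_sub e h2
  have h8 : ∀ y ∈ ys, ev e ns y ∈ Rr r (centralizer {ev e ns T}) := fun y hy =>
    subset_closure ⟨h6 ▸ h7 y (List.mem_cons_of_mem _ hy), 1, by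
      simpa using hq _ _ ((allL_iff _ _).1 h3 y hy)⟩
  refine ⟨_, hT, ?_, ev e ns g, h6 ▸ h7 g List.mem_cons_self, ?_⟩
  · have h9 := hq _ _ h5
    rw [ev_powW] at h9
    have := pow_mem ((m.k.sub_le_iff e ((allL_iff _ _).2 fun y hy => (allL_iff _ _).1 h2 y
      (List.mem_cons_of_mem _ hy))).2 h8 (m.k.ev_mem e h4)) k
    rwa [h9] at this
  · refine h6.trans_le ((m.k.sub_le_iff e h2).2 fun y hy => ?_)
    rcases List.mem_cons.1 hy with rfl | hy
    · exact mem_sup_right (mem_zpowers _)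
    · exact mem_sup_left (h8 y hy)

theorem rank_of (m : Mo N w ns G K) (e : H ≃* G) {r : ℕ} (vs : List (List ℕ))
    (B : List (ℕ × ℕ × List (List ℕ))) (h1 : eabB N w ns vs r = true)
    (h2 : and' (allL vs (inK K)) (and' (allL (lbTop B) (wordIn vs))
      (Nat.ble (r ^ 2) (lbVal N w ns B))) = true) : PRankAtLeast r 2 H :=
  ⟨sub e ns vs, ⟨⟨fun x y => Subtype.ext (pm_inj e (by
      simpa using (comm_of_eabB m.c h1 _ x.2 _ y.2).eq))⟩⟩,
    fun a ha => pm_inj e (by simpa using pow_eq_one_of_eabB m.c h1 _ ha), m.le_card_sub e B h2⟩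

theorem syl_of [Finite H] (e : H ≃* G) {g : ℕ} (hG : Nat.card G = g) (k : ℕ) (h : 2 ^ k ∣ g)
    (U : Sylow 2 H) : 2 ^ k ≤ Nat.card U :=
  Nat.le_of_dvd Nat.card_pos (U.pow_dvd_card_of_pow_dvd_card
    (by rwa [Nat.card_congr e.toEquiv, hG]))

end Cfsg.Agent.Q16
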